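import Cfsg.Agent.R01.Label

/-!
Six lifts of transvections forming a hexagon which is not of affine type: an element of `C` commuting with them is
`1` or `z`.
-/

set_option autoImplicit false
set_option linter.unusedSectionVars false

namespace Cfsg.Agent.R01.IdentZeta

open Cfsg Cfsg.Agent.LieClassical.HermBasic Cfsg.Agent.ClassicalGeometry.UnitTransv
open Cfsg.Agent.SporadicStructure.UnitTwo
open Cfsg.Agent.R01.Lifts Cfsg.Agent.R01.PSUSix Cfsg.Agent.R01.Label
open Cfsg.Agent.ClassicalGeometry.UnitAutBasic (tau pr pr_surjective pr_eq_of_scalar)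

variable {F : Type*} [Field F] [Fintype F]

section Vec

variable (hF : Fintype.card F = 2 ^ 2)
include hF

/-- Vanishing combinations of a hexagon have vanishing coefficients. -/
theorem coeff_zero {v0 v1 v2 v3 v4 v5 : Fin 6 → F} {l : F}
    (h00 : hermForm 6 F 2 v0 v0 = 0) (h11 : hermForm 6 F 2 v1 v1 = 0) (h22 : hermForm 6 F 2 v2 v2 = 0)
    (h33 : hermForm 6 F 2 v3 v3 = 0) (h44 : hermForm 6 F 2 v4 v4 = 0) (h55 : hermForm 6 F 2 v5 v5 = 0)
    (h01 : hermForm 6 F 2 v0 v1 = 1) (h12 : hermForm 6 F 2 v1 v2 = 1) (h23 : hermForm 6 F 2 v2 v3 = 1)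
    (h34 : hermForm 6 F 2 v3 v4 = 1) (h45 : hermForm 6 F 2 v4 v5 = 1) (h50 : hermForm 6 F 2 v5 v0 = l)
    (h02 : hermForm 6 F 2 v0 v2 = 0) (h03 : hermForm 6 F 2 v0 v3 = 0) (h04 : hermForm 6 F 2 v0 v4 = 0)
    (h13 : hermForm 6 F 2 v1 v3 = 0) (h14 : hermForm 6 F 2 v1 v4 = 0) (h15 : hermForm 6 F 2 v1 v5 = 0)
    (h24 : hermForm 6 F 2 v2 v4 = 0) (h25 : hermForm 6 F 2 v2 v5 = 0) (h35 : hermForm 6 F 2 v3 v5 = 0)
    (hl : l ≠ 1) {a0 a1 a2 a3 a4 a5 : F}
    (h : a0 • v0 + a1 • v1 + a2 • v2 + a3 • v3 + a4 • v4 + a5 • v5 = 0) :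
    a0 = 0 ∧ a1 = 0 ∧ a2 = 0 ∧ a3 = 0 ∧ a4 = 0 ∧ a5 = 0 := by
  have sw : ∀ u v : Fin 6 → F, hermForm 6 F 2 v u = hermForm 6 F 2 u v ^ 2 := fun u v => herm_swap hF u v
  have hch : (2 : F) = 0 := two_eq_zero hF
  have E : ∀ w : Fin 6 → F, a0 * hermForm 6 F 2 v0 w + a1 * hermForm 6 F 2 v1 w + a2 * hermForm 6 F 2 v2 w +
      a3 * hermForm 6 F 2 v3 w + a4 * hermForm 6 F 2 v4 w + a5 * hermForm 6 F 2 v5 w = 0 := by
    intro w
    have := congrArg (fun x => hermForm 6 F 2 x w) h
    simpa only [herm_add_left, herm_smul_left, herm_zero_left] using this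
  have e0 := E v0
  have e1 := E v1
  have e2 := E v2
  have e3 := E v3
  have e4 := E v4
  have e5 := E v5
  rw [h00, sw v0 v1, h01, sw v0 v2, h02, sw v0 v3, h03, sw v0 v4, h04, h50] at e0
  rw [h01, h11, sw v1 v2, h12, sw v1 v3, h13, sw v1 v4, h14, sw v1 v5, h15] at e1
  rw [h02, h12, h22, sw v2 v3, h23, sw v2 v4, h24, sw v2 v5, h25] at e2
  rw [h03, h13, h23, h33, sw v3 v4, h34, sw v3 v5, h35] at e3
  rw [h04, h14, h24, h34, h44, sw v4 v5, h45] at e4
  rw [sw v5 v0, h50, h15, h25, h35, h45, h55] at e5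
  -- a1 = a3 = a5, a0 = a2 = a4
  have f13 : a1 = a3 := by linear_combination e2 - a3 * hch
  have f35 : a3 = a5 := by linear_combination e4 - a5 * hch
  have f02 : a0 = a2 := by linear_combination e1 - a2 * hch
  have f24 : a2 = a4 := by linear_combination e3 - a4 * hch
  have hl1 : 1 + l ≠ 0 := by
    intro h0
    apply hl
    linear_combination h0 - hch
  have hl2 : 1 + l ^ 2 ≠ 0 := by
    intro h0
    apply hl1
    have : (1 + l) ^ 2 = 0 := by linear_combination h0 + l * hch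
    exact pow_eq_zero_iff (two_ne_zero) |>.1 this
  have g1 : a5 = 0 := by
    have : a5 * (1 + l) = 0 := by
      rw [f13, f35] at e0
      linear_combination e0
    exact (mul_eq_zero.1 this).resolve_right hl1
  have g0 : a0 = 0 := by
    have : a0 * (1 + l ^ 2) = 0 := by
      rw [← f24, ← f02] at e5
      linear_combination e5
    exact (mul_eq_zero.1 this).resolve_right hl2
  exact ⟨g0, by rw [f13, f35, g1], by rw [← f02, g0], by rw [f35, g1], by rw [← f24, ← f02, g0], g1⟩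

/-- An isometry fixing the points of the hexagon is a scalar. -/
theorem scalar {v : Fin 6 → Fin 6 → F} (hli : LinearIndependent F v) {g : SU 6 F 2} {c : F}
    (hg : ∀ k, act g (v k) = c • v k) (x : Fin 6 → F) : act g x = c • x := by
  have hspan : Submodule.span F (Set.range v) = ⊤ := by
    apply hli.span_eq_top_of_card_eq_finrank'
    simp
  have hx : x ∈ Submodule.span F (Set.range v) := by rw [hspan]; trivial
  induction hx using Submodule.span_induction with
  | mem x h =>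
    obtain ⟨k, rfl⟩ := h
    exact hg k
  | zero => rw [act_zero, smul_zero]
  | add x y _ _ hx hy => rw [act_add, hx, hy, smul_add]
  | smul a x _ hx => rw [act_smul, hx, smul_comm]

end Vec

variable {C : Type*} [Group C] {hF : Fintype.card F = 2 ^ 2} {π : C →* PSU 6 F 2} {z ε : C}
  {lift : (Fin 6 → F) → C}

/-- The normalised vectors. -/
def nv (u : ℕ → Fin 6 → F) : ℕ → Fin 6 → F
  | 0 => u 0
  | k + 1 => hermForm 6 F 2 (nv u k) (u (k + 1)) • u (k + 1)

theorem nv_spec {u : ℕ → Fin 6 → F} (hn : ∀ k < 5, hermForm 6 F 2 (u k) (u (k + 1)) ≠ 0) :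
    ∀ k < 6, ∃ c : F, c ≠ 0 ∧ nv u k = c • u k := by
  intro k
  induction k with
  | zero => intro _; exact ⟨1, one_ne_zero, (one_smul _ _).symm⟩
  | succ k ih =>
    intro hk
    obtain ⟨c, hc, hcu⟩ := ih (by omega)
    refine ⟨hermForm 6 F 2 (nv u k) (u (k + 1)), ?_, rfl⟩
    rw [hcu, herm_smul_left]
    exact mul_ne_zero hc (hn k (by omega))

theorem zeta (L : Lab hF π z ε lift) {y : ℕ → C} (hy : ∀ k < 6, y k ∈ Dset lift)
    (hn : ∀ k < 5, ¬ Commute (y k) (y (k + 1)))
    (hc : ∀ i < 6, ∀ j < 6, i + 1 < j → ¬ (i = 0 ∧ j = 5) → Commute (y i) (y j))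
    (heta : ¬ Commute (y 5) (y 4 * y 3 * y 2 * y 1 * y 0 * y 1 * y 2 * y 3 * y 4)) {ζ : C}
    (hζ : ∀ k < 6, Commute ζ (y k)) : ζ = 1 ∨ ζ = z := by
  classical
  -- the vectors
  have hex : ∀ k, ∃ u : Fin 6 → F, k < 6 → (u ≠ 0 ∧ hermForm 6 F 2 u u = 0 ∧ y k = lift u) := by
    intro k
    by_cases hk : k < 6
    · obtain ⟨u, h⟩ := hy k hk
      exact ⟨u, fun _ => h⟩
    · exact ⟨0, fun h => absurd h hk⟩
  choose u hu using hex
  have hu0 : ∀ k < 6, u k ≠ 0 := fun k hk => (hu k hk).1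
  have huu : ∀ k < 6, hermForm 6 F 2 (u k) (u k) = 0 := fun k hk => (hu k hk).2.1
  have hyu : ∀ k < 6, y k = lift (u k) := fun k hk => (hu k hk).2.2
  have hun : ∀ k < 5, hermForm 6 F 2 (u k) (u (k + 1)) ≠ 0 := by
    intro k hk h
    apply hn k hk
    rw [hyu k (by omega), hyu (k + 1) (by omega)]
    exact (L.commute_iff (huu k (by omega)) (huu (k + 1) (by omega)) (hu0 k (by omega))
      (hu0 (k + 1) (by omega))).2 h
  obtain ⟨v, hv⟩ : ∃ v : ℕ → Fin 6 → F, v = nv u := ⟨_, rfl⟩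
  have hvs : ∀ k < 6, ∃ c : F, c ≠ 0 ∧ v k = c • u k := by
    intro k hk
    rw [hv]
    exact nv_spec hun k hk
  have hv0 : ∀ k < 6, v k ≠ 0 := by
    intro k hk
    obtain ⟨c, hc0, h⟩ := hvs k hk
    rw [h]
    exact smul_ne_zero hc0 (hu0 k hk)
  have hvv : ∀ k < 6, hermForm 6 F 2 (v k) (v k) = 0 := by
    intro k hk
    obtain ⟨c, hc0, h⟩ := hvs k hk
    rw [h, herm_smul_left, herm_smul_right, huu k hk, mul_zero, mul_zero]
  have hyv : ∀ k < 6, y k = lift (v k) := by
    intro k hk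
    obtain ⟨c, hc0, h⟩ := hvs k hk
    rw [h, L.smul (u k) c (huu k hk) hc0, hyu k hk]
  have h1 : ∀ k < 5, hermForm 6 F 2 (v k) (v (k + 1)) = 1 := by
    intro k hk
    have e : v (k + 1) = hermForm 6 F 2 (v k) (u (k + 1)) • u (k + 1) := by rw [hv]; rfl
    have e2 : hermForm 6 F 2 (v k) (u (k + 1)) ≠ 0 := by
      obtain ⟨c, hc0, h⟩ := hvs k (by omega)
      rw [h, herm_smul_left]
      exact mul_ne_zero hc0 (hun k hk)
    rw [e, herm_smul_right, ← pow_succ]
    exact pow_three hF e2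
  have h0 : ∀ i < 6, ∀ j < 6, i + 1 < j → ¬ (i = 0 ∧ j = 5) → hermForm 6 F 2 (v i) (v j) = 0 := by
    intro i hi j hj hij h
    have := hc i hi j hj hij h
    rw [hyv i hi, hyv j hj] at this
    exact (L.commute_iff (hvv i hi) (hvv j hj) (hv0 i hi) (hv0 j hj)).1 this
  have h01 := h1 0 (by norm_num)
  have h12 := h1 1 (by norm_num)
  have h23 := h1 2 (by norm_num)
  have h34 := h1 3 (by norm_num)
  have h45 := h1 4 (by norm_num)
  have h02 := h0 0 (by norm_num) 2 (by norm_num) (by norm_num) (by norm_num)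
  have h03 := h0 0 (by norm_num) 3 (by norm_num) (by norm_num) (by norm_num)
  have h04 := h0 0 (by norm_num) 4 (by norm_num) (by norm_num) (by norm_num)
  have h13 := h0 1 (by norm_num) 3 (by norm_num) (by norm_num) (by norm_num)
  have h14 := h0 1 (by norm_num) 4 (by norm_num) (by norm_num) (by norm_num)
  have h15 := h0 1 (by norm_num) 5 (by norm_num) (by norm_num) (by norm_num)
  have h24 := h0 2 (by norm_num) 4 (by norm_num) (by norm_num) (by norm_num)
  have h25 := h0 2 (by norm_num) 5 (by norm_num) (by norm_num) (by norm_num)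
  have h35 := h0 3 (by norm_num) 5 (by norm_num) (by norm_num) (by norm_num)
  norm_num at h01 h12 h23 h34 h45
  -- the element eta
  have iso : ∀ {a b : Fin 6 → F}, hermForm 6 F 2 a a = 0 → hermForm 6 F 2 b b = 0 → hermForm 6 F 2 a b = 1 →
      hermForm 6 F 2 (a + b) (a + b) = 0 := by
    intro a b ha hb hab
    have hba : hermForm 6 F 2 b a = 1 := by rw [herm_swap hF a b, hab, one_pow]
    rw [herm_add_left, herm_add_right hF, herm_add_right hF, ha, hb, hab, hba]
    linear_combination two_eq_zero hF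
  have stp : ∀ {a b : Fin 6 → F}, hermForm 6 F 2 a a = 0 → hermForm 6 F 2 b b = 0 → a ≠ 0 → b ≠ 0 →
      hermForm 6 F 2 a b = 1 → lift b * lift a * lift b = lift (a + b) ∧ a + b ≠ 0 := by
    intro a b ha hb ha0 hb0 hab
    refine ⟨?_, ?_⟩
    · rw [L.conj_lift hb ha hb0 ha0, hab, one_smul]
    · intro h
      have h2 : hermForm 6 F 2 (a + b) b = 1 := by rw [herm_add_left, hab, hb, add_zero]
      rw [h, herm_zero_left] at h2
      exact zero_ne_one h2
  have v00 := hvv 0 (by norm_num)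
  have v11 := hvv 1 (by norm_num)
  have v22 := hvv 2 (by norm_num)
  have v33 := hvv 3 (by norm_num)
  have v44 := hvv 4 (by norm_num)
  have v55 := hvv 5 (by norm_num)
  have w1 := stp v00 v11 (hv0 0 (by norm_num)) (hv0 1 (by norm_num)) h01
  have i1 := iso v00 v11 h01
  have p2 : hermForm 6 F 2 (v 0 + v 1) (v 2) = 1 := by rw [herm_add_left, h02, h12, zero_add]
  have w2 := stp i1 v22 w1.2 (hv0 2 (by norm_num)) p2
  have i2 := iso i1 v22 p2
  have p3 : hermForm 6 F 2 (v 0 + v 1 + v 2) (v 3) = 1 := by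
    rw [herm_add_left, herm_add_left, h03, h13, h23, zero_add, zero_add]
  have w3 := stp i2 v33 w2.2 (hv0 3 (by norm_num)) p3
  have i3 := iso i2 v33 p3
  have p4 : hermForm 6 F 2 (v 0 + v 1 + v 2 + v 3) (v 4) = 1 := by
    rw [herm_add_left, herm_add_left, herm_add_left, h04, h14, h24, h34, zero_add, zero_add, zero_add]
  have w4 := stp i3 v44 w3.2 (hv0 4 (by norm_num)) p4
  have i4 := iso i3 v44 p4
  have eeta : y 4 * y 3 * y 2 * y 1 * y 0 * y 1 * y 2 * y 3 * y 4 =
      lift (v 0 + v 1 + v 2 + v 3 + v 4) := by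
    rw [← w4.1, ← w3.1, ← w2.1, ← w1.1, hyv 0 (by norm_num), hyv 1 (by norm_num), hyv 2 (by norm_num),
      hyv 3 (by norm_num), hyv 4 (by norm_num)]
    simp only [mul_assoc]
  have hl : hermForm 6 F 2 (v 5) (v 0) ≠ 1 := by
    intro h50
    apply heta
    rw [eeta, hyv 5 (by norm_num)]
    apply (L.commute_iff v55 i4 (hv0 5 (by norm_num)) w4.2).2
    have h51 : hermForm 6 F 2 (v 5) (v 1) = 0 := by rw [herm_swap hF (v 1), h15]; norm_num
    have h52 : hermForm 6 F 2 (v 5) (v 2) = 0 := by rw [herm_swap hF (v 2), h25]; norm_num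
    have h53 : hermForm 6 F 2 (v 5) (v 3) = 0 := by rw [herm_swap hF (v 3), h35]; norm_num
    have h54 : hermForm 6 F 2 (v 5) (v 4) = 1 := by rw [herm_swap hF (v 4), h45]; norm_num
    rw [herm_add_right hF, herm_add_right hF, herm_add_right hF, herm_add_right hF, h50, h51, h52, h53, h54]
    linear_combination two_eq_zero hF
  -- the isometry
  obtain ⟨g, hg⟩ := pr_surjective (π ζ)
  have hmu : ∀ k < 6, ∃ c : F, c ≠ 0 ∧ act g (v k) = c • v k := by
    intro k hk
    have e1 := L.conj ζ g (v k) hg.symm (hv0 k hk) (hvv k hk)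
    have e2 : ζ * lift (v k) * ζ⁻¹ = lift (v k) := by
      rw [← hyv k hk, (hζ k hk).eq, mul_inv_cancel_right]
    rw [e2] at e1
    exact (L.lift_eq_iff (hvv k hk) (by rw [herm_act, hvv k hk]) (hv0 k hk) (Lab.act_ne_zero (hv0 k hk))).1 e1
  have hstep : ∀ k < 5, ∀ c : F, act g (v k) = c • v k → act g (v (k + 1)) = c • v (k + 1) := by
    intro k hk c hck
    obtain ⟨d, hd0, hd⟩ := hmu (k + 1) (by omega)
    have e1 := herm_act g (v k) (v (k + 1))
    rw [hck, hd, herm_smul_left, herm_smul_right, h1 k hk, mul_one] at e1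
    have hd3 := pow_three hF hd0
    have : c = d := by linear_combination d * e1 - c * hd3
    rw [hd, this]
  obtain ⟨c, hc0, hcv⟩ := hmu 0 (by norm_num)
  have hall : ∀ k < 6, act g (v k) = c • v k := by
    intro k
    induction k with
    | zero => intro _; exact hcv
    | succ k ih => intro hk; exact hstep k (by omega) c (ih (by omega))
  have hli : LinearIndependent F (fun i : Fin 6 => v i) := by
    rw [Fintype.linearIndependent_iff]
    intro a ha
    have ha' : a 0 • v 0 + a 1 • v 1 + a 2 • v 2 + a 3 • v 3 + a 4 • v 4 + a 5 • v 5 = 0 := by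
      rw [Fin.sum_univ_six] at ha
      exact ha
    have := coeff_zero hF v00 v11 v22 v33 v44 v55 h01 h12 h23 h34 h45 rfl h02 h03 h04 h13 h14 h15 h24 h25 h35 hl ha'
    intro i
    fin_cases i
    · exact this.1
    · exact this.2.1
    · exact this.2.2.1
    · exact this.2.2.2.1
    · exact this.2.2.2.2.1
    · exact this.2.2.2.2.2
  have hsc := scalar hF hli (g := g) (c := c) (fun k => hall k k.isLt)
  have hone : π ζ = 1 := by
    rw [← hg, ← map_one (pr 6 F 2)]
    refine (pr_eq_of_scalar (g := 1) (g' := g) (c := c) (fun x => ?_)).symm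
    have h1 : Cfsg.Agent.LieClassical.HermSiegel.act (1 : SU 6 F 2) x = x := act_one x
    have h2 : Cfsg.Agent.LieClassical.HermSiegel.act g x = c • x := hsc x
    rw [h1, h2]
  exact (L.ext.ker ζ).1 hone

end Cfsg.Agent.R01.IdentZeta
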