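import Cfsg.Agent.R01.IdentConfig
import Cfsg.Agent.R01.IdentZeta

/-!
Identification of a group of the type of Fi22: the spider relator and the conclusion.
-/

set_option autoImplicit false
set_option linter.unusedSectionVars false

namespace Cfsg.Agent.R01.IdentMain

open Cfsg Cfsg.Agent.LieClassical.HermBasic Cfsg.Agent.R01.HermCode Cfsg.Agent.R01.HermSix
open Cfsg.Agent.R01.IdentY Cfsg.Agent.R01.IdentChain Cfsg.Agent.R01.IdentPres
open Cfsg.Agent.R01.Start Cfsg.Agent.R01.Label Cfsg.Agent.R01.IdentConfig Cfsg.Agent.R01.Loc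
open Cfsg.Agent.R01.IdentSpider (P P_cons P_nil P_append P_single P_conj psi zeta s0 eta P_zeta)
open Cfsg.Agent.SporadicStructure.UnitTwo (two_eq_zero add_self exists_omega vadd_self pow_three)

variable {F : Type*} [Field F] [Fintype F] {G : Type*} [Group G]

/-! ### Conjugation by words on codes -/

/-- Reflection on codes. -/
def rf (a c : ℕ) : ℕ := if hOne c a then Nat.xor c a else c

/-- Apply a word to a code. -/
def app (q : ℕ → ℕ) : List ℕ → ℕ → ℕ
  | [], c => c
  | k :: u, c => rf (q k) (app q u c)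

/-- All steps are legal. -/
def okw (q : ℕ → ℕ) : List ℕ → ℕ → Bool
  | [], c => isPt c
  | k :: u, c => okw q u c && isPt (q k) && (hOne (app q u c) (q k) || orth (app q u c) (q k)) &&
      isPt (rf (q k) (app q u c))

theorem okw_isPt (q : ℕ → ℕ) (u : List ℕ) (c : ℕ) (h : okw q u c = true) :
    isPt (app q u c) = true := by
  cases u with
  | nil => exact h
  | cons k u =>
    rw [okw, Bool.and_eq_true] at h
    exact h.2

theorem conj_code {C : Type*} [Group C] {hF : Fintype.card F = 2 ^ 2} {π : C →* PSU 6 F 2} {z ε : C}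
    {lift : (Fin 6 → F) → C} (L : Lab hF π z ε lift) {ω : F} (hω : ω ^ 2 + ω + 1 = 0)
    {b : Fin 6 → (Fin 6 → F)} (hb : IsHypBasis b) {y : ℕ → C} {q : ℕ → ℕ} (k : ℕ) (u : List ℕ)
    (hy : ∀ j ∈ u, y j = lift (dec b ω (q j))) (hk : y k = lift (dec b ω (q k)))
    (hok : okw q u (q k) = true) :
    P y (u ++ [k] ++ u.reverse) = lift (dec b ω (app q u (q k))) := by
  induction u with
  | nil =>
    show P y [k] = _
    rw [P_single, hk]; rfl
  | cons j u ih =>
    have hok' := hok
    rw [okw, Bool.and_eq_true, Bool.and_eq_true, Bool.and_eq_true] at hok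
    obtain ⟨⟨⟨o1, o2⟩, o3⟩, o4⟩ := hok
    have h1 := ih (fun l hl => hy l (List.mem_cons_of_mem _ hl)) o1
    have hj := hy j List.mem_cons_self
    have h2 : P y (j :: u ++ [k] ++ (j :: u).reverse) = y j * P y (u ++ [k] ++ u.reverse) * y j := by
      rw [List.reverse_cons, List.cons_append, List.cons_append, P_cons, ← List.append_assoc,
        P_append y _ [j], P_single, mul_assoc]
    have pc := (isPt_iff_dec hF hω hb).1 (okw_isPt q u (q k) o1)
    have pj := (isPt_iff_dec hF hω hb).1 o2
    rw [h2, h1, hj, L.conj_lift pj.2.2 pc.2.2 pj.2.1 pc.2.1]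
    rw [Bool.or_eq_true] at o3
    by_cases h3 : hOne (app q u (q k)) (q j) = true
    · rw [(hOne_iff hF hω hb pc.1 _).1 h3, one_smul, ← dec_xor hF]
      congr 1
      show _ = dec b ω (rf (q j) (app q u (q k)))
      rw [rf, if_pos h3]
      rfl
    · have h4 := o3.resolve_left h3
      rw [(orth_iff hF hω hb pc.1 _).1 h4, zero_smul, add_zero]
      congr 1
      show _ = dec b ω (rf (q j) (app q u (q k)))
      rw [rf, if_neg h3]

/-- The codes of the letters of the spider word. -/
def qq (k : ℕ) : ℕ :=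
  if k = 1 then 320 else if k = 2 then 5 else if k = 3 then 256 else if k = 4 then 20
  else if k = 5 then 1024 else 1

theorem psi_ok : okw qq [1, 2, 5, 6, 3, 2, 5, 1, 2, 3] (qq 4) = true ∧
    app qq [1, 2, 5, 6, 3, 2, 5, 1, 2, 3] (qq 4) = 16 := by decide +kernel

theorem s0_ok : okw qq [5, 2, 3, 1, 2, 5] (qq 6) = true ∧
    app qq [5, 2, 3, 1, 2, 5] (qq 6) = 65 := by decide +kernel

theorem psi_letters : ∀ k ∈ psi, 1 ≤ k ∧ k < 7 := by decide
theorem s0_letters : ∀ k ∈ s0, 1 ≤ k ∧ k < 7 := by decide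

/-- The index map. -/
def ix (k : ℕ) : ℕ := if k < 5 then k + 1 else k + 2

theorem ix_lt : ∀ k < 7, ix k < 9 := by decide
theorem ix_ne : ∀ k < 7, ∀ l < 7, k ≠ l → ix k ≠ ix l := by decide
theorem ix_adj : ∀ k < 7, ∀ l < 7,
    IdentWord.adj IdentPres.E (ix k) (ix l) = IdentWord.adj IdentSpider.E k l := by decide

variable {D : Set G} {x : ℕ → G}

theorem commute_of_mul_sq {p q : G} (hp : p * p = 1) (hq : q * q = 1) (h : p * q * (p * q) = 1) :
    p * q = q * p := by
  have h1 := eq_inv_of_mul_eq_one_left h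
  rw [mul_inv_rev, inv_eq_of_mul_eq_one_left hp, inv_eq_of_mul_eq_one_left hq] at h1
  exact h1

/-- The spider relator. -/
theorem Config.spider {hF : Fintype.card F = 2 ^ 2} (hB : Base hF D) (c : Config D x) :
    (x 3 * x 2 * x 1 * x 3 * x 4 * x 5 * x 3 * x 7 * x 8) ^ 10 = 1 := by
  have h2 := two_eq_zero hF
  obtain ⟨π, lift, i, h, d, e, f, g, V⟩ := c.exists_vecs hB
  have ch := V.chain
  obtain ⟨ω, hω⟩ := exists_omega hF
  have hb := ch.hyp hF
  have L := V.chart.lab
  obtain ⟨k0, k1, k2, k3, k4, k5, k6⟩ := dec_codes i h d e f g hF ω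
  have k7 : dec (basis i h d e f g) ω 320 = e + g := by
    have : (320 : ℕ) = 256 ^^^ 64 := by decide
    rw [this, dec_xor hF, k3, k5]
  have k8 : dec (basis i h d e f g) ω 16 = f + d + i := (dec_basis _ ω).2.2.1
  have k9 : dec (basis i h d e f g) ω 65 = g + i := by
    have : (65 : ℕ) = 64 ^^^ 1 := by decide
    rw [this, dec_xor hF, k5, k0]
  -- the relations of the affine `E6`
  let y : ℕ → G := fun k => x (ix k)
  have hrel : IdentSpider.Rel y := by
    refine ⟨fun k hk => hB.sq _ (c.mem _ (ix_lt k hk)), ?_, ?_⟩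
    · intro k hk l hl hkl ha
      exact (hB.three _ (c.mem _ (ix_lt k hk)) _ (c.mem _ (ix_lt l hl))).resolve_left
        (c.nadj _ (ix_lt k hk) _ (ix_lt l hl) (ix_ne k hk l hl hkl)
          (by rw [ix_adj k hk l hl]; exact ha))
    · intro k hk l hl hkl ha
      exact c.comm _ (ix_lt k hk) _ (ix_lt l hl) (ix_ne k hk l hl hkl)
        (by rw [ix_adj k hk l hl]; exact ha)
  -- the chart
  let y' : ℕ → Subgroup.centralizer ({x 0} : Set G) := fun k =>
    lift (dec (basis i h d e f g) ω (qq k))
  have hy' : ∀ k, 1 ≤ k → k < 7 → y k = (y' k : G) := by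
    intro k hk hk7
    interval_cases k
    · show x 2 = (lift (dec (basis i h d e f g) ω 320) : G)
      rw [k7, V.lc]
    · show x 3 = (lift (dec (basis i h d e f g) ω 5) : G)
      rw [k2, V.ld]
    · show x 4 = (lift (dec (basis i h d e f g) ω 256) : G)
      rw [k3, V.le]
    · show x 5 = (lift (dec (basis i h d e f g) ω 20) : G)
      rw [k4, V.lf]
    · show x 7 = (lift (dec (basis i h d e f g) ω 1024) : G)
      rw [k1, V.lh]
    · show x 8 = (lift (dec (basis i h d e f g) ω 1) : G)
      rw [k0, V.li]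
  have hpsi : P y psi = (lift (f + d + i) : G) := by
    have h1 := conj_code L hω hb (y := y') (q := qq) 4 [1, 2, 5, 6, 3, 2, 5, 1, 2, 3]
      (fun _ _ => rfl) rfl psi_ok.1
    rw [psi_ok.2, k8] at h1
    rw [P_coe y y' psi fun k hk => hy' k (psi_letters k hk).1 (psi_letters k hk).2, ← h1]
    rfl
  have hs0 : P y s0 = (lift (g + i) : G) := by
    have h1 := conj_code L hω hb (y := y') (q := qq) 6 [5, 2, 3, 1, 2, 5]
      (fun _ _ => rfl) rfl s0_ok.1
    rw [s0_ok.2, k9] at h1
    rw [P_coe y y' s0 fun k hk => hy' k (s0_letters k hk).1 (s0_letters k hk).2, ← h1]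
    rfl
  -- the vector of `ψ`
  have p16 : isPt 16 = true := by decide +kernel
  have p65 : isPt 65 = true := by decide +kernel
  have q16 := (isPt_iff_dec hF hω hb).1 p16
  have q65 := (isPt_iff_dec hF hω hb).1 p65
  rw [k8] at q16
  rw [k9] at q65
  have hψD : P y psi ∈ D := by rw [hpsi]; exact V.chart.lift_mem q16.2.1 q16.2.2
  have hs0D : P y s0 ∈ D := by rw [hs0]; exact V.chart.lift_mem q65.2.1 q65.2.2
  have hfdi : f + d + i = i + d + f := by abel
  have hψb : x 1 * P y psi ≠ P y psi * x 1 := by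
    intro h3
    apply not_bad' hF V.yset ch V.mi V.mh V.md V.me V.mf V.mg
    rw [← hfdi]
    exact ⟨q16.2.1, q16.2.2, by rw [← hpsi]; exact h3.symm⟩
  have hψ3 : (y 0 * P y psi) ^ 3 = 1 :=
    (hB.three _ (c.mem 1 (by norm_num)) _ hψD).resolve_left hψb
  -- `s0` and `b` do not commute
  have hs0b : P y s0 * x 1 ≠ x 1 * P y s0 := by
    intro h3
    have hgi : g + (1 : F) • i ∈ Yof lift (x 1) := by
      rw [one_smul]
      exact ⟨q65.2.1, q65.2.2, by rw [← hs0]; exact h3⟩
    have hg0 : g + (0 : F) • i ∈ Yof lift (x 1) := by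
      rw [zero_smul, add_zero]; exact V.mg
    have hne : ∀ t : F, g ≠ t • i := by
      intro t ht
      have h4 := ch.fg
      rw [ht, herm_smul_right, herm_eq_zero_swap hF ch.if', mul_zero] at h4
      exact zero_ne_one h4
    exact one_ne_zero (V.yset.line_un i V.mi g ch.gg (herm_eq_zero_swap hF ch.ig) hne 1 0 hgi hg0)
  have hi0 : i ≠ 0 := V.yset.ne i V.mi
  have hf0 : f ≠ 0 := V.yset.ne f V.mf
  have he0 : e ≠ 0 := V.yset.ne e V.me
  have hd0 : d ≠ 0 := V.yset.ne d V.md
  have gf := one_swap hF ch.fg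
  have gd := herm_eq_zero_swap hF ch.dg
  have ge := herm_eq_zero_swap hF ch.eg
  have gi := herm_eq_zero_swap hF ch.ig
  have hs0f : P y s0 * x 5 ≠ x 5 * P y s0 := by
    rw [hs0, ← V.lf, Ne, V.chart.comm_iff q65.2.1 hf0 q65.2.2 ch.ff, herm_add_left, gf, ch.if',
      add_zero]
    exact one_ne_zero
  have hs0i : P y s0 * x 8 = x 8 * P y s0 := by
    rw [hs0, ← V.li, V.chart.comm_iff q65.2.1 hi0 q65.2.2 ch.ii, herm_add_left, gi, ch.ii, add_zero]
  have hs0d : P y s0 * x 3 = x 3 * P y s0 := by
    rw [hs0, ← V.ld, V.chart.comm_iff q65.2.1 hd0 q65.2.2 ch.dd, herm_add_left, gd, ch.id, add_zero]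
  have hs0e : P y s0 * x 4 = x 4 * P y s0 := by
    rw [hs0, ← V.le, V.chart.comm_iff q65.2.1 he0 q65.2.2 ch.ee, herm_add_left, ge, ch.ie, add_zero]
  have hegq := (isPt_iff_dec hF hω hb).1 (show isPt 320 = true by decide +kernel)
  rw [k7] at hegq
  have hs0c : P y s0 * x 2 = x 2 * P y s0 := by
    rw [hs0, ← V.lc, V.chart.comm_iff q65.2.1 hegq.2.1 q65.2.2 hegq.2.2, herm_add_left,
      herm_add_right hF, herm_add_right hF, ge, ch.gg, ch.ie, ch.ig, add_zero, add_zero]
  -- `η`
  have sqs : ∀ k < 7, y k * y k = 1 := hrel.sq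
  have hetaP : P y eta = y 4 * y 3 * y 2 * y 1 * y 0 * y 1 * y 2 * y 3 * y 4 := by
    rw [eta]; simp only [P_cons, P_nil, mul_one, mul_assoc]
  have hetaD : P y eta ∈ D := by
    have h3 : P y eta = P y [4, 3, 2, 1] * P y [0] * (P y [4, 3, 2, 1])⁻¹ := by
      rw [← P_conj y _ _ (hrel.sqs (by decide))]
      rfl
    rw [h3, P_single]
    exact hB.conj _ (c.mem 1 (by norm_num)) _
  have hs0eta : P y s0 * P y eta ≠ P y eta * P y s0 := by
    intro h3
    have h4 := hrel.s0_eta
    have h5 : P y s0 * P y eta * (P y s0 * P y eta) = 1 := by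
      calc P y s0 * P y eta * (P y s0 * P y eta) = P y s0 * P y eta * (P y eta * P y s0) := by rw [h3]
        _ = P y s0 * (P y eta * P y eta) * P y s0 := by group
        _ = 1 := by rw [hB.sq _ hetaD, mul_one, hB.sq _ hs0D]
    rw [h4] at h5
    have h6 : P y psi * y 0 * (P y psi * y 0) = 1 := by
      have h7 : (P y [4, 3, 2, 1]) * (P y psi * y 0 * (P y psi * y 0)) * (P y [4, 3, 2, 1])⁻¹ = 1 := by
        rw [← h5]; group
      rwa [← MulAut.conj_apply, MulEquiv.map_eq_one_iff] at h7
    exact hψb (commute_of_mul_sq (hB.sq _ hψD) (hB.sq _ (c.mem 1 (by norm_num))) h6).symm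
  -- the chart at `i = x 8`
  obtain ⟨π', lift', hC'⟩ := hB.charts (x 8) (c.mem 8 (by norm_num))
  have hcx : ∀ k, k < 6 → x k * x 8 = x 8 * x k := by
    intro k hk
    refine c.comm k (by omega) 8 (by norm_num) (by omega) ?_
    interval_cases k <;> decide
  have hnx : ∀ k, k < 6 → x k ≠ x 8 := by
    intro k hk h3
    -- `x 8` does not commute with `x 7`
    by_cases hk3 : k = 3
    · subst hk3
      exact c.ne 3 8 2 (by norm_num) (by norm_num) (by norm_num) (by norm_num) (by norm_num)
        (by decide) (by decide) h3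
    · apply c.nadj 8 (by norm_num) 7 (by norm_num) (by norm_num) (by decide)
      rw [← h3]
      refine c.comm k (by omega) 7 (by norm_num) (by omega) ?_
      interval_cases k <;> first | (exact absurd rfl hk3) | decide
  have hs0x : P y s0 ≠ x 8 := by
    intro h3
    apply hs0f
    rw [h3]
    exact (hcx 5 (by norm_num)).symm
  -- the six elements
  let t : ℕ → G := fun k => if k < 5 then x (k + 1) else P y s0
  have ht : ∀ k < 6, t k ∈ D ∧ t k * x 8 = x 8 * t k ∧ t k ≠ x 8 := by
    intro k hk
    by_cases h5 : k < 5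
    · have : t k = x (k + 1) := if_pos h5
      rw [this]
      exact ⟨c.mem _ (by omega), hcx _ (by omega), hnx _ (by omega)⟩
    · have : t k = P y s0 := if_neg h5
      rw [this]
      exact ⟨hs0D, hs0i, hs0x⟩
  let u : ℕ → Subgroup.centralizer ({x 8} : Set G) := fun k =>
    if hk : k < 6 then ⟨t k, Subgroup.mem_centralizer_singleton_iff.2 (ht k hk).2.1⟩ else 1
  have hu : ∀ k, k < 6 → (u k : G) = t k := by
    intro k hk
    show ((if hk : k < 6 then (⟨t k, _⟩ : Subgroup.centralizer ({x 8} : Set G)) else 1 :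
      Subgroup.centralizer ({x 8} : Set G)) : G) = t k
    rw [dif_pos hk]
  have huD : ∀ k < 6, u k ∈ Dset lift' := by
    intro k hk
    have h3 : (u k : G) ∈ D := by rw [hu k hk]; exact (ht k hk).1
    rcases (hC'.mem _).1 h3 with h4 | h4
    · rw [hu k hk] at h4
      exact absurd h4 (ht k hk).2.2
    · exact h4
  have hcommU : ∀ k l, k < 6 → l < 6 → (Commute (u k) (u l) ↔ t k * t l = t l * t k) := by
    intro k l hk hl
    rw [← hu k hk, ← hu l hl, ← Subgroup.coe_mul, ← Subgroup.coe_mul]
    exact ⟨fun h3 => congrArg _ h3.eq, fun h3 => Subtype.ext h3⟩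
  -- the spider element
  have hζx : ∀ k < 7, P y zeta * y k = y k * P y zeta := fun k hk => hrel.zeta_comm hψ3 k hk
  have hζs0 : P y zeta * P y s0 = P y s0 * P y zeta := hrel.zeta_comm_P hψ3 s0 (by decide)
  have hζ8 : P y zeta * x 8 = x 8 * P y zeta := hζx 6 (by norm_num)
  have hζt : ∀ k < 6, P y zeta * t k = t k * P y zeta := by
    intro k hk
    by_cases h5 : k < 5
    · have h6 : t k = y k := by
        have h7 : t k = x (k + 1) := if_pos h5
        have h8 : y k = x (k + 1) := by
          show x (ix k) = _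
          rw [ix, if_pos h5]
        rw [h7, h8]
      rw [h6]
      exact hζx k (by omega)
    · have : t k = P y s0 := if_neg h5
      rw [this]
      exact hζs0
  have key := IdentZeta.zeta hC'.lab (y := u) huD (by
    intro k hk
    rw [hcommU k (k + 1) (by omega) (by omega)]
    interval_cases k
    · exact c.nadj 1 (by norm_num) 2 (by norm_num) (by norm_num) (by decide)
    · exact c.nadj 2 (by norm_num) 3 (by norm_num) (by norm_num) (by decide)
    · exact c.nadj 3 (by norm_num) 4 (by norm_num) (by norm_num) (by decide)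
    · exact c.nadj 4 (by norm_num) 5 (by norm_num) (by norm_num) (by decide)
    · exact fun h3 => hs0f h3.symm) (by
    intro k hk l hl hkl hn
    rw [hcommU k l hk hl]
    by_cases h5 : l = 5
    · subst h5
      have hk' : k = 1 ∨ k = 2 ∨ k = 3 := by omega
      rcases hk' with rfl | rfl | rfl
      · exact hs0c.symm
      · exact hs0d.symm
      · exact hs0e.symm
    · have h6 : t k = x (k + 1) := if_pos (by omega)
      have h7 : t l = x (l + 1) := if_pos (by omega)
      rw [h6, h7]
      refine c.comm (k + 1) (by omega) (l + 1) (by omega) (by omega) ?_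
      have hl5 : l < 5 := by omega
      have hk5 : k < 5 := by omega
      interval_cases l <;> interval_cases k <;> first | decide | omega) (by
    intro h3
    apply hs0eta
    have h4 := congrArg (Subtype.val) h3.eq
    simp only [Subgroup.coe_mul] at h4
    rw [hu 5 (by norm_num), hu 4 (by norm_num), hu 3 (by norm_num), hu 2 (by norm_num),
      hu 1 (by norm_num), hu 0 (by norm_num)] at h4
    rw [hetaP]
    exact h4)
    (ζ := ⟨P y zeta, Subgroup.mem_centralizer_singleton_iff.2 hζ8⟩) (by
    intro k hk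
    apply Subtype.ext
    show P y zeta * (u k : G) = (u k : G) * P y zeta
    rw [hu k hk]
    exact hζt k hk)
  have hfin : P y zeta = 1 := by
    rcases key with h3 | h3
    · exact congrArg Subtype.val h3
    · exfalso
      have h4 : P y zeta = x 8 := congrArg Subtype.val h3
      apply c.nadj 8 (by norm_num) 7 (by norm_num) (by norm_num) (by decide)
      have h5 := hζx 5 (by norm_num)
      rw [h4] at h5
      exact h5
  rw [P_zeta] at hfin
  exact hfin

/-- Existence of a configuration. -/
theorem exists_config {hF : Fintype.card F = 2 ^ 2} (hB : Base hF D) (hne : D.Nonempty) :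
    ∃ x : ℕ → G, Config D x := by
  have h2 := two_eq_zero hF
  obtain ⟨ω, hω⟩ := exists_omega hF
  obtain ⟨k, hk⟩ := hne
  obtain ⟨π0, lift0, hC0⟩ := hB.charts k hk
  -- two non-orthogonal isotropic vectors
  let v1 : Fin 6 → F := ![1, 1, 0, 0, 0, 0]
  let v2 : Fin 6 → F := ![0, 1, 1, 0, 0, 0]
  have n1 : v1 ≠ 0 := fun h => by have := congrFun h 0; simp [v1] at this
  have n2 : v2 ≠ 0 := fun h => by have := congrFun h 1; simp [v2] at this
  have q1 : hermForm 6 F 2 v1 v1 = 0 := by
    rw [herm_def]; simp [v1, Fin.sum_univ_succ]; linear_combination h2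
  have q2 : hermForm 6 F 2 v2 v2 = 0 := by
    rw [herm_def]; simp [v2, Fin.sum_univ_succ]; linear_combination h2
  have q12 : hermForm 6 F 2 v1 v2 = 1 := by
    rw [herm_def]; simp [v1, v2, Fin.sum_univ_succ]
  set a : G := (lift0 v1 : G) with ha
  set b : G := (lift0 v2 : G) with hb
  have haD : a ∈ D := hC0.lift_mem n1 q1
  have hbD : b ∈ D := hC0.lift_mem n2 q2
  have hab : a * b ≠ b * a := by
    rw [ha, hb, Ne, hC0.comm_iff n1 n2 q1 q2, q12]
    exact one_ne_zero
  obtain ⟨π, lift, hC⟩ := hB.charts a haD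
  have hY := IdentY.yset hB.charts haD hbD hab hC
  obtain ⟨vk, nk, qk, lk, -⟩ := hC.exists_lift hk (hC0.coe_comm (lift0 v1)).symm
    (Ne.symm (hC0.lift_ne n1 q1))
  have hkY : vk ∈ Yof lift b := ⟨nk, qk, by rw [lk]; exact (hC0.coe_comm (lift0 v2)).symm⟩
  obtain ⟨i, h, d, e, f, g, ch, mi, mh, md, me, mf, mg⟩ := exists_chain hF hY ⟨vk, hkY⟩
  have hbas := ch.hyp hF
  have k7 : dec (basis i h d e f g) ω 320 = e + g := by
    obtain ⟨k0, k1, k2, k3, k4, k5, k6⟩ := dec_codes i h d e f g hF ω
    have : (320 : ℕ) = 256 ^^^ 64 := by decide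
    rw [this, dec_xor hF, k3, k5]
  have hegq := (isPt_iff_dec hF hω hbas).1 (show isPt 320 = true by decide +kernel)
  rw [k7] at hegq
  -- `c` does not commute with `b`
  have hcb : ¬ (lift (e + g) : G) * b = b * lift (e + g) := by
    intro h3
    have h4 : g + (1 : F) • e ∈ Yof lift b := by
      rw [one_smul, add_comm]; exact ⟨hegq.2.1, hegq.2.2, h3⟩
    have h5 : g + (0 : F) • e ∈ Yof lift b := by rw [zero_smul, add_zero]; exact mg
    have hne' : ∀ t : F, g ≠ t • e := by
      intro t ht
      have h6 := herm_eq_zero_swap hF ch.dg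
      rw [ht, herm_smul_left, one_swap hF ch.de, mul_one] at h6
      have h7 := ch.fg
      rw [ht, h6, zero_smul, herm_zero_right hF] at h7
      exact zero_ne_one h7
    exact one_ne_zero (hY.line_un e me g ch.gg (herm_eq_zero_swap hF ch.eg) hne' 1 0 h4 h5)
  have hi := one_swap hF ch.ih
  have dh := one_swap hF ch.hd
  have ed := one_swap hF ch.de
  have fe := one_swap hF ch.ef
  have gf := one_swap hF ch.fg
  have di := herm_eq_zero_swap hF ch.id
  have ei := herm_eq_zero_swap hF ch.ie
  have fi := herm_eq_zero_swap hF ch.if'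
  have gi := herm_eq_zero_swap hF ch.ig
  have eh := herm_eq_zero_swap hF ch.he
  have fh := herm_eq_zero_swap hF ch.hf
  have gh := herm_eq_zero_swap hF ch.hg
  have fd := herm_eq_zero_swap hF ch.df
  have gd := herm_eq_zero_swap hF ch.dg
  have ge := herm_eq_zero_swap hF ch.eg
  -- the vectors
  let v : ℕ → (Fin 6 → F) := fun k =>
    if k = 2 then e + g else if k = 3 then d else if k = 4 then e else if k = 5 then f
    else if k = 6 then g else if k = 7 then h else i
  have hv : ∀ k, 2 ≤ k → k < 9 → v k ≠ 0 ∧ hermForm 6 F 2 (v k) (v k) = 0 := by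
    intro k hk hk9
    interval_cases k
    · exact ⟨hegq.2.1, hegq.2.2⟩
    · exact ⟨hY.ne d md, ch.dd⟩
    · exact ⟨hY.ne e me, ch.ee⟩
    · exact ⟨hY.ne f mf, ch.ff⟩
    · exact ⟨hY.ne g mg, ch.gg⟩
    · exact ⟨hY.ne h mh, ch.hh⟩
    · exact ⟨hY.ne i mi, ch.ii⟩
  have z1 : (1 : F) + 1 = 0 := by linear_combination h2
  have hform : ∀ k, 2 ≤ k → k < 9 → ∀ l, 2 ≤ l → l < 9 → k ≠ l →
      hermForm 6 F 2 (v k) (v l) = if IdentWord.adj IdentPres.E k l = true then 1 else 0 := by
    intro k hk hk9 l hl hl9 hkl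
    have e2 : v 2 = e + g := rfl
    have e3 : v 3 = d := rfl
    have e4 : v 4 = e := rfl
    have e5 : v 5 = f := rfl
    have e6 : v 6 = g := rfl
    have e7 : v 7 = h := rfl
    have e8 : v 8 = i := rfl
    interval_cases k <;> interval_cases l <;>
    first
    | exact absurd rfl hkl
    | (simp only [e2, e3, e4, e5, e6, e7, e8, herm_add_left, herm_add_right hF, ch.ii, ch.hh, ch.dd,
        ch.ee, ch.ff, ch.gg, ch.ih, ch.hd, ch.de, ch.ef, ch.fg, ch.id, ch.ie, ch.if', ch.ig, ch.he,
        ch.hf, ch.hg, ch.df, ch.dg, ch.eg, hi, dh, ed, fe, gf, di, ei, fi, gi, eh, fh, gh, fd, gd,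
        ge, add_zero, zero_add, z1]
       rfl)
  let x : ℕ → G := fun k => if k = 0 then a else if k = 1 then b else (lift (v k) : G)
  have hx : ∀ k, 2 ≤ k → x k = (lift (v k) : G) := by
    intro k hk
    show (if k = 0 then a else if k = 1 then b else (lift (v k) : G)) = _
    rw [if_neg (by omega), if_neg (by omega)]
  have hx0 : x 0 = a := rfl
  have hx1 : x 1 = b := rfl
  have hxY : ∀ k, 3 ≤ k → k < 9 → x k * b = b * x k := by
    intro k hk hk9
    rw [hx k (by omega)]
    interval_cases k
    · exact md.2.2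
    · exact me.2.2
    · exact mf.2.2
    · exact mg.2.2
    · exact mh.2.2
    · exact mi.2.2
  refine ⟨x, ?_, ?_, ?_⟩
  · intro k hk
    by_cases h0 : k = 0
    · rw [h0]; exact haD
    · by_cases h1 : k = 1
      · rw [h1]; exact hbD
      · rw [hx k (by omega)]
        exact hC.lift_mem (hv k (by omega) hk).1 (hv k (by omega) hk).2
  · intro k hk l hl hkl hadj
    by_cases hk2 : 2 ≤ k
    · by_cases hl2 : 2 ≤ l
      · rw [hx k hk2, hx l hl2, Ne, hC.comm_iff (hv k hk2 hk).1 (hv l hl2 hl).1 (hv k hk2 hk).2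
          (hv l hl2 hl).2, hform k hk2 hk l hl2 hl hkl, if_pos hadj]
        exact one_ne_zero
      · interval_cases l
        · exfalso; revert hadj; interval_cases k <;> decide
        · have hk2' : k = 2 := by
            by_contra hk3
            revert hadj; interval_cases k <;> first | (exact absurd rfl hk3) | decide
          subst hk2'
          rw [hx 2 (le_refl 2), hx1]
          exact hcb
    · by_cases hl2 : 2 ≤ l
      · interval_cases k
        · exfalso; revert hadj; interval_cases l <;> decide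
        · have hl2' : l = 2 := by
            by_contra hl3
            revert hadj; interval_cases l <;> first | (exact absurd rfl hl3) | decide
          subst hl2'
          rw [hx 2 (le_refl 2), hx1]
          exact fun h3 => hcb h3.symm
      · interval_cases k <;> interval_cases l
        · exact absurd rfl hkl
        · exact hab
        · exact fun h3 => hab h3.symm
        · exact absurd rfl hkl
  · intro k hk l hl hkl hadj
    by_cases hk2 : 2 ≤ k
    · by_cases hl2 : 2 ≤ l
      · rw [hx k hk2, hx l hl2, hC.comm_iff (hv k hk2 hk).1 (hv l hl2 hl).1 (hv k hk2 hk).2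
          (hv l hl2 hl).2, hform k hk2 hk l hl2 hl hkl, hadj]
        rfl
      · interval_cases l
        · rw [hx k hk2, hx0]
          exact hC.coe_comm _
        · have hk3 : 3 ≤ k := by
            by_contra hk3
            have : k = 2 := by omega
            subst this
            exact absurd hadj (by decide)
          exact hxY k hk3 hk
    · by_cases hl2 : 2 ≤ l
      · interval_cases k
        · rw [hx l hl2, hx0]
          exact (hC.coe_comm _).symm
        · have hl3 : 3 ≤ l := by
            by_contra hl3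
            have : l = 2 := by omega
            subst this
            exact absurd hadj (by decide)
          exact (hxY l hl3 hl).symm
      · interval_cases k <;> interval_cases l
        · exact absurd rfl hkl
        · exact absurd hadj (by decide)
        · exact absurd hadj (by decide)
        · exact absurd rfl hkl

/-- **Identification.** -/
theorem isoFi22 {hF : Fintype.card F = 2 ^ 2} (hB : Base hF D) (hne : D.Nonempty)
    (hcard : Nat.card G = 64561751654400) : Spor.IsoFi22 G := by
  obtain ⟨x, c⟩ := exists_config hB hne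
  refine isoFi22_of_seq hcard x ?_ (fun k hk => hB.sq _ (c.mem k hk)) ?_ c.comm (Config.spider hB c)
    (c.pow_nine' hB) (c.pow_nine hB)
  · intro h0
    apply c.nadj 0 (by norm_num) 1 (by norm_num) (by norm_num) (by decide)
    rw [h0, one_mul, mul_one]
  · intro k hk l hl hkl ha
    exact (hB.three _ (c.mem k hk) _ (c.mem l hl)).resolve_left (c.nadj k hk l hl hkl ha)

/-- From the local hypothesis `Loc`. -/
theorem charts_of_loc {hF : Fintype.card F = 2 ^ 2} (h : Loc hF D) : Charts hF D := by
  intro d hd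
  obtain ⟨π, lift, L, hL⟩ := h d hd
  refine ⟨π, lift, L, fun x => ?_⟩
  rw [hL x]
  constructor
  · rintro (h1 | h1)
    · left; rw [h1]; rfl
    · right; exact h1
  · rintro (h1 | h1)
    · left; exact Subtype.ext h1
    · right; exact h1

theorem ident (G : Type*) [Group G] (d : G) (F : Type*) [Field F] [Fintype F]
    (hF : Fintype.card F = 2 ^ 2) (hL : Loc hF (conjugatesOf d))
    (h3 : ∀ a ∈ conjugatesOf d, ∀ b ∈ conjugatesOf d, a * b = b * a ∨ (a * b) ^ 3 = 1)
    (hcard : Nat.card G = 64561751654400) : Spor.IsoFi22 G := by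
  have hch := charts_of_loc hL
  have hdd : d ∈ conjugatesOf d := mem_conjugatesOf_self
  refine isoFi22 (hF := hF) (D := conjugatesOf d) ⟨hch, ?_, ?_, h3⟩ ⟨d, hdd⟩ hcard
  · intro x hx
    obtain ⟨π, lift, hC⟩ := hch x hx
    exact congrArg Subtype.val hC.lab.ext.zz
  · intro x hx g
    have hx' : IsConj d x := hx
    exact hx'.trans (isConj_iff.2 ⟨g, rfl⟩)

end Cfsg.Agent.R01.IdentMain
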