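import Cfsg.Agent.R01.Label

/-!
Involutions of `C = 2.PSU 6 F 2`: every `c` with `c ^ 2 ∈ {1, z}` is up to `z` a product of at most
three lifts of independent mutually orthogonal isotropic vectors; transitivity on frames.
-/

set_option autoImplicit false
set_option linter.unusedSectionVars false

namespace Cfsg.Agent.R01.InvForm

open Cfsg Cfsg.Agent.LieClassical.HermBasic Cfsg.Agent.ClassicalGeometry.UnitTransv
open Cfsg.Agent.SporadicStructure.UnitTwo
open Cfsg.Agent.R01.Lifts Cfsg.Agent.R01.PSUSix Cfsg.Agent.R01.Label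
open Cfsg.Agent.ClassicalGeometry.UnitAutBasic (tau pr pr_surjective)

variable {F : Type*} [Field F] [Fintype F]

/-- Two independent orthogonal isotropic vectors. -/
structure Fr2 (u v : Fin 6 → F) : Prop where
  uu : hermForm 6 F 2 u u = 0
  vv : hermForm 6 F 2 v v = 0
  uv : hermForm 6 F 2 u v = 0
  ind : ∀ a b : F, a • u + b • v = 0 → a = 0 ∧ b = 0

/-- Three independent mutually orthogonal isotropic vectors. -/
structure Fr3 (u v w : Fin 6 → F) : Prop where
  uu : hermForm 6 F 2 u u = 0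
  vv : hermForm 6 F 2 v v = 0
  ww : hermForm 6 F 2 w w = 0
  uv : hermForm 6 F 2 u v = 0
  uw : hermForm 6 F 2 u w = 0
  vw : hermForm 6 F 2 v w = 0
  ind : ∀ a b c : F, a • u + b • v + c • w = 0 → a = 0 ∧ b = 0 ∧ c = 0

namespace Fr2

variable {u v : Fin 6 → F}

theorem u_ne (h : Fr2 u v) : u ≠ 0 := by
  rintro rfl
  exact one_ne_zero (h.ind 1 0 (by simp)).1

theorem v_ne (h : Fr2 u v) : v ≠ 0 := by
  rintro rfl
  exact one_ne_zero (h.ind 0 1 (by simp)).2

theorem not_mul (h : Fr2 u v) : ¬ ∃ c : F, v = c • u := by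
  rintro ⟨c, rfl⟩
  have := (h.ind (-c) 1 (by rw [one_smul, neg_smul, neg_add_cancel])).2
  exact one_ne_zero this

end Fr2

namespace Fr3

variable {u v w : Fin 6 → F}

theorem fr2 (h : Fr3 u v w) : Fr2 u v :=
  ⟨h.uu, h.vv, h.uv, fun a b hab => by
    have := h.ind a b 0 (by rw [hab, zero_smul, add_zero])
    exact ⟨this.1, this.2.1⟩⟩

theorem rot (hF : Fintype.card F = 2 ^ 2) (h : Fr3 u v w) : Fr3 v w u :=
  ⟨h.vv, h.ww, h.uu, h.vw, herm_eq_zero_swap hF h.uv, herm_eq_zero_swap hF h.uw, fun a b c habc => by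
    have := h.ind c a b (by rw [← habc]; abel)
    exact ⟨this.2.1, this.2.2, this.1⟩⟩

theorem u_ne (h : Fr3 u v w) : u ≠ 0 := h.fr2.u_ne

theorem v_ne (h : Fr3 u v w) : v ≠ 0 := h.fr2.v_ne

theorem w_ne (h : Fr3 u v w) : w ≠ 0 := by
  rintro rfl
  exact one_ne_zero (h.ind 0 0 1 (by simp)).2.2

theorem not_mem (h : Fr3 u v w) : ¬ ∃ a b : F, w = a • u + b • v := by
  rintro ⟨a, b, rfl⟩
  have := (h.ind (-a) (-b) 1 (by rw [one_smul, neg_smul, neg_smul]; abel)).2.2
  exact one_ne_zero this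

end Fr3

section Ru2

variable (hF : Fintype.card F = 2 ^ 2)
include hF

/-- If `w` is not in the span of `u, v` there is a vector orthogonal to `u, v` but not to `w`. -/
theorem exists_perp_ne2 {u v w : Fin 6 → F} (hu0 : u ≠ 0) (hv0 : v ≠ 0)
    (huv : ¬ ∃ c : F, v = c • u) (hvu : ¬ ∃ c : F, u = c • v)
    (hw : ¬ ∃ a b : F, w = a • u + b • v) :
    ∃ a, hermForm 6 F 2 a u = 0 ∧ hermForm 6 F 2 a v = 0 ∧ hermForm 6 F 2 w a ≠ 0 := by
  by_contra hcon
  push Not at hcon
  apply hw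
  obtain ⟨b1, hb1v, hb1⟩ := exists_perp_ne hF hv0 hvu
  obtain ⟨b2, hb2u, hb2⟩ := exists_perp_ne hF hu0 huv
  set s := hermForm 6 F 2 u b1 with hs
  set t := hermForm 6 F 2 v b2 with ht
  have hb1u : hermForm 6 F 2 b1 u = s ^ 2 := by rw [herm_swap hF u b1]
  have hb2v : hermForm 6 F 2 b2 v = t ^ 2 := by rw [herm_swap hF v b2]
  have hs3 := pow_three hF hb1
  have ht3 := pow_three hF hb2
  refine ⟨hermForm 6 F 2 w b1 * s⁻¹, hermForm 6 F 2 w b2 * t⁻¹, ?_⟩
  have key : w - ((hermForm 6 F 2 w b1 * s⁻¹) • u + (hermForm 6 F 2 w b2 * t⁻¹) • v) = 0 := by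
    apply herm_nondeg hF
    intro a
    have h1 := hcon (a - (hermForm 6 F 2 a u * (s ^ 2)⁻¹) • b1
        - (hermForm 6 F 2 a v * (t ^ 2)⁻¹) • b2) (by
      rw [herm_sub_left, herm_sub_left, herm_smul_left, herm_smul_left, hb1u, hb2u, mul_assoc,
        inv_mul_cancel₀ (pow_ne_zero 2 hb1), mul_one, sub_self, mul_zero, sub_zero]) (by
      rw [herm_sub_left, herm_sub_left, herm_smul_left, herm_smul_left, hb1v, hb2v, mul_zero,
        sub_zero, mul_assoc, inv_mul_cancel₀ (pow_ne_zero 2 hb2), mul_one, sub_self])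
    rw [herm_sub_right hF, herm_sub_right hF, herm_smul_right, herm_smul_right, mul_pow, mul_pow,
      ← herm_swap hF a u, ← herm_swap hF a v] at h1
    rw [herm_sub_left, herm_add_left, herm_smul_left, herm_smul_left]
    have h4 : ((s ^ 2)⁻¹) ^ 2 = s⁻¹ := by
      rw [inv_pow]
      congr 1
      linear_combination s * hs3
    have h5 : ((t ^ 2)⁻¹) ^ 2 = t⁻¹ := by
      rw [inv_pow]
      congr 1
      linear_combination t * ht3
    rw [h4, h5] at h1
    linear_combination h1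
  rwa [sub_eq_zero] at key

/-- The third step of the transitivity on frames. -/
theorem trans_perp2 {u v w w' : Fin 6 → F} (h : Fr3 u v w) (h' : Fr3 u v w') :
    ∃ r : SU 6 F 2, act r u = u ∧ act r v = v ∧ ∃ c : F, c ≠ 0 ∧ act r w = c • w' := by
  have h2 := two_eq_zero hF
  have hwu := herm_eq_zero_swap hF h.uw
  have hwv := herm_eq_zero_swap hF h.vw
  have hwu' := herm_eq_zero_swap hF h'.uw
  have hwv' := herm_eq_zero_swap hF h'.vw
  have key : ∀ a b : Fin 6 → F, hermForm 6 F 2 a a = 0 → hermForm 6 F 2 b b = 0 →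
      hermForm 6 F 2 u a = 0 → hermForm 6 F 2 u b = 0 → hermForm 6 F 2 v a = 0 →
      hermForm 6 F 2 v b = 0 → hermForm 6 F 2 a b ≠ 0 →
      ∃ r : SU 6 F 2, act r u = u ∧ act r v = v ∧ ∃ c : F, c ≠ 0 ∧ act r a = c • b := by
    intro a b ha hb hau hbu hav hbv hab
    set s := hermForm 6 F 2 a b with hs
    have hs3 := pow_three hF hab
    have e1 : hermForm 6 F 2 a (s • b) = 1 := by
      rw [herm_smul_right, ← hs]; linear_combination hs3
    have e2 : hermForm 6 F 2 (s • b) a = 1 := by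
      rw [herm_swap hF a, e1, one_pow]
    have h0 : hermForm 6 F 2 (a + s • b) (a + s • b) = 0 := by
      rw [herm_add_left, herm_add_right hF, herm_add_right hF, ha, e1, e2, herm_smul_left,
        herm_smul_right, hb]
      linear_combination h2
    refine ⟨T hF _ h0, ?_, ?_, s, hab, ?_⟩
    · apply act_T_of_perp
      rw [herm_add_right hF, herm_smul_right, hau, hbu, mul_zero, add_zero]
    · apply act_T_of_perp
      rw [herm_add_right hF, herm_smul_right, hav, hbv, mul_zero, add_zero]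
    · rw [act_T, herm_add_right hF, ha, e1, zero_add, one_smul, ← add_assoc, vadd_self hF, zero_add]
  by_cases hww : hermForm 6 F 2 w w' = 0
  · have hvu : ¬ ∃ c : F, u = c • v := by
      rintro ⟨c, hc⟩
      have := (h.fr2.ind 1 (-c) (by rw [one_smul, neg_smul, hc, add_neg_cancel])).1
      exact one_ne_zero this
    obtain ⟨z, hzu, hzv, hz1, hz2⟩ : ∃ z, hermForm 6 F 2 z u = 0 ∧ hermForm 6 F 2 z v = 0 ∧
        hermForm 6 F 2 w z ≠ 0 ∧ hermForm 6 F 2 w' z ≠ 0 := by
      obtain ⟨a, hau, hav, ha⟩ := exists_perp_ne2 hF h.u_ne h.v_ne h.fr2.not_mul hvu h.not_mem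
      obtain ⟨b, hbu, hbv, hb⟩ := exists_perp_ne2 hF h.u_ne h.v_ne h.fr2.not_mul hvu h'.not_mem
      by_cases h1 : hermForm 6 F 2 w' a = 0
      · by_cases h3 : hermForm 6 F 2 w b = 0
        · exact ⟨a + b, by rw [herm_add_left, hau, hbu, add_zero],
            by rw [herm_add_left, hav, hbv, add_zero],
            by rwa [herm_add_right hF, h3, add_zero], by rwa [herm_add_right hF, h1, zero_add]⟩
        · exact ⟨b, hbu, hbv, h3, hb⟩
      · exact ⟨a, hau, hav, ha, h1⟩
    obtain ⟨x, hx⟩ := exists_trace_eq hF (c := hermForm 6 F 2 z z) (herm_self_pow hF z)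
    set s := hermForm 6 F 2 w z with hs
    set l := x * s⁻¹ with hl
    have hls : l * s = x := by rw [hl, mul_assoc, inv_mul_cancel₀ hz1, mul_one]
    have hw'w := herm_eq_zero_swap hF hww
    have hz0 : hermForm 6 F 2 (z + l • w) (z + l • w) = 0 := by
      rw [herm_add_left, herm_add_right hF, herm_add_right hF, herm_smul_left, herm_smul_right,
        herm_smul_left, herm_smul_right, h.ww, herm_swap hF w z, ← hs, mul_zero, mul_zero, add_zero,
        hls]
      have e3 : l ^ 2 * s ^ 2 = x ^ 2 := by rw [← hls]; ring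
      rw [e3, ← hx]
      linear_combination (x + x ^ 2) * two_eq_zero hF
    have hzlu : hermForm 6 F 2 u (z + l • w) = 0 := by
      rw [herm_add_right hF, herm_smul_right, herm_eq_zero_swap hF hzu, h.uw, mul_zero, add_zero]
    have hzlv : hermForm 6 F 2 v (z + l • w) = 0 := by
      rw [herm_add_right hF, herm_smul_right, herm_eq_zero_swap hF hzv, h.vw, mul_zero, add_zero]
    obtain ⟨g1, hg1, hg1', c1, hc1, h1⟩ := key w (z + l • w) h.ww hz0 h.uw hzlu h.vw hzlv (by
      rw [herm_add_right hF, herm_smul_right, h.ww, mul_zero, add_zero]; exact hz1)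
    obtain ⟨g2, hg2, hg2', c2, hc2, h2⟩ := key (z + l • w) w' hz0 h'.ww hzlu h'.uw hzlv h'.vw (by
      intro h
      have h' := herm_eq_zero_swap hF h
      rw [herm_add_right hF, herm_smul_right, hw'w, mul_zero, add_zero] at h'
      exact hz2 h')
    exact ⟨g2 * g1, by rw [act_mul, hg1, hg2], by rw [act_mul, hg1', hg2'], c1 * c2,
      mul_ne_zero hc1 hc2, by rw [act_mul, h1, act_smul, h2, smul_smul]⟩
  · exact key w w' h.ww h'.ww h.uw h'.uw h.vw h'.vw hww

theorem Fr3_act {u v w : Fin 6 → F} (h : Fr3 u v w) (g : SU 6 F 2) :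
    Fr3 (act g u) (act g v) (act g w) :=
  ⟨by rw [herm_act, h.uu], by rw [herm_act, h.vv], by rw [herm_act, h.ww], by rw [herm_act, h.uv],
    by rw [herm_act, h.uw], by rw [herm_act, h.vw], fun a b c habc => by
      apply h.ind
      apply act_injective g
      rw [act_add, act_add, act_smul, act_smul, act_smul, act_zero, habc]⟩

theorem Fr3_smul {u v w : Fin 6 → F} (h : Fr3 u v w) {a b c : F} (ha : a ≠ 0) (hb : b ≠ 0)
    (hc : c ≠ 0) : Fr3 (a • u) (b • v) (c • w) :=
  ⟨herm_smul_self hF h.uu a, herm_smul_self hF h.vv b, herm_smul_self hF h.ww c,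
    by rw [herm_smul_left, herm_smul_right, h.uv]; ring,
    by rw [herm_smul_left, herm_smul_right, h.uw]; ring,
    by rw [herm_smul_left, herm_smul_right, h.vw]; ring, fun x y z hxyz => by
      rw [smul_smul, smul_smul, smul_smul] at hxyz
      obtain ⟨h1, h2, h3⟩ := h.ind _ _ _ hxyz
      exact ⟨(mul_eq_zero.1 h1).resolve_right ha, (mul_eq_zero.1 h2).resolve_right hb,
        (mul_eq_zero.1 h3).resolve_right hc⟩⟩

/-- Transitivity of `SU 6 F 2` on frames of length three, up to scalars. -/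
theorem trans_frames_SU {u v w u' v' w' : Fin 6 → F} (h : Fr3 u v w) (h' : Fr3 u' v' w') :
    ∃ (g : SU 6 F 2) (a b c : F), a ≠ 0 ∧ b ≠ 0 ∧ c ≠ 0 ∧ act g u = a • u' ∧ act g v = b • v' ∧
      act g w = c • w' := by
  obtain ⟨g1, a, ha, hg1⟩ := exists_map hF u u' h.u_ne h'.u_ne h.uu h'.uu
  have h1 := Fr3_act hF h g1
  have h1' : Fr3 u' (act g1 v) (act g1 w) := by
    have := Fr3_smul hF h1 (inv_ne_zero ha) one_ne_zero one_ne_zero
    rwa [hg1, smul_smul, inv_mul_cancel₀ ha, one_smul, one_smul, one_smul] at this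
  obtain ⟨g2, hg2, b, hb, hg2v⟩ := trans_perp hF h'.u_ne h1'.vv h'.vv
    (herm_eq_zero_swap hF h1'.uv) (herm_eq_zero_swap hF h'.uv) h1'.fr2.not_mul h'.fr2.not_mul h'.uu
  have hg2u : act g2 u' = u' := act_of_mem_Ru hF hg2
  have h2 := Fr3_act hF h1' g2
  have h2' : Fr3 u' v' (act g2 (act g1 w)) := by
    have := Fr3_smul hF h2 one_ne_zero (inv_ne_zero hb) one_ne_zero
    rwa [hg2u, hg2v, smul_smul, inv_mul_cancel₀ hb, one_smul, one_smul, one_smul] at this
  obtain ⟨g3, hg3u, hg3v, c, hc, hg3w⟩ := trans_perp2 hF h2' h'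
  refine ⟨g3 * g2 * g1, a, b, c, ha, hb, hc, ?_, ?_, ?_⟩
  · rw [act_mul, act_mul, hg1, act_smul, act_smul, hg2u, hg3u]
  · rw [act_mul, act_mul, hg2v, act_smul, hg3v]
  · rw [act_mul, act_mul, hg3w]

/-- The standard frame. -/
theorem fr3_std : Fr3 (![1, 1, 0, 0, 0, 0] : Fin 6 → F) ![0, 0, 1, 1, 0, 0] ![0, 0, 0, 0, 1, 1] := by
  have h2 := two_eq_zero hF
  refine ⟨?_, ?_, ?_, ?_, ?_, ?_, ?_⟩
  · rw [herm_def]; simp [Fin.sum_univ_succ]; linear_combination h2
  · rw [herm_def]; simp [Fin.sum_univ_succ]; linear_combination h2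
  · rw [herm_def]; simp [Fin.sum_univ_succ]; linear_combination h2
  · rw [herm_def]; simp [Fin.sum_univ_succ]
  · rw [herm_def]; simp [Fin.sum_univ_succ]
  · rw [herm_def]; simp [Fin.sum_univ_succ]
  · intro a b c h
    have e0 := congrFun h 0
    have e2 := congrFun h 2
    have e4 := congrFun h 4
    simp at e0 e2 e4
    exact ⟨e0, e2, e4⟩

/-- A totally isotropic subspace of dimension three is maximal. -/
theorem mem_span_of_perp {u v w : Fin 6 → F} (h : Fr3 u v w) {x : Fin 6 → F}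
    (hu : hermForm 6 F 2 x u = 0) (hv : hermForm 6 F 2 x v = 0) (hw : hermForm 6 F 2 x w = 0) :
    ∃ a b c : F, x = a • u + b • v + c • w := by
  have h2 := two_eq_zero hF
  obtain ⟨g, a, b, c, ha, hb, hc, hgu, hgv, hgw⟩ := trans_frames_SU hF h (fr3_std hF)
  set y := act g x with hy
  have e0 : hermForm 6 F 2 y ![1, 1, 0, 0, 0, 0] = 0 := by
    have h3 : hermForm 6 F 2 y (act g u) = 0 := by rw [hy, herm_act, hu]
    rw [hgu, herm_smul_right] at h3
    exact (mul_eq_zero.1 h3).resolve_left (pow_ne_zero _ ha)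
  have e1 : hermForm 6 F 2 y ![0, 0, 1, 1, 0, 0] = 0 := by
    have h3 : hermForm 6 F 2 y (act g v) = 0 := by rw [hy, herm_act, hv]
    rw [hgv, herm_smul_right] at h3
    exact (mul_eq_zero.1 h3).resolve_left (pow_ne_zero _ hb)
  have e2 : hermForm 6 F 2 y ![0, 0, 0, 0, 1, 1] = 0 := by
    have h3 : hermForm 6 F 2 y (act g w) = 0 := by rw [hy, herm_act, hw]
    rw [hgw, herm_smul_right] at h3
    exact (mul_eq_zero.1 h3).resolve_left (pow_ne_zero _ hc)
  have hyy : y = y 0 • (![1, 1, 0, 0, 0, 0] : Fin 6 → F) + y 2 • (![0, 0, 1, 1, 0, 0] : Fin 6 → F)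
      + y 4 • (![0, 0, 0, 0, 1, 1] : Fin 6 → F) := by
    rw [herm_def] at e0 e1 e2
    simp [Fin.sum_univ_succ] at e0 e1 e2
    funext i
    fin_cases i
    · simp
    · simp
      linear_combination e0 - y 0 * h2
    · simp
    · simp
      linear_combination e1 - y 2 * h2
    · simp
    · simp
      linear_combination e2 - y 4 * h2
  refine ⟨y 0 * a⁻¹, y 2 * b⁻¹, y 4 * c⁻¹, ?_⟩
  apply act_injective g
  rw [act_add, act_add, act_smul, act_smul, act_smul, hgu, hgv, hgw, smul_smul, smul_smul,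
    smul_smul, mul_assoc, mul_assoc, mul_assoc, inv_mul_cancel₀ ha, inv_mul_cancel₀ hb,
    inv_mul_cancel₀ hc, mul_one, mul_one, mul_one]
  exact hyy

end Ru2

section Inv

variable (hF : Fintype.card F = 2 ^ 2)

/-- The image of `g - 1`. -/
def Im (g : SU 6 F 2) : Set (Fin 6 → F) := {v | ∃ y, v = act g y + y}

theorem Im_add {g : SU 6 F 2} {v w : Fin 6 → F} (hv : v ∈ Im g) (hw : w ∈ Im g) : v + w ∈ Im g := by
  obtain ⟨y, rfl⟩ := hv
  obtain ⟨z, rfl⟩ := hw
  exact ⟨y + z, by rw [act_add]; abel⟩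

theorem Im_smul {g : SU 6 F 2} {v : Fin 6 → F} (c : F) (hv : v ∈ Im g) : c • v ∈ Im g := by
  obtain ⟨y, rfl⟩ := hv
  exact ⟨c • y, by rw [act_smul, smul_add]⟩

theorem herm_act_comm {g : SU 6 F 2} (hg : g * g = 1) (x y : Fin 6 → F) :
    hermForm 6 F 2 (act g x) y = hermForm 6 F 2 x (act g y) := by
  rw [← herm_act g (act g x) y, ← act_mul, hg, act_one]

include hF

theorem herm_N {g : SU 6 F 2} (hg : g * g = 1) (x y : Fin 6 → F) :
    hermForm 6 F 2 (act g x + x) y = hermForm 6 F 2 x (act g y + y) := by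
  rw [herm_add_left, herm_add_right hF, herm_act_comm hg]

theorem Im_orth {g : SU 6 F 2} (hg : g * g = 1) {v w : Fin 6 → F} (hv : v ∈ Im g) (hw : w ∈ Im g) :
    hermForm 6 F 2 v w = 0 := by
  obtain ⟨y, rfl⟩ := hv
  obtain ⟨z, rfl⟩ := hw
  rw [herm_add_left, herm_add_right hF, herm_add_right hF, herm_act, herm_act_comm hg]
  linear_combination (hermForm 6 F 2 y z + hermForm 6 F 2 y (act g z)) * two_eq_zero hF

theorem exists_x {g : SU 6 F 2} (hg : g * g = 1) (hne : g ≠ 1) :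
    ∃ x, hermForm 6 F 2 (act g x + x) x = 1 := by
  by_contra hcon
  push Not at hcon
  apply hne
  have h0 : ∀ x, hermForm 6 F 2 (act g x + x) x = 0 := by
    intro x
    have h1 : hermForm 6 F 2 (act g x + x) x ^ 2 = hermForm 6 F 2 (act g x + x) x := by
      rw [← herm_swap hF, herm_N hF hg]
    exact (zero_or_one_of_fixed hF h1).resolve_right (hcon x)
  have h3 : ∀ x y, hermForm 6 F 2 (act g x + x) y = 0 := by
    intro x y
    apply eq_zero_of_forall_trace hF
    intro c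
    have h4 := h0 (x + c ^ 2 • y)
    have e1 : act g (x + c ^ 2 • y) + (x + c ^ 2 • y) =
        (act g x + x) + c ^ 2 • (act g y + y) := by
      rw [act_add, act_smul, smul_add]; abel
    rw [e1, herm_add_left, herm_add_right hF, herm_add_right hF, herm_smul_left, herm_smul_left,
      herm_smul_right, herm_smul_right, h0, h0, herm_N hF hg y x,
      herm_swap hF (act g x + x) y] at h4
    have hc4 := pow_four hF c
    linear_combination h4 - (hermForm 6 F 2 (act g x + x) y) * hc4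
  apply ext_act
  intro x
  rw [act_one]
  have h5 : act g x + x = 0 := herm_nondeg hF (h3 x)
  funext i
  have := congrFun h5 i
  simp only [Pi.add_apply, Pi.zero_apply] at this
  linear_combination this - x i * two_eq_zero hF

/-- Splitting off a transvection from an involution. -/
theorem step {g : SU 6 F 2} (hg : g * g = 1) (hne : g ≠ 1) :
    ∃ (v : Fin 6 → F) (hv : hermForm 6 F 2 v v = 0), v ≠ 0 ∧ v ∈ Im g ∧
      (T hF v hv * g) * (T hF v hv * g) = 1 ∧ Im (T hF v hv * g) ⊆ Im g ∧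
      v ∉ Im (T hF v hv * g) := by
  obtain ⟨x, hx⟩ := exists_x hF hg hne
  set v := act g x + x with hv
  have hvIm : v ∈ Im g := ⟨x, rfl⟩
  have hvv : hermForm 6 F 2 v v = 0 := Im_orth hF hg hvIm hvIm
  have hv0 : v ≠ 0 := by
    intro h
    rw [h, herm_zero_left] at hx
    exact zero_ne_one hx
  -- the action of the new element
  have hact : ∀ y, act (T hF v hvv * g) y + y = (act g y + y) + hermForm 6 F 2 y v • v := by
    intro y
    have h1 : hermForm 6 F 2 (act g y) v = hermForm 6 F 2 y v := by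
      have h3 : hermForm 6 F 2 (act g y + y) v = 0 := Im_orth hF hg ⟨y, rfl⟩ hvIm
      rw [herm_add_left] at h3
      exact eq_of_add_eq_zero hF h3
    rw [act_mul, act_T, h1]
    abel
  have hgv : act g v = v := by
    rw [hv, act_add, ← act_mul, hg, act_one, add_comm]
  have hkill : ∀ y, act (T hF v hvv * g) (act (T hF v hvv * g) y) = y := by
    intro y
    have h1 : hermForm 6 F 2 (act g y) v = hermForm 6 F 2 y v := by
      rw [herm_act_comm hg, hgv]
    have e1 : ∀ y, act (T hF v hvv * g) y = act g y + hermForm 6 F 2 y v • v := by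
      intro y
      rw [act_mul, act_T, herm_act_comm hg, hgv]
    rw [e1, e1, act_add, act_smul, hgv, ← act_mul, hg, act_one, herm_add_left, herm_smul_left,
      hvv, mul_zero, add_zero, h1, add_assoc, vadd_self hF, add_zero]
  have hsq : (T hF v hvv * g) * (T hF v hvv * g) = 1 := by
    apply ext_act
    intro y
    rw [act_mul, act_one, hkill]
  refine ⟨v, hvv, hv0, hvIm, hsq, ?_, ?_⟩
  · rintro _ ⟨y, rfl⟩
    rw [hact]
    exact Im_add ⟨y, rfl⟩ (Im_smul _ hvIm)
  · rintro ⟨y, hy⟩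
    -- `h(v, x) = 1` but `N' x = 0`
    have h1 : hermForm 6 F 2 v x = hermForm 6 F 2 y (act (T hF v hvv * g) x + x) := by
      conv_lhs => rw [hy]
      rw [herm_N hF hsq]
    have h3 : hermForm 6 F 2 x v = 1 := by
      rw [herm_swap hF v x, hx, one_pow]
    rw [hact, h3, one_smul, ← hv, vadd_self hF, herm_zero_right hF, hx] at h1
    exact one_ne_zero h1

/-- The normal form of the involutions of `SU 6 F 2`. -/
theorem inv_form_SU {g : SU 6 F 2} (hg : g * g = 1) :
    g = 1 ∨ (∃ (u : Fin 6 → F) (hu : hermForm 6 F 2 u u = 0), u ≠ 0 ∧ g = T hF u hu) ∨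
    (∃ (u v : Fin 6 → F) (h : Fr2 u v), g = T hF u h.uu * T hF v h.vv) ∨
    (∃ (u v w : Fin 6 → F) (h : Fr3 u v w), g = T hF u h.uu * T hF v h.vv * T hF w h.ww) := by
  by_cases h0 : g = 1
  · exact Or.inl h0
  right
  obtain ⟨v1, hv1, hv10, hv1m, hsq1, hsub1, hnot1⟩ := step hF hg h0
  set g1 := T hF v1 hv1 * g with hg1
  have e1 : g = T hF v1 hv1 * g1 := by rw [hg1, ← mul_assoc, T_mul_self, one_mul]
  by_cases h1 : g1 = 1
  · left
    exact ⟨v1, hv1, hv10, by rw [e1, h1, mul_one]⟩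
  right
  obtain ⟨v2, hv2, hv20, hv2m, hsq2, hsub2, hnot2⟩ := step hF hsq1 h1
  set g2 := T hF v2 hv2 * g1 with hg2
  have e2 : g1 = T hF v2 hv2 * g2 := by rw [hg2, ← mul_assoc, T_mul_self, one_mul]
  have i12 : hermForm 6 F 2 v1 v2 = 0 := Im_orth hF hg hv1m (hsub1 hv2m)
  -- solving for `v1`
  have solve : ∀ (S : Set (Fin 6 → F)) (v : Fin 6 → F), v ∉ S →
      (∀ (c : F) (y : Fin 6 → F), y ∈ S → c • y ∈ S) → ∀ (a : F) (y : Fin 6 → F), y ∈ S →
      a • v = y → a = 0 := by
    intro S v hv hS a y hy hay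
    by_contra ha
    apply hv
    have : v = a⁻¹ • y := by rw [← hay, smul_smul, inv_mul_cancel₀ ha, one_smul]
    rw [this]
    exact hS _ _ hy
  have sm : ∀ (g : SU 6 F 2) (c : F) (y : Fin 6 → F), y ∈ Im g → c • y ∈ Im g :=
    fun g c y hy => Im_smul c hy
  have nadd : ∀ x y : Fin 6 → F, x + y = 0 → x = y := by
    intro x y h
    have h3 : x = x + y + y := by rw [add_assoc, vadd_self hF, add_zero]
    rw [h3, h, zero_add]
  have hfr2 : Fr2 v1 v2 := by
    refine ⟨hv1, hv2, i12, fun a b hab => ?_⟩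
    have ha : a = 0 := solve (Im g1) v1 hnot1 (sm g1) a (b • v2) (Im_smul b hv2m) (nadd _ _ hab)
    subst ha
    rw [zero_smul, zero_add] at hab
    rcases smul_eq_zero.1 hab with h | h
    · exact ⟨rfl, h⟩
    · exact absurd h hv20
  by_cases h2 : g2 = 1
  · left
    exact ⟨v1, v2, hfr2, by rw [e1, e2, h2, mul_one]⟩
  right
  obtain ⟨v3, hv3, hv30, hv3m, hsq3, hsub3, hnot3⟩ := step hF hsq2 h2
  set g3 := T hF v3 hv3 * g2 with hg3
  have e3 : g2 = T hF v3 hv3 * g3 := by rw [hg3, ← mul_assoc, T_mul_self, one_mul]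
  have i13 : hermForm 6 F 2 v1 v3 = 0 := Im_orth hF hg hv1m (hsub1 (hsub2 hv3m))
  have i23 : hermForm 6 F 2 v2 v3 = 0 := Im_orth hF hsq1 hv2m (hsub2 hv3m)
  have hfr3 : Fr3 v1 v2 v3 := by
    refine ⟨hv1, hv2, hv3, i12, i13, i23, fun a b c habc => ?_⟩
    rw [add_assoc] at habc
    have ha : a = 0 := solve (Im g1) v1 hnot1 (sm g1) a (b • v2 + c • v3)
      (Im_add (Im_smul b hv2m) (Im_smul c (hsub2 hv3m))) (nadd _ _ habc)
    subst ha
    rw [zero_smul, zero_add] at habc
    have hb : b = 0 := solve (Im g2) v2 hnot2 (sm g2) b (c • v3) (Im_smul c hv3m) (nadd _ _ habc)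
    subst hb
    rw [zero_smul, zero_add] at habc
    rcases smul_eq_zero.1 habc with h | h
    · exact ⟨rfl, rfl, h⟩
    · exact absurd h hv30
  refine ⟨v1, v2, v3, hfr3, ?_⟩
  by_cases h3 : g3 = 1
  · rw [e1, e2, e3, h3, mul_one, mul_assoc]
  · exfalso
    obtain ⟨v4, hv4, hv40, hv4m, hsq4, hsub4, hnot4⟩ := step hF hsq3 h3
    have i41 : hermForm 6 F 2 v4 v1 = 0 := Im_orth hF hg (hsub1 (hsub2 (hsub3 hv4m))) hv1m
    have i42 : hermForm 6 F 2 v4 v2 = 0 := Im_orth hF hsq1 (hsub2 (hsub3 hv4m)) hv2m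
    have i43 : hermForm 6 F 2 v4 v3 = 0 := Im_orth hF hsq2 (hsub3 hv4m) hv3m
    obtain ⟨a, b, c, habc⟩ := mem_span_of_perp hF hfr3 i41 i42 i43
    have habc' : a • v1 + (b • v2 + (c • v3 + v4)) = 0 := by
      rw [habc]
      have := vadd_self hF (a • v1 + b • v2 + c • v3)
      rw [← this]; abel
    have ha : a = 0 := solve (Im g1) v1 hnot1 (sm g1) a (b • v2 + (c • v3 + v4))
      (Im_add (Im_smul b hv2m) (Im_add (Im_smul c (hsub2 hv3m)) (hsub2 (hsub3 hv4m))))
      (nadd _ _ habc')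
    subst ha
    rw [zero_smul, zero_add] at habc'
    have hb : b = 0 := solve (Im g2) v2 hnot2 (sm g2) b (c • v3 + v4)
      (Im_add (Im_smul c hv3m) (hsub3 hv4m)) (nadd _ _ habc')
    subst hb
    rw [zero_smul, zero_add] at habc'
    have hc : c = 0 := solve (Im g3) v3 hnot3 (sm g3) c v4 hv4m (nadd _ _ habc')
    subst hc
    rw [zero_smul, zero_add] at habc'
    exact hv40 habc'

end Inv

section Main

variable {C : Type*} [Group C]
variable {hF : Fintype.card F = 2 ^ 2} {π : C →* PSU 6 F 2} {z ε : C} {lift : (Fin 6 → F) → C}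

/-- An element of `PSU 6 F 2` with square one comes from an element of `SU 6 F 2` with square one. -/
theorem exists_lift_sq (hF : Fintype.card F = 2 ^ 2) {x : PSU 6 F 2} (hx : x * x = 1) :
    ∃ g : SU 6 F 2, g * g = 1 ∧ pr 6 F 2 g = x := by
  obtain ⟨g, rfl⟩ := pr_surjective x
  rw [← map_mul] at hx
  have hc : g * g ∈ Subgroup.center (SU 6 F 2) := (QuotientGroup.eq_one_iff _).1 hx
  obtain ⟨c, hc1, hc⟩ := Cfsg.Agent.ClassicalGeometry.UnitAutBasic.exists_scalar_of_mem_center hF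
    (by norm_num) hc
  have hc' : ∀ v : Fin 6 → F, act (g * g) v = c • v := hc
  have hc0 : c ≠ 0 := (norm_iff hF).1 hc1
  have hc3 : c ^ 3 = 1 := pow_three hF hc0
  set s : SU 6 F 2 := Cfsg.Agent.LieClassical.SUBasic.suScalar 2 c
    (by rw [show (6 : ℕ) = 3 * 2 from rfl, pow_mul, hc3, one_pow]) hc3 with hs
  have hsact : ∀ v : Fin 6 → F, act s v = c • v := by
    intro v
    rw [act_def, hs, Cfsg.Agent.LieClassical.SUBasic.coe_suScalar]
    funext i
    rw [Matrix.mulVec_diagonal]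
    rfl
  have hsc : s ∈ Subgroup.center (SU 6 F 2) :=
    Cfsg.Agent.LieClassical.SUBasic.suScalar_mem_center _ _ _ _
  have hprs : pr 6 F 2 s = 1 := (QuotientGroup.eq_one_iff s).2 hsc
  refine ⟨s * g, ?_, by rw [map_mul, hprs, one_mul]⟩
  apply ext_act
  intro v
  have h1 : act g (act g v) = c • v := by rw [← act_mul, hc']
  rw [act_mul, act_mul, act_mul, act_one, hsact, hsact, act_smul, h1, smul_smul, smul_smul]
  have : c * c * c = 1 := by linear_combination hc3
  rw [this, one_smul]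

theorem lift_comm (L : Lab hF π z ε lift) {v w : Fin 6 → F} (hv : hermForm 6 F 2 v v = 0)
    (hw : hermForm 6 F 2 w w = 0) (hv0 : v ≠ 0) (hw0 : w ≠ 0) (h : hermForm 6 F 2 v w = 0) :
    Commute (lift v) (lift w) := (L.commute_iff hv hw hv0 hw0).2 h

/-- **KEY REMARK.** An element of `C` whose square is `1` or `z` is, up to `z`, a product of at most
three lifts of independent mutually orthogonal isotropic vectors. -/
theorem inv_form (L : Lab hF π z ε lift) {c : C} (hc : c * c = 1 ∨ c * c = z) :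
    ∃ c₀ : C, (c₀ = 1 ∨ c₀ = z) ∧ (c = c₀ ∨
      (∃ u : Fin 6 → F, u ≠ 0 ∧ hermForm 6 F 2 u u = 0 ∧ c = c₀ * lift u) ∨
      (∃ u v : Fin 6 → F, Fr2 u v ∧ c = c₀ * (lift u * lift v)) ∨
      (∃ u v w : Fin 6 → F, Fr3 u v w ∧ c = c₀ * (lift u * lift v * lift w))) := by
  have h1 : π c * π c = 1 := by
    rw [← map_mul]
    rcases hc with h | h
    · rw [h, map_one]
    · rw [h, L.ext.mapz]
  obtain ⟨g, hg, hgc⟩ := exists_lift_sq hF h1
  have main : ∀ b : C, π c = π b → ∃ c₀ : C, (c₀ = 1 ∨ c₀ = z) ∧ c = c₀ * b := by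
    intro b hb
    rcases L.ext.map_eq.1 hb with h | h
    · exact ⟨1, Or.inl rfl, by rw [h, one_mul]⟩
    · exact ⟨z, Or.inr rfl, by rw [h, L.ext.comm]⟩
  rcases inv_form_SU hF hg with h | ⟨u, hu, hu0, h⟩ | ⟨u, v, hf, h⟩ | ⟨u, v, w, hf, h⟩
  · obtain ⟨c₀, h0, hcc⟩ := main 1 (by rw [← hgc, h, map_one, map_one])
    exact ⟨c₀, h0, Or.inl (by rw [hcc, mul_one])⟩
  · obtain ⟨c₀, h0, hcc⟩ := main (lift u) (by
      rw [← hgc, h, L.map u hu0 hu, tau_eq_pr hF hu])
    exact ⟨c₀, h0, Or.inr (Or.inl ⟨u, hu0, hu, hcc⟩)⟩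
  · obtain ⟨c₀, h0, hcc⟩ := main (lift u * lift v) (by
      rw [← hgc, h, map_mul, map_mul, L.map u hf.u_ne hf.uu, L.map v hf.v_ne hf.vv,
        tau_eq_pr hF hf.uu, tau_eq_pr hF hf.vv])
    exact ⟨c₀, h0, Or.inr (Or.inr (Or.inl ⟨u, v, hf, hcc⟩))⟩
  · obtain ⟨c₀, h0, hcc⟩ := main (lift u * lift v * lift w) (by
      rw [← hgc, h, map_mul, map_mul, map_mul, map_mul, L.map u hf.u_ne hf.uu,
        L.map v hf.v_ne hf.vv, L.map w hf.w_ne hf.ww, tau_eq_pr hF hf.uu, tau_eq_pr hF hf.vv,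
        tau_eq_pr hF hf.ww])
    exact ⟨c₀, h0, Or.inr (Or.inr (Or.inr ⟨u, v, w, hf, hcc⟩))⟩

/-- The central element is not a square. -/
theorem z_not_square (L : Lab hF π z ε lift) (c : C) : c * c ≠ z := by
  intro hc
  obtain ⟨c₀, h0, h⟩ := inv_form L (Or.inr hc)
  have hsq : ∀ b : C, c = c₀ * b → b * b = 1 → False := by
    intro b hb hbb
    have hcb : c₀ * b = b * c₀ := by
      rcases h0 with rfl | rfl
      · group
      · exact (L.ext.comm b).symm
    have h0' : c₀ * c₀ = 1 := by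
      rcases h0 with rfl | rfl
      · group
      · exact L.ext.zz
    apply L.ext.zne
    rw [← hc, hb]
    calc c₀ * b * (c₀ * b) = c₀ * (b * c₀) * b := by group
      _ = c₀ * (c₀ * b) * b := by rw [← hcb]
      _ = (c₀ * c₀) * (b * b) := by group
      _ = 1 := by rw [h0', hbb, mul_one]
  rcases h with h | ⟨u, hu0, hu, h⟩ | ⟨u, v, hf, h⟩ | ⟨u, v, w, hf, h⟩
  · exact hsq 1 (by rw [h, mul_one]) (mul_one 1)
  · exact hsq _ h (L.sq u hu0 hu)
  · apply hsq _ h
    have huv := lift_comm L hf.uu hf.vv hf.u_ne hf.v_ne hf.uv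
    calc lift u * lift v * (lift u * lift v) = lift u * (lift v * lift u) * lift v := by group
      _ = lift u * (lift u * lift v) * lift v := by rw [huv.eq]
      _ = (lift u * lift u) * (lift v * lift v) := by group
      _ = 1 := by rw [L.sq u hf.u_ne hf.uu, L.sq v hf.v_ne hf.vv, mul_one]
  · apply hsq _ h
    have huv := lift_comm L hf.uu hf.vv hf.u_ne hf.v_ne hf.uv
    have huw := lift_comm L hf.uu hf.ww hf.u_ne hf.w_ne hf.uw
    have hvw := lift_comm L hf.vv hf.ww hf.v_ne hf.w_ne hf.vw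
    have hx : Commute (lift u * lift v) (lift w) := huw.mul_left hvw
    calc lift u * lift v * lift w * (lift u * lift v * lift w)
        = lift u * lift v * (lift w * (lift u * lift v)) * lift w := by group
      _ = lift u * lift v * (lift u * lift v * lift w) * lift w := by rw [hx.eq]
      _ = lift u * (lift v * lift u) * lift v * (lift w * lift w) := by group
      _ = lift u * (lift u * lift v) * lift v * (lift w * lift w) := by rw [huv.eq]
      _ = (lift u * lift u) * (lift v * lift v) * (lift w * lift w) := by group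
      _ = 1 := by
        rw [L.sq u hf.u_ne hf.uu, L.sq v hf.v_ne hf.vv, L.sq w hf.w_ne hf.ww, mul_one, mul_one]

/-- Transitivity of `C` on frames of length three. -/
theorem trans_frames (L : Lab hF π z ε lift) {u v w u' v' w' : Fin 6 → F} (h : Fr3 u v w)
    (h' : Fr3 u' v' w') :
    ∃ c : C, c * lift u * c⁻¹ = lift u' ∧ c * lift v * c⁻¹ = lift v' ∧
      c * lift w * c⁻¹ = lift w' := by
  obtain ⟨g, a, b, d, ha, hb, hd, hgu, hgv, hgw⟩ := trans_frames_SU hF h h'
  obtain ⟨c, hc⟩ := L.ext.surj (pr 6 F 2 g)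
  refine ⟨c, ?_, ?_, ?_⟩
  · rw [L.conj c g u hc h.u_ne h.uu, hgu, L.smul u' a h'.uu ha]
  · rw [L.conj c g v hc h.v_ne h.vv, hgv, L.smul v' b h'.vv hb]
  · rw [L.conj c g w hc h.w_ne h.ww, hgw, L.smul w' d h'.ww hd]

/-- Transitivity of `C` on frames of length two. -/
theorem trans_pairs (L : Lab hF π z ε lift) {u v u' v' : Fin 6 → F} (h : Fr2 u v)
    (h' : Fr2 u' v') : ∃ c : C, c * lift u * c⁻¹ = lift u' ∧ c * lift v * c⁻¹ = lift v' := by
  have hne : ∀ {a b : Fin 6 → F}, Fr2 a b → lift a ≠ lift b := by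
    intro a b hab h5
    obtain ⟨c, -, hc⟩ := (L.lift_eq_iff hab.uu hab.vv hab.u_ne hab.v_ne).1 h5
    exact hab.not_mul ⟨c, hc⟩
  exact L.trans_commuting _ (Lab.mem_D h.u_ne h.uu) _ (Lab.mem_D h.v_ne h.vv) _
    (Lab.mem_D h'.u_ne h'.uu) _ (Lab.mem_D h'.v_ne h'.vv) (hne h) (hne h')
    (lift_comm L h.uu h.vv h.u_ne h.v_ne h.uv) (lift_comm L h'.uu h'.vv h'.u_ne h'.v_ne h'.uv)

end Main

end Cfsg.Agent.R01.InvForm
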