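import Cfsg.Agent.ChevalleyStructure.CoxeterWordCheck

/-!
Word identities in groups generated by involutions satisfying simply laced Coxeter relations, checked by the
kernel on integer lists (for helper files of the identification of Fi22).
-/

set_option autoImplicit false

namespace Cfsg.Agent.R01.IdentWord

open Cfsg.Agent.ChevalleyStructure.CoxeterGeom Cfsg.Agent.ChevalleyStructure.CoxeterWordCheck

/-- The edge test of a list of edges. -/
def adj (E : List (ℕ × ℕ)) (i j : ℕ) : Bool := E.contains (i, j) || E.contains (j, i)

theorem adj_symm (E : List (ℕ × ℕ)) (i j : ℕ) : adj E i j = adj E j i := by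
  rw [adj, adj, Bool.or_comm]

/-- The simply laced Coxeter matrix of an edge list. -/
def cox (n : ℕ) (E : List (ℕ × ℕ)) : CoxeterMatrix (Fin n) where
  M := Matrix.of fun i j => if i = j then 1 else if adj E i j then 3 else 2
  isSymm := by
    ext i j
    simp only [Matrix.transpose_apply, Matrix.of_apply, adj_symm E j i, eq_comm (a := j)]
  diagonal i := by simp
  off_diagonal i j hij := by
    simp only [Matrix.of_apply, if_neg hij]
    split <;> simp

theorem cox_apply {n : ℕ} (E : List (ℕ × ℕ)) (i j : Fin n) :
    cox n E i j = if i = j then 1 else if adj E i j then 3 else 2 := rfl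

/-- The Cartan matrix. -/
def cartan (n : ℕ) (E : List (ℕ × ℕ)) (i j : Fin n) : ℤ :=
  if i = j then 2 else if adj E i j then -1 else 0

theorem isCartan (n : ℕ) (E : List (ℕ × ℕ)) : IsCartan (cox n E) (cartan n E) where
  diag i := by simp [cartan]
  rel i j hij := by
    have h1 : cox n E i j = if adj E i j then 3 else 2 := by rw [cox_apply, if_neg hij]
    have h2 : cartan n E i j = if adj E i j then -1 else 0 := by rw [cartan, if_neg hij]
    have h3 : cartan n E j i = if adj E i j then -1 else 0 := by
      rw [cartan, if_neg (Ne.symm hij), adj_symm]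
    rw [h1, h2, h3]
    by_cases h : adj E i j = true
    · right; left
      simp [h]
    · left
      simp [h]

/-- The boolean test for an identity of words. -/
def test (n : ℕ) (E : List (ℕ × ℕ)) (ω ω' : List ℕ) : Bool :=
  (ω.all fun k => Nat.blt k n) && (ω'.all fun k => Nat.blt k n) &&
  (List.range n).all fun i => actList (rows (cartan n E)) ω (unit n i) ==
    actList (rows (cartan n E)) ω' (unit n i)

/-- Word identity: `x k`, `k < n`, are elements of squares one, `(x i x j)^3 = 1` along the edges, the others commute.
If the test gives `true` then the products of the two words are equal in the group. -/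
theorem word_eq {G : Type*} [Group G] (n : ℕ) (E : List (ℕ × ℕ)) (x : ℕ → G)
    (hsq : ∀ i < n, x i * x i = 1)
    (hadj : ∀ i < n, ∀ j < n, i ≠ j → adj E i j = true → (x i * x j) ^ 3 = 1)
    (hcomm : ∀ i < n, ∀ j < n, i ≠ j → adj E i j = false → x i * x j = x j * x i)
    (ω ω' : List ℕ) (hc : test n E ω ω' = true) : (ω.map x).prod = (ω'.map x).prod := by
  rw [test, Bool.and_eq_true, Bool.and_eq_true, List.all_eq_true, List.all_eq_true] at hc
  obtain ⟨⟨hω, hω'⟩, hc⟩ := hc
  -- the homomorphism
  have hl : (cox n E).IsLiftable (fun i : Fin n => x i) := by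
    intro i j
    rw [cox_apply]
    by_cases hij : i = j
    · subst hij
      rw [if_pos rfl, pow_one]
      exact hsq i i.isLt
    · have hij' : (i : ℕ) ≠ j := fun h => hij (Fin.ext h)
      rw [if_neg hij]
      by_cases ha : adj E i j = true
      · rw [if_pos ha]
        exact hadj i i.isLt j j.isLt hij' ha
      · rw [if_neg ha, pow_two]
        have hcm := hcomm i i.isLt j j.isLt hij' (by simpa using ha)
        calc x i * x j * (x i * x j) = x i * (x j * x i) * x j := by group
          _ = x i * (x i * x j) * x j := by rw [hcm]
          _ = (x i * x i) * (x j * x j) := by group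
          _ = 1 := by rw [hsq i i.isLt, hsq j j.isLt, one_mul]
  let cs := (cox n E).toCoxeterSystem
  let φ : (cox n E).Group →* G := cs.lift ⟨fun i : Fin n => x i, hl⟩
  have hφ : ∀ i : Fin n, φ (cs.simple i) = x i := fun i => cs.lift_apply_simple hl i
  have lift_word : ∀ u : List ℕ, (∀ k ∈ u, Nat.blt k n = true) →
      ∃ v : List (Fin n), v.map (·.val) = u ∧ φ (cs.wordProd v) = (u.map x).prod := by
    intro u
    induction u with
    | nil => intro _; exact ⟨[], rfl, by simp⟩
    | cons k u ih =>
      intro h
      obtain ⟨v, hv, hv'⟩ := ih fun y hy => h y (List.mem_cons_of_mem _ hy)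
      have hk : k < n := by
        have := h k List.mem_cons_self
        rwa [Nat.blt_eq] at this
      refine ⟨⟨k, hk⟩ :: v, by rw [List.map_cons, hv], ?_⟩
      rw [CoxeterSystem.wordProd_cons, map_mul, hφ, hv', List.map_cons, List.prod_cons]
  obtain ⟨v, hv, hv1⟩ := lift_word ω hω
  obtain ⟨v', hv', hv1'⟩ := lift_word ω' hω'
  have key := wordProd_eq_wordProd cs (isCartan n E) v v' (by
    rw [hv, hv']
    exact hc)
  rw [← hv1, ← hv1', key]

end Cfsg.Agent.R01.IdentWord
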