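import Cfsg.Agent.S1696
import Cfsg.Agent.R01.IdentWord

/-!
Identification with the presented group `Fi22`: a group of order `|Fi22|` with nine elements satisfying the printed
relations, not all trivial, is isomorphic to `Fi22`.
-/

set_option autoImplicit false
set_option linter.constructorNameAsVariable false

namespace Cfsg.Agent.R01.IdentPres

open Cfsg.Spor Cfsg.Spor.Fi22

variable {G : Type*} [Group G]

theorem mem_nodes (x : Gen) : x ∈ coxNodes edges := by
  cases x <;> decide

theorem label_cases : ∀ x y : Gen, (x = y ∧ coxLabel edges x y = 1) ∨ coxLabel edges x y = 2 ∨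
    coxLabel edges x y = 3 := by
  intro x y
  cases x <;> cases y <;> decide

/-- A homomorphism from the presented group. -/
theorem exists_hom (t : Gen → G) (hsq : ∀ x, t x * t x = 1)
    (hadj : ∀ x y, coxLabel edges x y = 3 → (t x * t y) ^ 3 = 1)
    (hcomm : ∀ x y, coxLabel edges x y = 2 → t x * t y = t y * t x)
    (hs : (t .d * t .c * t .b * t .d * t .e * t .f * t .d * t .h * t .i) ^ 10 = 1)
    (h1 : (t .a * t .b * t .c * t .d * t .e * t .f * t .h) ^ 9 = 1)
    (h2 : (t .b * t .c * t .d * t .e * t .f * t .g * t .h) ^ 9 = 1) :
    ∃ φ : Cfsg.Spor.Fi22 →* G, ∀ x, φ (PresentedGroup.of x) = t x := by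
  have hr : ∀ r ∈ coxRelators edges ∪ {r | r ∈ extra}, FreeGroup.lift t r = 1 := by
    intro r hr
    rcases hr with ⟨x, _, y, _, rfl⟩ | hr
    · rw [map_pow, map_mul, FreeGroup.lift_apply_of, FreeGroup.lift_apply_of]
      rcases label_cases x y with ⟨rfl, h⟩ | h | h
      · rw [h, pow_one, hsq]
      · rw [h, pow_two]
        calc t x * t y * (t x * t y) = t x * (t y * t x) * t y := by simp only [mul_assoc]
          _ = t x * (t x * t y) * t y := by rw [hcomm x y h]
          _ = (t x * t x) * (t y * t y) := by simp only [mul_assoc]
          _ = 1 := by rw [hsq, hsq, mul_one]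
      · rw [h, hadj x y h]
    · have hr' : r ∈ extra := hr
      simp only [extra, List.mem_cons, List.not_mem_nil, or_false] at hr'
      rcases hr' with rfl | rfl | rfl
      · simp only [map_pow, map_mul, FreeGroup.lift_apply_of]
        exact hs
      · simp only [map_pow, map_mul, FreeGroup.lift_apply_of]
        exact h1
      · simp only [map_pow, map_mul, FreeGroup.lift_apply_of]
        exact h2
  exact ⟨PresentedGroup.toGroup hr, fun x => PresentedGroup.toGroup.of hr⟩

/-- Identification, nine elements given as a function on the generators of the presentation. -/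
theorem isoFi22_of_fun (hcard : Nat.card G = 64561751654400) (t : Gen → G) (hne : ∃ x, t x ≠ 1)
    (hsq : ∀ x, t x * t x = 1)
    (hadj : ∀ x y, coxLabel edges x y = 3 → (t x * t y) ^ 3 = 1)
    (hcomm : ∀ x y, coxLabel edges x y = 2 → t x * t y = t y * t x)
    (hs : (t .d * t .c * t .b * t .d * t .e * t .f * t .d * t .h * t .i) ^ 10 = 1)
    (h1 : (t .a * t .b * t .c * t .d * t .e * t .f * t .h) ^ 9 = 1)
    (h2 : (t .b * t .c * t .d * t .e * t .f * t .g * t .h) ^ 9 = 1) : Cfsg.Spor.IsoFi22 G := by
  obtain ⟨φ, hφ⟩ := exists_hom t hsq hadj hcomm hs h1 h2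
  obtain ⟨hsimple, hc⟩ := Cfsg.Agent.S1696.result
  have hfin : Finite G := Nat.finite_of_card_ne_zero (by rw [hcard]; norm_num)
  have hinj : Function.Injective φ := by
    rw [← MonoidHom.ker_eq_bot_iff]
    rcases hsimple.eq_bot_or_eq_top_of_normal φ.ker inferInstance with h | h
    · exact h
    · obtain ⟨x, hx⟩ := hne
      exfalso
      apply hx
      rw [← hφ x]
      have : (PresentedGroup.of x : Cfsg.Spor.Fi22) ∈ φ.ker := by rw [h]; exact Subgroup.mem_top _
      exact this
  have hbij : Function.Bijective φ :=
    (Nat.bijective_iff_injective_and_card _).2 ⟨hinj, by rw [hcard]; exact hc⟩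
  exact ⟨(MulEquiv.ofBijective φ hbij).symm⟩

/-- The position of a generator. -/
def num : Gen → ℕ
  | .a => 0
  | .b => 1
  | .c => 2
  | .d => 3
  | .e => 4
  | .f => 5
  | .g => 6
  | .h => 7
  | .i => 8

/-- The edges of `Y₃₃₂` on `a, …, i = 0, …, 8`. -/
def E : List (ℕ × ℕ) := [(0, 1), (1, 2), (2, 3), (3, 4), (3, 7), (4, 5), (5, 6), (7, 8)]

/-- Identification, nine elements given as a sequence `a, …, i = x 0, …, x 8`. -/
theorem isoFi22_of_seq (hcard : Nat.card G = 64561751654400) (x : ℕ → G) (hne : x 0 ≠ 1)
    (hsq : ∀ i < 9, x i * x i = 1)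
    (hadj : ∀ i < 9, ∀ j < 9, i ≠ j → IdentWord.adj E i j = true → (x i * x j) ^ 3 = 1)
    (hcomm : ∀ i < 9, ∀ j < 9, i ≠ j → IdentWord.adj E i j = false → x i * x j = x j * x i)
    (hs : (x 3 * x 2 * x 1 * x 3 * x 4 * x 5 * x 3 * x 7 * x 8) ^ 10 = 1)
    (h1 : (x 0 * x 1 * x 2 * x 3 * x 4 * x 5 * x 7) ^ 9 = 1)
    (h2 : (x 1 * x 2 * x 3 * x 4 * x 5 * x 6 * x 7) ^ 9 = 1) : Cfsg.Spor.IsoFi22 G := by
  have hlt : ∀ g : Gen, num g < 9 := by intro g; cases g <;> decide
  have h3 : ∀ g g' : Gen, coxLabel edges g g' = 3 → num g ≠ num g' ∧ IdentWord.adj E (num g) (num g') = true := by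
    intro g g'; cases g <;> cases g' <;> decide
  have h2' : ∀ g g' : Gen, coxLabel edges g g' = 2 → num g ≠ num g' ∧ IdentWord.adj E (num g) (num g') = false := by
    intro g g'; cases g <;> cases g' <;> decide
  exact isoFi22_of_fun hcard (fun g => x (num g)) ⟨.a, hne⟩ (fun g => hsq _ (hlt g))
    (fun g g' h => hadj _ (hlt g) _ (hlt g') (h3 g g' h).1 (h3 g g' h).2)
    (fun g g' h => hcomm _ (hlt g) _ (hlt g') (h2' g g' h).1 (h2' g g' h).2) hs h1 h2

/-- The nine elements as a function. -/
def fn (a b c d e f g h i : G) : Gen → G
  | .a => a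
  | .b => b
  | .c => c
  | .d => d
  | .e => e
  | .f => f
  | .g => g
  | .h => h
  | .i => i

/-- From the cubic relation of a pair of involutions, the one of the swapped pair. -/
theorem swap3 {x y : G} (hx : x * x = 1) (hy : y * y = 1) (h : (x * y) ^ 3 = 1) : (y * x) ^ 3 = 1 := by
  have hx' : x⁻¹ = x := inv_eq_of_mul_eq_one_left hx
  have hy' : y⁻¹ = y := inv_eq_of_mul_eq_one_left hy
  have : y * x = (x * y)⁻¹ := by rw [mul_inv_rev, hx', hy']
  rw [this, inv_pow, h, inv_one]

/-- Identification, all relations spelled out. -/
theorem isoFi22_of (hcard : Nat.card G = 64561751654400) (a b c d e f g h i : G) (ha : a ≠ 1)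
    (sa : a * a = 1) (sb : b * b = 1) (sc : c * c = 1) (sd : d * d = 1) (se : e * e = 1) (sf : f * f = 1)
    (sg : g * g = 1) (sh : h * h = 1) (si : i * i = 1) (hab : (a * b) ^ 3 = 1) (hbc : (b * c) ^ 3 = 1)
    (hcd : (c * d) ^ 3 = 1) (hde : (d * e) ^ 3 = 1) (hdh : (d * h) ^ 3 = 1) (hef : (e * f) ^ 3 = 1)
    (hfg : (f * g) ^ 3 = 1) (hhi : (h * i) ^ 3 = 1) (hac : a * c = c * a) (had : a * d = d * a)
    (hae : a * e = e * a) (haf : a * f = f * a) (hag : a * g = g * a) (hah : a * h = h * a)
    (hai : a * i = i * a) (hbd : b * d = d * b) (hbe : b * e = e * b) (hbf : b * f = f * b)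
    (hbg : b * g = g * b) (hbh : b * h = h * b) (hbi : b * i = i * b) (hce : c * e = e * c)
    (hcf : c * f = f * c) (hcg : c * g = g * c) (hch : c * h = h * c) (hci : c * i = i * c)
    (hdf : d * f = f * d) (hdg : d * g = g * d) (hdi : d * i = i * d) (heg : e * g = g * e)
    (heh : e * h = h * e) (hei : e * i = i * e) (hfh : f * h = h * f) (hfi : f * i = i * f)
    (hgh : g * h = h * g) (hgi : g * i = i * g)
    (hs : (d * c * b * d * e * f * d * h * i) ^ 10 = 1)
    (h1 : (a * b * c * d * e * f * h) ^ 9 = 1)
    (h2 : (b * c * d * e * f * g * h) ^ 9 = 1) : Cfsg.Spor.IsoFi22 G := by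
  refine isoFi22_of_fun hcard (fn a b c d e f g h i) ⟨.a, ha⟩ ?_ ?_ ?_ hs h1 h2
  · intro x
    cases x <;> assumption
  · intro x y hxy
    cases x <;> cases y
    · exact absurd hxy (by decide)
    · exact hab
    · exact absurd hxy (by decide)
    · exact absurd hxy (by decide)
    · exact absurd hxy (by decide)
    · exact absurd hxy (by decide)
    · exact absurd hxy (by decide)
    · exact absurd hxy (by decide)
    · exact absurd hxy (by decide)
    · exact swap3 sa sb hab
    · exact absurd hxy (by decide)
    · exact hbc
    · exact absurd hxy (by decide)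
    · exact absurd hxy (by decide)
    · exact absurd hxy (by decide)
    · exact absurd hxy (by decide)
    · exact absurd hxy (by decide)
    · exact absurd hxy (by decide)
    · exact absurd hxy (by decide)
    · exact swap3 sb sc hbc
    · exact absurd hxy (by decide)
    · exact hcd
    · exact absurd hxy (by decide)
    · exact absurd hxy (by decide)
    · exact absurd hxy (by decide)
    · exact absurd hxy (by decide)
    · exact absurd hxy (by decide)
    · exact absurd hxy (by decide)
    · exact absurd hxy (by decide)
    · exact swap3 sc sd hcd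
    · exact absurd hxy (by decide)
    · exact hde
    · exact absurd hxy (by decide)
    · exact absurd hxy (by decide)
    · exact hdh
    · exact absurd hxy (by decide)
    · exact absurd hxy (by decide)
    · exact absurd hxy (by decide)
    · exact absurd hxy (by decide)
    · exact swap3 sd se hde
    · exact absurd hxy (by decide)
    · exact hef
    · exact absurd hxy (by decide)
    · exact absurd hxy (by decide)
    · exact absurd hxy (by decide)
    · exact absurd hxy (by decide)
    · exact absurd hxy (by decide)
    · exact absurd hxy (by decide)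
    · exact absurd hxy (by decide)
    · exact swap3 se sf hef
    · exact absurd hxy (by decide)
    · exact hfg
    · exact absurd hxy (by decide)
    · exact absurd hxy (by decide)
    · exact absurd hxy (by decide)
    · exact absurd hxy (by decide)
    · exact absurd hxy (by decide)
    · exact absurd hxy (by decide)
    · exact absurd hxy (by decide)
    · exact swap3 sf sg hfg
    · exact absurd hxy (by decide)
    · exact absurd hxy (by decide)
    · exact absurd hxy (by decide)
    · exact absurd hxy (by decide)
    · exact absurd hxy (by decide)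
    · exact absurd hxy (by decide)
    · exact swap3 sd sh hdh
    · exact absurd hxy (by decide)
    · exact absurd hxy (by decide)
    · exact absurd hxy (by decide)
    · exact absurd hxy (by decide)
    · exact hhi
    · exact absurd hxy (by decide)
    · exact absurd hxy (by decide)
    · exact absurd hxy (by decide)
    · exact absurd hxy (by decide)
    · exact absurd hxy (by decide)
    · exact absurd hxy (by decide)
    · exact absurd hxy (by decide)
    · exact swap3 sh si hhi
    · exact absurd hxy (by decide)
  · intro x y hxy
    cases x <;> cases y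
    · exact absurd hxy (by decide)
    · exact absurd hxy (by decide)
    · exact hac
    · exact had
    · exact hae
    · exact haf
    · exact hag
    · exact hah
    · exact hai
    · exact absurd hxy (by decide)
    · exact absurd hxy (by decide)
    · exact absurd hxy (by decide)
    · exact hbd
    · exact hbe
    · exact hbf
    · exact hbg
    · exact hbh
    · exact hbi
    · exact hac.symm
    · exact absurd hxy (by decide)
    · exact absurd hxy (by decide)
    · exact absurd hxy (by decide)
    · exact hce
    · exact hcf
    · exact hcg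
    · exact hch
    · exact hci
    · exact had.symm
    · exact hbd.symm
    · exact absurd hxy (by decide)
    · exact absurd hxy (by decide)
    · exact absurd hxy (by decide)
    · exact hdf
    · exact hdg
    · exact absurd hxy (by decide)
    · exact hdi
    · exact hae.symm
    · exact hbe.symm
    · exact hce.symm
    · exact absurd hxy (by decide)
    · exact absurd hxy (by decide)
    · exact absurd hxy (by decide)
    · exact heg
    · exact heh
    · exact hei
    · exact haf.symm
    · exact hbf.symm
    · exact hcf.symm
    · exact hdf.symm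
    · exact absurd hxy (by decide)
    · exact absurd hxy (by decide)
    · exact absurd hxy (by decide)
    · exact hfh
    · exact hfi
    · exact hag.symm
    · exact hbg.symm
    · exact hcg.symm
    · exact hdg.symm
    · exact heg.symm
    · exact absurd hxy (by decide)
    · exact absurd hxy (by decide)
    · exact hgh
    · exact hgi
    · exact hah.symm
    · exact hbh.symm
    · exact hch.symm
    · exact absurd hxy (by decide)
    · exact heh.symm
    · exact hfh.symm
    · exact hgh.symm
    · exact absurd hxy (by decide)
    · exact absurd hxy (by decide)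
    · exact hai.symm
    · exact hbi.symm
    · exact hci.symm
    · exact hdi.symm
    · exact hei.symm
    · exact hfi.symm
    · exact hgi.symm
    · exact absurd hxy (by decide)
    · exact absurd hxy (by decide)

end Cfsg.Agent.R01.IdentPres
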