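import Cfsg.Agent.R01.Fi22Loc
import Cfsg.Agent.SporRec.Fi22Iso

/-!
# Facts about the presented group Fi22

The class `T` of the generators of the presented group `Fi22` is a class of 3510 3-transpositions which
satisfies the local hypothesis `Loc`.
-/

set_option autoImplicit false

namespace Cfsg.Agent.R01.Fi22Facts

open Cfsg Cfsg.Agent.Fischer Cfsg.Agent.Fischer.Abstract Cfsg.Agent.Fischer.Centralizer
  Cfsg.Agent.Fischer.Group22 Cfsg.Agent.Fischer.Rank22
open Cfsg.Agent.Fischer.Fi22PtsRep (gen gen_sq)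
open Cfsg.Agent.SporRec.GF4 Cfsg.Agent.SporRec.Fi22Iso
open Cfsg.Agent.R01.Lifts Cfsg.Agent.R01.Label Cfsg.Agent.R01.Start Cfsg.Agent.R01.Loc

universe u v w

/-! ### Transport of the local hypothesis -/

section transport

variable {G : Type u} {G' : Type w} [Group G] [Group G']

/-- An isomorphism induces isomorphisms of centralisers. -/
def centMap (e : G ≃* G') (d : G) : Subgroup.centralizer ({d} : Set G) ≃*
    Subgroup.centralizer ({e d} : Set G') where
  toFun x := ⟨e (x : G), by
    have hx := Subgroup.mem_centralizer_singleton_iff.1 x.2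
    rw [Subgroup.mem_centralizer_singleton_iff, ← map_mul, ← map_mul, hx]⟩
  invFun x := ⟨e.symm (x : G'), by
    have hx := Subgroup.mem_centralizer_singleton_iff.1 x.2
    rw [Subgroup.mem_centralizer_singleton_iff]
    apply e.injective
    rw [map_mul, map_mul, e.apply_symm_apply, hx]⟩
  left_inv x := Subtype.ext (e.symm_apply_apply (x : G))
  right_inv x := Subtype.ext (e.apply_symm_apply (x : G'))
  map_mul' x y := Subtype.ext (map_mul e (x : G) (y : G))

theorem coe_centMap (e : G ≃* G') (d : G) (x : Subgroup.centralizer ({d} : Set G)) :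
    ((centMap e d x : Subgroup.centralizer ({e d} : Set G')) : G') = e (x : G) := rfl

theorem centMap_zel (e : G ≃* G') (d : G) : centMap e d (zel d) = zel (e d) := rfl

theorem locAt_map {F : Type v} [Field F] [Fintype F] {hF : Fintype.card F = 2 ^ 2} {D : Set G}
    {d : G} (e : G ≃* G') (h : LocAt hF D d) : LocAt hF (e '' D) (e d) := by
  obtain ⟨π, lift, L, hL⟩ := h
  refine ⟨π.comp (centMap e d).symm.toMonoidHom, fun v => centMap e d (lift v),
    lab_transport L (centMap e d), ?_⟩
  intro x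
  obtain ⟨x, rfl⟩ := (centMap e d).surjective x
  have h1 : ((centMap e d x : Subgroup.centralizer ({e d} : Set G')) : G') ∈ e '' D ↔
      (x : G) ∈ D := by
    rw [coe_centMap]
    constructor
    · rintro ⟨y, hy, hxy⟩
      rwa [← e.injective hxy]
    · intro h
      exact ⟨_, h, rfl⟩
  rw [h1, hL, mem_Dset_transport, ← centMap_zel, (centMap e d).injective.eq_iff]

theorem loc_map {F : Type v} [Field F] [Fintype F] {hF : Fintype.card F = 2 ^ 2} {D : Set G}
    (e : G ≃* G') (h : Loc hF D) : Loc hF (e '' D) := by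
  rintro _ ⟨d, hd, rfl⟩
  exact locAt_map e (h d hd)

theorem isThree_map {D : Set G} (e : G ≃* G') (h : IsThreeTranspositionClass D) :
    IsThreeTranspositionClass (e '' D) := by
  obtain ⟨⟨h1, h2⟩, ⟨t, ht, hD⟩, h3⟩ := h
  refine ⟨⟨?_, ?_⟩, ⟨e t, ⟨t, ht, rfl⟩, ?_⟩, ?_⟩
  · rintro _ ⟨x, hx, rfl⟩
    rw [MulEquiv.orderOf_eq]
    exact h1 x hx
  · rintro _ ⟨x, hx, rfl⟩ _ ⟨y, hy, rfl⟩
    rcases h2 x hx y hy with h | h
    · left; rw [← map_mul, ← map_pow, h, map_one]
    · right; rw [← map_mul, ← map_pow, h, map_one]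
  · ext x
    constructor
    · rintro ⟨y, hy, rfl⟩
      rw [hD] at hy
      obtain ⟨c, hc⟩ := isConj_iff.1 (show IsConj t y from hy)
      exact isConj_iff.2 ⟨e c, by rw [← hc, map_mul, map_mul, map_inv]⟩
    · intro hx
      obtain ⟨c, hc⟩ := isConj_iff.1 (show IsConj (e t) x from hx)
      refine ⟨e.symm x, ?_, e.apply_symm_apply x⟩
      rw [hD]
      refine isConj_iff.2 ⟨e.symm c, ?_⟩
      apply e.injective
      rw [map_mul, map_mul, map_inv, e.apply_symm_apply, e.apply_symm_apply, hc]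
  · have h4 : e '' D = e.toMonoidHom '' D := rfl
    rw [h4, ← MonoidHom.map_closure, h3, ← MonoidHom.range_eq_map]
    exact MonoidHom.range_eq_top.2 e.surjective

end transport

/-! ### The class of transpositions of `Fi22` -/

/-- the isomorphism from the permutation group to the presented group -/
noncomputable def E : G ≃* Spor.Fi22 := ψe.symm

theorem ψe_gen (x : Spor.Fi22.Gen) : ψe (gen x) = g (cv x) := ψ_of x

theorem E_g (x : Spor.Fi22.Gen) : E (g (cv x)) = gen x := by
  rw [← ψe_gen]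
  exact ψe.symm_apply_apply _

/-- The class of transpositions. -/
def T : Set Spor.Fi22 := conjugatesOf (gen .a)

theorem image_D : E '' Fi22Loc.D = T := by
  rw [Fi22Loc.D_eq]
  have ha : R.t R.x0 = g (cv .a) := t_x0
  rw [ha]
  ext x
  constructor
  · rintro ⟨y, hy, rfl⟩
    obtain ⟨c, rfl⟩ := isConj_iff.1 (show IsConj _ y from hy)
    exact isConj_iff.2 ⟨E c, by rw [map_mul, map_mul, map_inv, E_g]⟩
  · intro hx
    obtain ⟨c, rfl⟩ := isConj_iff.1 (show IsConj (gen .a) x from hx)
    refine ⟨E.symm c * g (cv .a) * (E.symm c)⁻¹, isConj_iff.2 ⟨_, rfl⟩, ?_⟩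
    rw [map_mul, map_mul, map_inv, E_g, E.apply_symm_apply]

/-- The local hypothesis for `Fi22`. -/
theorem loc : Loc Unit22.hF T := by
  rw [← image_D]
  exact loc_map E Fi22Loc.loc

theorem isThreeTranspositionClass_T : IsThreeTranspositionClass T := by
  rw [← image_D]
  exact isThree_map E Even22.isThreeTranspositionClass

theorem ncard_T : T.ncard = 3510 := by
  rw [← image_D, Set.ncard_image_of_injective _ E.injective]
  exact Even22.card_D

theorem card : Nat.card Spor.Fi22 = 64561751654400 := Fi22Order.card_fi22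

instance finite : Finite Spor.Fi22 := Nat.finite_of_card_ne_zero (by rw [card]; norm_num)

theorem isSimple : IsSimpleGroup Spor.Fi22 := Fi22Order.isSimple

theorem gen_mem (x : Spor.Fi22.Gen) : gen x ∈ T := by
  rw [← image_D]
  refine ⟨g (cv x), ?_, E_g x⟩
  exact ⟨pg (cv x), t_pg (cv x)⟩

/-! ### Transitivity -/

theorem trans_com {x y x' y' : X} (h : R.Com x y) (hne : x ≠ y) (h' : R.Com x' y')
    (hne' : x' ≠ y') : ∃ k : G, k • x = x' ∧ k • y = y' := by
  have key : ∀ x y : X, R.Com x y → x ≠ y → ∃ k : G, k • R.x0 = x ∧ k • R.c = y := by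
    intro x y h hne
    obtain ⟨k, rfl⟩ := R.trans x
    have h1 : R.Com R.x0 (k⁻¹ • y) := by
      rw [← R.com_smul k, smul_inv_smul]
      exact h
    rcases R.com_x0_iff.1 h1 with h2 | ⟨m, hm, hm'⟩
    · exfalso
      apply hne
      rw [← h2, smul_inv_smul]
    · refine ⟨k * m, ?_, ?_⟩
      · rw [mul_smul, hm]
      · rw [mul_smul, hm', smul_inv_smul]
  obtain ⟨k, rfl, rfl⟩ := key x y h hne
  obtain ⟨k', rfl, rfl⟩ := key x' y' h' hne'
  exact ⟨k' * k⁻¹, by rw [mul_smul, inv_smul_smul], by rw [mul_smul, inv_smul_smul]⟩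

theorem trans_ncom {x y x' y' : X} (h : ¬ R.Com x y) (h' : ¬ R.Com x' y') :
    ∃ k : G, k • x = x' ∧ k • y = y' := by
  have key : ∀ x y : X, ¬ R.Com x y → ∃ k : G, k • R.x0 = x ∧ k • R.b = y := by
    intro x y h
    obtain ⟨k, rfl⟩ := R.trans x
    have h1 : ¬ R.Com R.x0 (k⁻¹ • y) := by
      rw [← R.com_smul k, smul_inv_smul]
      exact h
    obtain ⟨m, hm, hm'⟩ := R.not_com_x0_iff.1 h1
    refine ⟨k * m, ?_, ?_⟩
    · rw [mul_smul, hm]
    · rw [mul_smul, hm', smul_inv_smul]
  obtain ⟨k, rfl, rfl⟩ := key x y h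
  obtain ⟨k', rfl, rfl⟩ := key x' y' h'
  exact ⟨k' * k⁻¹, by rw [mul_smul, inv_smul_smul], by rw [mul_smul, inv_smul_smul]⟩

theorem mem_T_iff {x : Spor.Fi22} : x ∈ T ↔ ∃ y : X, E (R.t y) = x := by
  rw [← image_D]
  constructor
  · rintro ⟨_, ⟨y, rfl⟩, rfl⟩
    exact ⟨y, rfl⟩
  · rintro ⟨y, rfl⟩
    exact ⟨_, ⟨y, rfl⟩, rfl⟩

theorem com_iff {x y : X} : Commute (E (R.t x)) (E (R.t y)) ↔ R.Com x y := by
  constructor
  · intro h
    apply E.injective
    rw [map_mul, map_mul]
    exact h
  · intro h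
    exact (show Commute (R.t x) (R.t y) from h).map E.toMonoidHom

theorem E_smul (k : G) (x : X) : E k * E (R.t x) * (E k)⁻¹ = E (R.t (k • x)) := by
  rw [R.map_smul, map_mul, map_mul, map_inv]

/-- `Fi22` is transitive on the ordered pairs of different commuting transpositions. -/
theorem trans_commuting : ∀ a ∈ T, ∀ b ∈ T, ∀ a' ∈ T, ∀ b' ∈ T, a ≠ b → a' ≠ b' →
    Commute a b → Commute a' b' → ∃ k : Spor.Fi22, k * a * k⁻¹ = a' ∧ k * b * k⁻¹ = b' := by
  intro a ha b hb a' ha' b' hb' hne hne' hc hc'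
  obtain ⟨x, rfl⟩ := mem_T_iff.1 ha
  obtain ⟨y, rfl⟩ := mem_T_iff.1 hb
  obtain ⟨x', rfl⟩ := mem_T_iff.1 ha'
  obtain ⟨y', rfl⟩ := mem_T_iff.1 hb'
  obtain ⟨k, hk, hk'⟩ := trans_com (com_iff.1 hc) (fun h => hne (by rw [h])) (com_iff.1 hc')
    (fun h => hne' (by rw [h]))
  exact ⟨E k, by rw [E_smul, hk], by rw [E_smul, hk']⟩

/-- `Fi22` is transitive on the ordered pairs of noncommuting transpositions. -/
theorem trans_noncommuting : ∀ a ∈ T, ∀ b ∈ T, ∀ a' ∈ T, ∀ b' ∈ T, ¬ Commute a b →
    ¬ Commute a' b' → ∃ k : Spor.Fi22, k * a * k⁻¹ = a' ∧ k * b * k⁻¹ = b' := by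
  intro a ha b hb a' ha' b' hb' hc hc'
  obtain ⟨x, rfl⟩ := mem_T_iff.1 ha
  obtain ⟨y, rfl⟩ := mem_T_iff.1 hb
  obtain ⟨x', rfl⟩ := mem_T_iff.1 ha'
  obtain ⟨y', rfl⟩ := mem_T_iff.1 hb'
  obtain ⟨k, hk, hk'⟩ := trans_ncom (fun h => hc (com_iff.2 h)) (fun h => hc' (com_iff.2 h))
  exact ⟨E k, by rw [E_smul, hk], by rw [E_smul, hk']⟩

/-! ### Explicit relations between transpositions -/

/-- a conjugate `u s u⁻¹` of a generator, given by the word `u` and the generator `s` -/
abbrev CW : Type := List Data22.Gen × Data22.Gen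

/-- the point of a conjugate of a generator -/
noncomputable def ptw (c : CW) : X := (c.1.map g).prod • pg c.2

/-- the word of a conjugate of a generator -/
def word (c : CW) : List Data22.Gen := c.1 ++ (c.2 :: c.1.reverse)

/-- the number of the point of a conjugate of a generator -/
noncomputable def num (c : CW) : ℕ := Cert.walk Data22.nx c.1.reverse (pg c.2 : X)

theorem val_ptw (c : CW) : ((ptw c : X) : ℕ) = num c := Fi22Loc.val_word _ _

theorem t_ptw (c : CW) : R.t (ptw c) = ((word c).map g).prod := Fi22Loc.t_word _ _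

theorem com_of_chk {c c' : CW} (h : Nat.beq (Cert.walk Data22.nx (word c).reverse (num c')) (num c') =
    true) : R.Com (ptw c) (ptw c') := by
  rw [← R.t_smul_eq_iff]
  apply Fin.ext
  rw [t_ptw, Fi22Loc.val_word, val_ptw]
  exact Nat.eq_of_beq_eq_true h

theorem ne_of_chk {c c' : CW} (h : Nat.beq (num c) (num c') = false) : R.t (ptw c) ≠ R.t (ptw c') := by
  intro h1
  have h2 := congrArg (fun x : X => (x : ℕ)) (R.t_injective h1)
  simp only [val_ptw] at h2
  rw [h2, Nat.beq_refl] at h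
  exact absurd h (by decide)

theorem prod_of_chk {l : List CW}
    (h : Cert.relCheck Data22.nx (nat_lit 54) (nat_lit 65) (l.map word).flatten = true) :
    (l.map fun c => R.t (ptw c)).prod = 1 := by
  have h1 := isRel_perm_of_check h
  have h2 : Cert.IsRel g (l.map word).flatten := by
    rw [Cert.isRel_def] at h1 ⊢
    apply Subtype.ext
    rw [← Subgroup.coe_subtype, map_list_prod, List.map_map]
    exact h1
  rw [Cert.isRel_def] at h2
  rw [← h2]
  clear h h1 h2
  induction l with
  | nil => rfl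
  | cons c l ih =>
    rw [List.map_cons, List.prod_cons, ih, t_ptw, List.map_cons, List.flatten_cons, List.map_append,
      List.prod_append]

open Data22.Gen in
/-- seven commuting transpositions with product one -/
def heptad : List CW := [([], a), ([b, c, d, h, e, d, c, b], a), ([], c), ([d, h, e, d], c), ([], e),
  ([], h), ([f, e, d, h, c, d, e, b, c, d, h, f, e, d, c, b], a)]

theorem heptad_com : ∀ c ∈ heptad, ∀ c' ∈ heptad,
    Nat.beq (Cert.walk Data22.nx (word c).reverse (num c')) (num c') = true := by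
  decide +kernel

theorem heptad_prod : Cert.relCheck Data22.nx (nat_lit 54) (nat_lit 65) (heptad.map word).flatten =
    true := by
  decide +kernel

theorem heptad_g : ∀ c ∈ heptad, Nat.beq (num ([], .g)) (num c) = false ∧
    Nat.beq (Cert.walk Data22.nx (word ([], .g)).reverse (num c)) (num c) = true := by
  decide +kernel

/-- Seven commuting transpositions of `Fi22` with product one, and another one commuting with them. -/
theorem exists_heptad : ∃ l : List Spor.Fi22, Odd l.length ∧ (∀ x ∈ l, x ∈ T) ∧ l.Pairwise Commute ∧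
    l.prod = 1 ∧ ∃ r ∈ T, ∀ x ∈ l, r ≠ x ∧ Commute r x := by
  refine ⟨heptad.map fun c => E (R.t (ptw c)), ⟨3, rfl⟩, ?_, ?_, ?_, E (R.t (ptw ([], .g))),
    mem_T_iff.2 ⟨_, rfl⟩, ?_⟩
  · intro x hx
    obtain ⟨c, _, rfl⟩ := List.mem_map.1 hx
    exact mem_T_iff.2 ⟨_, rfl⟩
  · rw [List.pairwise_map]
    refine List.pairwise_iff_forall_sublist.2 fun {c c'} h => ?_
    exact com_iff.2 (com_of_chk (heptad_com c (h.subset (by simp)) c' (h.subset (by simp))))
  · have h := congrArg E (prod_of_chk heptad_prod)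
    rw [map_list_prod, map_one, List.map_map] at h
    exact h
  · intro x hx
    obtain ⟨c, hc, rfl⟩ := List.mem_map.1 hx
    obtain ⟨h1, h2⟩ := heptad_g c hc
    exact ⟨fun h => ne_of_chk h1 (E.injective h), com_iff.2 (com_of_chk h2)⟩

end Cfsg.Agent.R01.Fi22Facts
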