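import Mathlib
import Cfsg.Agent.R01.Closing

/-!
# Closing argument for the Fischer groups Fi22, Fi23, second version

Same conclusion as `Closing.lean` (the commuting graph on `D` is connected), but from hypotheses which are local
in the centralisers of the members of `D`, plus the fact that an involution normalising a component centralises a
member of it.
-/

set_option autoImplicit false

namespace Cfsg.Agent.R01.Closing2

open Cfsg.Agent.R01.Closing

universe u

variable {G : Type u} [Group G]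

/-! ### Isolated involutions modulo a central involution -/

theorem isolated {K : Type*} [Group K] (z u : K) (hu : u * u = 1) (hzz : z * z = 1)
    (hzu : z * u = u * z) (T : Subgroup K) (hT : IsPGroup 2 T) (huT : u ∈ T)
    (h : ∀ g : K, ((u * (g * u * g⁻¹)) ^ 2 = 1 ∨ (u * (g * u * g⁻¹)) ^ 2 = z) →
      g * u * g⁻¹ = u ∨ g * u * g⁻¹ = z * u)
    (g : K) (hg : g * u * g⁻¹ ∈ T) : g * u * g⁻¹ = u ∨ g * u * g⁻¹ = z * u := by
  obtain ⟨r, hr⟩ : ∃ r, r = u * (g * u * g⁻¹) := ⟨_, rfl⟩
  have hrT : r ∈ T := by rw [hr]; exact T.mul_mem huT hg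
  have hui : u⁻¹ = u := inv_eq_of_mul_eq_one_left hu
  have hvv : (g * u * g⁻¹) * (g * u * g⁻¹) = 1 := by
    calc (g * u * g⁻¹) * (g * u * g⁻¹) = g * (u * u) * g⁻¹ := by group
      _ = 1 := by rw [hu]; group
  have hvi : (g * u * g⁻¹)⁻¹ = g * u * g⁻¹ := inv_eq_of_mul_eq_one_left hvv
  have hri : r⁻¹ = (g * u * g⁻¹) * u := by rw [hr, mul_inv_rev, hvi, hui]
  have huru : u * r * u⁻¹ = r⁻¹ := by
    rw [hri, hr, hui]
    calc u * (u * (g * u * g⁻¹)) * u = (u * u) * (g * u * g⁻¹) * u := by group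
      _ = g * u * g⁻¹ * u := by rw [hu, one_mul]
  have key : ∀ j : ℕ, u * r ^ j = (r ^ j)⁻¹ * u := by
    intro j
    have h1 : u * r ^ j * u⁻¹ = (r ^ j)⁻¹ := by rw [← conj_pow, huru, inv_pow]
    exact mul_inv_eq_iff_eq_mul.mp h1
  obtain ⟨k, hk⟩ := hT ⟨r, hrT⟩
  have hk' : r ^ (2 ^ k) = 1 := congrArg Subtype.val hk
  have main : ∀ m : ℕ, (r ^ (2 ^ m) = 1 ∨ r ^ (2 ^ m) = z) → (r ^ 2 = 1 ∨ r ^ 2 = z) := by
    intro m
    induction m with
    | zero =>
      intro h0
      left
      rw [pow_zero, pow_one] at h0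
      rcases h0 with h0 | h0
      · rw [h0, one_pow]
      · rw [h0, pow_two, hzz]
    | succ m ih =>
      intro h1
      rcases Nat.eq_zero_or_pos m with hm | hm
      · rw [hm] at h1; simpa using h1
      · -- m ≥ 1
        apply ih
        obtain ⟨j, hj⟩ : ∃ j, m = j + 1 := ⟨m - 1, by omega⟩
        have e1 : 2 ^ m = 2 ^ j + 2 ^ j := by rw [hj, pow_succ]; ring
        have e2 : 2 ^ (m + 1) = 2 ^ m * 2 := by rw [pow_succ]
        -- conjugate of `u` by `(r^(2^j))⁻¹`
        have c1 : (r ^ (2 ^ j))⁻¹ * u * ((r ^ (2 ^ j))⁻¹)⁻¹ = u * r ^ (2 ^ m) := by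
          rw [inv_inv, ← key, mul_assoc, ← pow_add, ← e1]
        have c2 : u * ((r ^ (2 ^ j))⁻¹ * u * ((r ^ (2 ^ j))⁻¹)⁻¹) = r ^ (2 ^ m) := by
          rw [c1, ← mul_assoc, hu, one_mul]
        have c3 := h (r ^ (2 ^ j))⁻¹ (by
          rw [c2, ← pow_mul, ← e2]
          exact h1)
        rw [c1] at c3
        rcases c3 with c3 | c3
        · left; exact mul_eq_left.mp c3
        · right
          rw [hzu] at c3
          exact mul_left_cancel c3
  have := main k (Or.inl hk')
  rw [hr] at this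
  exact h g this

/-! ### The hypotheses -/

/-- Hypotheses of the closing argument, including the control of centralisers of products of two. -/
structure Core (D : Set G) : Prop where
  sq : ∀ a ∈ D, a * a = 1
  conj : ∀ g : G, ∀ a ∈ D, g * a * g⁻¹ ∈ D
  /-- products of two commuting members of `D` are not in `D` -/
  two : ∀ a ∈ D, ∀ b ∈ D, a ≠ b → a * b = b * a → a * b ∉ D
  /-- an involution centralising `d ∈ D` is a product of at most three commuting members of `D` -/
  prod3 : ∀ d ∈ D, ∀ t : G, t * t = 1 → t ≠ 1 → t * d = d * t →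
    ∃ x ∈ D, ∃ y ∈ D, ∃ z ∈ D, x ≠ y ∧ x ≠ z ∧ y ≠ z ∧ x * y = y * x ∧ x * z = z * x ∧
      y * z = z * y ∧ Conn D d x ∧ (t = x ∨ t = x * y ∨ t = x * y * z) ∧
      ∃ e ∈ D, ∃ f ∈ D, e * f ≠ f * e ∧ e * x = x * e ∧ e * y = y * e ∧ e * z = z * e ∧
        f * x = x * f ∧ f * y = y * f ∧ f * z = z * f
  three : ∀ a ∈ D, ∀ b ∈ D, Conn D a b → a * b = b * a ∨ (a * b) ^ 3 = 1
  /-- an involution normalising a component centralises a member of it -/
  fixM : ∀ a ∈ D, ∀ t : G, t * t = 1 → t ∈ M D conj a → ∃ b ∈ D, Conn D a b ∧ t * b = b * t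
  centM : ∀ a ∈ D, ∀ b ∈ D, a ≠ b → a * b = b * a → ∀ g : G, g * (a * b) = a * b * g →
    g ∈ M D conj a

/-- Hypotheses of the closing argument without the control of centralisers of products of two. -/
structure Hyp2 (D : Set G) : Prop where
  sq : ∀ a ∈ D, a * a = 1
  ne : ∀ a ∈ D, a ≠ 1
  conj : ∀ g : G, ∀ a ∈ D, g * a * g⁻¹ ∈ D
  /-- products of two commuting members of `D` are not in `D` -/
  two : ∀ a ∈ D, ∀ b ∈ D, a ≠ b → a * b = b * a → a * b ∉ D
  /-- products of three commuting members of `D` are not in `D` -/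
  prod : ∀ a ∈ D, ∀ b ∈ D, ∀ c ∈ D, a ≠ b → a ≠ c → b ≠ c → a * b = b * a → a * c = c * a →
    b * c = c * b → a * b * c ∉ D
  /-- an odd relation between commuting members of `D` -/
  odd : ∀ a ∈ D, ∀ b ∈ D, a ≠ b → a * b = b * a → ∃ l : List G, Odd l.length ∧ (∀ x ∈ l, x ∈ D) ∧
    (∀ x ∈ l, ∀ y ∈ l, x * y = y * x) ∧ (∀ x ∈ l, x * a = a * x) ∧ (∀ x ∈ l, x * b = b * x) ∧
    l.prod = 1
  /-- an involution centralising `d ∈ D` is a product of at most three commuting members of `D` -/
  prod3 : ∀ d ∈ D, ∀ t : G, t * t = 1 → t ≠ 1 → t * d = d * t →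
    ∃ x ∈ D, ∃ y ∈ D, ∃ z ∈ D, x ≠ y ∧ x ≠ z ∧ y ≠ z ∧ x * y = y * x ∧ x * z = z * x ∧
      y * z = z * y ∧ Conn D d x ∧ (t = x ∨ t = x * y ∨ t = x * y * z) ∧
      ∃ e ∈ D, ∃ f ∈ D, e * f ≠ f * e ∧ e * x = x * e ∧ e * y = y * e ∧ e * z = z * e ∧
        f * x = x * f ∧ f * y = y * f ∧ f * z = z * f
  three : ∀ a ∈ D, ∀ b ∈ D, Conn D a b → a * b = b * a ∨ (a * b) ^ 3 = 1
  /-- an involution normalising a component centralises a member of it -/
  fixM : ∀ a ∈ D, ∀ t : G, t * t = 1 → t ∈ M D conj a → ∃ b ∈ D, Conn D a b ∧ t * b = b * t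

section hyp2

variable {D : Set G}

theorem Hyp2.conn_of_mem_M (h : Hyp2 D) {a f : G} (ha : a ∈ D) (hf : f ∈ D)
    (hfM : f ∈ M D h.conj a) : Conn D a f := by
  obtain ⟨b, hb, hab, hfb⟩ := h.fixM a ha f (h.sq f hf) hfM
  exact hab.trans (Conn.of_comm hb hf hfb.symm)

/-- A product of an odd number of elements outside a subgroup of index 2 is outside. -/
theorem prod_notMem_of_odd {A : Type*} [Group A] (B : Subgroup A) (hB : B.index = 2) :
    ∀ l : List A, (∀ x ∈ l, x ∉ B) → (l.prod ∈ B ↔ Even l.length) := by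
  intro l
  induction l with
  | nil => intro _; simp
  | cons x l ih =>
    intro hl
    have h1 : x ∉ B := hl x (by simp)
    have h2 := ih (fun y hy => hl y (by simp [hy]))
    rw [List.prod_cons, Subgroup.mul_mem_iff_of_index_two hB, h2, List.length_cons,
      Nat.even_add_one]
    constructor
    · intro h3 h4
      exact h1 (h3.mpr h4)
    · intro h3
      exact ⟨fun h4 => absurd h4 h1, fun h4 => absurd h4 h3⟩

theorem Hyp2.centM [Finite G] (hZ : ZStar.{u}) (h : Hyp2 D) {a b : G} (ha : a ∈ D) (hb : b ∈ D)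
    (hne : a ≠ b) (hab : a * b = b * a) {g : G} (hg : g * (a * b) = a * b * g) :
    g ∈ M D h.conj a := by
  classical
  have haa := h.sq a ha
  have hbb := h.sq b hb
  have hcab : Conn D a b := Conn.of_comm ha hb hab
  set K : Subgroup G := Subgroup.centralizer ({a * b} : Set G) with hK
  have hgK : g ∈ K := mem_cent.mpr hg
  have hzz : (a * b) * (a * b) = 1 := by
    calc (a * b) * (a * b) = a * (b * a) * b := by group
      _ = a * (a * b) * b := by rw [hab]
      _ = (a * a) * (b * b) := by group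
      _ = 1 := by rw [haa, hbb, one_mul]
  have hz1 : a * b ≠ 1 := by
    intro h1
    exact hne ((eq_inv_of_mul_eq_one_left h1).trans (inv_eq_of_mul_eq_one_left hbb))
  have haz : a * (a * b) = (a * b) * a := by
    rw [mul_assoc a b a, ← hab]
  have haK : a ∈ K := mem_cent.mpr haz
  have hzK : a * b ∈ K := mem_cent.mpr rfl
  -- the key local statement
  have hloc : ∀ k : K, (((⟨a, haK⟩ : K) * (k * ⟨a, haK⟩ * k⁻¹)) ^ 2 = 1 ∨
      ((⟨a, haK⟩ : K) * (k * ⟨a, haK⟩ * k⁻¹)) ^ 2 = ⟨a * b, hzK⟩) →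
      k * ⟨a, haK⟩ * k⁻¹ = ⟨a, haK⟩ ∨ k * ⟨a, haK⟩ * k⁻¹ = (⟨a * b, hzK⟩ : K) * ⟨a, haK⟩ := by
    intro k hk
    obtain ⟨f, hf⟩ : ∃ f, f = (k : G) * a * (k : G)⁻¹ := ⟨_, rfl⟩
    have hfD : f ∈ D := by rw [hf]; exact h.conj k a ha
    have hff := h.sq f hfD
    have hfi : f⁻¹ = f := inv_eq_of_mul_eq_one_left hff
    have hk2 : (a * f) ^ 2 = 1 ∨ (a * f) ^ 2 = a * b := by
      rcases hk with hk | hk
      · left
        have := congrArg Subtype.val hk
        rw [hf]; exact this
      · right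
        have := congrArg Subtype.val hk
        rw [hf]; exact this
    have hkz : (k : G) * (a * b) * (k : G)⁻¹ = a * b := by
      have := mem_cent.mp k.2
      rw [this]; group
    -- `f` commutes with `a`
    have hfa : f * a = a * f := by
      rcases hk2 with h2 | h2
      · -- (a f)^2 = 1
        have h3 : a * f * (a * f) = 1 := by rw [← pow_two]; exact h2
        have h4 : a * f = (a * f)⁻¹ := eq_inv_of_mul_eq_one_left h3
        rw [mul_inv_rev, hfi, inv_eq_of_mul_eq_one_left haa] at h4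
        exact h4.symm
      · exfalso
        have h3 : a * f * (a * f) = a * b := by rw [← pow_two]; exact h2
        have h4 : f * a * f = b := by
          have h5 : a * (f * a * f) = a * b := by rw [← h3]; group
          exact mul_left_cancel h5
        have h6 : f ∈ M D h.conj a :=
          mem_M_of_conj_eq h.conj (Conn.refl D a) hcab (by rw [hfi]; exact h4)
        have h7 := h.conn_of_mem_M ha hfD h6
        rcases h.three a ha f hfD h7 with h8 | h8
        · apply hne
          rw [← h4, ← h8, mul_assoc, hff, mul_one]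
        · rw [pow_succ, h2] at h8
          -- a * b * (a * f) = 1
          have h9 : a * f = a * b := by
            have h10 : (a * b) * (a * f) = (a * b) * (a * b) := by rw [h8, hzz]
            exact mul_left_cancel h10
          rw [h9, pow_two, hzz] at h2
          exact hz1 h2.symm
    have hfz : f * (a * b) = a * b * f := by
      have : f ∈ K := by rw [hf]; exact K.mul_mem (K.mul_mem k.2 haK) (K.inv_mem k.2)
      exact mem_cent.mp this
    have hfb : f * b = b * f := by
      have h1 : a * (f * b) = a * (b * f) := by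
        calc a * (f * b) = (a * f) * b := by group
          _ = (f * a) * b := by rw [hfa]
          _ = f * (a * b) := by group
          _ = a * b * f := hfz
          _ = a * (b * f) := by group
      exact mul_left_cancel h1
    have hkb : (k : G) * b * (k : G)⁻¹ = f * (a * b) := by
      have h1 : f * ((k : G) * b * (k : G)⁻¹) = a * b := by
        rw [hf, ← hkz]; group
      calc (k : G) * b * (k : G)⁻¹ = (f * f) * ((k : G) * b * (k : G)⁻¹) := by rw [hff, one_mul]
        _ = f * (f * ((k : G) * b * (k : G)⁻¹)) := by group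
        _ = f * (a * b) := by rw [h1]
    have hfabD : f * a * b ∈ D := by
      rw [mul_assoc, ← hkb]; exact h.conj k b hb
    by_cases h1 : f = a
    · left
      apply Subtype.ext
      change (k : G) * a * (k : G)⁻¹ = a
      rw [← hf, h1]
    · by_cases h2 : f = b
      · right
        apply Subtype.ext
        change (k : G) * a * (k : G)⁻¹ = a * b * a
        rw [← hf, h2, hab, mul_assoc, haa, mul_one]
      · exact absurd hfabD (h.prod f hfD a ha b hb h1 h2 hne hfa hfb hab)
  -- a Sylow 2-subgroup containing `a` and `a * b`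
  have h4 : IsPGroup 2 (Subgroup.closure ({⟨a, haK⟩, ⟨a * b, hzK⟩} : Set K)) := by
    have hcomm : ∀ x ∈ ({⟨a, haK⟩, ⟨a * b, hzK⟩} : Set K),
        ∀ y ∈ ({⟨a, haK⟩, ⟨a * b, hzK⟩} : Set K), x * y = y * x := by
      intro x hx y hy
      rcases hx with rfl | rfl <;> rcases hy with rfl | rfl
      · rfl
      · exact Subtype.ext haz
      · exact Subtype.ext haz.symm
      · rfl
    intro x
    refine ⟨1, ?_⟩
    rw [pow_one]
    have hx := x.2
    have : ∀ y ∈ Subgroup.closure ({⟨a, haK⟩, ⟨a * b, hzK⟩} : Set K), y ^ 2 = 1 := by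
      intro y hy
      induction hy using Subgroup.closure_induction with
      | mem y hy =>
        rcases hy with rfl | rfl
        · rw [pow_two]; exact Subtype.ext haa
        · rw [pow_two]; exact Subtype.ext hzz
      | one => exact one_pow 2
      | mul y w hy hw ihy ihw =>
        have hyw : Commute y w := by
          have := (Subgroup.isMulCommutative_closure hcomm).is_comm.comm ⟨y, hy⟩ ⟨w, hw⟩
          exact congrArg Subtype.val this
        rw [hyw.mul_pow, ihy, ihw, one_mul]
      | inv y hy ih => rw [inv_pow, ih, inv_one]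
    exact Subtype.ext (this _ hx)
  obtain ⟨T, hT⟩ := h4.exists_le_sylow
  have haT : (⟨a, haK⟩ : K) ∈ T := hT (Subgroup.subset_closure (by simp))
  have hzT : (⟨a * b, hzK⟩ : K) ∈ T := hT (Subgroup.subset_closure (by simp))
  obtain ⟨O, hOn, hOodd, hO⟩ := exists_core hZ (K := K) ⟨a * b, hzK⟩ ⟨a, haK⟩ (by
      rw [orderOf_eq_prime_iff]
      constructor
      · rw [pow_two]; exact Subtype.ext hzz
      · intro h1
        exact hz1 (congrArg Subtype.val h1)) (by
      intro k
      exact Subtype.ext (mem_cent.mp k.2)) (Subtype.ext haa) (by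
      intro h1
      exact h.ne a ha (congrArg Subtype.val h1)) (by
      intro h1
      have h2 : a = a * b := congrArg Subtype.val h1
      exact h.ne b hb (mul_eq_left.mp h2.symm)) T haT hzT (by
      intro k hk
      exact isolated (⟨a * b, hzK⟩ : K) ⟨a, haK⟩ (Subtype.ext haa) (Subtype.ext hzz)
        (Subtype.ext haz.symm) T T.2 haT hloc k hk)
  obtain ⟨l, hlodd, hlD, hlc, hla, hlb, hlprod⟩ := h.odd a ha b hb hne hab
  -- the elementary abelian group generated by `l`
  set A : Subgroup G := Subgroup.closure {x | x ∈ l} with hA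
  have hAcomm : ∀ x ∈ A, ∀ y ∈ A, x * y = y * x := by
    intro x hx y hy
    have := (Subgroup.isMulCommutative_closure (k := {x | x ∈ l})
      (fun x hx y hy => hlc x hx y hy)).is_comm.comm ⟨x, hx⟩ ⟨y, hy⟩
    exact congrArg Subtype.val this
  have hAsq : ∀ x ∈ A, x ^ 2 = 1 := by
    intro x hx
    induction hx using Subgroup.closure_induction with
    | mem y hy => rw [pow_two]; exact h.sq y (hlD y hy)
    | one => exact one_pow 2
    | mul y w hy hw ihy ihw =>
      have hyw : Commute y w := hAcomm y hy w hw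
      rw [hyw.mul_pow, ihy, ihw, one_mul]
    | inv y hy ih => rw [inv_pow, ih, inv_one]
  have hAK : A ≤ K := by
    rw [hA, Subgroup.closure_le]
    intro x hx
    refine mem_cent.mpr ?_
    have h1 : Commute x a := hla x hx
    have h2 : Commute x b := hlb x hx
    exact h1.mul_right h2
  have hlne : l ≠ [] := by
    intro h1
    rw [h1] at hlodd
    simp at hlodd
  obtain ⟨w, hw⟩ := List.exists_mem_of_ne_nil l hlne
  have hOM : O.map K.subtype ≤ M D h.conj a := by
    set Q : Subgroup G := O.map K.subtype with hQ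
    have hQodd : ¬ 2 ∣ Nat.card Q := by
      have e1 : Nat.card Q = Nat.card O :=
        (Nat.card_congr (Subgroup.equivMapOfInjective O K.subtype
          (Subgroup.subtype_injective K)).toEquiv).symm
      rw [e1]
      intro h2
      exact (Nat.not_even_iff_odd.mpr hOodd) (even_iff_two_dvd.mpr h2)
    have hAQ : A ≤ Subgroup.normalizer (Q : Set G) := by
      intro a' ha'
      rw [Subgroup.mem_normalizer_iff]
      intro q
      constructor
      · rintro ⟨o, ho, rfl⟩
        exact ⟨⟨a', hAK ha'⟩ * o * ⟨a', hAK ha'⟩⁻¹, hOn.conj_mem o ho _, rfl⟩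
      · rintro ⟨o, ho, ho2⟩
        refine ⟨⟨a', hAK ha'⟩⁻¹ * o * ⟨a', hAK ha'⟩, ?_, ?_⟩
        · have := hOn.conj_mem o ho (⟨a', hAK ha'⟩⁻¹)
          rwa [inv_inv] at this
        · have ho3 : (o : G) = a' * q * a'⁻¹ := ho2
          change a'⁻¹ * (o : G) * a' = q
          rw [ho3]; group
    have hAe : Cfsg.IsElementaryAbelian 2 A := by
      constructor
      · exact ⟨⟨fun a b => Subtype.ext (hAcomm a a.2 b b.2)⟩⟩
      · intro a ha
        exact hAsq a ha
    have hA1 : A ≠ ⊥ := by
      intro h1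
      have h2 : w ∈ A := Subgroup.subset_closure hw
      rw [h1, Subgroup.mem_bot] at h2
      exact h.ne w (hlD w hw) h2
    have := Cfsg.Agent.Lib.CoprimeHyperplane.iSup_centralizer_hyperplane (p := 2) hAe hA1 hQodd hAQ
    rw [← this]
    refine iSup_le fun B => ?_
    obtain ⟨B, hBA, hBi⟩ := B
    have hex : ∃ x ∈ l, x ∈ B := by
      by_contra hcon
      push Not at hcon
      have hlA : ∀ x ∈ l, x ∈ A := fun x hx => Subgroup.subset_closure hx
      -- lift the list to `A`
      let l' : List A := l.attach.map (fun x => ⟨x.1, hlA x.1 x.2⟩)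
      have hl' : l'.map (Subtype.val) = l := by
        simp [l', List.map_map, Function.comp_def]
      have h1 : l'.prod ∈ B.subgroupOf A ↔ Even l'.length := by
        refine prod_notMem_of_odd (B.subgroupOf A) hBi l' ?_
        intro x hx hxB
        have h2 : (x : G) ∈ l := by
          rw [← hl']
          exact List.mem_map_of_mem hx
        exact hcon x h2 (Subgroup.mem_subgroupOf.mp hxB)
      have h3 : l'.prod = 1 := by
        apply Subtype.ext
        have h4 : ((l'.prod : A) : G) = (l'.map (Subtype.val)).prod := by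
          simp
        rw [h4, hl', hlprod]; rfl
      have h5 : l'.length = l.length := by simp [l']
      rw [h3, h5] at h1
      have h6 := h1.mp (one_mem _)
      exact (Nat.not_even_iff_odd.mpr hlodd) h6
    obtain ⟨x, hxl, hxB⟩ := hex
    intro q hq
    have h1 : q * x = x * q := (Subgroup.mem_centralizer_iff.mp hq.2 x hxB).symm
    rw [M_eq_of_conn h.conj (Conn.of_comm ha (hlD x hxl) (hla x hxl).symm)]
    exact mem_M_of_comm h.conj h1
  obtain ⟨r, hr, hr2⟩ := hO ⟨g, hgK⟩
  have hrM : (r : G) ∈ M D h.conj a := hOM ⟨r, hr, rfl⟩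
  have hrg : (r : G) * g ∈ M D h.conj a := by
    rcases hr2 with h1 | h1
    · have h2 : (r : G) * (g * a * g⁻¹) * (r : G)⁻¹ = a := congrArg Subtype.val h1
      refine mem_M_of_conj_eq h.conj (Conn.refl D a) (Conn.refl D a) ?_
      calc (r : G) * g * a * ((r : G) * g)⁻¹ = (r : G) * (g * a * g⁻¹) * (r : G)⁻¹ := by group
        _ = a := h2
    · have h2 : (r : G) * (g * a * g⁻¹) * (r : G)⁻¹ = (a * b) * a := congrArg Subtype.val h1
      have h3 : (a * b) * a = b := by rw [hab, mul_assoc, haa, mul_one]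
      rw [h3] at h2
      refine mem_M_of_conj_eq h.conj (Conn.refl D a) hcab ?_
      calc (r : G) * g * a * ((r : G) * g)⁻¹ = (r : G) * (g * a * g⁻¹) * (r : G)⁻¹ := by group
        _ = b := h2
  have := (M D h.conj a).mul_mem ((M D h.conj a).inv_mem hrM) hrg
  simpa using this

theorem Hyp2.core [Finite G] (hZ : ZStar.{u}) (h : Hyp2 D) : Core D where
  sq := h.sq
  conj := h.conj
  two := h.two
  prod3 := h.prod3
  three := h.three
  fixM := h.fixM
  centM := fun _ ha _ hb hne hab _ hg => h.centM hZ ha hb hne hab hg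

end hyp2

section core

variable {D : Set G}

theorem Core.conn_of_mem_M (h : Core D) {a f : G} (ha : a ∈ D) (hf : f ∈ D)
    (hfM : f ∈ M D h.conj a) : Conn D a f := by
  obtain ⟨b, hb, hab, hfb⟩ := h.fixM a ha f (h.sq f hf) hfM
  exact hab.trans (Conn.of_comm hb hf hfb.symm)

/-- Members of different components have a product of odd order. -/
theorem Core.odd_of_not_conn [Finite G] (h : Core D) {a f : G} (ha : a ∈ D)
    (hf : f ∈ D) (hn : ¬ Conn D a f) : Odd (orderOf (a * f)) := by
  by_contra hodd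
  rw [Nat.not_odd_iff_even] at hodd
  obtain ⟨z, hz1, hzz, hza, hzf, hcl⟩ := exists_of_even (h.sq a ha) (h.sq f hf) hodd
    (orderOf_pos (a * f)).ne'
  have hazD : a * z ∈ D := by
    rcases hcl with ⟨g, hg⟩ | ⟨g, hg⟩
    · rw [hg]; exact h.conj g a ha
    · rw [hg]; exact h.conj g f hf
  have haa := h.sq a ha
  have h1 : a * (a * z) = z := by rw [← mul_assoc, haa, one_mul]
  have h2 : a * (a * z) = a * z * a := by rw [mul_assoc a z a, hza]
  have h3 : f ∈ M D h.conj a := by
    refine h.centM a ha (a * z) hazD (fun h4 => hz1 ?_) h2 f (by rw [h1, hzf])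
    have := congrArg (fun w => a * w) h4
    simp only [h1, haa] at this
    exact this.symm
  exact hn (h.conn_of_mem_M ha hf h3)

/-- In the component, everything commuting with an involution `t` commutes with some fixed member `x`. -/
theorem Core.exists_universal (h : Core D) {a t : G} (ha : a ∈ D) (ht : t * t = 1)
    (ht1 : t ≠ 1) (htM : t ∈ M D h.conj a) :
    ∃ x ∈ D, Conn D a x ∧ t * x = x * t ∧
      (∀ e ∈ D, Conn D a e → e * t = t * e → e * x = x * e) ∧
      ∃ e ∈ D, ∃ f ∈ D, Conn D a e ∧ Conn D a f ∧ e * t = t * e ∧ f * t = t * f ∧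
        e * f ≠ f * e := by
  obtain ⟨b, hb, hab, htb⟩ := h.fixM a ha t ht htM
  obtain ⟨x, hx, y, hy, z, hz, hxy, hxz, _, cxy, cxz, cyz, hbx, hxyz, e, he, f, hf, hef, hex, hey,
    hez, hfx, hfy, hfz⟩ := h.prod3 b hb t ht ht1 htb
  have hax : Conn D a x := hab.trans hbx
  have hxx := h.sq x hx
  have hyy := h.sq y hy
  have hzz := h.sq z hz
  have htx : t * x = x * t := by
    have c1 : Commute x x := Commute.refl x
    have c2 : Commute y x := cxy.symm
    have c3 : Commute z x := cxz.symm
    rcases hxyz with h1 | h1 | h1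
    · rw [h1]
    · rw [h1]; exact c1.mul_left c2
    · rw [h1]; exact (c1.mul_left c2).mul_left c3
  have comm_t : ∀ e : G, e * x = x * e → e * y = y * e → e * z = z * e → e * t = t * e := by
    intro e hex hey hez
    have hc1 : Commute e x := hex
    have hc2 : Commute e y := hey
    have hc3 : Commute e z := hez
    rcases hxyz with h1 | h1 | h1
    · rw [h1]; exact hc1
    · rw [h1]; exact hc1.mul_right hc2
    · rw [h1]; exact (hc1.mul_right hc2).mul_right hc3
  refine ⟨x, hx, hax, htx, ?_, e, he, f, hf, hax.trans (Conn.of_comm hx he hex.symm),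
    hax.trans (Conn.of_comm hx hf hfx.symm), comm_t e hex hey hez, comm_t f hfx hfy hfz, hef⟩
  intro v hv hav hvt
  have hvv := h.sq v hv
  have hay : Conn D a y := hax.trans (Conn.of_comm hx hy cxy)
  have haz : Conn D a z := hax.trans (Conn.of_comm hx hz cxz)
  have t1 : ∀ w' ∈ D, Conn D a w' → v * w' = w' * v ∨ (w' * v) ^ 3 = 1 := by
    intro w' hw' haw'
    rcases h.three w' hw' v hv (haw'.symm.trans hav) with h1 | h1
    · left; exact h1.symm
    · right; exact h1
  rcases hxyz with h1 | h1 | h1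
  · rw [← h1]; exact hvt
  · rw [h1] at hvt
    exact comm_of_comm_two hxx hyy hvv cxy hxy (t1 x hx hax) (t1 y hy hay) hvt
  · rw [h1] at hvt
    rcases t1 z hz haz with hvz | hvz
    · have h2 : v * (x * y) = x * y * v := by
        have h3 : v * (x * y) * z = x * y * v * z := by
          calc v * (x * y) * z = v * (x * y * z) := by group
            _ = x * y * z * v := hvt
            _ = x * y * (z * v) := by group
            _ = x * y * (v * z) := by rw [hvz]
            _ = x * y * v * z := by group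
        exact mul_right_cancel h3
      exact comm_of_comm_two hxx hyy hvv cxy hxy (t1 x hx hax) (t1 y hy hay) h2
    · rcases t1 x hx hax with hvx | hvx
      · exact hvx
      · rcases t1 y hy hay with hvy | hvy
        · have h2 : v * (x * z) = x * z * v := by
            have h3 : v * (x * z) * y = x * z * v * y := by
              calc v * (x * z) * y = v * (x * (z * y)) := by group
                _ = v * (x * (y * z)) := by rw [cyz]
                _ = v * (x * y * z) := by group
                _ = x * y * z * v := hvt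
                _ = x * (y * z) * v := by group
                _ = x * (z * y) * v := by rw [cyz]
                _ = x * z * (y * v) := by group
                _ = x * z * (v * y) := by rw [hvy]
                _ = x * z * v * y := by group
            exact mul_right_cancel h3
          exact comm_of_comm_two hxx hzz hvv cxz hxz (t1 x hx hax) (t1 z hz haz) h2
        · have := not_three hxx hyy hzz hvv cxy cyz cxz hvx hvy hvz hvt
          rw [this]; exact cxy.symm

/-- No involution normalises two different components. -/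
theorem Core.not_both [Finite G] (h : Core D) {a a' t : G} (ha : a ∈ D)
    (ha' : a' ∈ D) (hn : ¬ Conn D a a') (ht : t * t = 1) (ht1 : t ≠ 1) (htM : t ∈ M D h.conj a)
    (htM' : t ∈ M D h.conj a') : False := by
  obtain ⟨x, hx, hax, htx, huniv, e, he, f, hf, hae, haf, het, hft, hef⟩ :=
    h.exists_universal ha ht ht1 htM
  obtain ⟨b, hb, hab, htb⟩ := h.fixM a' ha' t ht htM'
  have hxb : ¬ Conn D x b := fun h1 => hn (hax.trans (h1.trans hab.symm))
  have heb : ¬ Conn D e b := fun h1 => hn (hae.trans (h1.trans hab.symm))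
  obtain ⟨g, hg, hg2⟩ := exists_of_odd (h.sq x hx) (h.sq b hb) (h.odd_of_not_conn hx hb hxb)
  obtain ⟨g', hg', hg2'⟩ := exists_of_odd (h.sq e he) (h.sq b hb) (h.odd_of_not_conn he hb heb)
  have ctg : t * g = g * t := hg2 t htx htb
  have ctg' : t * g' = g' * t := hg2' t het.symm htb
  -- k = g'⁻¹ g maps x to e and commutes with t
  obtain ⟨k, hk⟩ : ∃ k, k = g'⁻¹ * g := ⟨_, rfl⟩
  have hkx : k * x * k⁻¹ = e := by
    rw [hk]
    calc g'⁻¹ * g * x * (g'⁻¹ * g)⁻¹ = g'⁻¹ * (g * x * g⁻¹) * g' := by group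
      _ = g'⁻¹ * (g' * e * g'⁻¹) * g' := by rw [hg, hg']
      _ = e := by group
  have ckt : Commute t k := by
    rw [hk]
    exact (Commute.inv_right (show Commute t g' from ctg')).mul_right (show Commute t g from ctg)
  have hkM : k ∈ M D h.conj a := mem_M_of_conj_eq h.conj hax hae hkx
  have hf'D : k⁻¹ * f * k ∈ D := by
    have := h.conj k⁻¹ f hf
    rwa [inv_inv] at this
  have hf'a : Conn D a (k⁻¹ * f * k) := by
    have h1 : Conn D a (k⁻¹ * a * k⁻¹⁻¹) := (M D h.conj a).inv_mem hkM
    have h2 := haf.conj h.conj k⁻¹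
    have h3 := h1.trans h2
    rwa [inv_inv] at h3
  have hf't : k⁻¹ * f * k * t = t * (k⁻¹ * f * k) := by
    have h1 : Commute (k⁻¹ * f * k) t :=
      ((ckt.symm.inv_left).mul_left (show Commute f t from hft)).mul_left ckt.symm
    exact h1
  have h4 := huniv _ hf'D hf'a hf't
  apply hef
  have h5 : k * (k⁻¹ * f * k * x) * k⁻¹ = k * (x * (k⁻¹ * f * k)) * k⁻¹ := by rw [h4]
  have h6 : k * (k⁻¹ * f * k * x) * k⁻¹ = f * (k * x * k⁻¹) := by group
  have h7 : k * (x * (k⁻¹ * f * k)) * k⁻¹ = (k * x * k⁻¹) * f := by group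
  rw [h6, h7, hkx] at h5
  exact h5.symm

/-- **The closing theorem**: the commuting graph on `D` is connected. -/
theorem Core.conn [Finite G] (h : Core D) (hD : ∃ x ∈ D, ∃ y ∈ D, x ≠ y ∧ x * y = y * x)
    {a b : G} (ha : a ∈ D) (hb : b ∈ D) : Conn D a b := by
  obtain ⟨x, hx, y, hy, hxy, hcxy⟩ := hD
  have key : ∀ v ∈ D, Conn D x v := by
    intro v hv
    by_contra hn
    have hxx := h.sq x hx
    have hyy := h.sq y hy
    have hzM : x * y ∈ M D h.conj x := mem_M_of_comm h.conj (by rw [mul_assoc, ← hcxy])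
    have hzz : (x * y) * (x * y) = 1 := by
      calc (x * y) * (x * y) = x * (y * x) * y := by group
        _ = x * (x * y) * y := by rw [hcxy]
        _ = (x * x) * (y * y) := by group
        _ = 1 := by rw [hxx, hyy, one_mul]
    have hvv := h.sq v hv
    have hzD : x * y ∉ D := h.two x hx y hy hxy hcxy
    rcases Nat.even_or_odd (orderOf (x * y * v)) with he | ho
    · obtain ⟨w, hw1, hww, hwz, hwv, _⟩ := exists_of_even hzz hvv he (orderOf_pos _).ne'
      have h1 : w ∈ M D h.conj x := h.centM x hx y hy hxy hcxy w hwz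
      have h2 : w ∈ M D h.conj v := mem_M_of_comm h.conj hwv
      exact h.not_both hx hv hn hww hw1 h1 h2
    · obtain ⟨g, hg, _⟩ := exists_of_odd hzz hvv ho
      apply hzD
      have h1 : x * y = g⁻¹ * v * g⁻¹⁻¹ := by rw [← hg]; group
      rw [h1]
      exact h.conj g⁻¹ v hv
  exact (key a ha).symm.trans (key b hb)

theorem Core.M_eq_top [Finite G] (h : Core D) (hD : ∃ x ∈ D, ∃ y ∈ D, x ≠ y ∧ x * y = y * x)
    {a : G} (ha : a ∈ D) :
    M D h.conj a = ⊤ := by
  rw [eq_top_iff]
  intro g _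
  rw [mem_M]
  exact h.conn hD ha (h.conj g a ha)

end core

/-! ### Involutions normalising a component have a fixed point: permutation sign argument -/

section fix

variable {D : Set G}

/-- The action of `M(a)` on the component of `a`. -/
def act (D : Set G) (hD : ∀ g : G, ∀ a ∈ D, g * a * g⁻¹ ∈ D) (a : G) :
    M D hD a →* Equiv.Perm {b : G // Conn D a b} where
  toFun g :=
    { toFun := fun b => ⟨(g : G) * b * (g : G)⁻¹, g.2.trans (b.2.conj hD g)⟩
      invFun := fun b => ⟨(g : G)⁻¹ * b * (g : G), by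
        have h1 : Conn D a ((g : G)⁻¹ * a * ((g : G)⁻¹)⁻¹) := (M D hD a).inv_mem g.2
        have h2 := h1.trans (b.2.conj hD (g : G)⁻¹)
        rwa [inv_inv] at h2⟩
      left_inv := fun b => Subtype.ext (by simp only; group)
      right_inv := fun b => Subtype.ext (by simp only; group) }
  map_one' := by
    ext b
    simp
  map_mul' := by
    intro g k
    ext b
    simp only [Equiv.coe_fn_mk, Equiv.Perm.mul_apply, Subgroup.coe_mul]
    group

@[simp] theorem act_apply (D : Set G) (hD : ∀ g : G, ∀ a ∈ D, g * a * g⁻¹ ∈ D) (a : G)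
    (g : M D hD a) (b : {b : G // Conn D a b}) :
    ((act D hD a g b : {b : G // Conn D a b}) : G) = (g : G) * b * (g : G)⁻¹ := rfl

/-- Hypotheses of the fixed point lemma. -/
structure Fix (D : Set G) : Prop where
  sq : ∀ a ∈ D, a * a = 1
  conj : ∀ g : G, ∀ a ∈ D, g * a * g⁻¹ ∈ D
  three : ∀ a ∈ D, ∀ b ∈ D, Conn D a b → a * b = b * a ∨ (a * b) ^ 3 = 1
  /-- two commuting members of `D` have a common neighbour in the non-commuting graph, connected to them -/
  link : ∀ a ∈ D, ∀ b ∈ D, a ≠ b → a * b = b * a →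
    ∃ c ∈ D, Conn D a c ∧ c * a ≠ a * c ∧ c * b ≠ b * c
  perf : ∀ d ∈ D, commutator (Subgroup.centralizer ({d} : Set G)) = ⊤
  card : ∀ d ∈ D, Odd (Nat.card {b : G // Conn D d b}) ∨ Nat.card {b : G // Conn D d b} % 4 = 2

open Classical in
/-- The sign of the action on the component. -/
noncomputable def sgn [Finite G] (D : Set G) (hD : ∀ g : G, ∀ a ∈ D, g * a * g⁻¹ ∈ D) (a : G) :
    M D hD a →* ℤˣ :=
  letI : Fintype {b : G // Conn D a b} := Fintype.ofFinite _
  (Equiv.Perm.sign (α := {b : G // Conn D a b})).comp (act D hD a)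

theorem Fix.sgn_of_mem [Finite G] (h : Fix D) {a b : G} (ha : a ∈ D) (hab : Conn D a b)
    {g : G} (hg : g * b = b * g) (hgM : g ∈ M D h.conj a) : sgn D h.conj a ⟨g, hgM⟩ = 1 := by
  have hb : b ∈ D := hab.mem ha
  have hle : Subgroup.centralizer ({b} : Set G) ≤ M D h.conj a := by
    intro x hx
    rw [M_eq_of_conn h.conj hab]
    exact mem_M_of_comm h.conj (mem_cent.mp hx)
  set f : Subgroup.centralizer ({b} : Set G) →* ℤˣ :=
    (sgn D h.conj a).comp (Subgroup.inclusion hle) with hf
  have h1 : commutator (Subgroup.centralizer ({b} : Set G)) ≤ f.ker :=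
    Abelianization.commutator_subset_ker f
  rw [h.perf b hb] at h1
  have h2 : (⟨g, mem_cent.mpr hg⟩ : Subgroup.centralizer ({b} : Set G)) ∈ f.ker :=
    h1 (Subgroup.mem_top _)
  rw [MonoidHom.mem_ker] at h2
  exact h2

theorem Fix.mem_of_conn (h : Fix D) {a b : G} (hab : Conn D a b) : b ∈ M D h.conj a := by
  rw [M_eq_of_conn h.conj hab]
  exact mem_M_of_comm h.conj rfl

theorem conj_of_braid {b w : G} (hb : b * b = 1) (hw : w * w = 1) (h : (b * w) ^ 3 = 1) :
    (b * w) * b * (b * w)⁻¹ = w := by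
  have h1 := braid hb hw h
  have hbi : b⁻¹ = b := inv_eq_of_mul_eq_one_left hb
  have hwi : w⁻¹ = w := inv_eq_of_mul_eq_one_left hw
  rw [mul_inv_rev, hbi, hwi]
  calc b * w * b * (w * b) = (b * w * b) * (w * b) := by group
    _ = (w * b * w) * (w * b) := by rw [h1]
    _ = w * b * (w * w) * b := by group
    _ = w * (b * b) := by rw [hw]; group
    _ = w := by rw [hb, mul_one]

theorem Fix.exists_sgn_one [Finite G] (h : Fix D) {a : G} (ha : a ∈ D) {b : G}
    (hab : Conn D a b) : ∃ (k : G) (hk : k ∈ M D h.conj a), sgn D h.conj a ⟨k, hk⟩ = 1 ∧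
      k * a * k⁻¹ = b := by
  induction hab with
  | refl => exact ⟨1, one_mem _, map_one (sgn D h.conj a), by group⟩
  | @tail b c hab hbc ih =>
    obtain ⟨k, hkM, hk1, hkb⟩ := ih
    by_cases hne : b = c
    · exact ⟨k, hkM, hk1, by rw [hkb, hne]⟩
    obtain ⟨hb, hc, hcomm⟩ := hbc
    have hac : Conn D a c := Conn.trans hab (Conn.of_comm hb hc hcomm)
    obtain ⟨w, hw, hbw, hwb, hwc⟩ := h.link b hb c hc hne hcomm
    have haw : Conn D a w := Conn.trans hab hbw
    have h1 : (b * w) ^ 3 = 1 := by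
      rcases h.three b hb w hw hbw with h2 | h2
      · exact absurd h2.symm hwb
      · exact h2
    have h2 : (w * c) ^ 3 = 1 := by
      rcases h.three w hw c hc (haw.symm.trans hac) with h2 | h2
      · exact absurd h2 hwc
      · exact h2
    have e1 := conj_of_braid (h.sq b hb) (h.sq w hw) h1
    have e2 := conj_of_braid (h.sq w hw) (h.sq c hc) h2
    have mb := h.mem_of_conn hab
    have mw := h.mem_of_conn haw
    have mc := h.mem_of_conn hac
    have sb := h.sgn_of_mem ha hab (g := b) rfl mb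
    have sw := h.sgn_of_mem ha haw (g := w) rfl mw
    have sc := h.sgn_of_mem ha hac (g := c) rfl mc
    refine ⟨(w * c) * (b * w) * k, mul_mem (mul_mem (mul_mem mw mc) (mul_mem mb mw)) hkM, ?_, ?_⟩
    · have : (⟨(w * c) * (b * w) * k, mul_mem (mul_mem (mul_mem mw mc) (mul_mem mb mw)) hkM⟩ :
          M D h.conj a) = (⟨w, mw⟩ * ⟨c, mc⟩) * (⟨b, mb⟩ * ⟨w, mw⟩) * ⟨k, hkM⟩ := rfl
      rw [this]
      simp only [map_mul, sb, sw, sc, hk1, mul_one]
    · calc (w * c) * (b * w) * k * a * ((w * c) * (b * w) * k)⁻¹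
          = (w * c) * ((b * w) * (k * a * k⁻¹) * (b * w)⁻¹) * (w * c)⁻¹ := by group
        _ = (w * c) * ((b * w) * b * (b * w)⁻¹) * (w * c)⁻¹ := by rw [hkb]
        _ = (w * c) * w * (w * c)⁻¹ := by rw [e1]
        _ = c := e2

theorem Fix.sgn_eq_one [Finite G] (h : Fix D) {a : G} (ha : a ∈ D) (g : M D h.conj a) :
    sgn D h.conj a g = 1 := by
  obtain ⟨k, hk, hk1, hka⟩ := h.exists_sgn_one ha g.2
  have h1 : (k⁻¹ * (g : G)) * a = a * (k⁻¹ * (g : G)) := by
    have h2 : k * a * k⁻¹ = (g : G) * a * (g : G)⁻¹ := hka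
    have h3 : k * a * k⁻¹ * (g : G) = (g : G) * a := by rw [h2]; group
    calc (k⁻¹ * (g : G)) * a = k⁻¹ * ((g : G) * a) := by group
      _ = k⁻¹ * (k * a * k⁻¹ * (g : G)) := by rw [h3]
      _ = a * (k⁻¹ * (g : G)) := by group
  have h2 := h.sgn_of_mem ha (Conn.refl D a) h1 (mul_mem (inv_mem hk) g.2)
  have h3 : g = ⟨k, hk⟩ * ⟨k⁻¹ * (g : G), mul_mem (inv_mem hk) g.2⟩ := by
    apply Subtype.ext
    simp
  rw [h3, map_mul, hk1, h2, one_mul]

/-- An involution normalising a component centralises a member of it. -/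
theorem Fix.fixM [Finite G] (h : Fix D) {a : G} (ha : a ∈ D) {t : G} (ht : t * t = 1)
    (htM : t ∈ M D h.conj a) : ∃ b ∈ D, Conn D a b ∧ t * b = b * t := by
  classical
  by_contra hcon
  push Not at hcon
  let _ : Fintype {b : G // Conn D a b} := Fintype.ofFinite _
  set σ := act D h.conj a ⟨t, htM⟩ with hσ
  have hσ2 : σ ^ 2 = 1 := by
    rw [hσ, ← map_pow, pow_two]
    have : (⟨t, htM⟩ : M D h.conj a) * ⟨t, htM⟩ = 1 := Subtype.ext ht
    rw [this, map_one]
  have hfix : Function.fixedPoints σ = ∅ := by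
    ext b
    simp only [Function.mem_fixedPoints, Set.mem_empty_iff_false, iff_false]
    intro hb
    have h1 : ((σ b : {b : G // Conn D a b}) : G) = b := congrArg Subtype.val hb
    rw [hσ, act_apply] at h1
    refine hcon b (b.2.mem ha) b.2 ?_
    have h2 : t * (b : G) * t⁻¹ = b := h1
    exact mul_inv_eq_iff_eq_mul.mp h2
  have h1 := Equiv.Perm.sign_of_pow_two_eq_one hσ2
  have h2 : Fintype.card (Function.fixedPoints σ) = 0 := by
    rw [Fintype.card_eq_zero_iff, hfix]
    exact Set.isEmpty_coe_sort.mpr rfl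
  rw [h2, Nat.sub_zero] at h1
  have h3 : Equiv.Perm.sign σ = 1 := by
    have := h.sgn_eq_one ha ⟨t, htM⟩
    rw [sgn] at this
    simp only [MonoidHom.comp_apply] at this
    convert this
  rw [h3] at h1
  -- the parity of the cardinality
  have h4 : 2 ∣ Fintype.card {b : G // Conn D a b} := by
    by_contra h5
    have hσ2' : σ ^ 2 ^ 1 = 1 := by rw [pow_one]; exact hσ2
    obtain ⟨b, hb⟩ := Equiv.Perm.exists_fixed_point_of_prime (p := 2) (n := 1) h5 hσ2'
    have h6 : b ∈ Function.fixedPoints σ := hb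
    rw [hfix] at h6
    exact h6
  have h5 := h.card a ha
  rw [Nat.card_eq_fintype_card] at h5
  rcases h5 with h5 | h5
  · rw [Nat.odd_iff] at h5; omega
  · have h6 : Odd (Fintype.card {b : G // Conn D a b} / 2) := by rw [Nat.odd_iff]; omega
    rw [h6.neg_one_pow] at h1
    exact absurd h1 (by decide)

end fix

/-! ### The final form -/

/-- All hypotheses of the closing theorem together: local facts (`two`, `prod`, `odd`, `prod3`, `link`, `perf`) and two
facts about the component (`three`, `card`). -/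
structure All (D : Set G) : Prop where
  sq : ∀ a ∈ D, a * a = 1
  ne : ∀ a ∈ D, a ≠ 1
  conj : ∀ g : G, ∀ a ∈ D, g * a * g⁻¹ ∈ D
  /-- some member commutes with another one -/
  pair : ∃ x ∈ D, ∃ y ∈ D, x ≠ y ∧ x * y = y * x
  two : ∀ a ∈ D, ∀ b ∈ D, a ≠ b → a * b = b * a → a * b ∉ D
  prod : ∀ a ∈ D, ∀ b ∈ D, ∀ c ∈ D, a ≠ b → a ≠ c → b ≠ c → a * b = b * a → a * c = c * a →
    b * c = c * b → a * b * c ∉ D
  odd : ∀ a ∈ D, ∀ b ∈ D, a ≠ b → a * b = b * a → ∃ l : List G, Odd l.length ∧ (∀ x ∈ l, x ∈ D) ∧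
    (∀ x ∈ l, ∀ y ∈ l, x * y = y * x) ∧ (∀ x ∈ l, x * a = a * x) ∧ (∀ x ∈ l, x * b = b * x) ∧
    l.prod = 1
  prod3 : ∀ d ∈ D, ∀ t : G, t * t = 1 → t ≠ 1 → t * d = d * t →
    ∃ x ∈ D, ∃ y ∈ D, ∃ z ∈ D, x ≠ y ∧ x ≠ z ∧ y ≠ z ∧ x * y = y * x ∧ x * z = z * x ∧
      y * z = z * y ∧ Conn D d x ∧ (t = x ∨ t = x * y ∨ t = x * y * z) ∧
      ∃ e ∈ D, ∃ f ∈ D, e * f ≠ f * e ∧ e * x = x * e ∧ e * y = y * e ∧ e * z = z * e ∧
        f * x = x * f ∧ f * y = y * f ∧ f * z = z * f
  link : ∀ a ∈ D, ∀ b ∈ D, a ≠ b → a * b = b * a →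
    ∃ c ∈ D, Conn D a c ∧ c * a ≠ a * c ∧ c * b ≠ b * c
  perf : ∀ d ∈ D, commutator (Subgroup.centralizer ({d} : Set G)) = ⊤
  three : ∀ a ∈ D, ∀ b ∈ D, Conn D a b → a * b = b * a ∨ (a * b) ^ 3 = 1
  card : ∀ d ∈ D, Odd (Nat.card {b : G // Conn D d b}) ∨ Nat.card {b : G // Conn D d b} % 4 = 2

section final

variable {D : Set G}

theorem All.toFix (h : All D) : Fix D := ⟨h.sq, h.conj, h.three, h.link, h.perf, h.card⟩

theorem All.toHyp2 [Finite G] (h : All D) : Hyp2 D :=
  ⟨h.sq, h.ne, h.conj, h.two, h.prod, h.odd, h.prod3, h.three,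
    fun _ ha _ ht htM => h.toFix.fixM ha ht htM⟩

/-- **Closing theorem**: the commuting graph on `D` is connected. -/
theorem All.conn [Finite G] (hZ : ZStar.{u}) (h : All D) {a b : G} (ha : a ∈ D) (hb : b ∈ D) :
    Conn D a b :=
  (h.toHyp2.core hZ).conn h.pair ha hb

theorem All.isThreeTrans [Finite G] (hZ : ZStar.{u}) (h : All D) {a b : G} (ha : a ∈ D)
    (hb : b ∈ D) : a * b = b * a ∨ (a * b) ^ 3 = 1 :=
  h.three a ha b hb (h.conn hZ ha hb)

/-- `D` is one conjugacy class. -/
theorem All.exists_conj [Finite G] (hZ : ZStar.{u}) (h : All D) {a b : G} (ha : a ∈ D)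
    (hb : b ∈ D) : ∃ g : G, g * a * g⁻¹ = b := by
  obtain ⟨k, _, _, hk⟩ := h.toFix.exists_sgn_one ha (h.conn hZ ha hb)
  exact ⟨k, hk⟩

theorem All.card_eq [Finite G] (hZ : ZStar.{u}) (h : All D) {d : G} (hd : d ∈ D) :
    Nat.card G = Nat.card D * Nat.card (Subgroup.centralizer ({d} : Set G)) := by
  have h1 : MulAction.orbit (ConjAct G) d = D := by
    ext x
    rw [MulAction.mem_orbit_iff]
    constructor
    · rintro ⟨g, rfl⟩
      rw [ConjAct.smul_def]
      exact h.conj _ d hd
    · intro hx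
      obtain ⟨g, hg⟩ := h.exists_conj hZ hd hx
      exact ⟨ConjAct.toConjAct g, by rw [ConjAct.smul_def]; simpa using hg⟩
  have h2 := MulAction.index_stabilizer (ConjAct G) d
  rw [h1] at h2
  have h3 := Subgroup.card_mul_index (MulAction.stabilizer (ConjAct G) d)
  rw [h2, ← Subgroup.nat_card_centralizer_nat_card_stabilizer] at h3
  have h4 : Nat.card (ConjAct G) = Nat.card G := rfl
  rw [h4] at h3
  rw [← h3, Nat.card_coe_set_eq, mul_comm]

end final

end Cfsg.Agent.R01.Closing2
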