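import Cfsg.Agent.R01.Start

/-!
The local hypothesis `Loc D` at all members of the class `D`, obtained by transport from one member.
-/

set_option autoImplicit false
set_option linter.dupNamespace false

namespace Cfsg.Agent.R01.Loc

open Cfsg Cfsg.Agent.LieClassical.HermBasic
open Cfsg.Agent.ClassicalGeometry.UnitTransv (act)
open Cfsg.Agent.R01.Lifts Cfsg.Agent.R01.PSUSix Cfsg.Agent.R01.Label Cfsg.Agent.R01.Start

universe u v

/-- Transport of a labelling along an isomorphism. -/
theorem lab_transport {C C' : Type*} [Group C] [Group C'] {F : Type*} [Field F] [Fintype F]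
    {hF : Fintype.card F = 2 ^ 2} {π : C →* PSU 6 F 2} {z ε : C} {lift : (Fin 6 → F) → C}
    (L : Lab hF π z ε lift) (e : C ≃* C') :
    Lab hF (π.comp e.symm.toMonoidHom) (e z) (e ε) (fun v => e (lift v)) where
  ext :=
    { surj := L.ext.surj.comp e.symm.surjective
      zz := by rw [← map_mul, L.ext.zz, map_one]
      zne := fun h => L.ext.zne (by
        apply e.injective
        rw [h, map_one])
      ker := fun c => by
        show π (e.symm c) = 1 ↔ _
        rw [L.ext.ker, ← e.injective.eq_iff, ← e.injective.eq_iff (a := e.symm c) (b := z),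
          e.apply_symm_apply, map_one]
      comm := fun c => by
        obtain ⟨c, rfl⟩ := e.surjective c
        rw [← map_mul, ← map_mul, L.ext.comm] }
  perf := by
    have h := L.perf
    rw [eq_top_iff]
    intro x _
    obtain ⟨c, rfl⟩ := e.surjective x
    have hc : c ∈ commutator C := by rw [h]; trivial
    have h1 : Subgroup.map e.toMonoidHom (commutator C) ≤ commutator C' := by
      rw [commutator_def, commutator_def, Subgroup.map_commutator]
      exact Subgroup.commutator_mono le_top le_top
    exact h1 ⟨c, hc, rfl⟩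
  map w h0 hw := by
    show π (e.symm (e (lift w))) = _
    rw [e.symm_apply_apply, L.map w h0 hw]
  smul w c hw hc := by
    show e _ = e _
    rw [L.smul w c hw hc]
  sq w h0 hw := by
    show e (lift w) * e (lift w) = 1
    rw [← map_mul, L.sq w h0 hw, map_one]
  conj c g w hc h0 hw := by
    obtain ⟨c, rfl⟩ := e.surjective c
    show e c * e (lift w) * (e c)⁻¹ = e (lift (act g w))
    have hc' : π (e.symm (e c)) = _ := hc
    rw [e.symm_apply_apply] at hc'
    rw [← map_mul, ← map_inv, ← map_mul, L.conj c g w hc' h0 hw]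
  commute a w h0 hw ha := by
    obtain ⟨a, rfl⟩ := e.surjective a
    have ha' : Commute (π (e.symm (e a))) _ := ha
    rw [e.symm_apply_apply] at ha'
    exact (L.commute a w h0 hw ha').map e
  line a b ha0 hb0 ha hb hab hne ω hω := by
    show e (lift a) * e (lift b) * e (lift (a + b)) * e (lift (ω • a + b)) *
      e (lift (ω ^ 2 • a + b)) = e ε
    rw [← map_mul, ← map_mul, ← map_mul, ← map_mul, L.line a b ha0 hb0 ha hb hab hne ω hω]

theorem mem_Dset_transport {C C' : Type*} [Group C] [Group C'] {F : Type*} [Field F]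
    {lift : (Fin 6 → F) → C} (e : C ≃* C') (x : C) :
    e x ∈ Dset (fun v => e (lift v)) ↔ x ∈ Dset lift := by
  constructor
  · rintro ⟨v, h0, hv, h⟩
    exact ⟨v, h0, hv, e.injective h⟩
  · rintro ⟨v, h0, hv, rfl⟩
    exact ⟨v, h0, hv, rfl⟩

variable {G : Type u} [Group G]

/-- Conjugation by `g` from the centraliser of `d` to the centraliser of `g d g⁻¹`. -/
def conjCent (g d : G) : Subgroup.centralizer ({d} : Set G) ≃*
    Subgroup.centralizer ({g * d * g⁻¹} : Set G) where
  toFun x := ⟨g * x * g⁻¹, by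
    have hx := Subgroup.mem_centralizer_singleton_iff.1 x.2
    rw [Subgroup.mem_centralizer_singleton_iff]
    calc g * (x : G) * g⁻¹ * (g * d * g⁻¹) = g * ((x : G) * d) * g⁻¹ := by group
      _ = g * (d * (x : G)) * g⁻¹ := by rw [hx]
      _ = g * d * g⁻¹ * (g * (x : G) * g⁻¹) := by group⟩
  invFun x := ⟨g⁻¹ * x * g, by
    have hx := Subgroup.mem_centralizer_singleton_iff.1 x.2
    rw [Subgroup.mem_centralizer_singleton_iff]
    calc g⁻¹ * (x : G) * g * d = g⁻¹ * ((x : G) * (g * d * g⁻¹)) * g := by group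
      _ = g⁻¹ * ((g * d * g⁻¹) * (x : G)) * g := by rw [hx]
      _ = d * (g⁻¹ * (x : G) * g) := by group⟩
  left_inv x := by
    apply Subtype.ext
    show g⁻¹ * (g * (x : G) * g⁻¹) * g = x
    group
  right_inv x := by
    apply Subtype.ext
    show g * (g⁻¹ * (x : G) * g) * g⁻¹ = x
    group
  map_mul' x y := by
    apply Subtype.ext
    show g * ((x : G) * y) * g⁻¹ = g * (x : G) * g⁻¹ * (g * (y : G) * g⁻¹)
    group

theorem coe_conjCent (g d : G) (x : Subgroup.centralizer ({d} : Set G)) :
    ((conjCent g d x : Subgroup.centralizer ({g * d * g⁻¹} : Set G)) : G) = g * x * g⁻¹ := rfl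

theorem conjCent_zel (g d : G) : conjCent g d (zel d) = zel (g * d * g⁻¹) := rfl

/-- The local hypothesis at a member `d` of `D`. -/
def LocAt {F : Type v} [Field F] [Fintype F] (hF : Fintype.card F = 2 ^ 2) (D : Set G) (d : G) :
    Prop :=
  ∃ (π : Subgroup.centralizer ({d} : Set G) →* PSU 6 F 2)
    (lift : (Fin 6 → F) → Subgroup.centralizer ({d} : Set G)),
    Lab hF π (zel d) (zel d) lift ∧
      ∀ x : Subgroup.centralizer ({d} : Set G), (x : G) ∈ D ↔ x = zel d ∨ x ∈ Dset lift

/-- The local hypothesis at all members of `D`. -/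
def Loc {F : Type v} [Field F] [Fintype F] (hF : Fintype.card F = 2 ^ 2) (D : Set G) : Prop :=
  ∀ d ∈ D, LocAt hF D d

/-- The local hypothesis is inherited by conjugates. -/
theorem LocAt.conj {F : Type v} [Field F] [Fintype F] {hF : Fintype.card F = 2 ^ 2} {D : Set G}
    (hD : ∀ g : G, ∀ a ∈ D, g * a * g⁻¹ ∈ D) {d : G} (h : LocAt hF D d) (g : G) :
    LocAt hF D (g * d * g⁻¹) := by
  obtain ⟨π, lift, L, hL⟩ := h
  refine ⟨π.comp (conjCent g d).symm.toMonoidHom, fun v => conjCent g d (lift v),
    lab_transport L (conjCent g d), ?_⟩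
  intro x
  obtain ⟨x, rfl⟩ := (conjCent g d).surjective x
  have h1 : ((conjCent g d x : Subgroup.centralizer ({g * d * g⁻¹} : Set G)) : G) ∈ D ↔
      (x : G) ∈ D := by
    rw [coe_conjCent]
    constructor
    · intro h
      have := hD g⁻¹ _ h
      have h2 : g⁻¹ * (g * (x : G) * g⁻¹) * g⁻¹⁻¹ = x := by group
      rwa [h2] at this
    · exact hD g _
  rw [h1, hL, mem_Dset_transport, ← conjCent_zel, (conjCent g d).injective.eq_iff]

/-- From one member to the whole class. -/
theorem loc_of_locAt {F : Type v} [Field F] [Fintype F] {hF : Fintype.card F = 2 ^ 2} {d : G}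
    (h : LocAt hF (conjugatesOf d) d) : Loc hF (conjugatesOf d) := by
  have hD : ∀ g : G, ∀ a ∈ conjugatesOf d, g * a * g⁻¹ ∈ conjugatesOf d := by
    intro g a ha
    exact IsConj.trans (show IsConj d a from ha) (isConj_iff.2 ⟨g, rfl⟩)
  intro x hx
  obtain ⟨g, rfl⟩ := isConj_iff.1 (show IsConj d x from hx)
  exact h.conj hD g

end Cfsg.Agent.R01.Loc
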