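import Cfsg.Agent.R01.Frames

/-!
Squares in a double cover of `PSU 6 F 2`: products of lifts of commuting transvections.
-/

set_option autoImplicit false
set_option linter.unusedSectionVars false

namespace Cfsg.Agent.R01.Squares

open Cfsg Cfsg.Agent.LieClassical.HermBasic Cfsg.Agent.ClassicalGeometry.UnitTransv
open Cfsg.Agent.SporadicStructure.UnitTwo Cfsg.Agent.R01.PSUSix Cfsg.Agent.R01.Lifts
open Cfsg.Agent.R01.Lam Cfsg.Agent.R01.Frames
open Cfsg.Agent.ClassicalGeometry.UnitAutBasic (tau pr pr_surjective)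

section Abstract

variable {C : Type*} [Group C]

theorem sq_comm {a b : C} (h : Commute a b) (ha : a * a = 1) (hb : b * b = 1) :
    (a * b) * (a * b) = 1 := by
  calc (a * b) * (a * b) = a * (b * a) * b := by group
    _ = a * (a * b) * b := by rw [h.eq]
    _ = (a * a) * (b * b) := by group
    _ = 1 := by rw [ha, hb, one_mul]

/-- The square of `p * x` for an involution `p`. -/
theorem sq_conj {p x : C} (hp : p * p = 1) : (p * x) * (p * x) = (p * x * p⁻¹) * x := by
  have : p⁻¹ = p := inv_eq_of_mul_eq_one_left hp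
  rw [this]
  group

/-- A commuting set lies in the image of a commutative group. -/
theorem exists_comm.{u} {C : Type u} [Group C] (s : Set C) (hs : ∀ x ∈ s, ∀ y ∈ s, x * y = y * x) :
    ∃ (H : Type u) (_ : CommGroup H) (φ : H →* C), Function.Injective φ ∧
      ∀ x ∈ s, ∃ h, φ h = x := by
  have h : IsMulCommutative (Subgroup.closure s) := Subgroup.isMulCommutative_closure hs
  let _ : CommGroup (Subgroup.closure s) :=
    { (inferInstance : Group (Subgroup.closure s)) with mul_comm := h.is_comm.comm }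
  exact ⟨Subgroup.closure s, inferInstance, (Subgroup.closure s).subtype,
    Subtype.val_injective, fun x hx => ⟨⟨x, Subgroup.subset_closure hx⟩, rfl⟩⟩

end Abstract

universe u₁ u₂

variable {F : Type u₁} [Field F] [Fintype F] {hF : Fintype.card F = 2 ^ 2}
variable {C : Type u₂} [Group C] {π : C →* PSU 6 F 2} {z : C} {lam : (Fin 6 → F) → C}
variable (S : LamSys hF π z lam)
include S

theorem exists_lift (s : SU 6 F 2) : ∃ c : C, ∀ v, hermForm 6 F 2 v v = 0 →
    c * lam v * c⁻¹ = lam (act s v) := by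
  obtain ⟨c, hc⟩ := S.ext.surj (pr 6 F 2 s)
  exact ⟨c, fun v hv => S.conj c s v hv hc⟩

theorem z_comm (c : C) : c * z = z * c := S.ext.comm c

theorem conj_z (c : C) : c * z * c⁻¹ = z := by rw [z_comm S, mul_inv_cancel_right]

/-- Transitivity on frames. -/
theorem trans3 {u v w u' v' w' : Fin 6 → F} (h : TI3 u v w) (h' : TI3 u' v' w') :
    ∃ c : C, c * lam u * c⁻¹ = lam u' ∧ c * lam v * c⁻¹ = lam v' ∧ c * lam w * c⁻¹ = lam w' := by
  obtain ⟨ω, hω⟩ := exists_omega hF
  have key : ∀ {u v w : Fin 6 → F}, TI3 u v w → ∃ c : C, c * lam (E 0) * c⁻¹ = lam u ∧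
      c * lam (E 1) * c⁻¹ = lam v ∧ c * lam (E 2) * c⁻¹ = lam w := by
    intro u v w h
    obtain ⟨s, a, ha, h0, h1, h2⟩ := trans_frames hF hω h
    obtain ⟨c, hc⟩ := exists_lift S s
    have hE : ∀ i, hermForm 6 F 2 (E i : Fin 6 → F) (E i) = 0 :=
      fun i => (hyp_std hF hω).gg i i
    refine ⟨c, ?_, ?_, ?_⟩
    · rw [hc _ (hE 0), h0, S.smul a u ha h.uu]
    · rw [hc _ (hE 1), h1]
    · rw [hc _ (hE 2), h2]
  obtain ⟨c, h1, h2, h3⟩ := key h
  obtain ⟨c', h1', h2', h3'⟩ := key h'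
  refine ⟨c' * c⁻¹, ?_, ?_, ?_⟩
  · rw [← h1, ← h1']; group
  · rw [← h2, ← h2']; group
  · rw [← h3, ← h3']; group

/-- Conjugation realising a conjugation in `PSU`. -/
theorem conj_eq {c : C} {v w : Fin 6 → F} (hv : hermForm 6 F 2 v v = 0)
    (hw : hermForm 6 F 2 w w = 0) (hw0 : w ≠ 0) (h : π c * tau hF v * (π c)⁻¹ = tau hF w) :
    c * lam v * c⁻¹ = lam w := by
  obtain ⟨s, hs⟩ := pr_surjective (π c)
  have h1 := S.conj c s v hv hs.symm
  rw [h1]
  rw [← hs, conj_tau hF s hv] at h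
  have h2 : hermForm 6 F 2 (act s v) (act s v) = 0 := by rw [herm_act, hv]
  obtain ⟨a, ha, hva⟩ := (tau_eq_iff hF (by norm_num) hw h2 hw0).1 h.symm
  rw [hva, S.smul a w ha hw]

omit S in
theorem ti2_ne {u v : Fin 6 → F} (h : TI2 u v) : u ≠ 0 ∧ v ≠ 0 ∧ ¬ ∃ c : F, c ≠ 0 ∧ v = c • u := by
  refine ⟨?_, ?_, ?_⟩
  · rintro rfl
    have := h.ind 1 0 (by simp)
    simp at this
  · rintro rfl
    have := h.ind 0 1 (by simp)
    simp at this
  · rintro ⟨c, -, hc⟩
    have := (h.ind c (-1) (by rw [hc]; simp)).2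
    simp at this

/-- Transitivity on pairs. -/
theorem trans2 {u v u' v' : Fin 6 → F} (h : TI2 u v) (h' : TI2 u' v') :
    ∃ c : C, c * lam u * c⁻¹ = lam u' ∧ c * lam v * c⁻¹ = lam v' := by
  obtain ⟨hu0, hv0, hne⟩ := ti2_ne h
  obtain ⟨hu0', hv0', hne'⟩ := ti2_ne h'
  obtain ⟨g, h1, h2⟩ := trans_commuting hF (n := 6) (by norm_num) _ (tau_mem hF hu0 h.uu) _
    (tau_mem hF hv0 h.vv) _ (tau_mem hF hu0' h'.uu) _ (tau_mem hF hv0' h'.vv)
    (fun hh => hne ((tau_eq_iff hF (by norm_num) h.uu h.vv hu0).1 hh))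
    (fun hh => hne' ((tau_eq_iff hF (by norm_num) h'.uu h'.vv hu0').1 hh))
    ((tau_commute_iff hF (by norm_num) h.uu h.vv hu0).2 h.uv)
    ((tau_commute_iff hF (by norm_num) h'.uu h'.vv hu0').2 h'.uv)
  obtain ⟨c, rfl⟩ := S.ext.surj g
  exact ⟨c, conj_eq S h.uu h'.uu hu0' h1, conj_eq S h.vv h'.vv hv0' h2⟩

/-- Transitivity on points. -/
theorem trans1 {u v : Fin 6 → F} (hu : hermForm 6 F 2 u u = 0) (hu0 : u ≠ 0)
    (hv : hermForm 6 F 2 v v = 0) (hv0 : v ≠ 0) : ∃ c : C, c * lam u * c⁻¹ = lam v := by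
  obtain ⟨s, a, ha, hs⟩ := exists_map hF u v hu0 hv0 hu hv
  obtain ⟨c, hc⟩ := exists_lift S s
  exact ⟨c, by rw [hc u hu, hs, S.smul a v ha hv]⟩


omit S in
theorem ti3_pair {u v w : Fin 6 → F} (h : TI3 u v w) : TI2 u v :=
  ⟨h.uu, h.vv, h.uv, fun a b hab =>
    ⟨(h.ind a b 0 (by rw [zero_smul, add_zero, hab])).1,
      (h.ind a b 0 (by rw [zero_smul, add_zero, hab])).2.1⟩⟩

omit S in
theorem ti3_std (hF : Fintype.card F = 2 ^ 2) : TI3 (E 0 : Fin 6 → F) (E 1) (E 2) := by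
  obtain ⟨ω, hω⟩ := exists_omega hF
  have H := hyp_std (F := F) hF hω
  refine ⟨H.gg 0 0, H.gg 1 1, H.gg 2 2, H.gg 0 1, H.gg 0 2, H.gg 1 2, fun a b c h => ?_⟩
  have h0 := congrArg (fun v => hermForm 6 F 2 v (P ω 0)) h
  have h1 := congrArg (fun v => hermForm 6 F 2 v (P ω 1)) h
  have h2 := congrArg (fun v => hermForm 6 F 2 v (P ω 2)) h
  simp only [herm_add_left, herm_smul_left, H.gk, herm_zero_left] at h0 h1 h2
  simp at h0 h1 h2
  exact ⟨h0, h1, h2⟩

omit S in
theorem TI3.herm {u v w : Fin 6 → F} (hF : Fintype.card F = 2 ^ 2) (h : TI3 u v w)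
    (a b c a' b' c' : F) :
    hermForm 6 F 2 (a • u + b • v + c • w) (a' • u + b' • v + c' • w) = 0 := by
  simp only [herm_add_left, herm_add_right hF, herm_smul_left, herm_smul_right, h.uu, h.uv, h.uw,
    h.vv, h.vw, h.ww, herm_eq_zero_swap hF h.uv, herm_eq_zero_swap hF h.uw,
    herm_eq_zero_swap hF h.vw, mul_zero, add_zero]

/-- The lifts attached to a totally isotropic space lie in a commutative group. -/
theorem exists_comm3 {u v w : Fin 6 → F} (h : TI3 u v w) :
    ∃ (H : Type u₂) (_ : CommGroup H) (φ : H →* C) (l : F → F → F → H), Function.Injective φ ∧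
      (∀ a b c, φ (l a b c) = lam (a • u + b • v + c • w)) ∧ ∀ a b c, l a b c * l a b c = 1 := by
  obtain ⟨H, i, φ, hφ, hs⟩ := exists_comm (lam '' {x | ∃ a b c : F, x = a • u + b • v + c • w}) (by
    rintro _ ⟨_, ⟨a, b, c, rfl⟩, rfl⟩ _ ⟨_, ⟨a', b', c', rfl⟩, rfl⟩
    exact S.comm' (TI3.herm hF h _ _ _ _ _ _) (TI3.herm hF h _ _ _ _ _ _)
      (TI3.herm hF h _ _ _ _ _ _))
  choose l hl using fun a b c => hs _ ⟨_, ⟨a, b, c, rfl⟩, rfl⟩
  refine ⟨H, i, φ, l, hφ, hl, fun a b c => hφ ?_⟩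
  rw [map_mul, hl, map_one, S.sq _ (TI3.herm hF h _ _ _ _ _ _)]

/-- (2a): the lift of a transvection is a square. -/
theorem lam_sq {t : Fin 6 → F} (ht : hermForm 6 F 2 t t = 0) : ∃ s : C, s * s = lam t := by
  obtain ⟨ω, hω⟩ := exists_omega hF
  have h2 := two_eq_zero hF
  have h3 : ω ^ 3 = 1 := omega_cubed hω
  by_cases ht0 : t = 0
  · exact ⟨1, by rw [ht0, S.zero, one_mul]⟩
  have H := hyp_std (F := F) hF hω
  -- the special case
  have key : ∃ s : C, s * s = lam (E 0) := by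
    have e00 := H.gg 0 0
    have e01 := H.gg 0 1
    have e10 := H.gg 1 0
    have e11 := H.gg 1 1
    have p11 := H.kk 1 1
    have ep01 : hermForm 6 F 2 (E 0) (P ω 1) = 0 := by simpa using H.gk 0 1
    have ep11 : hermForm 6 F 2 (E 1) (P ω 1) = 1 := by simpa using H.gk 1 1
    have pe10 : hermForm 6 F 2 (P ω 1) (E 0) = 0 := by simpa using H.kg hF 1 0
    have pe11 : hermForm 6 F 2 (P ω 1) (E 1) = 1 := by simpa using H.kg hF 1 1
    -- `a = lam x * lam (x + t)`, `b = lam y * lam (y + ω t)`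
    have i1 : hermForm 6 F 2 (E 1 + E 0 : Fin 6 → F) (E 1 + E 0) = 0 := by
      simp only [herm_add_left, herm_add_right hF, e00, e01, e10, e11, add_zero]
    have i2 : hermForm 6 F 2 (P ω 1 + ω • E 0) (P ω 1 + ω • E 0) = 0 := by
      simp only [herm_add_left, herm_add_right hF, herm_smul_left, herm_smul_right, e00, p11, ep01,
        pe10, mul_zero, add_zero]
    have ca : Commute (lam (E 1)) (lam (E 1 + E 0)) := S.comm' e11 i1 (by
      simp only [herm_add_right hF, e11, e10, add_zero])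
    have cb : Commute (lam (P ω 1)) (lam (P ω 1 + ω • E 0)) := S.comm' p11 i2 (by
      simp only [herm_add_right hF, herm_smul_right, p11, pe10, mul_zero, add_zero])
    have hb := sq_comm cb (S.sq _ p11) (S.sq _ i2)
    refine ⟨(lam (P ω 1) * lam (P ω 1 + ω • E 0)) * (lam (E 1) * lam (E 1 + E 0)), ?_⟩
    rw [sq_conj hb]
    have hA := (S.acts_lam p11).mul (S.acts_lam i2)
    have hA1 := (hA (E 1) e11).2
    have hA2 := (hA (E 1 + E 0) i1).2
    have f1 : hermForm 6 F 2 (E 1) (P ω 1 + ω • E 0) = 1 := by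
      simp only [herm_add_right hF, herm_smul_right, ep11, e10, mul_zero, add_zero]
    have f2 : hermForm 6 F 2 (E 1 + E 0) (P ω 1 + ω • E 0) = 1 := by
      simp only [herm_add_right hF, herm_smul_right, herm_add_left, ep11, ep01, e00, e10, mul_zero,
        add_zero]
    have g1 : hermForm 6 F 2 (E 1 + (P ω 1 + ω • E 0)) (P ω 1) = 1 := by
      simp only [herm_add_left, herm_smul_left, ep11, p11, ep01, mul_zero, add_zero]
    have g2 : hermForm 6 F 2 (E 1 + E 0 + (P ω 1 + ω • E 0)) (P ω 1) = 1 := by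
      simp only [herm_add_left, herm_smul_left, ep11, p11, ep01, mul_zero, add_zero]
    simp only [f1, f2, one_smul, g1, g2] at hA1 hA2
    have v1 : E 1 + (P ω 1 + ω • E 0) + P ω 1 = ω • E 0 + E 1 := by
      rw [← sub_eq_zero]
      funext i
      simp only [Pi.add_apply, Pi.sub_apply, Pi.smul_apply, smul_eq_mul, Pi.zero_apply]
      linear_combination (P ω 1 i) * h2
    have v2 : E 1 + E 0 + (P ω 1 + ω • E 0) + P ω 1 = ω ^ 2 • E 0 + E 1 := by
      rw [← sub_eq_zero]
      funext i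
      simp only [Pi.add_apply, Pi.sub_apply, Pi.smul_apply, smul_eq_mul, Pi.zero_apply]
      linear_combination (P ω 1 i + E 0 i + ω * E 0 i) * h2 - E 0 i * hω
    rw [v1] at hA1
    rw [v2] at hA2
    have hab : (lam (P ω 1) * lam (P ω 1 + ω • E 0)) * (lam (E 1) * lam (E 1 + E 0)) *
        (lam (P ω 1) * lam (P ω 1 + ω • E 0))⁻¹ = lam (ω • E 0 + E 1) * lam (ω ^ 2 • E 0 + E 1) := by
      rw [← hA1, ← hA2]
      group
    rw [hab]
    have hl := S.line (E 0) (E 1) ω e00 e11 e01 (by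
      intro x y hxy
      have h0 := congrArg (fun v => hermForm 6 F 2 v (P ω 0)) hxy
      have h1 := congrArg (fun v => hermForm 6 F 2 v (P ω 1)) hxy
      have ep00 : hermForm 6 F 2 (E 0) (P ω 0) = 1 := by simpa using H.gk 0 0
      have ep10 : hermForm 6 F 2 (E 1) (P ω 0) = 0 := by simpa using H.gk 1 0
      simp only [herm_add_left, herm_smul_left, ep00, ep10, ep01, ep11, herm_zero_left] at h0 h1
      constructor
      · linear_combination h0
      · linear_combination h1) hω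
    have h012 : TI3 (E 0 : Fin 6 → F) (E 1) (E 2) := ti3_std hF
    obtain ⟨K, iK, φ, l, hφ, hl1, hl2⟩ := exists_comm3 S h012
    have q1 : lam (E 0) = φ (l 1 0 0) := by rw [hl1]; simp
    have q2 : lam (E 1) = φ (l 0 1 0) := by rw [hl1]; simp
    have q3 : lam (E 0 + E 1) = φ (l 1 1 0) := by rw [hl1]; simp
    have q4 : lam (ω • E 0 + E 1) = φ (l ω 1 0) := by rw [hl1]; simp
    have q5 : lam (ω ^ 2 • E 0 + E 1) = φ (l (ω ^ 2) 1 0) := by rw [hl1]; simp
    rw [add_comm (E 1) (E 0), q1, q2, q3, q4, q5, ← map_mul, ← map_mul, ← map_mul]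
    rw [q1, q2, q3, q4, q5, ← map_mul, ← map_mul, ← map_mul, ← map_mul, ← map_one φ] at hl
    have hl' := hφ hl
    congr 1
    have := hl2 1 0 0
    calc l ω 1 0 * l (ω ^ 2) 1 0 * (l 0 1 0 * l 1 1 0)
        = (l 1 0 0 * l 1 0 0) * (l ω 1 0 * l (ω ^ 2) 1 0 * (l 0 1 0 * l 1 1 0)) := by
          rw [this, one_mul]
      _ = l 1 0 0 * (l 1 0 0 * l 0 1 0 * l 1 1 0 * l ω 1 0 * l (ω ^ 2) 1 0) := by
          ac_rfl
      _ = l 1 0 0 := by rw [hl', mul_one]
  obtain ⟨s, hs⟩ := key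
  have hE : (E 0 : Fin 6 → F) ≠ 0 := (ti2_ne (ti3_pair (ti3_std hF))).1
  obtain ⟨c, hc⟩ := trans1 S (H.gg 0 0) hE ht ht0
  exact ⟨c * s * c⁻¹, by rw [← hc, ← hs]; group⟩


omit S in
theorem vadd_cancel (hF : Fintype.card F = 2 ^ 2) (x y : Fin 6 → F) : x + y + y = x := by
  rw [add_assoc, vadd_self hF, add_zero]

/-- (2b): a product of two lifts of commuting transvections is a square. -/
theorem pair_sq {u v : Fin 6 → F} (h : TI2 u v) : ∃ s : C, s * s = lam u * lam v := by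
  obtain ⟨ω, hω⟩ := exists_omega hF
  have H := hyp_std (F := F) hF hω
  have T := ti3_std (F := F) hF
  have e00 := H.gg 0 0
  have e01 := H.gg 0 1
  have e10 := H.gg 1 0
  have e11 := H.gg 1 1
  have p00 := H.kk 0 0
  have ep00 : hermForm 6 F 2 (E 0) (P ω 0) = 1 := by simpa using H.gk 0 0
  have ep10 : hermForm 6 F 2 (E 1) (P ω 0) = 0 := by simpa using H.gk 1 0
  have pe01 : hermForm 6 F 2 (P ω 0) (E 1) = 0 := by simpa using H.kg hF 0 1
  have i1 : hermForm 6 F 2 (P ω 0 + E 1) (P ω 0 + E 1) = 0 := by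
    simp only [herm_add_left, herm_add_right hF, p00, pe01, ep10, e11, add_zero]
  have ca : Commute (lam (P ω 0)) (lam (P ω 0 + E 1)) := S.comm' p00 i1 (by
    simp only [herm_add_right hF, p00, pe01, add_zero])
  have ha := sq_comm ca (S.sq _ p00) (S.sq _ i1)
  have hA := ((S.acts_lam p00).mul (S.acts_lam i1) (E 0) e00).2
  have f1 : hermForm 6 F 2 (E 0) (P ω 0 + E 1) = 1 := by
    simp only [herm_add_right hF, ep00, e01, add_zero]
  have g1 : hermForm 6 F 2 (E 0 + (P ω 0 + E 1)) (P ω 0) = 1 := by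
    simp only [herm_add_left, ep00, p00, ep10, add_zero]
  simp only [f1, one_smul, g1] at hA
  have v1 : E 0 + (P ω 0 + E 1) + P ω 0 = (E 0 + E 1 : Fin 6 → F) := by
    have := vadd_cancel hF (E 0 + E 1) (P ω 0)
    rw [← this]
    abel
  rw [v1] at hA
  have key : ∃ s : C, s * s = lam (E 0 + E 1) * lam (E 0) :=
    ⟨lam (P ω 0) * lam (P ω 0 + E 1) * lam (E 0), by rw [sq_conj ha, hA]⟩
  have T2 : TI2 (E 0 + E 1 : Fin 6 → F) (E 0) := by
    refine ⟨?_, e00, ?_, fun a b hab => ?_⟩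
    · simp only [herm_add_left, herm_add_right hF, e00, e01, e10, e11, add_zero]
    · simp only [herm_add_left, e00, e10, add_zero]
    · have h1 := T.ind (a + b) a 0 (by rw [← hab]; module)
      refine ⟨h1.2.1, ?_⟩
      have := h1.1
      rw [h1.2.1, zero_add] at this
      exact this
  obtain ⟨s, hs⟩ := key
  obtain ⟨c, hc1, hc2⟩ := trans2 S T2 h
  refine ⟨c * s * c⁻¹, ?_⟩
  rw [← hc1, ← hc2]
  calc c * s * c⁻¹ * (c * s * c⁻¹) = c * (s * s) * c⁻¹ := by group
    _ = c * lam (E 0 + E 1) * c⁻¹ * (c * lam (E 0) * c⁻¹) := by rw [hs]; group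

end Cfsg.Agent.R01.Squares

namespace Cfsg.Agent.R01.Squares

open Cfsg Cfsg.Agent.LieClassical.HermBasic Cfsg.Agent.ClassicalGeometry.UnitTransv
open Cfsg.Agent.SporadicStructure.UnitTwo Cfsg.Agent.R01.PSUSix Cfsg.Agent.R01.Lifts
open Cfsg.Agent.R01.Lam Cfsg.Agent.R01.Frames
open Cfsg.Agent.ClassicalGeometry.UnitAutBasic (tau pr pr_surjective)

universe u₁ u₂

variable {F : Type u₁} [Field F] [Fintype F] {hF : Fintype.card F = 2 ^ 2}
variable {C : Type u₂} [Group C] {π : C →* PSU 6 F 2} {z : C} {lam : (Fin 6 → F) → C}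

/-- A Baer subplane with product `z`. -/
structure Baer (z : C) (lam : (Fin 6 → F) → C) (u v w : Fin 6 → F) : Prop where
  ti : TI3 u v w
  prod : lam u * lam v * lam w * lam (u + v) * lam (u + w) * lam (v + w) * lam (u + v + w) = z

variable (S : LamSys hF π z lam) {ω : F} (hω : ω ^ 2 + ω + 1 = 0)
variable {u v w : Fin 6 → F} (B : Baer z lam u v w)
include S hω B

theorem quad : lam u * lam v * lam (u + w) * lam (v + w) =
    z * (lam (ω • (u + v) + w) * lam (ω ^ 2 • (u + v) + w)) := by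
  obtain ⟨K, iK, φ, l, hφ, hl1, hl2⟩ := exists_comm3 S B.ti
  have q1 : lam u = φ (l 1 0 0) := by rw [hl1]; simp
  have q2 : lam v = φ (l 0 1 0) := by rw [hl1]; simp
  have q3 : lam w = φ (l 0 0 1) := by rw [hl1]; simp
  have q4 : lam (u + v) = φ (l 1 1 0) := by rw [hl1]; simp
  have q5 : lam (u + w) = φ (l 1 0 1) := by rw [hl1]; simp
  have q6 : lam (v + w) = φ (l 0 1 1) := by rw [hl1]; simp
  have q7 : lam (u + v + w) = φ (l 1 1 1) := by rw [hl1]; simp
  have q8 : lam (ω • (u + v) + w) = φ (l ω ω 1) := by rw [hl1]; simp [smul_add]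
  have q9 : lam (ω ^ 2 • (u + v) + w) = φ (l (ω ^ 2) (ω ^ 2) 1) := by rw [hl1]; simp [smul_add]
  have hl := S.line (u + v) w ω
    (by simpa using TI3.herm hF B.ti 1 1 0 1 1 0) B.ti.ww
    (by simpa using TI3.herm hF B.ti 1 1 0 0 0 1) (by
      intro x y hxy
      have := B.ti.ind x x y (by rw [← hxy]; module)
      exact ⟨this.1, this.2.2⟩) hω
  have hp := B.prod
  rw [q4, q3, q7, q8, q9, ← map_mul, ← map_mul, ← map_mul, ← map_mul, ← map_one φ] at hl
  have hl' := hφ hl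
  rw [← hp, q1, q2, q3, q4, q5, q6, q7, q8, q9]
  simp only [← map_mul]
  congr 1
  calc l 1 0 0 * l 0 1 0 * l 1 0 1 * l 0 1 1
      = l 1 0 0 * l 0 1 0 * l 1 0 1 * l 0 1 1 *
        (l 1 1 0 * l 0 0 1 * l 1 1 1 * l ω ω 1 * l (ω ^ 2) (ω ^ 2) 1) := by rw [hl', mul_one]
    _ = _ := by ac_rfl

theorem ti_pq : TI2 (ω • (u + v) + w) (ω ^ 2 • (u + v) + w) := by
  have h1 := TI3.herm hF B.ti ω ω 1 ω ω 1
  have h2 := TI3.herm hF B.ti (ω ^ 2) (ω ^ 2) 1 (ω ^ 2) (ω ^ 2) 1
  have h3 := TI3.herm hF B.ti ω ω 1 (ω ^ 2) (ω ^ 2) 1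
  refine ⟨by simpa [smul_add] using h1, by simpa [smul_add] using h2, by simpa [smul_add] using h3,
    fun a b hab => ?_⟩
  have h4 := B.ti.ind (a * ω + b * ω ^ 2) (a * ω + b * ω ^ 2) (a + b) (by rw [← hab]; module)
  have h5 := two_eq_zero hF
  have h6 : ω ≠ 0 := by
    rintro rfl
    simp at hω
  have h7 : b = a := by linear_combination h4.2.2 - a * h5
  have h8 : a = 0 := by
    have := h4.1
    rw [h7] at this
    linear_combination a * hω - this
  exact ⟨h8, by rw [h7, h8]⟩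

/-- (2c): the other product is a square as well. -/
theorem pair_sq_z {p q : Fin 6 → F} (h : TI2 p q) : ∃ s : C, s * s = z * (lam p * lam q) := by
  have hiso : ∀ i j, hermForm 6 F 2 (![u, v, w] i) (![u, v, w] j) = 0 := by
    intro i j
    fin_cases i <;> fin_cases j
    exacts [B.ti.uu, B.ti.uv, B.ti.uw, herm_eq_zero_swap hF B.ti.uv, B.ti.vv, B.ti.vw,
      herm_eq_zero_swap hF B.ti.uw, herm_eq_zero_swap hF B.ti.vw, B.ti.ww]
  have hli : LinearIndependent F ![u, v, w] := by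
    rw [Fintype.linearIndependent_iff]
    intro c hc
    rw [Fin.sum_univ_three] at hc
    obtain ⟨h0, h1, h2⟩ := B.ti.ind _ _ _ hc
    intro i
    fin_cases i
    exacts [h0, h1, h2]
  obtain ⟨k, hk1, hk2⟩ := Cfsg.Agent.ClassicalGeometry.HermFrame.exists_hyperbolic hF hli hiso
  have uk0 : hermForm 6 F 2 u (k 0) = 1 := by simpa using hk1 0 0
  have uk1 : hermForm 6 F 2 u (k 1) = 0 := by simpa using hk1 0 1
  have vk0 : hermForm 6 F 2 v (k 0) = 0 := by simpa using hk1 1 0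
  have vk1 : hermForm 6 F 2 v (k 1) = 1 := by simpa using hk1 1 1
  have wk0 : hermForm 6 F 2 w (k 0) = 0 := by simpa using hk1 2 0
  have wk1 : hermForm 6 F 2 w (k 1) = 0 := by simpa using hk1 2 1
  set x := k 0 + k 1 with hx
  have xx : hermForm 6 F 2 x x = 0 := by
    simp only [hx, herm_add_left, herm_add_right hF, hk2, add_zero]
  have ux : hermForm 6 F 2 u x = 1 := by simp only [hx, herm_add_right hF, uk0, uk1, add_zero]
  have vx : hermForm 6 F 2 v x = 1 := by simp only [hx, herm_add_right hF, vk0, vk1, zero_add]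
  have wx : hermForm 6 F 2 w x = 0 := by simp only [hx, herm_add_right hF, wk0, wk1, zero_add]
  have xw := herm_eq_zero_swap hF wx
  have xwxw : hermForm 6 F 2 (x + w) (x + w) = 0 := by
    simp only [herm_add_left, herm_add_right hF, xx, xw, wx, B.ti.ww, add_zero]
  have ca : Commute (lam x) (lam (x + w)) := S.comm' xx xwxw (by
    simp only [herm_add_right hF, xx, xw, add_zero])
  have ha := sq_comm ca (S.sq _ xx) (S.sq _ xwxw)
  have A1 : lam x * lam (x + w) * lam u * (lam x * lam (x + w))⁻¹ = lam (u + w) := by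
    have hA := ((S.acts_lam xx).mul (S.acts_lam xwxw) u B.ti.uu).2
    have f1 : hermForm 6 F 2 u (x + w) = 1 := by
      simp only [herm_add_right hF, ux, B.ti.uw, add_zero]
    have g1 : hermForm 6 F 2 (u + (x + w)) x = 1 := by
      simp only [herm_add_left, ux, xx, wx, add_zero]
    simp only [f1, one_smul, g1] at hA
    rw [hA]
    congr 1
    have := vadd_cancel hF (u + w) x
    rw [← this]
    abel
  have A2 : lam x * lam (x + w) * lam v * (lam x * lam (x + w))⁻¹ = lam (v + w) := by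
    have hA := ((S.acts_lam xx).mul (S.acts_lam xwxw) v B.ti.vv).2
    have f1 : hermForm 6 F 2 v (x + w) = 1 := by
      simp only [herm_add_right hF, vx, B.ti.vw, add_zero]
    have g1 : hermForm 6 F 2 (v + (x + w)) x = 1 := by
      simp only [herm_add_left, vx, xx, wx, add_zero]
    simp only [f1, one_smul, g1] at hA
    rw [hA]
    congr 1
    have := vadd_cancel hF (v + w) x
    rw [← this]
    abel
  have key : ∃ s : C, s * s =
      z * (lam (ω • (u + v) + w) * lam (ω ^ 2 • (u + v) + w)) := by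
    refine ⟨lam x * lam (x + w) * (lam u * lam v), ?_⟩
    rw [sq_conj ha, ← quad S hω B]
    have A3 : lam x * lam (x + w) * (lam u * lam v) * (lam x * lam (x + w))⁻¹ =
        lam (u + w) * lam (v + w) := by
      rw [← A1, ← A2]
      group
    rw [A3]
    have i1 := TI3.herm hF B.ti 1 0 1 1 0 1
    have i2 := TI3.herm hF B.ti 0 1 1 0 1 1
    have c1 : Commute (lam u) (lam (u + w)) := S.comm' B.ti.uu (by simpa using i1)
      (by simpa using TI3.herm hF B.ti 1 0 0 1 0 1)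
    have c2 : Commute (lam u) (lam (v + w)) := S.comm' B.ti.uu (by simpa using i2)
      (by simpa using TI3.herm hF B.ti 1 0 0 0 1 1)
    have c3 : Commute (lam v) (lam (u + w)) := S.comm' B.ti.vv (by simpa using i1)
      (by simpa using TI3.herm hF B.ti 0 1 0 1 0 1)
    have c4 : Commute (lam v) (lam (v + w)) := S.comm' B.ti.vv (by simpa using i2)
      (by simpa using TI3.herm hF B.ti 0 1 0 0 1 1)
    have c5 : Commute (lam u * lam v) (lam (u + w) * lam (v + w)) :=
      ((c1.mul_right c2).mul_left (c3.mul_right c4))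
    rw [← c5.eq]
    group
  obtain ⟨s, hs⟩ := key
  obtain ⟨c, hc1, hc2⟩ := trans2 S (ti_pq S hω B) h
  refine ⟨c * s * c⁻¹, ?_⟩
  rw [← hc1, ← hc2]
  calc c * s * c⁻¹ * (c * s * c⁻¹) = c * (s * s) * c⁻¹ := by group
    _ = (c * z * c⁻¹) * (c * lam (ω • (u + v) + w) * c⁻¹ *
        (c * lam (ω ^ 2 • (u + v) + w) * c⁻¹)) := by rw [hs]; group
    _ = _ := by rw [conj_z S]

/-- Rank three: the two lifts are conjugate. -/
theorem triple_conj {u' v' w' : Fin 6 → F} (h : TI3 u' v' w') :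
    ∃ c : C, c * (lam u' * lam v' * lam w') * c⁻¹ = z * (lam u' * lam v' * lam w') := by
  have h2 := two_eq_zero hF
  have h6 : ω ≠ 0 := by
    rintro rfl
    simp at hω
  have T1 : TI3 u v (u + w) := by
    refine ⟨B.ti.uu, B.ti.vv, by simpa using TI3.herm hF B.ti 1 0 1 1 0 1, B.ti.uv,
      by simpa using TI3.herm hF B.ti 1 0 0 1 0 1, by simpa using TI3.herm hF B.ti 0 1 0 1 0 1,
      fun a b c habc => ?_⟩
    have := B.ti.ind (a + c) b c (by rw [← habc]; module)
    refine ⟨?_, this.2.1, this.2.2⟩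
    linear_combination this.1 - this.2.2
  have T2 : TI3 (v + w) (ω • (u + v) + w) (ω ^ 2 • (u + v) + w) := by
    have hpq := ti_pq S hω B
    refine ⟨by simpa using TI3.herm hF B.ti 0 1 1 0 1 1, hpq.uu, hpq.vv,
      by simpa [smul_add] using TI3.herm hF B.ti 0 1 1 ω ω 1,
      by simpa [smul_add] using TI3.herm hF B.ti 0 1 1 (ω ^ 2) (ω ^ 2) 1, hpq.uv,
      fun a b c habc => ?_⟩
    have := B.ti.ind (b * ω + c * ω ^ 2) (a + b * ω + c * ω ^ 2) (a + b + c)
      (by rw [← habc]; module)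
    obtain ⟨k1, k2, k3⟩ := this
    have ha : a = 0 := by linear_combination k2 - k1
    have hb : b = c := by linear_combination k3 - ha - c * h2
    have hc : c = 0 := by
      rw [hb] at k1
      linear_combination c * hω - k1
    exact ⟨ha, by rw [hb, hc], hc⟩
  have hq := quad S hω B
  have i3 := TI3.herm hF B.ti 0 1 1 0 1 1
  have e1 : lam u * lam v * lam (u + w) =
      z * (lam (v + w) * lam (ω • (u + v) + w) * lam (ω ^ 2 • (u + v) + w)) := by
    have c1 : Commute (lam (v + w)) (lam (ω • (u + v) + w)) := S.comm' T2.uu T2.vv T2.uv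
    have c2 : Commute (lam (v + w)) (lam (ω ^ 2 • (u + v) + w)) := S.comm' T2.uu T2.ww T2.uw
    have hsq := S.sq _ T2.uu
    calc lam u * lam v * lam (u + w)
        = lam u * lam v * lam (u + w) * lam (v + w) * lam (v + w) := by
          rw [mul_assoc _ (lam (v + w)) (lam (v + w)), hsq, mul_one]
      _ = z * (lam (ω • (u + v) + w) * lam (ω ^ 2 • (u + v) + w)) * lam (v + w) := by rw [hq]
      _ = z * ((lam (ω • (u + v) + w) * lam (ω ^ 2 • (u + v) + w)) * lam (v + w)) := by group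
      _ = _ := by rw [← (c1.mul_right c2).eq]; group
  obtain ⟨c, hc1, hc2, hc3⟩ := trans3 S T2 T1
  obtain ⟨d, hd1, hd2, hd3⟩ := trans3 S T2 h
  have e2 : c * (lam (v + w) * lam (ω • (u + v) + w) * lam (ω ^ 2 • (u + v) + w)) * c⁻¹ =
      z * (lam (v + w) * lam (ω • (u + v) + w) * lam (ω ^ 2 • (u + v) + w)) := by
    rw [← e1, ← hc1, ← hc2, ← hc3]
    group
  have e3 : lam u' * lam v' * lam w' =
      d * (lam (v + w) * lam (ω • (u + v) + w) * lam (ω ^ 2 • (u + v) + w)) * d⁻¹ := by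
    rw [← hd1, ← hd2, ← hd3]
    group
  refine ⟨d * c * d⁻¹, ?_⟩
  rw [e3]
  set y := lam (v + w) * lam (ω • (u + v) + w) * lam (ω ^ 2 • (u + v) + w) with hy
  calc d * c * d⁻¹ * (d * y * d⁻¹) * (d * c * d⁻¹)⁻¹ = d * (c * y * c⁻¹) * d⁻¹ := by group
    _ = (d * z * d⁻¹) * (d * y * d⁻¹) := by rw [e2]; group
    _ = _ := by rw [conj_z S]

end Cfsg.Agent.R01.Squares
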