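import Cfsg.Agent.R01.Label
import Cfsg.Prelude.Def_CaseTheorems

/-!
The set-up of the two recognition theorems with a transposition centraliser.
-/

set_option autoImplicit false

namespace Cfsg.Agent.R01.Start

open Cfsg Cfsg.Agent.R01.Lifts

variable {G : Type*} [Group G] {U : Type*} [Group U]

theorem mem_self (d : G) : d ∈ Subgroup.centralizer ({d} : Set G) :=
  Subgroup.mem_centralizer_singleton_iff.2 rfl

/-- The central element of the centraliser. -/
def zel (d : G) : Subgroup.centralizer ({d} : Set G) := ⟨d, mem_self d⟩

/-- The projection. -/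
def proj (d : G) [((Subgroup.zpowers d).subgroupOf (Subgroup.centralizer ({d} : Set G))).Normal]
    (e : (Subgroup.centralizer ({d} : Set G)) ⧸
      (Subgroup.zpowers d).subgroupOf (Subgroup.centralizer ({d} : Set G)) ≃* U) :
    Subgroup.centralizer ({d} : Set G) →* U :=
  e.toMonoidHom.comp (QuotientGroup.mk' _)

theorem ext_proj (d : G) (hd : orderOf d = 2)
    [((Subgroup.zpowers d).subgroupOf (Subgroup.centralizer ({d} : Set G))).Normal]
    (e : (Subgroup.centralizer ({d} : Set G)) ⧸
      (Subgroup.zpowers d).subgroupOf (Subgroup.centralizer ({d} : Set G)) ≃* U) :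
    Ext (proj d e) (zel d) where
  surj := e.surjective.comp (QuotientGroup.mk'_surjective _)
  zz := by
    apply Subtype.ext
    show d * d = 1
    rw [← pow_two, ← hd, pow_orderOf_eq_one]
  zne := by
    intro h
    have h1 : d = 1 := congrArg Subtype.val h
    rw [h1, orderOf_one] at hd
    exact absurd hd (by norm_num)
  ker c := by
    have h1 : proj d e c = 1 ↔ (QuotientGroup.mk' ((Subgroup.zpowers d).subgroupOf
        (Subgroup.centralizer ({d} : Set G)))) c = 1 := by
      show e _ = 1 ↔ _
      exact map_eq_one_iff e e.injective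
    rw [h1, QuotientGroup.mk'_apply, QuotientGroup.eq_one_iff, Subgroup.mem_subgroupOf]
    have hdd : d ^ 2 = 1 := by rw [← hd, pow_orderOf_eq_one]
    constructor
    · intro h
      obtain ⟨k, hk⟩ := Subgroup.mem_zpowers_iff.1 h
      rcases Int.even_or_odd k with ⟨m, rfl⟩ | ⟨m, rfl⟩
      · left
        apply Subtype.ext
        rw [← hk, ← two_mul, zpow_mul, zpow_ofNat, hdd, one_zpow]
        rfl
      · right
        apply Subtype.ext
        rw [← hk, zpow_add, zpow_mul, zpow_ofNat, hdd, one_zpow, one_mul, zpow_one]
        rfl
    · rintro (rfl | rfl)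
      · exact one_mem _
      · exact Subgroup.mem_zpowers d
  comm c := by
    apply Subtype.ext
    exact Subgroup.mem_centralizer_singleton_iff.1 c.2

/-- A group whose central quotient by a subgroup is simple nonabelian... : quasisimple groups are
perfect. -/
theorem commutator_eq_top {H : Type*} [Group H] (h : IsQuasisimple H) : commutator H = ⊤ :=
  Group.isPerfect_def.1 h.1

/-- **The start of S1713.** For the centraliser `C` of `d` there are a projection to `PSU 6 K 2` with
kernel `{1, d}` and, for either choice `ε ∈ {1, d}`, a labelling of a class of 3-transpositions of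
`C` by the isotropic vectors of `K ^ 6`, with product `ε` of the elements on a line. -/
theorem exists_lab (d : G) (hd : orderOf d = 2)
    (hq : IsQuasisimple (Subgroup.centralizer ({d} : Set G)))
    [((Subgroup.zpowers d).subgroupOf (Subgroup.centralizer ({d} : Set G))).Normal]
    (K : Type*) [Field K] [Fintype K] (hK : Fintype.card K = 2 ^ 2)
    (e : (Subgroup.centralizer ({d} : Set G)) ⧸
      (Subgroup.zpowers d).subgroupOf (Subgroup.centralizer ({d} : Set G)) ≃* PSU 6 K 2)
    {ε : Subgroup.centralizer ({d} : Set G)} (hε : ε = 1 ∨ ε = zel d) :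
    ∃ lift : (Fin 6 → K) → Subgroup.centralizer ({d} : Set G),
      Label.Lab hK (proj d e) (zel d) ε lift :=
  Label.exists_lab hK (ext_proj d hd e) (commutator_eq_top hq) hε

end Cfsg.Agent.R01.Start
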