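import Cfsg.Agent.R01.BaerGrp

/-!
The sign of the Baer subplanes: in a perfect central extension of `PSU 6 F 2` by a group of order
two (with lifts of transvections normalised such that the products over totally isotropic lines
are 1) some product over a Baer subplane is not 1.
-/

set_option autoImplicit false
set_option linter.unusedSectionVars false

namespace Cfsg.Agent.R01.BaerSplit

open Cfsg Cfsg.Agent.LieClassical.HermBasic Cfsg.Agent.ClassicalGeometry.UnitTransv
open Cfsg.Agent.SporadicStructure.UnitTwo Cfsg.Agent.R01.PSUSix Cfsg.Agent.R01.Lifts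
open Cfsg.Agent.R01.Lam Cfsg.Agent.R01.BaerGrp
open Cfsg.Agent.ClassicalGeometry.UnitAutBasic (tau pr pr_surjective)

universe u

section Comm

variable {C : Type u} [Group C]

theorem comm_lift (P : Set C) (hP : ∀ x ∈ P, ∀ y ∈ P, x * y = y * x) :
    ∃ (K : Type u) (_ : CommGroup K) (ι : K →* C), Function.Injective ι ∧
      ∀ x ∈ P, ∃ k, ι k = x :=
  ⟨Subgroup.closure P, Subgroup.closureCommGroupOfComm hP, (Subgroup.closure P).subtype,
    Subtype.val_injective, fun x hx => ⟨⟨x, Subgroup.subset_closure hx⟩, rfl⟩⟩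

theorem five {P : Set C} (hP : ∀ x ∈ P, ∀ y ∈ P, x * y = y * x) (hsq : ∀ x ∈ P, x * x = 1)
    {a b c d e : C} (ha : a ∈ P) (hb : b ∈ P) (hc : c ∈ P) (hd : d ∈ P) (he : e ∈ P)
    (h : a * b * c * d * e = 1) : a * b * e = c * d := by
  have hcc := hsq c hc
  have hdd := hsq d hd
  obtain ⟨K, _, ι, hι, hk⟩ := comm_lift P hP
  obtain ⟨a, rfl⟩ := hk _ ha
  obtain ⟨b, rfl⟩ := hk _ hb
  obtain ⟨c, rfl⟩ := hk _ hc
  obtain ⟨d, rfl⟩ := hk _ hd
  obtain ⟨e, rfl⟩ := hk _ he
  rw [← map_mul, ← map_one ι] at hcc hdd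
  rw [← map_mul, ← map_mul, ← map_mul, ← map_mul, ← map_one ι] at h
  replace hcc := hι hcc
  replace hdd := hι hdd
  replace h := hι h
  rw [← map_mul, ← map_mul, ← map_mul]
  congr 1
  calc a * b * e = a * b * e * ((c * c) * (d * d)) := by rw [hcc, hdd, mul_one, mul_one]
    _ = (a * b * c * d * e) * (c * d) := by ac_rfl
    _ = c * d := by rw [h, one_mul]

theorem seven {P : Set C} (hP : ∀ x ∈ P, ∀ y ∈ P, x * y = y * x) (hsq : ∀ x ∈ P, x * x = 1)
    {p q r s t u v : C} (hp : p ∈ P) (hq : q ∈ P) (hr : r ∈ P) (hs : s ∈ P) (ht : t ∈ P)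
    (hu : u ∈ P) (hv : v ∈ P) (h : p * q * r * s * t * u * v = 1) :
    s * r * v = (p * r * t) * (q * r * u) := by
  have hss := hsq s hs
  have hvv := hsq v hv
  obtain ⟨K, _, ι, hι, hk⟩ := comm_lift P hP
  obtain ⟨p, rfl⟩ := hk _ hp
  obtain ⟨q, rfl⟩ := hk _ hq
  obtain ⟨r, rfl⟩ := hk _ hr
  obtain ⟨s, rfl⟩ := hk _ hs
  obtain ⟨t, rfl⟩ := hk _ ht
  obtain ⟨u, rfl⟩ := hk _ hu
  obtain ⟨v, rfl⟩ := hk _ hv
  rw [← map_mul, ← map_one ι] at hss hvv
  simp only [← map_mul] at h
  rw [← map_one ι] at h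
  replace hss := hι hss
  replace hvv := hι hvv
  replace h := hι h
  simp only [← map_mul]
  congr 1
  calc s * r * v = s * r * v * (p * q * r * s * t * u * v) := by rw [h, mul_one]
    _ = p * r * t * (q * r * u) * ((s * s) * (v * v)) := by ac_rfl
    _ = p * r * t * (q * r * u) := by rw [hss, hvv, mul_one, mul_one]

/-- Combining homomorphisms into an abelian subgroup. -/
theorem coprod_K {K : Subgroup C} (hK : ∀ x ∈ K, ∀ y ∈ K, x * y = y * x) {M N : Type*} [Group M]
    [Group N] (g : M →* C) (g' : N →* C) (hg : ∀ m, g m ∈ K) (hg' : ∀ n, g' n ∈ K) :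
    ∃ G : M × N →* C, (∀ m n, G (m, n) = g m * g' n) ∧ ∀ p, G p ∈ K :=
  ⟨MonoidHom.noncommCoprod g g' (fun m n => hK _ (hg m) _ (hg' n)), fun _ _ => rfl,
    fun p => mul_mem (hg p.1) (hg' p.2)⟩

end Comm

variable {F : Type*} [Field F] [Fintype F] {hF : Fintype.card F = 2 ^ 2}
variable {C : Type*} [Group C] {π : C →* PSU 6 F 2} {z : C} {lam : (Fin 6 → F) → C}

/-- Totally isotropic subspaces. -/
def TI (W : Submodule F (Fin 6 → F)) : Prop := ∀ u ∈ W, ∀ v ∈ W, hermForm 6 F 2 u v = 0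

theorem TI.span (hF : Fintype.card F = 2 ^ 2) {s : Set (Fin 6 → F)}
    (hs : ∀ u ∈ s, ∀ v ∈ s, hermForm 6 F 2 u v = 0) : TI (Submodule.span F s) := by
  intro u hu v hv
  refine Submodule.span_induction (p := fun u _ => hermForm 6 F 2 u v = 0) ?_ ?_ ?_ ?_ hu
  · intro x hx
    refine Submodule.span_induction (p := fun v _ => hermForm 6 F 2 x v = 0) ?_ ?_ ?_ ?_ hv
    · intro y hy; exact hs x hx y hy
    · exact herm_zero_right hF x
    · intro y y' _ _ h h'
      rw [herm_add_right hF, h, h', add_zero]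
    · intro a y _ h
      rw [herm_smul_right, h, mul_zero]
  · exact herm_zero_left v
  · intro y y' _ _ h h'
    rw [herm_add_left, h, h', add_zero]
  · intro a y _ h
    rw [herm_smul_left, h, mul_zero]

/-- The product `lam x * lam y * lam (x + y)`. -/
def bl (lam : (Fin 6 → F) → C) (x y : Fin 6 → F) : C := lam x * lam y * lam (x + y)

/-- All products over Baer subplanes are 1. -/
def NoBaer (lam : (Fin 6 → F) → C) : Prop :=
  ∀ u v w : Fin 6 → F, hermForm 6 F 2 u u = 0 → hermForm 6 F 2 v v = 0 → hermForm 6 F 2 w w = 0 →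
    hermForm 6 F 2 u v = 0 → hermForm 6 F 2 u w = 0 → hermForm 6 F 2 v w = 0 →
    (∀ a b c : F, a • u + b • v + c • w = 0 → a = 0 ∧ b = 0 ∧ c = 0) →
    lam u * lam v * lam w * lam (u + v) * lam (u + w) * lam (v + w) * lam (u + v + w) = 1

theorem Acts.congr {c : C} {f g : (Fin 6 → F) → (Fin 6 → F)} (h : Acts lam c f)
    (hfg : ∀ v, f v = g v) : Acts lam c g := by
  have : f = g := funext hfg
  rwa [← this]

section Sys

variable (S : LamSys hF π z lam)
include S

theorem bl_acts {x y : Fin 6 → F} (hx : hermForm 6 F 2 x x = 0) (hy : hermForm 6 F 2 y y = 0)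
    (hxy : hermForm 6 F 2 x y = 0) :
    Acts lam (bl lam x y) (fun v => v + hermForm 6 F 2 v x • y + hermForm 6 F 2 v y • x) := by
  have hyx := herm_eq_zero_swap hF hxy
  have hs : hermForm 6 F 2 (x + y) (x + y) = 0 := by
    rw [herm_add_left, herm_add_right hF, herm_add_right hF, hx, hy, hxy, hyx]
    simp
  refine Acts.congr (((S.acts_lam hx).mul (S.acts_lam hy)).mul (S.acts_lam hs)) ?_
  intro v
  simp only [herm_add_left, herm_smul_left, herm_add_right hF, hx, hy, hxy, hyx, mul_zero, add_zero]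
  have h2 := two_eq_zero hF
  funext i
  simp only [Pi.add_apply, Pi.smul_apply, smul_eq_mul]
  linear_combination (hermForm 6 F 2 v x * x i + hermForm 6 F 2 v y * y i) * h2

theorem comm_W {W : Submodule F (Fin 6 → F)} (hW : TI W) :
    ∀ x ∈ lam '' (W : Set (Fin 6 → F)), ∀ y ∈ lam '' (W : Set (Fin 6 → F)), x * y = y * x := by
  rintro _ ⟨u, hu, rfl⟩ _ ⟨v, hv, rfl⟩
  exact S.comm (hW u hu u hu) (hW v hv v hv) (hW v hv u hu)

theorem sq_W {W : Submodule F (Fin 6 → F)} (hW : TI W) :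
    ∀ x ∈ lam '' (W : Set (Fin 6 → F)), x * x = 1 := by
  rintro _ ⟨u, hu, rfl⟩
  exact S.sq u (hW u hu u hu)

theorem bl_zero_left {y : Fin 6 → F} (hy : hermForm 6 F 2 y y = 0) : bl lam 0 y = 1 := by
  rw [bl, S.zero, one_mul, zero_add, S.sq y hy]

theorem bl_zero_right {y : Fin 6 → F} (hy : hermForm 6 F 2 y y = 0) : bl lam y 0 = 1 := by
  rw [bl, S.zero, mul_one, add_zero, S.sq y hy]

theorem bl_sq {W : Submodule F (Fin 6 → F)} (hW : TI W) {x y : Fin 6 → F} (hx : x ∈ W)
    (hy : y ∈ W) : bl lam x y * bl lam x y = 1 := by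
  have hP := comm_W S hW
  have hsq := sq_W S hW
  have m1 : lam x ∈ lam '' (W : Set (Fin 6 → F)) := ⟨x, hx, rfl⟩
  have m2 : lam y ∈ lam '' (W : Set (Fin 6 → F)) := ⟨y, hy, rfl⟩
  have m3 : lam (x + y) ∈ lam '' (W : Set (Fin 6 → F)) := ⟨x + y, W.add_mem hx hy, rfl⟩
  have c1 : Commute (lam x) (lam y) := hP _ m1 _ m2
  have c2 : Commute (lam x) (lam (x + y)) := hP _ m1 _ m3
  have c3 : Commute (lam y) (lam (x + y)) := hP _ m2 _ m3
  rw [bl]
  calc lam x * lam y * lam (x + y) * (lam x * lam y * lam (x + y))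
      = lam x * lam y * (lam (x + y) * (lam x * lam y)) * lam (x + y) := by group
    _ = lam x * lam y * ((lam x * lam y) * lam (x + y)) * lam (x + y) := by
        rw [(c2.mul_left c3).eq]
    _ = lam x * (lam y * lam x) * lam y * (lam (x + y) * lam (x + y)) := by group
    _ = lam x * (lam x * lam y) * lam y * 1 := by rw [c1.eq, hsq _ m3]
    _ = (lam x * lam x) * (lam y * lam y) := by group
    _ = 1 := by rw [hsq _ m1, hsq _ m2, mul_one]

theorem lam_add {W : Submodule F (Fin 6 → F)} (hW : TI W) {x y : Fin 6 → F} (hx : x ∈ W)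
    (hy : y ∈ W) : lam (x + y) = lam x * lam y * bl lam x y := by
  have c1 : Commute (lam x) (lam y) := comm_W S hW _ ⟨x, hx, rfl⟩ _ ⟨y, hy, rfl⟩
  rw [bl]
  calc lam (x + y) = (lam x * lam x) * (lam y * lam y) * lam (x + y) := by
        rw [S.sq x (hW x hx x hx), S.sq y (hW y hy y hy), one_mul, one_mul]
    _ = lam x * (lam x * lam y) * lam y * lam (x + y) := by group
    _ = lam x * (lam y * lam x) * lam y * lam (x + y) := by rw [c1.eq]
    _ = lam x * lam y * (lam x * lam y * lam (x + y)) := by group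

theorem bl_smul_smul {x y : Fin 6 → F} (hx : hermForm 6 F 2 x x = 0)
    (hy : hermForm 6 F 2 y y = 0) (hxy : hermForm 6 F 2 x y = 0) {μ : F} (hμ : μ ≠ 0) :
    bl lam (μ • x) (μ • y) = bl lam x y := by
  have hyx := herm_eq_zero_swap hF hxy
  have hs : hermForm 6 F 2 (x + y) (x + y) = 0 := by
    rw [herm_add_left, herm_add_right hF, herm_add_right hF, hx, hy, hxy, hyx]
    simp
  rw [bl, bl, ← smul_add, S.smul _ _ hμ hx, S.smul _ _ hμ hy, S.smul _ _ hμ hs]

theorem bl_smul_right {x y : Fin 6 → F} (hx : hermForm 6 F 2 x x = 0)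
    (hy : hermForm 6 F 2 y y = 0) (hxy : hermForm 6 F 2 x y = 0) (α β : F) :
    bl lam (α • x) (β • y) = bl lam ((α * β⁻¹) • x) y := by
  by_cases hβ : β = 0
  · rw [hβ, zero_smul, inv_zero, mul_zero, zero_smul, bl_zero_left S hy,
      bl_zero_right S (herm_smul_self hF hx α)]
  · have h1 : hermForm 6 F 2 ((α * β⁻¹) • x) y = 0 := by rw [herm_smul_left, hxy, mul_zero]
    rw [← bl_smul_smul S (herm_smul_self hF hx _) hy h1 hβ, smul_smul]
    congr 2
    field_simp

/-- Additivity in the scalar. -/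
theorem bl_smul_add {W : Submodule F (Fin 6 → F)} (hW : TI W) {x y : Fin 6 → F} (hx : x ∈ W)
    (hy : y ∈ W) (hind : ∀ a b : F, a • x + b • y = 0 → a = 0 ∧ b = 0) (μ ν : F) :
    bl lam ((μ + ν) • x) y = bl lam (μ • x) y * bl lam (ν • x) y := by
  have hyy := hW y hy y hy
  by_cases hμ : μ = 0
  · rw [hμ, zero_add, zero_smul, bl_zero_left S hyy, one_mul]
  by_cases hν : ν = 0
  · rw [hν, add_zero, zero_smul, bl_zero_left S hyy, mul_one]
  by_cases hμν : μ = ν
  · rw [hμν, add_self hF, zero_smul, bl_zero_left S hyy, bl_sq S hW (W.smul_mem _ hx) hy]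
  -- now the line relation
  obtain ⟨c, hc⟩ : ∃ c, ν = c * μ := ⟨ν * μ⁻¹, by field_simp⟩
  have hc1 : c ≠ 1 := by
    rintro rfl
    rw [one_mul] at hc
    exact hμν hc.symm
  have hc0 : c ≠ 0 := by
    rintro rfl
    rw [zero_mul] at hc
    exact hν hc
  have hc3 := pow_three hF hc0
  have hcω : c ^ 2 + c + 1 = 0 := by
    have : (c - 1) * (c ^ 2 + c + 1) = 0 := by linear_combination hc3
    rcases mul_eq_zero.1 this with h | h
    · exact absurd (by linear_combination h) hc1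
    · exact h
  set a := μ • x with ha
  have haW : a ∈ W := W.smul_mem _ hx
  have haa := hW a haW a haW
  have e1 : (μ + ν) • x = c ^ 2 • a := by
    rw [ha, smul_smul, hc]
    congr 1
    linear_combination (-μ) * hcω + (μ + c * μ) * two_eq_zero hF
  have e2 : ν • x = c • a := by rw [ha, smul_smul, hc]
  have hmem : ∀ v ∈ W, lam v ∈ lam '' (W : Set (Fin 6 → F)) := fun v hv => ⟨v, hv, rfl⟩
  have hline := S.line a y c haa hyy (hW a haW y hy) (by
    intro s t hst
    rw [ha, smul_smul] at hst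
    obtain ⟨h1, h2⟩ := hind _ _ hst
    exact ⟨(mul_eq_zero.1 h1).resolve_right hμ, h2⟩) hcω
  have h5 := five (comm_W S hW) (sq_W S hW) (hmem a haW) (hmem y hy)
    (hmem _ (W.add_mem haW hy)) (hmem _ (W.add_mem (W.smul_mem c haW) hy))
    (hmem _ (W.add_mem (W.smul_mem (c ^ 2) haW) hy)) hline
  have c1 : Commute (lam a * lam y) (lam (a + y)) :=
    Commute.mul_left (comm_W S hW _ (hmem a haW) _ (hmem _ (W.add_mem haW hy)))
      (comm_W S hW _ (hmem y hy) _ (hmem _ (W.add_mem haW hy)))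
  have c2 : Commute (lam a) (lam y) := comm_W S hW _ (hmem a haW) _ (hmem y hy)
  have h6 : lam a * lam y * (lam a * lam y) = 1 := by
    calc lam a * lam y * (lam a * lam y) = lam a * (lam y * lam a) * lam y := by group
      _ = lam a * (lam a * lam y) * lam y := by rw [c2.eq]
      _ = (lam a * lam a) * (lam y * lam y) := by group
      _ = 1 := by rw [S.sq a haa, S.sq y hyy, mul_one]
  rw [e1, e2, bl, bl, bl, S.smul _ _ (pow_ne_zero 2 hc0) haa, S.smul _ _ hc0 haa, h5]
  calc lam (a + y) * lam (c • a + y) = 1 * lam (a + y) * lam (c • a + y) := by rw [one_mul]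
    _ = lam a * lam y * (lam a * lam y) * lam (a + y) * lam (c • a + y) := by rw [h6]
    _ = lam a * lam y * ((lam a * lam y) * lam (a + y)) * lam (c • a + y) := by group
    _ = lam a * lam y * (lam (a + y) * (lam a * lam y)) * lam (c • a + y) := by rw [c1.eq]
    _ = lam a * lam y * lam (a + y) * (lam a * lam y * lam (c • a + y)) := by group

/-- Additivity in the vector. -/
theorem bl_add (hB : NoBaer lam) {W : Submodule F (Fin 6 → F)} (hW : TI W) {x y w : Fin 6 → F}
    (hx : x ∈ W) (hy : y ∈ W) (hw : w ∈ W)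
    (hind : ∀ a b c : F, a • x + b • y + c • w = 0 → a = 0 ∧ b = 0 ∧ c = 0) :
    bl lam (x + y) w = bl lam x w * bl lam y w := by
  have hmem : ∀ v ∈ W, lam v ∈ lam '' (W : Set (Fin 6 → F)) := fun v hv => ⟨v, hv, rfl⟩
  exact seven (comm_W S hW) (sq_W S hW) (hmem x hx) (hmem y hy) (hmem w hw)
    (hmem _ (W.add_mem hx hy)) (hmem _ (W.add_mem hx hw)) (hmem _ (W.add_mem hy hw))
    (hmem _ (W.add_mem (W.add_mem hx hy) hw))
    (hB x y w (hW x hx x hx) (hW y hy y hy) (hW w hw w hw) (hW x hx y hy) (hW x hx w hw)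
      (hW y hy w hw) hind)

theorem bl_add_smul (hB : NoBaer lam) {W : Submodule F (Fin 6 → F)} (hW : TI W)
    {x y w : Fin 6 → F} (hx : x ∈ W) (hy : y ∈ W) (hw : w ∈ W)
    (hind : ∀ a b c : F, a • x + b • y + c • w = 0 → a = 0 ∧ b = 0 ∧ c = 0) (α β : F) :
    bl lam (α • x + β • y) w = bl lam (α • x) w * bl lam (β • y) w := by
  by_cases hα : α = 0
  · rw [hα, zero_smul, zero_add, bl_zero_left S (hW w hw w hw), one_mul]
  by_cases hβ : β = 0
  · rw [hβ, zero_smul, add_zero, bl_zero_left S (hW w hw w hw), mul_one]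
  apply bl_add S hB hW (W.smul_mem _ hx) (W.smul_mem _ hy) hw
  intro a b c h
  rw [smul_smul, smul_smul] at h
  obtain ⟨h1, h2, h3⟩ := hind _ _ _ h
  exact ⟨(mul_eq_zero.1 h1).resolve_right hα, (mul_eq_zero.1 h2).resolve_right hβ, h3⟩

/-- The homomorphism `α ↦ bl (α x) y`. -/
theorem exists_hom {W : Submodule F (Fin 6 → F)} (hW : TI W) {x y : Fin 6 → F} (hx : x ∈ W)
    (hy : y ∈ W) (hind : ∀ a b : F, a • x + b • y = 0 → a = 0 ∧ b = 0) :
    ∃ φ : Multiplicative F →* C, ∀ a : Multiplicative F,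
      φ a = bl lam (Multiplicative.toAdd a • x) y :=
  ⟨MonoidHom.mk' (fun a => bl lam (Multiplicative.toAdd a • x) y) (fun a b => by
    show bl lam ((Multiplicative.toAdd a + Multiplicative.toAdd b) • x) y = _
    exact bl_smul_add S hW hx hy hind _ _), fun _ => rfl⟩

theorem conj_bl {c : C} {f : (Fin 6 → F) → (Fin 6 → F)} (hc : Acts lam c f) {x y x' y' : Fin 6 → F}
    (hx : hermForm 6 F 2 x x = 0) (hy : hermForm 6 F 2 y y = 0) (hxy : hermForm 6 F 2 x y = 0)
    (hfx : f x = x') (hfy : f y = y') (hfxy : f (x + y) = x' + y') :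
    c * bl lam x y * c⁻¹ = bl lam x' y' := by
  have hyx := herm_eq_zero_swap hF hxy
  have hs : hermForm 6 F 2 (x + y) (x + y) = 0 := by
    rw [herm_add_left, herm_add_right hF, herm_add_right hF, hx, hy, hxy, hyx]
    simp
  rw [bl, bl, ← hfxy, ← hfx, ← hfy, ← (hc x hx).2, ← (hc y hy).2, ← (hc _ hs).2]
  group

end Sys

section Frame

/-- A hyperbolic basis. -/
structure Hyp (e f : Fin 3 → (Fin 6 → F)) : Prop where
  ee : ∀ i j, hermForm 6 F 2 (e i) (e j) = 0
  ff : ∀ i j, hermForm 6 F 2 (f i) (f j) = 0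
  ef : ∀ i j, hermForm 6 F 2 (e i) (f j) = if i = j then 1 else 0
  fe : ∀ i j, hermForm 6 F 2 (f i) (e j) = if i = j then 1 else 0

variable {e f : Fin 3 → (Fin 6 → F)} (S : LamSys hF π z lam) (H : Hyp e f)
include S H

/-- The subspace spanned by the `e i`. -/
theorem ti_e : TI (Submodule.span F (Set.range e)) := by
  apply TI.span hF
  rintro _ ⟨i, rfl⟩ _ ⟨j, rfl⟩
  exact H.ee i j

theorem ti_one : TI (Submodule.span F {e 0, f 1, f 2}) := by
  apply TI.span hF
  intro u hu v hv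
  simp only [Set.mem_insert_iff, Set.mem_singleton_iff] at hu hv
  rcases hu with rfl | rfl | rfl <;> rcases hv with rfl | rfl | rfl <;>
    simp [H.ee, H.ff, H.ef, H.fe]

theorem ti_two : TI (Submodule.span F {e 1, f 2}) := by
  apply TI.span hF
  intro u hu v hv
  simp only [Set.mem_insert_iff, Set.mem_singleton_iff] at hu hv
  rcases hu with rfl | rfl <;> rcases hv with rfl | rfl <;>
    simp [H.ee, H.ff, H.ef, H.fe]

omit S in
theorem ind_e (hF : Fintype.card F = 2 ^ 2) (a b c : F)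
    (h : a • e 0 + b • e 1 + c • e 2 = 0) : a = 0 ∧ b = 0 ∧ c = 0 := by
  have h0 := congrArg (fun v => hermForm 6 F 2 v (f 0)) h
  have h1 := congrArg (fun v => hermForm 6 F 2 v (f 1)) h
  have h2 := congrArg (fun v => hermForm 6 F 2 v (f 2)) h
  simp only [herm_add_left, herm_smul_left, herm_zero_left, H.ef] at h0 h1 h2
  simp at h0 h1 h2
  exact ⟨h0, h1, h2⟩

omit S in
theorem ind_one (hF : Fintype.card F = 2 ^ 2) (a b c : F)
    (h : a • f 1 + b • f 2 + c • e 0 = 0) : a = 0 ∧ b = 0 ∧ c = 0 := by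
  have h0 := congrArg (fun v => hermForm 6 F 2 v (e 1)) h
  have h1 := congrArg (fun v => hermForm 6 F 2 v (e 2)) h
  have h2 := congrArg (fun v => hermForm 6 F 2 v (f 0)) h
  simp only [herm_add_left, herm_smul_left, herm_zero_left, H.ef, H.ee, H.ff, H.fe] at h0 h1 h2
  simp at h0 h1 h2
  exact ⟨h0, h1, h2⟩

omit S in
theorem ind_two (hF : Fintype.card F = 2 ^ 2) (a b : F)
    (h : a • f 2 + b • e 1 = 0) : a = 0 ∧ b = 0 := by
  have h0 := congrArg (fun v => hermForm 6 F 2 v (e 2)) h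
  have h1 := congrArg (fun v => hermForm 6 F 2 v (f 1)) h
  simp only [herm_add_left, herm_smul_left, herm_zero_left, H.ef, H.ee, H.ff, H.fe] at h0 h1
  simp at h0 h1
  exact ⟨h0, h1⟩

omit S H in
theorem comm_K {P : Set C} (hP : ∀ x ∈ P, ∀ y ∈ P, x * y = y * x) :
    ∀ x ∈ Subgroup.closure P, ∀ y ∈ Subgroup.closure P, x * y = y * x := by
  intro x hx y hy
  exact congrArg Subtype.val ((Subgroup.closureCommGroupOfComm hP).mul_comm ⟨x, hx⟩ ⟨y, hy⟩)

omit S H in
theorem mem_zpowers_sq {g x : C} (h : g * g = 1) (hx : x ∈ Subgroup.zpowers g) :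
    x = 1 ∨ x = g := by
  obtain ⟨k, rfl⟩ := Subgroup.mem_zpowers_iff.1 hx
  rcases Int.even_or_odd' k with ⟨m, rfl | rfl⟩
  · left
    rw [zpow_mul, zpow_ofNat, pow_two, h, one_zpow]
  · right
    rw [zpow_add, zpow_mul, zpow_ofNat, pow_two, h, one_zpow, one_mul, zpow_one]

/-- The elements of `⟨lam (e i)⟩` as maps. -/
theorem exists_eps (i : Fin 3) {x : C} (hx : x ∈ Subgroup.zpowers (lam (e i))) :
    ∃ ε : F, (ε = 0 → x = 1) ∧ Acts lam x (fun v => v + (ε * hermForm 6 F 2 v (e i)) • e i) := by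
  have hii := H.ee i i
  rcases mem_zpowers_sq (S.sq _ hii) hx with rfl | rfl
  · refine ⟨0, fun _ => rfl, ?_⟩
    intro v hv
    simp [hv]
  · refine ⟨1, fun h => absurd h one_ne_zero, ?_⟩
    refine Acts.congr (S.acts_lam hii) ?_
    intro v
    rw [one_mul]

theorem e_group (hB : NoBaer lam) :
    Nat.card (Subgroup.closure (lam '' (Submodule.span F (Set.range e) : Set (Fin 6 → F)))) = 2 ^ 9 ∧
    ∀ x ∈ Subgroup.closure (lam '' (Submodule.span F (Set.range e) : Set (Fin 6 → F))),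
      (∀ c : C, x * c = c * x) → x = 1 := by
  set W := Submodule.span F (Set.range e) with hWdef
  have hW : TI W := ti_e S H
  set K := Subgroup.closure (lam '' (W : Set (Fin 6 → F))) with hK
  have hKc : ∀ x ∈ K, ∀ y ∈ K, x * y = y * x := comm_K (comm_W S hW)
  have heW : ∀ i, e i ∈ W := fun i => Submodule.subset_span ⟨i, rfl⟩
  have hlK : ∀ v ∈ W, lam v ∈ K := fun v hv => Subgroup.subset_closure ⟨v, hv, rfl⟩
  have hbK : ∀ x ∈ W, ∀ y ∈ W, bl lam x y ∈ K := fun x hx y hy =>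
    mul_mem (mul_mem (hlK x hx) (hlK y hy)) (hlK _ (W.add_mem hx hy))
  have hzK : ∀ i, ∀ x : Subgroup.zpowers (lam (e i)), (Subgroup.zpowers (lam (e i))).subtype x ∈ K := by
    intro i x
    have : Subgroup.zpowers (lam (e i)) ≤ K := by
      rw [Subgroup.zpowers_le]
      exact hlK _ (heW i)
    exact this x.2
  have i01 : ∀ a b : F, a • e 0 + b • e 1 = 0 → a = 0 ∧ b = 0 := by
    intro a b h
    have := ind_e H hF a b 0 (by rw [h, zero_smul, add_zero])
    exact ⟨this.1, this.2.1⟩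
  have i02 : ∀ a b : F, a • e 0 + b • e 2 = 0 → a = 0 ∧ b = 0 := by
    intro a b h
    have := ind_e H hF a 0 b (by rw [zero_smul, add_zero, h])
    exact ⟨this.1, this.2.2⟩
  have i12 : ∀ a b : F, a • e 1 + b • e 2 = 0 → a = 0 ∧ b = 0 := by
    intro a b h
    have := ind_e H hF 0 a b (by rw [zero_smul, zero_add, h])
    exact ⟨this.2.1, this.2.2⟩
  obtain ⟨φ01, h01⟩ := exists_hom S hW (heW 0) (heW 1) i01
  obtain ⟨φ02, h02⟩ := exists_hom S hW (heW 0) (heW 2) i02
  obtain ⟨φ12, h12⟩ := exists_hom S hW (heW 1) (heW 2) i12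
  obtain ⟨G1, hG1, hG1K⟩ := coprod_K hKc (Subgroup.zpowers (lam (e 0))).subtype
    (Subgroup.zpowers (lam (e 1))).subtype (hzK 0) (hzK 1)
  obtain ⟨G2, hG2, hG2K⟩ := coprod_K hKc G1 (Subgroup.zpowers (lam (e 2))).subtype hG1K (hzK 2)
  obtain ⟨G3, hG3, hG3K⟩ := coprod_K hKc G2 φ01 hG2K
    (fun n => by rw [h01]; exact hbK _ (W.smul_mem _ (heW 0)) _ (heW 1))
  obtain ⟨G4, hG4, hG4K⟩ := coprod_K hKc G3 φ02 hG3K
    (fun n => by rw [h02]; exact hbK _ (W.smul_mem _ (heW 0)) _ (heW 2))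
  obtain ⟨G, hG, hGK⟩ := coprod_K hKc G4 φ12 hG4K
    (fun n => by rw [h12]; exact hbK _ (W.smul_mem _ (heW 1)) _ (heW 2))
  have hGf : ∀ x0 x1 x2 a b c, G (((((x0, x1), x2), a), b), c) = (x0 : C) * x1 * x2 *
      bl lam (Multiplicative.toAdd a • e 0) (e 1) * bl lam (Multiplicative.toAdd b • e 0) (e 2) *
      bl lam (Multiplicative.toAdd c • e 1) (e 2) := by
    intro x0 x1 x2 a b c
    rw [hG, hG4, hG3, hG2, hG1, h01, h02, h12]
    rfl
  -- the kernel
  have hker : ∀ p, (∀ c : C, G p * c = c * G p) → p = 1 := by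
    rintro ⟨⟨⟨⟨⟨⟨x0, hx0⟩, ⟨x1, hx1⟩⟩, ⟨x2, hx2⟩⟩, a⟩, b⟩, c⟩ hcen
    obtain ⟨ε0, he0, ha0⟩ := exists_eps S H 0 hx0
    obtain ⟨ε1, he1, ha1⟩ := exists_eps S H 1 hx1
    obtain ⟨ε2, he2, ha2⟩ := exists_eps S H 2 hx2
    rw [hGf] at hcen
    obtain ⟨a, rfl⟩ := Multiplicative.ofAdd.surjective a
    obtain ⟨b, rfl⟩ := Multiplicative.ofAdd.surjective b
    obtain ⟨c, rfl⟩ := Multiplicative.ofAdd.surjective c
    simp only [toAdd_ofAdd] at hcen
    have b01 := bl_acts S (x := a • e 0) (y := e 1) (herm_smul_self hF (H.ee 0 0) a) (H.ee 1 1)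
      (by rw [herm_smul_left, H.ee, mul_zero])
    have b02 := bl_acts S (x := b • e 0) (y := e 2) (herm_smul_self hF (H.ee 0 0) b) (H.ee 2 2)
      (by rw [herm_smul_left, H.ee, mul_zero])
    have b12 := bl_acts S (x := c • e 1) (y := e 2) (herm_smul_self hF (H.ee 1 1) c) (H.ee 2 2)
      (by rw [herm_smul_left, H.ee, mul_zero])
    have hall := ((((ha0.mul ha1).mul ha2).mul b01).mul b02).mul b12
    have hf0 : ∀ i, f i ≠ 0 := by
      intro i hi
      have := H.fe i i
      rw [hi, herm_zero_left] at this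
      simp at this
    have key : ∀ i, ∃ k : F, k ≠ 0 ∧ _ = k • f i :=
      fun i => S.smul_of_central hall hcen (H.ff i i) (hf0 i)
    obtain ⟨k0, -, hk0⟩ := key 0
    obtain ⟨k1, -, hk1⟩ := key 1
    obtain ⟨k2, -, hk2⟩ := key 2
    simp only [herm_add_left, herm_smul_left, herm_smul_right, H.ee, H.ff, H.ef, H.fe] at hk0 hk1 hk2
    have h00 := congrArg (fun v => hermForm 6 F 2 v (f 0)) hk0
    have h01 := congrArg (fun v => hermForm 6 F 2 v (f 1)) hk0
    have h02 := congrArg (fun v => hermForm 6 F 2 v (f 2)) hk0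
    have h11 := congrArg (fun v => hermForm 6 F 2 v (f 1)) hk1
    have h12 := congrArg (fun v => hermForm 6 F 2 v (f 2)) hk1
    have h22 := congrArg (fun v => hermForm 6 F 2 v (f 2)) hk2
    simp [herm_add_left, herm_smul_left, H.ef, H.ff] at h00 h01 h02 h11 h12 h22
    have e0 := he0 h00
    have e1 := he1 h11
    have e2 := he2 h22
    subst e0 e1 e2 h01 h02 h12
    rfl
  have hinj : Function.Injective G := by
    rw [injective_iff_map_eq_one]
    intro p hp
    apply hker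
    intro c
    rw [hp, one_mul, mul_one]
  -- the range
  have r0 : lam (e 0) ∈ G.range := ⟨(((((⟨lam (e 0), Subgroup.mem_zpowers _⟩, 1), 1), 1), 1), 1), by
    rw [hGf]
    simp only [OneMemClass.coe_one, toAdd_one, zero_smul, mul_one]
    rw [bl_zero_left S (H.ee 1 1), bl_zero_left S (H.ee 2 2), mul_one, mul_one, mul_one]⟩
  have r1 : lam (e 1) ∈ G.range := ⟨(((((1, ⟨lam (e 1), Subgroup.mem_zpowers _⟩), 1), 1), 1), 1), by
    rw [hGf]
    simp only [OneMemClass.coe_one, toAdd_one, zero_smul, mul_one, one_mul]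
    rw [bl_zero_left S (H.ee 1 1), bl_zero_left S (H.ee 2 2), mul_one, mul_one, mul_one]⟩
  have r2 : lam (e 2) ∈ G.range := ⟨(((((1, 1), ⟨lam (e 2), Subgroup.mem_zpowers _⟩), 1), 1), 1), by
    rw [hGf]
    simp only [OneMemClass.coe_one, toAdd_one, zero_smul, mul_one, one_mul]
    rw [bl_zero_left S (H.ee 1 1), bl_zero_left S (H.ee 2 2), mul_one, mul_one, mul_one]⟩
  have r01 : ∀ a : F, bl lam (a • e 0) (e 1) ∈ G.range := fun a =>
    ⟨(((((1, 1), 1), Multiplicative.ofAdd a), 1), 1), by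
    rw [hGf]
    simp only [OneMemClass.coe_one, toAdd_one, toAdd_ofAdd, zero_smul, mul_one, one_mul]
    rw [bl_zero_left S (H.ee 2 2), mul_one, mul_one]⟩
  have r02 : ∀ a : F, bl lam (a • e 0) (e 2) ∈ G.range := fun a =>
    ⟨(((((1, 1), 1), 1), Multiplicative.ofAdd a), 1), by
    rw [hGf]
    simp only [OneMemClass.coe_one, toAdd_one, toAdd_ofAdd, zero_smul, mul_one, one_mul]
    rw [bl_zero_left S (H.ee 1 1), bl_zero_left S (H.ee 2 2), mul_one, one_mul]⟩
  have r12 : ∀ a : F, bl lam (a • e 1) (e 2) ∈ G.range := fun a =>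
    ⟨(((((1, 1), 1), 1), 1), Multiplicative.ofAdd a), by
    rw [hGf]
    simp only [OneMemClass.coe_one, toAdd_one, toAdd_ofAdd, zero_smul, mul_one, one_mul]
    rw [bl_zero_left S (H.ee 1 1), bl_zero_left S (H.ee 2 2), one_mul, one_mul]⟩
  have rs : ∀ i, lam (e i) ∈ G.range → ∀ a : F, lam (a • e i) ∈ G.range := by
    intro i hi a
    by_cases ha : a = 0
    · rw [ha, zero_smul, S.zero]; exact one_mem _
    · rwa [S.smul a _ ha (H.ee i i)]
  have hrange : G.range = K := by
    apply le_antisymm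
    · rintro _ ⟨p, rfl⟩
      exact hGK p
    · rw [hK, Subgroup.closure_le]
      rintro _ ⟨v, hv, rfl⟩
      obtain ⟨c, rfl⟩ := (Submodule.mem_span_range_iff_exists_fun F).1 hv
      rw [Fin.sum_univ_three]
      have m0 := W.smul_mem (c 0) (heW 0)
      have m1 := W.smul_mem (c 1) (heW 1)
      have m2 := W.smul_mem (c 2) (heW 2)
      have m01 := W.add_mem m0 m1
      show lam (c 0 • e 0 + c 1 • e 1 + c 2 • e 2) ∈ G.range
      rw [lam_add S hW m01 m2, lam_add S hW m0 m1]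
      refine mul_mem (mul_mem (mul_mem (mul_mem (rs 0 r0 _) (rs 1 r1 _)) ?_) (rs 2 r2 _)) ?_
      · rw [bl_smul_right S (H.ee 0 0) (H.ee 1 1) (H.ee 0 1)]
        exact r01 _
      · have h1 := bl_smul_right S (hW _ m01 _ m01) (H.ee 2 2) (hW _ m01 _ (heW 2)) 1 (c 2)
        rw [one_smul, one_mul, smul_add, smul_smul, smul_smul] at h1
        rw [h1, bl_add_smul S hB hW (heW 0) (heW 1) (heW 2) (ind_e H hF)]
        exact mul_mem (r02 _) (r12 _)
  have hcF : Nat.card (Multiplicative F) = 4 := by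
    rw [Nat.card_congr Multiplicative.toAdd, Nat.card_eq_fintype_card, hF]
    norm_num
  have hcz : ∀ i, Nat.card (Subgroup.zpowers (lam (e i))) = 2 := by
    intro i
    rw [Nat.card_zpowers]
    have hi0 : e i ≠ 0 := by
      intro hi
      have := H.ef i i
      rw [hi, herm_zero_left] at this
      simp at this
    apply orderOf_eq_prime
    · rw [pow_two]; exact S.sq _ (H.ee i i)
    · exact (S.z_ne_lam (H.ee i i) hi0).1
  refine ⟨?_, ?_⟩
  · rw [← hrange, ← Nat.card_congr (MonoidHom.ofInjective hinj).toEquiv]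
    simp only [Nat.card_prod, hcF, hcz]
    norm_num
  · intro x hx hcen
    rw [← hrange] at hx
    obtain ⟨p, rfl⟩ := hx
    rw [hker p hcen, map_one]

/-- Products with `f j` normalise the group of the `e i`. -/
theorem normalise (i j : Fin 3) (hij : i ≠ j) (α : F) :
    ∀ a ∈ Subgroup.closure (lam '' (Submodule.span F (Set.range e) : Set (Fin 6 → F))),
      bl lam (α • f j) (e i) * a * (bl lam (α • f j) (e i))⁻¹ ∈
        Subgroup.closure (lam '' (Submodule.span F (Set.range e) : Set (Fin 6 → F))) := by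
  set W := Submodule.span F (Set.range e) with hWdef
  have hW : TI W := ti_e S H
  have heW : ∀ i, e i ∈ W := fun i => Submodule.subset_span ⟨i, rfl⟩
  have hfe : hermForm 6 F 2 (α • f j) (e i) = 0 := by
    rw [herm_smul_left, H.fe, if_neg (Ne.symm hij), mul_zero]
  have hact := bl_acts S (herm_smul_self hF (H.ff j j) α) (H.ee i i) hfe
  intro a ha
  refine Subgroup.closure_induction (p := fun a _ => bl lam (α • f j) (e i) * a *
    (bl lam (α • f j) (e i))⁻¹ ∈ Subgroup.closure (lam '' (W : Set (Fin 6 → F)))) ?_ ?_ ?_ ?_ ha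
  · rintro _ ⟨v, hv, rfl⟩
    rw [(hact v (hW v hv v hv)).2]
    apply Subgroup.subset_closure
    refine ⟨_, ?_, rfl⟩
    show v + hermForm 6 F 2 v (α • f j) • e i + hermForm 6 F 2 v (e i) • α • f j ∈ W
    rw [hW v hv (e i) (heW i), zero_smul, add_zero]
    exact W.add_mem hv (W.smul_mem _ (heW i))
  · rw [mul_one, mul_inv_cancel]; exact one_mem _
  · intro x y _ _ hx hy
    have : bl lam (α • f j) (e i) * (x * y) * (bl lam (α • f j) (e i))⁻¹ =
      (bl lam (α • f j) (e i) * x * (bl lam (α • f j) (e i))⁻¹) *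
        (bl lam (α • f j) (e i) * y * (bl lam (α • f j) (e i))⁻¹) := by group
    rw [this]; exact mul_mem hx hy
  · intro x _ hx
    have : bl lam (α • f j) (e i) * x⁻¹ * (bl lam (α • f j) (e i))⁻¹ =
      (bl lam (α • f j) (e i) * x * (bl lam (α • f j) (e i))⁻¹)⁻¹ := by group
    rw [this]; exact inv_mem hx

/-- The key disjointness statement. -/
theorem trivial_of_central (hB : NoBaer lam) {a : C}
    (ha : a ∈ Subgroup.closure (lam '' (Submodule.span F (Set.range e) : Set (Fin 6 → F))))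
    (α β δ : F)
    (hc : ∀ c : C, a * (bl lam (α • f 1) (e 0) * bl lam (β • f 2) (e 0)) *
      bl lam (δ • f 2) (e 1) * c = c * (a * (bl lam (α • f 1) (e 0) * bl lam (β • f 2) (e 0)) *
      bl lam (δ • f 2) (e 1))) : α = 0 ∧ β = 0 ∧ δ = 0 ∧ a = 1 := by
  set W := Submodule.span F (Set.range e) with hWdef
  have hW : TI W := ti_e S H
  have heW : ∀ i, e i ∈ W := fun i => Submodule.subset_span ⟨i, rfl⟩
  have hKc := comm_K (comm_W S hW)
  have b1 := bl_acts S (x := α • f 1) (y := e 0) (herm_smul_self hF (H.ff 1 1) α) (H.ee 0 0)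
    (by rw [herm_smul_left, H.fe]; simp)
  have b2 := bl_acts S (x := β • f 2) (y := e 0) (herm_smul_self hF (H.ff 2 2) β) (H.ee 0 0)
    (by rw [herm_smul_left, H.fe]; simp)
  have b3 := bl_acts S (x := δ • f 2) (y := e 1) (herm_smul_self hF (H.ff 2 2) δ) (H.ee 1 1)
    (by rw [herm_smul_left, H.fe]; simp)
  have hall := (b1.mul b2).mul b3
  have he0 : ∀ i, e i ≠ 0 := by
    intro i hi
    have := H.ef i i
    rw [hi, herm_zero_left] at this
    simp at this
  -- the image of `e i`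
  have key : ∀ i, ∀ g : Fin 6 → F, g ∈ W → (bl lam (α • f 1) (e 0) * bl lam (β • f 2) (e 0)) *
      bl lam (δ • f 2) (e 1) * lam (e i) * ((bl lam (α • f 1) (e 0) * bl lam (β • f 2) (e 0)) *
      bl lam (δ • f 2) (e 1))⁻¹ = lam g → ∃ k : F, k ≠ 0 ∧ g = k • e i := by
    intro i g hg hgi
    apply S.eq_smul (H.ee i i) (hW g hg g hg) (he0 i)
    left
    have h1 := hc (lam (e i))
    have h2 := hKc a ha (lam g) (Subgroup.subset_closure ⟨g, hg, rfl⟩)
    rw [← hgi] at h2
    rw [← hgi]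
    generalize (bl lam (α • f 1) (e 0) * bl lam (β • f 2) (e 0)) = p at *
    generalize bl lam (δ • f 2) (e 1) = q at *
    generalize lam (e i) = l at *
    have h3 : a * (p * q * l * (p * q)⁻¹) * a⁻¹ = l := by
      calc a * (p * q * l * (p * q)⁻¹) * a⁻¹ = (a * p * q * l) * (a * p * q)⁻¹ := by group
        _ = l := by rw [h1]; group
    rw [h2, mul_inv_cancel_right] at h3
    exact h3.symm
  have g2 := (hall (e 2) (H.ee 2 2)).2
  have g1 := (hall (e 1) (H.ee 1 1)).2
  simp [herm_add_left, herm_smul_left, herm_smul_right, H.ee, H.ef, H.fe] at g1 g2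
  obtain ⟨k2, -, hk2⟩ := key 2 (e 2 + δ ^ 2 • e 1 + β ^ 2 • e 0 + (α ^ 2 * δ ^ 2) • e 0)
    (W.add_mem (W.add_mem (W.add_mem (heW 2) (W.smul_mem _ (heW 1))) (W.smul_mem _ (heW 0)))
      (W.smul_mem _ (heW 0))) (by rw [← g2, mul_inv_rev, mul_inv_rev])
  obtain ⟨k1, -, hk1⟩ := key 1 (e 1 + α ^ 2 • e 0)
    (W.add_mem (heW 1) (W.smul_mem _ (heW 0))) (by rw [← g1, mul_inv_rev, mul_inv_rev])
  have h21 := congrArg (fun v => hermForm 6 F 2 v (f 1)) hk2
  have h20 := congrArg (fun v => hermForm 6 F 2 v (f 0)) hk2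
  have h10 := congrArg (fun v => hermForm 6 F 2 v (f 0)) hk1
  simp [herm_add_left, herm_smul_left, H.ef] at h21 h20 h10
  subst h21 h10
  simp at h20
  subst h20
  refine ⟨rfl, rfl, rfl, ?_⟩
  have hc' : ∀ c : C, a * c = c * a := by
    intro c
    have := hc c
    simpa only [zero_smul, bl_zero_left S (H.ee 0 0), bl_zero_left S (H.ee 1 1),
      mul_one] using this
  exact (e_group S H hB).2 a ha hc'

/-- The complement in the Sylow subgroup. -/
theorem exists_compl (hB : NoBaer lam) : ∃ B : Subgroup C, z ∉ B ∧ Nat.card B = 2 ^ 15 := by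
  set W := Submodule.span F (Set.range e) with hWdef
  set A := Subgroup.closure (lam '' (W : Set (Fin 6 → F))) with hA
  have hW1 : TI (Submodule.span F {e 0, f 1, f 2}) := ti_one S H
  have hW2 : TI (Submodule.span F {e 1, f 2}) := ti_two S H
  have m0 : e 0 ∈ Submodule.span F {e 0, f 1, f 2} := Submodule.subset_span (by simp)
  have m1 : f 1 ∈ Submodule.span F {e 0, f 1, f 2} := Submodule.subset_span (by simp)
  have m2 : f 2 ∈ Submodule.span F {e 0, f 1, f 2} := Submodule.subset_span (by simp)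
  have n1 : e 1 ∈ Submodule.span F {e 1, f 2} := Submodule.subset_span (by simp)
  have n2 : f 2 ∈ Submodule.span F {e 1, f 2} := Submodule.subset_span (by simp)
  have hlK : ∀ v ∈ Submodule.span F {e 0, f 1, f 2},
      lam v ∈ Subgroup.closure (lam '' (Submodule.span F {e 0, f 1, f 2} : Set (Fin 6 → F))) :=
    fun v hv => Subgroup.subset_closure ⟨v, hv, rfl⟩
  have hbK : ∀ x ∈ Submodule.span F {e 0, f 1, f 2}, ∀ y ∈ Submodule.span F {e 0, f 1, f 2},
      bl lam x y ∈ Subgroup.closure (lam '' (Submodule.span F {e 0, f 1, f 2} : Set (Fin 6 → F))) :=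
    fun x hx y hy => mul_mem (mul_mem (hlK x hx) (hlK y hy)) (hlK _ (Submodule.add_mem _ hx hy))
  obtain ⟨φ1, h1⟩ := exists_hom S hW1 m1 m0 (by
    intro a b h
    have := ind_one H hF a 0 b (by rw [zero_smul, add_zero, h])
    exact ⟨this.1, this.2.2⟩)
  obtain ⟨φ2, h2⟩ := exists_hom S hW1 m2 m0 (by
    intro a b h
    have := ind_one H hF 0 a b (by rw [zero_smul, zero_add, h])
    exact ⟨this.2.1, this.2.2⟩)
  obtain ⟨φ3, h3⟩ := exists_hom S hW2 n2 n1 (ind_two H hF)
  obtain ⟨G, hG, -⟩ := coprod_K (comm_K (comm_W S hW1)) φ1 φ2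
    (fun n => by rw [h1]; exact hbK _ (Submodule.smul_mem _ _ m1) _ m0)
    (fun n => by rw [h2]; exact hbK _ (Submodule.smul_mem _ _ m2) _ m0)
  have hGf : ∀ a b : F, G (Multiplicative.ofAdd a, Multiplicative.ofAdd b) =
      bl lam (a • f 1) (e 0) * bl lam (b • f 2) (e 0) := by
    intro a b
    rw [hG, h1, h2]
    rfl
  have hGs : ∀ p, ∃ a b : F, p = (Multiplicative.ofAdd a, Multiplicative.ofAdd b) :=
    fun p => ⟨_, _, rfl⟩
  have hφf : ∀ a : Multiplicative F, ∃ δ : F, δ = Multiplicative.toAdd a ∧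
      φ3 a = bl lam (δ • f 2) (e 1) := fun a => ⟨_, rfl, h3 a⟩
  have hcF : Nat.card (Multiplicative F) = 4 := by
    rw [Nat.card_congr Multiplicative.toAdd, Nat.card_eq_fintype_card, hF]
    norm_num
  -- the key
  have key : ∀ a ∈ A, ∀ p q, (a * G p * φ3 q = 1 ∨ a * G p * φ3 q = z) →
      a = 1 ∧ p = 1 ∧ q = 1 := by
    intro a ha p q h
    obtain ⟨α, β, rfl⟩ := hGs p
    obtain ⟨δ, hδ, hq⟩ := hφf q
    have hc : ∀ c : C, (a * (bl lam (α • f 1) (e 0) * bl lam (β • f 2) (e 0)) *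
      bl lam (δ • f 2) (e 1)) * c = c * (a * (bl lam (α • f 1) (e 0) * bl lam (β • f 2) (e 0)) *
      bl lam (δ • f 2) (e 1)) := by
      intro c
      rw [← hGf, ← hq]
      rcases h with h | h
      · rw [h, one_mul, mul_one]
      · rw [h, S.ext.comm]
    obtain ⟨h5, h6, h7, h8⟩ := trivial_of_central S H hB ha α β δ hc
    rw [hδ] at h7
    rw [h5, h6]
    exact ⟨h8, rfl, h7⟩
  have hGinj : Function.Injective G := by
    rw [injective_iff_map_eq_one]
    intro p hp
    exact (key 1 (one_mem _) p 1 (Or.inl (by rw [hp, map_one, one_mul, one_mul]))).2.1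
  have hφinj : Function.Injective φ3 := by
    rw [injective_iff_map_eq_one]
    intro p hp
    exact (key 1 (one_mem _) 1 p (Or.inl (by rw [hp, map_one, one_mul, one_mul]))).2.2
  obtain ⟨B1, hB1, hB1c⟩ := exists_prod A G.range (by
    rintro _ ⟨p, rfl⟩ a ha
    obtain ⟨α, β, rfl⟩ := hGs p
    rw [hGf]
    have e1 := normalise S H 0 2 (by decide) β a ha
    have e2 := normalise S H 0 1 (by decide) α _ e1
    rw [mul_inv_rev]
    simpa only [mul_assoc] using e2) (by
    rintro a ha _ ⟨p, rfl⟩ h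
    have := (key a ha p 1 (Or.inl (by rw [h, map_one, mul_one]))).2.1
    rw [this, map_one])
  obtain ⟨B, hB2, hB2c⟩ := exists_prod B1 φ3.range (by
    rintro _ ⟨q, rfl⟩ x hx
    obtain ⟨a, ha, _, ⟨p, rfl⟩, rfl⟩ := (hB1 x).1 hx
    obtain ⟨α, β, rfl⟩ := hGs p
    obtain ⟨δ, hδ, hq⟩ := hφf q
    rw [hB1, hq]
    refine ⟨_, normalise S H 1 2 (by decide) δ a ha, _,
      ⟨(Multiplicative.ofAdd α, Multiplicative.ofAdd (α * δ + β)), rfl⟩, ?_⟩
    have b3 := bl_acts S (x := δ • f 2) (y := e 1) (herm_smul_self hF (H.ff 2 2) δ) (H.ee 1 1)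
      (by rw [herm_smul_left, H.fe]; simp)
    have c1 := conj_bl S b3 (x := α • f 1) (y := e 0) (x' := α • f 1 + (α * δ) • f 2) (y' := e 0)
      (herm_smul_self hF (H.ff 1 1) α) (H.ee 0 0)
      (by rw [herm_smul_left, H.fe]; simp)
      (by simp [herm_smul_left, herm_smul_right, H.ff, H.fe, smul_smul])
      (by simp [herm_smul_right, H.ee, H.ef])
      (by simp [herm_add_left, herm_smul_left, herm_smul_right, H.ee, H.ef, H.ff, H.fe, smul_smul]
          abel)
    have c2 := conj_bl S b3 (x := β • f 2) (y := e 0) (x' := β • f 2) (y' := e 0)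
      (herm_smul_self hF (H.ff 2 2) β) (H.ee 0 0)
      (by rw [herm_smul_left, H.fe]; simp)
      (by simp [herm_smul_left, herm_smul_right, H.ff, H.fe, smul_smul])
      (by simp [herm_smul_right, H.ee, H.ef])
      (by simp [herm_add_left, herm_smul_left, herm_smul_right, H.ee, H.ef, H.ff, H.fe, smul_smul])
    rw [hGf, hGf, bl_smul_add S hW1 m2 m0 (by
      intro a b h
      have := ind_one H hF 0 a b (by rw [zero_smul, zero_add, h])
      exact ⟨this.2.1, this.2.2⟩)]
    rw [bl_add_smul S hB hW1 m1 m2 m0 (ind_one H hF)] at c1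
    generalize bl lam (δ • f 2) (e 1) = w at *
    generalize bl lam (α • f 1) (e 0) = X at *
    generalize bl lam ((α * δ) • f 2) (e 0) = Y at *
    generalize bl lam (β • f 2) (e 0) = Z at *
    calc w * (a * (X * Z)) * w⁻¹ = (w * a * w⁻¹) * ((w * X * w⁻¹) * (w * Z * w⁻¹)) := by group
      _ = (w * a * w⁻¹) * ((X * Y) * Z) := by rw [c1, c2]
      _ = w * a * w⁻¹ * (X * (Y * Z)) := by group) (by
    rintro x hx _ ⟨q, rfl⟩ h
    obtain ⟨a, ha, _, ⟨p, rfl⟩, rfl⟩ := (hB1 x).1 hx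
    have := (key a ha p q (Or.inl h)).2.2
    rw [this, map_one])
  refine ⟨B, ?_, ?_⟩
  · intro hz
    obtain ⟨x, hx, _, ⟨q, rfl⟩, h⟩ := (hB2 z).1 hz
    obtain ⟨a, ha, _, ⟨p, rfl⟩, rfl⟩ := (hB1 x).1 hx
    obtain ⟨rfl, rfl, rfl⟩ := key a ha p q (Or.inr h.symm)
    rw [map_one, map_one, mul_one, mul_one] at h
    exact S.ext.zne h
  · rw [hB2c, hB1c, (e_group S H hB).1, ← Nat.card_congr (MonoidHom.ofInjective hGinj).toEquiv,
      ← Nat.card_congr (MonoidHom.ofInjective hφinj).toEquiv, Nat.card_prod, hcF]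
    norm_num

end Frame

/-- The standard hyperbolic basis. -/
theorem exists_hyp (hF : Fintype.card F = 2 ^ 2) : ∃ e f : Fin 3 → (Fin 6 → F), Hyp e f := by
  obtain ⟨ω, hω⟩ := exists_omega hF
  have h3 := omega_cubed hω
  have h2 := two_eq_zero hF
  have h4 : ω ^ 4 = ω := by linear_combination ω * h3
  have h6 : ω ^ 6 = 1 := by linear_combination (ω ^ 3 + 1) * h3
  refine ⟨![![1, 1, 0, 0, 0, 0], ![0, 0, 1, 1, 0, 0], ![0, 0, 0, 0, 1, 1]],
    ![![ω, ω ^ 2, 0, 0, 0, 0], ![0, 0, ω, ω ^ 2, 0, 0], ![0, 0, 0, 0, ω, ω ^ 2]], ?_, ?_, ?_, ?_⟩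
  · intro i j
    rw [herm_def]
    fin_cases i <;> fin_cases j <;> simp [Fin.sum_univ_succ] <;> linear_combination h2
  · intro i j
    rw [herm_def]
    fin_cases i <;> fin_cases j <;> simp [Fin.sum_univ_succ] <;>
      linear_combination (1 + ω ^ 3 + 1) * h3 + h2
  · intro i j
    rw [herm_def]
    fin_cases i <;> fin_cases j <;> simp [Fin.sum_univ_succ] <;>
      linear_combination hω + h4 - h2
  · intro i j
    rw [herm_def]
    fin_cases i <;> fin_cases j <;> simp [Fin.sum_univ_succ] <;>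
      linear_combination hω - h2

theorem card_PSU (hF : Fintype.card F = 2 ^ 2) : Nat.card (PSU 6 F 2) = 2 ^ 15 * 280665 := by
  have h := Cfsg.Agent.S0280.result hF 6 (by norm_num)
  simp only [Finset.prod_range_succ, Finset.prod_range_zero] at h
  have e1 : Nat.gcd 6 3 = 3 := by decide
  norm_num [e1] at h
  omega

/-- The product over a Baer subplane is `1` or `z`. -/
theorem baer_eq (S : LamSys hF π z lam) {u v w : Fin 6 → F} (hu : hermForm 6 F 2 u u = 0)
    (hv : hermForm 6 F 2 v v = 0) (hw : hermForm 6 F 2 w w = 0) (huv : hermForm 6 F 2 u v = 0)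
    (huw : hermForm 6 F 2 u w = 0) (hvw : hermForm 6 F 2 v w = 0) :
    lam u * lam v * lam w * lam (u + v) * lam (u + w) * lam (v + w) * lam (u + v + w) = 1 ∨
    lam u * lam v * lam w * lam (u + v) * lam (u + w) * lam (v + w) * lam (u + v + w) = z := by
  have hvu := herm_eq_zero_swap hF huv
  have hwu := herm_eq_zero_swap hF huw
  have hwv := herm_eq_zero_swap hF hvw
  have h1 : hermForm 6 F 2 (u + v) (u + v) = 0 := by
    rw [herm_add_left, herm_add_right hF, herm_add_right hF, hu, hv, huv, hvu]; simp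
  have h2 : hermForm 6 F 2 (u + w) (u + w) = 0 := by
    rw [herm_add_left, herm_add_right hF, herm_add_right hF, hu, hw, huw, hwu]; simp
  have h3 : hermForm 6 F 2 (v + w) (v + w) = 0 := by
    rw [herm_add_left, herm_add_right hF, herm_add_right hF, hv, hw, hvw, hwv]; simp
  have h4 : hermForm 6 F 2 (u + v + w) (u + v + w) = 0 := by
    simp only [herm_add_left, herm_add_right hF, hu, hv, hw, huv, hvu, huw, hwu, hvw, hwv, add_zero]
  apply (S.ext.ker _).1
  rw [map_mul, map_mul, map_mul, map_mul, map_mul, map_mul, S.pi u hu, S.pi v hv, S.pi w hw,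
    S.pi _ h1, S.pi _ h2, S.pi _ h3, S.pi _ h4, tau_eq_pr hF hu, tau_eq_pr hF hv, tau_eq_pr hF hw,
    tau_eq_pr hF h1, tau_eq_pr hF h2, tau_eq_pr hF h3, tau_eq_pr hF h4, ← map_mul, ← map_mul,
    ← map_mul, ← map_mul, ← map_mul, ← map_mul]
  suffices h : T hF u hu * T hF v hv * T hF w hw * T hF (u + v) h1 * T hF (u + w) h2 *
      T hF (v + w) h3 * T hF (u + v + w) h4 = 1 by rw [h, map_one]
  apply ext_act
  intro x
  simp only [act_mul, act_one, act_T, herm_add_left, herm_smul_left, herm_add_right hF,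
    hu, hv, hw, huv, hvu, huw, hwu, hvw, hwv, mul_zero, add_zero]
  have h2 := two_eq_zero hF
  funext i
  simp only [Pi.add_apply, Pi.smul_apply, smul_eq_mul]
  generalize hermForm 6 F 2 x u = p
  generalize hermForm 6 F 2 x v = q
  generalize hermForm 6 F 2 x w = r
  linear_combination (2 * p * u i + p * v i + p * w i + q * u i + 2 * q * v i + q * w i +
    r * u i + r * v i + 2 * r * w i) * h2

/-- **The sign of the Baer subplanes.** -/
theorem exists_baer (S : LamSys hF π z lam) [Finite C] (hperf : commutator C = ⊤) :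
    ∃ u v w : Fin 6 → F, hermForm 6 F 2 u u = 0 ∧ hermForm 6 F 2 v v = 0 ∧
      hermForm 6 F 2 w w = 0 ∧ hermForm 6 F 2 u v = 0 ∧ hermForm 6 F 2 u w = 0 ∧
      hermForm 6 F 2 v w = 0 ∧ (∀ a b c : F, a • u + b • v + c • w = 0 → a = 0 ∧ b = 0 ∧ c = 0) ∧
      lam u * lam v * lam w * lam (u + v) * lam (u + w) * lam (v + w) * lam (u + v + w) = z := by
  by_contra hcon
  push Not at hcon
  have hB : NoBaer lam := by
    intro u v w hu hv hw huv huw hvw hind
    rcases baer_eq S hu hv hw huv huw hvw with h | h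
    · exact h
    · exact absurd h (hcon u v w hu hv hw huv huw hvw hind)
  obtain ⟨e, f, H⟩ := exists_hyp (F := F) hF
  obtain ⟨B, hzB, hBc⟩ := exists_compl S H hB
  refine split_false hperf S.ext.zz S.ext.comm hzB (m := 280665) (by decide) ?_
  have hk : Nat.card π.ker = 2 := by
    have : (π.ker : Set C) = {1, z} := by
      ext x
      simp [MonoidHom.mem_ker, S.ext.ker]
    rw [← SetLike.coe_sort_coe, this, Nat.card_coe_set_eq, Set.ncard_pair S.ext.zne.symm]
  have hi : π.ker.index = Nat.card (PSU 6 F 2) := by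
    rw [Subgroup.index_ker, MonoidHom.range_eq_top.2 S.ext.surj]
    exact Nat.card_congr Subgroup.topEquiv.toEquiv
  rw [← Subgroup.card_mul_index π.ker, hk, hi, card_PSU hF, hBc]
  norm_num

end Cfsg.Agent.R01.BaerSplit
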