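import Cfsg.Agent.R01.Assembly
import Cfsg.Agent.R01.Fusion
import Cfsg.Agent.R01.BaerSplit
import Cfsg.Agent.R01.AllOfLab
import Cfsg.Agent.R01.Component

/-!
The statements `FusionSt`, `ComponentSt`, `BridgeSt` of the assembly of S1713.
-/

set_option autoImplicit false

namespace Cfsg.Agent.R01.Assembly2

open Cfsg Cfsg.Agent.R01.Lifts Cfsg.Agent.R01.PSUSix Cfsg.Agent.R01.Label Cfsg.Agent.R01.Start
open Cfsg.Agent.R01.Loc Cfsg.Agent.R01.Closing Cfsg.Agent.R01.Assembly
open Cfsg.Agent.R01.Fusion Cfsg.Agent.R01.BaerSplit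
open Cfsg.Agent.LieClassical.HermBasic

universe u v

section local_

variable {F : Type*} [Field F] [Fintype F] {hF : Fintype.card F = 2 ^ 2}
variable {C : Type*} [Group C] {π : C →* PSU 6 F 2} {z : C} {lift : (Fin 6 → F) → C}

/-- The Baer relation for the normalised lifts. -/
theorem exists_baer' [Finite C] (L : Lab hF π z z lift) : ∃ u v w : Fin 6 → F,
    Squares.Baer z (lamOf (fun v => lift v * z)) u v w := by
  obtain ⟨u, v, w, h1, h2, h3, h4, h5, h6, h7, h8⟩ := exists_baer (lamSys_z L) L.perf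
  exact ⟨u, v, w, ⟨h1, h2, h3, h4, h5, h6, h7⟩, h8⟩

/-- The Baer relation for the lifts with line product `z`. -/
theorem hasBaer [Finite C] (L : Lab hF π z z lift) : AllOfLab.HasBaer lift := by
  obtain ⟨u, v, w, B⟩ := exists_baer' L
  have h := B.ti
  refine ⟨u, v, w, ⟨h.uu, h.vv, h.ww, h.uv, h.uw, h.vw, h.ind⟩, ?_⟩
  have hp := B.prod
  have ne : ∀ a b c : F, (a ≠ 0 ∨ b ≠ 0 ∨ c ≠ 0) → a • u + b • v + c • w ≠ 0 := by
    intro a b c h0 h1
    obtain ⟨ha, hb, hc⟩ := h.ind a b c h1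
    rcases h0 with h0 | h0 | h0
    · exact h0 ha
    · exact h0 hb
    · exact h0 hc
  have n1 : u ≠ 0 := by simpa using ne 1 0 0 (by simp)
  have n2 : v ≠ 0 := by simpa using ne 0 1 0 (by simp)
  have n3 : w ≠ 0 := by simpa using ne 0 0 1 (by simp)
  have n4 : u + v ≠ 0 := by simpa using ne 1 1 0 (by simp)
  have n5 : u + w ≠ 0 := by simpa using ne 1 0 1 (by simp)
  have n6 : v + w ≠ 0 := by simpa using ne 0 1 1 (by simp)
  have n7 : u + v + w ≠ 0 := by simpa using ne 1 1 1 (by simp)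
  rw [lamOf_ne n1, lamOf_ne n2, lamOf_ne n3, lamOf_ne n4, lamOf_ne n5, lamOf_ne n6,
    lamOf_ne n7] at hp
  have hz : ∀ x : C, x * z = z * x := fun x => L.ext.comm x
  have hzz := L.ext.zz
  have key : ∀ a b c d e f g : C, a * z * (b * z) * (c * z) * (d * z) * (e * z) * (f * z) * (g * z) =
      a * b * c * d * e * f * g * z := by
    intro a b c d e f g
    have e2 : ∀ x y : C, x * z * (y * z) = x * y := by
      intro x y
      calc x * z * (y * z) = x * (z * y) * z := by group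
        _ = x * (y * z) * z := by rw [hz y]
        _ = x * y * (z * z) := by group
        _ = x * y := by rw [hzz, mul_one]
    have e3 : ∀ x y : C, x * (y * z) = x * y * z := fun x y => by group
    rw [e2 a b, e3 (a * b) c, e2 (a * b * c) d, e3 _ e, e2 _ f, e3 _ g]
  rw [key] at hp
  exact mul_eq_right.1 hp

end local_

theorem fusionSt : FusionSt.{u, v} := by
  intro G _ _ d F _ _ hF π lift L hnwc x
  obtain ⟨u, v, w, B⟩ := exists_baer' L
  refine mem_iff L B ?_ x
  obtain ⟨g, hg, hne⟩ := hnwc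
  exact ⟨⟨g * d * g⁻¹, hg⟩, isConj_iff.2 ⟨g, rfl⟩, fun h => hne (congrArg Subtype.val h)⟩

theorem sq_of_loc {G : Type*} [Group G] {F : Type*} [Field F] [Fintype F]
    {hF : Fintype.card F = 2 ^ 2} {D : Set G} (h : Loc hF D) : ∀ a ∈ D, a * a = 1 ∧ a ≠ 1 := by
  intro a ha
  obtain ⟨π, lift, L, -⟩ := h a ha
  have h1 := L.ext.zz
  have h2 := L.ext.zne
  exact ⟨congrArg Subtype.val h1, fun h => h2 (Subtype.ext h)⟩

theorem componentSt : ComponentSt.{u, v} := by
  intro G _ _ d F _ _ hF hL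
  exact ⟨Component.three_of_loc hL fun a ha => (sq_of_loc hL a ha).1,
    fun a ha => Component.card_of_loc hL ha⟩

theorem bridgeSt : BridgeSt.{u, v} := by
  intro G _ _ d F _ _ hF hL h3 hcard
  have h : AllOfLab.Loc F hF (conjugatesOf d) :=
    { sq := fun a ha => (sq_of_loc hL a ha).1
      ne := fun a ha => (sq_of_loc hL a ha).2
      conj := fun g a ha => conj_mem_D ha g
      nonempty := ⟨d, mem_conjugatesOf_self⟩
      lab := hL
      baer := fun a _ π lift L => hasBaer L }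
  exact h.all h3 fun a ha => Or.inr (by rw [hcard a ha])

end Cfsg.Agent.R01.Assembly2
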