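import Cfsg.Agent.R01.AllOfLab

/-!
# The involutions of a perfect group with a class of `2 mod 4` transpositions (S1714, KEY)

`P` is a finite perfect group, `T` a conjugacy invariant set of involutions whose number is two modulo four
(for `Fi22` it is 3510) and whose local structure is that of `Fi22` (`Loc.Loc hF T`).

* `exists_commute`: an involution of `P` commutes with a member of `T` (otherwise it acts as an odd
  permutation on `T`);
* `exists_list`, `exists_three`: it is a product of different commuting members of `T`;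
* `key_list`, `key_three`, `not_sq`: the same for an extension of `P` by a central element `z` of order two;
* `trans_pairs`, `trans_triples`: transitivity of `P` on the tuples of different commuting members of `T`.
-/

set_option autoImplicit false
set_option linter.unusedSectionVars false
set_option linter.dupNamespace false

namespace Cfsg.Agent.R01.KeyFi22

open Cfsg Cfsg.Agent.LieClassical.HermBasic
open Cfsg.Agent.R01.Lifts Cfsg.Agent.R01.PSUSix Cfsg.Agent.R01.Label Cfsg.Agent.R01.InvForm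
open Cfsg.Agent.R01.Closing Cfsg.Agent.R01.Closing2 Cfsg.Agent.R01.Start
open Cfsg.Agent.SporadicStructure

/-! ### The sign argument -/

section sign

variable {P : Type*} [Group P] {T : Set P}

/-- The action by conjugation on an invariant set. -/
def actT (T : Set P) (hT : ∀ g : P, ∀ a ∈ T, g * a * g⁻¹ ∈ T) : P →* Equiv.Perm T where
  toFun g :=
    { toFun := fun b => ⟨g * b * g⁻¹, hT g b b.2⟩
      invFun := fun b => ⟨g⁻¹ * b * g, by
        have := hT g⁻¹ b b.2
        rwa [inv_inv] at this⟩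
      left_inv := fun b => Subtype.ext (by simp only; group)
      right_inv := fun b => Subtype.ext (by simp only; group) }
  map_one' := by
    ext b
    simp
  map_mul' := by
    intro g k
    ext b
    simp only [Equiv.coe_fn_mk, Equiv.Perm.mul_apply]
    group

@[simp] theorem actT_apply (T : Set P) (hT : ∀ g : P, ∀ a ∈ T, g * a * g⁻¹ ∈ T) (g : P) (b : T) :
    ((actT T hT g b : T) : P) = g * b * g⁻¹ := rfl

/-- An involution of a perfect group commutes with a member of every invariant set whose cardinality is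
odd or two modulo four. -/
theorem exists_commute [Finite P] (hT : ∀ g : P, ∀ a ∈ T, g * a * g⁻¹ ∈ T)
    (hperf : commutator P = ⊤) (hcard : Nat.card T % 4 = 2 ∨ Odd (Nat.card T)) {τ : P}
    (hτ : τ * τ = 1) : ∃ t ∈ T, τ * t = t * τ := by
  classical
  by_contra hcon
  push Not at hcon
  let _ : Fintype T := Fintype.ofFinite _
  set σ := actT T hT τ with hσ
  have hσ2 : σ ^ 2 = 1 := by
    rw [hσ, ← map_pow, pow_two, hτ, map_one]
  have hfix : Function.fixedPoints σ = ∅ := by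
    ext b
    simp only [Function.mem_fixedPoints, Set.mem_empty_iff_false, iff_false]
    intro hb
    have h1 : ((σ b : T) : P) = b := congrArg Subtype.val hb
    rw [hσ, actT_apply] at h1
    exact hcon b b.2 (mul_inv_eq_iff_eq_mul.mp h1)
  have h1 := Equiv.Perm.sign_of_pow_two_eq_one hσ2
  have h2 : Fintype.card (Function.fixedPoints σ) = 0 := by
    rw [Fintype.card_eq_zero_iff, hfix]
    exact Set.isEmpty_coe_sort.mpr rfl
  rw [h2, Nat.sub_zero] at h1
  have h3 : Equiv.Perm.sign σ = 1 := by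
    have h4 : commutator P ≤ (Equiv.Perm.sign.comp (actT T hT)).ker :=
      Abelianization.commutator_subset_ker _
    rw [hperf] at h4
    exact h4 (Subgroup.mem_top τ)
  rw [h3] at h1
  have h4 : 2 ∣ Fintype.card T := by
    by_contra h5
    have hσ2' : σ ^ 2 ^ 1 = 1 := by rw [pow_one]; exact hσ2
    obtain ⟨b, hb⟩ := Equiv.Perm.exists_fixed_point_of_prime (p := 2) (n := 1) h5 hσ2'
    have h6 : b ∈ Function.fixedPoints σ := hb
    rw [hfix] at h6
    exact h6
  rw [Nat.card_eq_fintype_card] at hcard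
  rcases hcard with h5 | h5
  · have h6 : Odd (Fintype.card T / 2) := by rw [Nat.odd_iff]; omega
    rw [h6.neg_one_pow] at h1
    exact absurd h1 (by decide)
  · rw [Nat.odd_iff] at h5; omega

end sign

/-! ### Involutions as products of commuting members -/

section products

variable {P : Type*} [Group P] {F : Type*} [Field F] [Fintype F] {hF : Fintype.card F = 2 ^ 2}
  {T : Set P}

/-- An element centralising a member of `T`, of square one, is a product of at most four different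
commuting members. -/
theorem exists_list_of_locAt {d : P} (hd : d ∈ T) (hL : R01.Loc.LocAt hF T d) {τ : P}
    (hτ : τ * τ = 1) (hτd : τ * d = d * τ) :
    ∃ l : List P, l.length ≤ 4 ∧ l.Nodup ∧ (∀ x ∈ l, x ∈ T) ∧ l.Pairwise Commute ∧ l.prod = τ := by
  obtain ⟨π, lift, L, hiff⟩ := hL
  have mem : ∀ x ∈ Dset lift, (x : P) ∈ T := fun x hx => (hiff x).mpr (Or.inr hx)
  have ne : ∀ x ∈ Dset lift, d ≠ (x : P) := by
    intro x hx h1
    have : x = zel d := Subtype.ext h1.symm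
    rw [this] at hx
    exact L.z_notMem hx
  have com : ∀ {x y : Subgroup.centralizer ({d} : Set P)}, Commute x y → Commute (x : P) (y : P) :=
    fun h => congrArg Subtype.val h
  have zcom : ∀ x : Subgroup.centralizer ({d} : Set P), Commute d (x : P) :=
    fun x => AllOfLab.zel_comm x
  obtain ⟨c₀, h0, hform⟩ := inv_form L (c := ⟨τ, mem_cent.mpr hτd⟩) (Or.inl (Subtype.ext hτ))
  -- reduction to a list of labelled elements
  have main : ∀ l : List (Subgroup.centralizer ({d} : Set P)), l.length ≤ 3 → l.Nodup →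
      (∀ x ∈ l, x ∈ Dset lift) → l.Pairwise Commute →
      (⟨τ, mem_cent.mpr hτd⟩ : Subgroup.centralizer ({d} : Set P)) = c₀ * l.prod →
      ∃ l : List P, l.length ≤ 4 ∧ l.Nodup ∧ (∀ x ∈ l, x ∈ T) ∧ l.Pairwise Commute ∧
        l.prod = τ := by
    intro l hlen hnd hlD hlc hprod
    have hprod' : τ = (c₀ : P) * (l.map Subtype.val).prod := by
      have h1 := congrArg (Subgroup.centralizer ({d} : Set P)).subtype hprod
      rw [map_mul, map_list_prod] at h1
      exact h1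
    have hnd' : (l.map (Subtype.val : Subgroup.centralizer ({d} : Set P) → P)).Nodup :=
      hnd.map Subtype.val_injective
    have hmem' : ∀ x ∈ l.map (Subtype.val : Subgroup.centralizer ({d} : Set P) → P),
        x ∈ T ∧ d ≠ x ∧ Commute d x := by
      intro x hx
      obtain ⟨y, hy, rfl⟩ := List.mem_map.mp hx
      exact ⟨mem y (hlD y hy), ne y (hlD y hy), zcom y⟩
    have hc' : (l.map (Subtype.val : Subgroup.centralizer ({d} : Set P) → P)).Pairwise Commute :=
      hlc.map _ fun _ _ h => com h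
    rcases h0 with h0 | h0
    · refine ⟨l.map Subtype.val, by rw [List.length_map]; omega, hnd', fun x hx => (hmem' x hx).1,
        hc', ?_⟩
      rw [hprod', h0]
      exact (one_mul _).symm
    · refine ⟨d :: l.map Subtype.val, by rw [List.length_cons, List.length_map]; omega, ?_, ?_, ?_,
        ?_⟩
      · rw [List.nodup_cons]
        exact ⟨fun h1 => (hmem' d h1).2.1 rfl, hnd'⟩
      · intro x hx
        rcases List.mem_cons.mp hx with rfl | hx
        · exact hd
        · exact (hmem' x hx).1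
      · rw [List.pairwise_cons]
        exact ⟨fun x hx => (hmem' x hx).2.2, hc'⟩
      · rw [List.prod_cons, hprod', h0]
        rfl
  rcases hform with hc | ⟨u, hu0, huu, hc⟩ | ⟨u, v, hf, hc⟩ | ⟨u, v, w, hf, hc⟩
  · exact main [] (by simp) (by simp) (by simp) (by simp) (by rw [List.prod_nil, mul_one]; exact hc)
  · refine main [lift u] (by simp) (by simp) ?_ (by simp)
      (by rw [List.prod_cons, List.prod_nil, mul_one]; exact hc)
    intro x hx
    rw [List.mem_singleton] at hx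
    rw [hx]
    exact Lab.mem_D hu0 huu
  · have n1 : lift u ≠ lift v := by
      intro h3
      rw [L.lift_eq_iff hf.uu hf.vv hf.u_ne hf.v_ne] at h3
      obtain ⟨c, _, hcv⟩ := h3
      exact hf.not_mul ⟨c, hcv⟩
    have c1 := lift_comm L hf.uu hf.vv hf.u_ne hf.v_ne hf.uv
    refine main [lift u, lift v] (by simp) (by simp [n1]) ?_ (by simp [c1])
      (by rw [List.prod_cons, List.prod_cons, List.prod_nil, mul_one]; exact hc)
    intro x hx
    simp only [List.mem_cons, List.not_mem_nil, or_false] at hx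
    rcases hx with rfl | rfl
    · exact Lab.mem_D hf.u_ne hf.uu
    · exact Lab.mem_D hf.v_ne hf.vv
  · obtain ⟨n1, n2, n3⟩ := AllOfLab.Fr3.lift_ne L hf
    obtain ⟨c1, c2, c3⟩ := AllOfLab.Fr3.lift_comm L hf
    refine main [lift u, lift v, lift w] (by simp) (by simp [n1, n2, n3]) ?_ (by simp [c1, c2, c3])
      (by rw [List.prod_cons, List.prod_cons, List.prod_cons, List.prod_nil, mul_one]
          rw [mul_assoc (lift u)] at hc
          exact hc)
    intro x hx
    simp only [List.mem_cons, List.not_mem_nil, or_false] at hx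
    rcases hx with rfl | rfl | rfl
    · exact Lab.mem_D hf.u_ne hf.uu
    · exact Lab.mem_D hf.v_ne hf.vv
    · exact Lab.mem_D hf.w_ne hf.ww

/-- An element of square one is a product of at most four different commuting members of `T`. -/
theorem exists_list [Finite P] (hT : ∀ g : P, ∀ a ∈ T, g * a * g⁻¹ ∈ T)
    (hperf : commutator P = ⊤) (hcard : Nat.card T % 4 = 2 ∨ Odd (Nat.card T))
    (hL : R01.Loc.Loc hF T) {τ : P} (hτ : τ * τ = 1) :
    ∃ l : List P, l.length ≤ 4 ∧ l.Nodup ∧ (∀ x ∈ l, x ∈ T) ∧ l.Pairwise Commute ∧ l.prod = τ := by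
  obtain ⟨t, ht, hτt⟩ := exists_commute hT hperf hcard hτ
  exact exists_list_of_locAt ht (hL t ht) hτ hτt

/-- An involution is a product of at most three different commuting members of `T`. -/
theorem exists_three [Finite P] (h : AllOfLab.Loc F hF T)
    (hperf : commutator P = ⊤) (hcard : Nat.card T % 4 = 2 ∨ Odd (Nat.card T))
    {τ : P} (hτ : τ * τ = 1) (hτ1 : τ ≠ 1) :
    ∃ x ∈ T, ∃ y ∈ T, ∃ w ∈ T, x ≠ y ∧ x ≠ w ∧ y ≠ w ∧ x * y = y * x ∧ x * w = w * x ∧
      y * w = w * y ∧ (τ = x ∨ τ = x * y ∨ τ = x * y * w) := by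
  obtain ⟨t, ht, hτt⟩ := exists_commute h.conj hperf hcard hτ
  obtain ⟨x, hx, y, hy, w, hw, n1, n2, n3, c1, c2, c3, -, h4⟩ := h.prod3' ht hτ hτ1 hτt
  exact ⟨x, hx, y, hy, w, hw, n1, n2, n3, c1, c2, c3, h4⟩

end products

/-! ### The double cover -/

section cover

variable {P C : Type*} [Group P] [Group C] {π : C →* P} {z : C} {T : Set P} {D : Set C}

/-- Lifting a list. -/
theorem exists_lift_list (hbij : Set.BijOn π D T) (hcomm : ∀ a ∈ D, ∀ b ∈ D, Commute (π a) (π b) →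
    Commute a b) (l : List P) (hnd : l.Nodup) (hl : ∀ x ∈ l, x ∈ T) (hc : l.Pairwise Commute) :
    ∃ m : List C, m.map π = l ∧ m.Nodup ∧ (∀ x ∈ m, x ∈ D) ∧ m.Pairwise Commute := by
  induction l with
  | nil => exact ⟨[], rfl, List.nodup_nil, by simp, List.Pairwise.nil⟩
  | cons x l ih =>
    rw [List.nodup_cons] at hnd
    rw [List.pairwise_cons] at hc
    obtain ⟨m, hm, hmn, hmD, hmc⟩ := ih hnd.2 (fun y hy => hl y (List.mem_cons_of_mem _ hy)) hc.2
    obtain ⟨y, hy, rfl⟩ := hbij.2.2 (hl x List.mem_cons_self)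
    have hmem : ∀ w ∈ m, π w ∈ l := fun w hw => by
      rw [← hm]; exact List.mem_map.mpr ⟨w, hw, rfl⟩
    refine ⟨y :: m, by rw [List.map_cons, hm], ?_, ?_, ?_⟩
    · rw [List.nodup_cons]
      exact ⟨fun h => hnd.1 (hmem y h), hmn⟩
    · intro w hw
      rcases List.mem_cons.mp hw with rfl | hw
      · exact hy
      · exact hmD w hw
    · rw [List.pairwise_cons]
      exact ⟨fun w hw => hcomm y hy w (hmD w hw) (hc.1 _ (hmem w hw)), hmc⟩

/-- The product of pairwise commuting elements of square one has square one. -/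
theorem sq_list {C : Type*} [Group C] (l : List C) (hc : l.Pairwise Commute)
    (hl : ∀ x ∈ l, x * x = 1) : l.prod * l.prod = 1 := by
  have := sq_prod (1 : C) l hc hl (fun c => by rw [mul_one, one_mul])
  rwa [one_pow] at this

theorem sq_central {C : Type*} [Group C] {c₀ b : C} (h0 : c₀ * c₀ = 1) (hb : b * b = 1)
    (hcb : c₀ * b = b * c₀) : c₀ * b * (c₀ * b) = 1 := by
  calc c₀ * b * (c₀ * b) = c₀ * (b * c₀) * b := by group
    _ = c₀ * (c₀ * b) * b := by rw [← hcb]
    _ = (c₀ * c₀) * (b * b) := by group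
    _ = 1 := by rw [h0, hb, mul_one]

section general

variable (h : Ext π z) (hbij : Set.BijOn π D T) (hsq : ∀ a ∈ D, a * a = 1)
  (hcomm : ∀ a ∈ D, ∀ b ∈ D, Commute (π a) (π b) → Commute a b)
include h hbij hcomm

/-- Lifting a product of commuting members. -/
theorem cover_list {c : C} {l : List P} (hnd : l.Nodup) (hl : ∀ x ∈ l, x ∈ T)
    (hlc : l.Pairwise Commute) (hprod : l.prod = π c) :
    ∃ (c₀ : C) (m : List C), (c₀ = 1 ∨ c₀ = z) ∧ m.length = l.length ∧ m.map π = l ∧ m.Nodup ∧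
      (∀ x ∈ m, x ∈ D) ∧ m.Pairwise Commute ∧ c = c₀ * m.prod := by
  obtain ⟨m, hm, hmn, hmD, hmc⟩ := exists_lift_list hbij hcomm l hnd hl hlc
  have hlen : m.length = l.length := by rw [← hm, List.length_map]
  have h1 : π c = π m.prod := by rw [map_list_prod, hm, hprod]
  rcases h.map_eq.1 h1 with h2 | h2
  · exact ⟨1, m, Or.inl rfl, hlen, hm, hmn, hmD, hmc, by rw [h2, one_mul]⟩
  · exact ⟨z, m, Or.inr rfl, hlen, hm, hmn, hmD, hmc, by rw [h2, h.comm]⟩

include hsq in
theorem cover_sq {c₀ : C} (h0 : c₀ = 1 ∨ c₀ = z) {m : List C} (hmD : ∀ x ∈ m, x ∈ D)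
    (hmc : m.Pairwise Commute) : c₀ * m.prod * (c₀ * m.prod) = 1 := by
  have h1 : c₀ * c₀ = 1 := by
    rcases h0 with rfl | rfl
    · exact mul_one 1
    · exact h.zz
  refine sq_central h1 (sq_list m hmc fun x hx => hsq x (hmD x hx)) ?_
  rcases h0 with rfl | rfl
  · rw [one_mul, mul_one]
  · exact (h.comm _).symm

end general

/-- The hypotheses on `P` and `T`: the group `Fi22` and its transpositions. -/
structure Base (P : Type*) [Group P] {F : Type*} [Field F] [Fintype F] (hF : Fintype.card F = 2 ^ 2)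
    (T : Set P) : Prop where
  conj : ∀ g : P, ∀ a ∈ T, g * a * g⁻¹ ∈ T
  perf : commutator P = ⊤
  card : Nat.card T % 4 = 2 ∨ Odd (Nat.card T)
  loc : R01.Loc.Loc hF T

/-- The hypotheses on the extension `C` of `P` by `⟨z⟩` and the set `D` of lifts of `T`. -/
structure Cover (π : C →* P) (z : C) (T : Set P) (D : Set C) : Prop where
  ext : Ext π z
  bij : Set.BijOn π D T
  sq : ∀ a ∈ D, a * a = 1
  comm : ∀ a ∈ D, ∀ b ∈ D, Commute (π a) (π b) → Commute a b

variable {F : Type*} [Field F] [Fintype F] {hF : Fintype.card F = 2 ^ 2}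

/-- **KEY**, list form. -/
theorem Cover.key_list [Finite P] (hC : Cover π z T D) (hP : Base P hF T) {c : C}
    (hc : c * c = 1 ∨ c * c = z) :
    ∃ (c₀ : C) (m : List C), (c₀ = 1 ∨ c₀ = z) ∧ m.length ≤ 4 ∧ m.Nodup ∧
      (∀ x ∈ m, x ∈ D) ∧ m.Pairwise Commute ∧ c = c₀ * m.prod := by
  have h1 : π c * π c = 1 := by
    rw [← map_mul]
    rcases hc with h | h
    · rw [h, map_one]
    · rw [h, hC.ext.mapz]
  obtain ⟨l, hlen, hnd, hlT, hlc, hprod⟩ := exists_list hP.conj hP.perf hP.card hP.loc h1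
  obtain ⟨c₀, m, h0, hm, -, hmn, hmD, hmc, h2⟩ :=
    cover_list hC.ext hC.bij hC.comm hnd hlT hlc hprod
  exact ⟨c₀, m, h0, by omega, hmn, hmD, hmc, h2⟩

/-- **KEY**: if `c ^ 2` is `1` or `z` then `c ^ 2 = 1`. -/
theorem Cover.sq_eq_one [Finite P] (hC : Cover π z T D) (hP : Base P hF T) {c : C}
    (hc : c * c = 1 ∨ c * c = z) : c * c = 1 := by
  obtain ⟨c₀, m, h0, -, -, hmD, hmc, h2⟩ := hC.key_list hP hc
  rw [h2]
  exact cover_sq hC.ext hC.bij hC.sq hC.comm h0 hmD hmc

/-- **KEY**: `z` is not a square. -/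
theorem Cover.not_sq [Finite P] (hC : Cover π z T D) (hP : Base P hF T) (c : C) : c * c ≠ z := by
  intro h
  have h1 := hC.sq_eq_one hP (Or.inr h)
  rw [h] at h1
  exact hC.ext.zne h1

/-- Lifting of commuting members. -/
theorem Cover.exists_lift (hC : Cover π z T D) {x : P} (hx : x ∈ T) : ∃ a ∈ D, π a = x :=
  hC.bij.2.2 hx

theorem Cover.inj (hC : Cover π z T D) {a b : C} (ha : a ∈ D) (hb : b ∈ D) (h : π a = π b) :
    a = b := hC.bij.2.1 ha hb h

/-- **KEY**: an element `c` with `c ^ 2 ∈ {1, z}` is up to `z` a product of at most three different commuting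
members of `D`. -/
theorem Cover.key_three [Finite P] (hC : Cover π z T D) (hP : AllOfLab.Loc F hF T)
    (hperf : commutator P = ⊤) (hcard : Nat.card T % 4 = 2 ∨ Odd (Nat.card T)) {c : C}
    (hc : c * c = 1 ∨ c * c = z) :
    ∃ c₀ : C, (c₀ = 1 ∨ c₀ = z) ∧ (c = c₀ ∨ ∃ x ∈ D, ∃ y ∈ D, ∃ w ∈ D, x ≠ y ∧ x ≠ w ∧ y ≠ w ∧
      x * y = y * x ∧ x * w = w * x ∧ y * w = w * y ∧
      (c = c₀ * x ∨ c = c₀ * (x * y) ∨ c = c₀ * (x * y * w))) := by
  have h1 : π c * π c = 1 := by
    rw [← map_mul]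
    rcases hc with h | h
    · rw [h, map_one]
    · rw [h, hC.ext.mapz]
  have main : ∀ b : C, π c = π b → ∃ c₀ : C, (c₀ = 1 ∨ c₀ = z) ∧ c = c₀ * b := by
    intro b hb
    rcases hC.ext.map_eq.1 hb with h | h
    · exact ⟨1, Or.inl rfl, by rw [h, one_mul]⟩
    · exact ⟨z, Or.inr rfl, by rw [h, hC.ext.comm]⟩
  by_cases h2 : π c = 1
  · obtain ⟨c₀, h0, h3⟩ := main 1 (by rw [h2, map_one])
    exact ⟨c₀, h0, Or.inl (by rw [h3, mul_one])⟩
  obtain ⟨x, hx, y, hy, w, hw, n1, n2, n3, c1, c2, c3, h4⟩ := exists_three hP hperf hcard h1 h2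
  obtain ⟨x, hx', rfl⟩ := hC.exists_lift hx
  obtain ⟨y, hy', rfl⟩ := hC.exists_lift hy
  obtain ⟨w, hw', rfl⟩ := hC.exists_lift hw
  have hh : ∃ c₀ : C, (c₀ = 1 ∨ c₀ = z) ∧
      (c = c₀ * x ∨ c = c₀ * (x * y) ∨ c = c₀ * (x * y * w)) := by
    rcases h4 with h4 | h4 | h4
    · obtain ⟨c₀, h0, h3⟩ := main x h4
      exact ⟨c₀, h0, Or.inl h3⟩
    · obtain ⟨c₀, h0, h3⟩ := main (x * y) (by rw [h4, map_mul])
      exact ⟨c₀, h0, Or.inr (Or.inl h3)⟩
    · obtain ⟨c₀, h0, h3⟩ := main (x * y * w) (by rw [h4, map_mul, map_mul])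
      exact ⟨c₀, h0, Or.inr (Or.inr h3)⟩
  obtain ⟨c₀, h0, h5⟩ := hh
  exact ⟨c₀, h0, Or.inr ⟨x, hx', y, hy', w, hw', fun h => n1 (by rw [h]), fun h => n2 (by rw [h]),
    fun h => n3 (by rw [h]), hC.comm x hx' y hy' c1, hC.comm x hx' w hw' c2,
    hC.comm y hy' w hw' c3, h5⟩⟩

end cover

/-! ### Transitivity -/

section transitivity

variable {P : Type*} [Group P] {F : Type*} [Field F] [Fintype F] {hF : Fintype.card F = 2 ^ 2}
  {T : Set P}

/-- Transitivity of `P` on the pairs of different commuting members. -/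
theorem trans_pairs (hT : ∀ g : P, ∀ a ∈ T, g * a * g⁻¹ ∈ T) (hL : R01.Loc.Loc hF T)
    (htr : ∀ a ∈ T, ∀ b ∈ T, ∃ g : P, g * a * g⁻¹ = b) :
    ∀ a ∈ T, ∀ b ∈ T, ∀ a' ∈ T, ∀ b' ∈ T, a ≠ b → a' ≠ b' → a * b = b * a → a' * b' = b' * a' →
      ∃ g : P, g * a * g⁻¹ = a' ∧ g * b * g⁻¹ = b' := by
  intro a ha b hb a' ha' b' hb' nab nab' cab cab'
  obtain ⟨g, hg⟩ := htr a ha a' ha'
  obtain ⟨π, lift, L, hiff⟩ := hL a' ha'
  have e1 : g * b * g⁻¹ * a' = a' * (g * b * g⁻¹) := by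
    rw [← hg]
    calc g * b * g⁻¹ * (g * a * g⁻¹) = g * (b * a) * g⁻¹ := by group
      _ = g * (a * b) * g⁻¹ := by rw [cab]
      _ = g * a * g⁻¹ * (g * b * g⁻¹) := by group
  have n1 : g * b * g⁻¹ ≠ a' := by
    intro h
    rw [← hg] at h
    exact nab (mul_left_cancel (mul_right_cancel h)).symm
  have m1 := AllOfLab.mem_Dset_of hiff (hT g b hb) e1 n1
  have m2 := AllOfLab.mem_Dset_of hiff hb' cab'.symm nab'.symm
  obtain ⟨u, hu0, hu, h1⟩ := m1
  obtain ⟨v, hv0, hv, h2⟩ := m2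
  obtain ⟨c, hc⟩ := L.trans hu hv hu0 hv0
  rw [← h1, ← h2] at hc
  refine ⟨c * g, ?_, ?_⟩
  · calc (c : P) * g * a * (c * g)⁻¹ = c * (g * a * g⁻¹) * (c : P)⁻¹ := by group
      _ = c * a' * (c : P)⁻¹ := by rw [hg]
      _ = a' := by rw [← AllOfLab.zel_comm c, mul_inv_cancel_right]
  · calc (c : P) * g * b * (c * g)⁻¹ = c * (g * b * g⁻¹) * (c : P)⁻¹ := by group
      _ = b' := congrArg Subtype.val hc

/-- Transitivity of `P` on the triples of different commuting members. -/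
theorem trans_triples (hT : ∀ g : P, ∀ a ∈ T, g * a * g⁻¹ ∈ T) (hL : R01.Loc.Loc hF T)
    (htr : ∀ a ∈ T, ∀ b ∈ T, ∃ g : P, g * a * g⁻¹ = b) :
    ∀ a ∈ T, ∀ b ∈ T, ∀ d ∈ T, ∀ a' ∈ T, ∀ b' ∈ T, ∀ d' ∈ T, a ≠ b → a ≠ d → b ≠ d →
      a' ≠ b' → a' ≠ d' → b' ≠ d' → a * b = b * a → a * d = d * a → b * d = d * b →
      a' * b' = b' * a' → a' * d' = d' * a' → b' * d' = d' * b' →
      ∃ g : P, g * a * g⁻¹ = a' ∧ g * b * g⁻¹ = b' ∧ g * d * g⁻¹ = d' := by
  intro a ha b hb d hd a' ha' b' hb' d' hd' nab nad nbd nab' nad' nbd' cab cad cbd cab' cad' cbd'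
  obtain ⟨g, hg⟩ := htr a ha a' ha'
  obtain ⟨π, lift, L, hiff⟩ := hL a' ha'
  have e : ∀ x : P, a * x = x * a → g * x * g⁻¹ * a' = a' * (g * x * g⁻¹) := by
    intro x hx
    rw [← hg]
    calc g * x * g⁻¹ * (g * a * g⁻¹) = g * (x * a) * g⁻¹ := by group
      _ = g * (a * x) * g⁻¹ := by rw [hx]
      _ = g * a * g⁻¹ * (g * x * g⁻¹) := by group
  have n : ∀ x : P, a ≠ x → g * x * g⁻¹ ≠ a' := by
    intro x hx h
    rw [← hg] at h
    exact hx (mul_left_cancel (mul_right_cancel h)).symm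
  have m1 := AllOfLab.mem_Dset_of hiff (hT g b hb) (e b cab) (n b nab)
  have m2 := AllOfLab.mem_Dset_of hiff (hT g d hd) (e d cad) (n d nad)
  have m3 := AllOfLab.mem_Dset_of hiff hb' cab'.symm nab'.symm
  have m4 := AllOfLab.mem_Dset_of hiff hd' cad'.symm nad'.symm
  obtain ⟨c, hc1, hc2⟩ := L.trans_commuting _ m1 _ m2 _ m3 _ m4
    (fun h => nbd (mul_left_cancel (mul_right_cancel (congrArg Subtype.val h))))
    (fun h => nbd' (congrArg Subtype.val h))
    (AllOfLab.comm_coe.mpr (by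
      show g * b * g⁻¹ * (g * d * g⁻¹) = g * d * g⁻¹ * (g * b * g⁻¹)
      calc g * b * g⁻¹ * (g * d * g⁻¹) = g * (b * d) * g⁻¹ := by group
        _ = g * (d * b) * g⁻¹ := by rw [cbd]
        _ = g * d * g⁻¹ * (g * b * g⁻¹) := by group))
    (AllOfLab.comm_coe.mpr cbd')
  refine ⟨c * g, ?_, ?_, ?_⟩
  · calc (c : P) * g * a * (c * g)⁻¹ = c * (g * a * g⁻¹) * (c : P)⁻¹ := by group
      _ = c * a' * (c : P)⁻¹ := by rw [hg]
      _ = a' := by rw [← AllOfLab.zel_comm c, mul_inv_cancel_right]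
  · calc (c : P) * g * b * (c * g)⁻¹ = c * (g * b * g⁻¹) * (c : P)⁻¹ := by group
      _ = b' := congrArg Subtype.val hc1
  · calc (c : P) * g * d * (c * g)⁻¹ = c * (g * d * g⁻¹) * (c : P)⁻¹ := by group
      _ = d' := congrArg Subtype.val hc2

/-- Three different commuting members of `T` are contained in a hexad: six different commuting members with
product one. -/
theorem exists_hexad (hL : R01.Loc.Loc hF T) {a b d : P} (ha : a ∈ T) (hb : b ∈ T) (hd : d ∈ T)
    (nab : a ≠ b) (nad : a ≠ d) (nbd : b ≠ d) (cab : a * b = b * a) (cad : a * d = d * a)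
    (cbd : b * d = d * b) :
    ∃ x ∈ T, ∃ y ∈ T, ∃ w ∈ T, [a, b, d, x, y, w].Nodup ∧ [a, b, d, x, y, w].Pairwise Commute ∧
      a * b * d * x * y * w = 1 := by
  obtain ⟨π, lift, L, hiff⟩ := hL a ha
  have com : ∀ {x y : Subgroup.centralizer ({a} : Set P)}, Commute x y → Commute (x : P) (y : P) :=
    fun h => congrArg Subtype.val h
  have zcom : ∀ x : Subgroup.centralizer ({a} : Set P), Commute a (x : P) :=
    fun x => AllOfLab.zel_comm x
  have ne : ∀ x ∈ Dset lift, a ≠ (x : P) := by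
    intro x hx h1
    have : x = zel a := Subtype.ext h1.symm
    rw [this] at hx
    exact L.z_notMem hx
  obtain ⟨u, hu0, hu, h1⟩ := AllOfLab.mem_Dset_of hiff hb cab.symm nab.symm
  obtain ⟨v, hv0, hv, h2⟩ := AllOfLab.mem_Dset_of hiff hd cad.symm nad.symm
  have hbu : b = (lift u : P) := congrArg Subtype.val h1
  have hdv : d = (lift v : P) := congrArg Subtype.val h2
  subst hbu
  subst hdv
  have huv : hermForm 6 F 2 u v = 0 :=
    (L.commute_iff hu hv hu0 hv0).1 (AllOfLab.comm_coe.mpr cbd)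
  have hvu := herm_eq_zero_swap hF huv
  have hne : ¬ ∃ c : F, v = c • u := by
    rintro ⟨c, rfl⟩
    apply nbd
    have hc : c ≠ 0 := fun h => hv0 (by rw [h, zero_smul])
    rw [L.smul u c hu hc]
  obtain ⟨ω, hω⟩ := UnitTwo.exists_omega hF
  have h6 : ω ≠ 0 := by
    rintro rfl
    simp at hω
  have hline := L.line u v hu0 hv0 hu hv huv hne ω hω
  -- the points of the line
  have hpt : ∀ s t s' t' : F, hermForm 6 F 2 (s • u + t • v) (s' • u + t' • v) = 0 := by
    intro s t s' t'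
    simp [herm_add_left, herm_add_right hF, herm_smul_left, herm_smul_right, hu, hv, huv, hvu]
  have hp0 : ∀ s t : F, (s ≠ 0 ∨ t ≠ 0) → s • u + t • v ≠ 0 := by
    intro s t hst h0
    by_cases ht : t = 0
    · rw [ht, zero_smul, add_zero] at h0
      rcases smul_eq_zero.1 h0 with h3 | h3
      · rcases hst with h4 | h4
        · exact h4 h3
        · exact h4 ht
      · exact hu0 h3
    · apply hne
      refine ⟨-(t⁻¹ * s), ?_⟩
      have h3 : t • v = -(s • u) := eq_neg_of_add_eq_zero_right h0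
      have h4 : v = t⁻¹ • (t • v) := by rw [smul_smul, inv_mul_cancel₀ ht, one_smul]
      rw [h4, h3, smul_neg, smul_smul, neg_smul]
  have hpne : ∀ s t s' t' : F, (s ≠ 0 ∨ t ≠ 0) → (s' ≠ 0 ∨ t' ≠ 0) → s * t' ≠ s' * t →
      lift (s • u + t • v) ≠ lift (s' • u + t' • v) := by
    intro s t s' t' h3 h4 h5 h7
    obtain ⟨c, hc0, hc⟩ := (L.lift_eq_iff (hpt s t s t) (hpt s' t' s' t') (hp0 s t h3)
      (hp0 s' t' h4)).1 h7
    have h8 : (s' - c * s) • u + (t' - c * t) • v = 0 := by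
      have : (s' - c * s) • u + (t' - c * t) • v = (s' • u + t' • v) - c • (s • u + t • v) := by
        module
      rw [this, hc, sub_self]
    by_cases h9 : s' - c * s ≠ 0 ∨ t' - c * t ≠ 0
    · exact hp0 _ _ h9 h8
    · push Not at h9
      apply h5
      linear_combination (-t) * h9.1 + s * h9.2
  have hpc : ∀ s t s' t' : F, (s ≠ 0 ∨ t ≠ 0) → (s' ≠ 0 ∨ t' ≠ 0) →
      Commute (lift (s • u + t • v) : P) (lift (s' • u + t' • v) : P) := by
    intro s t s' t' h3 h4
    exact com ((L.commute_iff (hpt s t s t) (hpt s' t' s' t') (hp0 s t h3) (hp0 s' t' h4)).2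
      (hpt s t s' t'))
  have e1 : u = (1 : F) • u + (0 : F) • v := by module
  have e2 : v = (0 : F) • u + (1 : F) • v := by module
  have e3 : u + v = (1 : F) • u + (1 : F) • v := by module
  have e4 : ω • u + v = ω • u + (1 : F) • v := by module
  have e5 : ω ^ 2 • u + v = ω ^ 2 • u + (1 : F) • v := by module
  have hD : ∀ s t : F, (s ≠ 0 ∨ t ≠ 0) → lift (s • u + t • v) ∈ Dset lift := fun s t hst =>
    Lab.mem_D (hp0 s t hst) (hpt s t s t)
  have o1 : (1 : F) ≠ 0 ∨ (0 : F) ≠ 0 := Or.inl one_ne_zero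
  have o2 : (0 : F) ≠ 0 ∨ (1 : F) ≠ 0 := Or.inr one_ne_zero
  have o3 : (1 : F) ≠ 0 ∨ (1 : F) ≠ 0 := Or.inl one_ne_zero
  have o4 : ω ≠ 0 ∨ (1 : F) ≠ 0 := Or.inl h6
  have o5 : ω ^ 2 ≠ 0 ∨ (1 : F) ≠ 0 := Or.inr one_ne_zero
  have w1 : ω ≠ 1 := by
    rintro rfl
    have h2 := AllOfLab.two_eq_zero' hF
    have : (1 : F) = 0 := by linear_combination hω - h2
    exact one_ne_zero this
  have w2 : ω ^ 2 ≠ 1 := by
    intro h
    rw [h] at hω
    have h2 := AllOfLab.two_eq_zero' hF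
    exact h6 (by linear_combination hω - h2)
  have w3 : ω ≠ ω ^ 2 := by
    intro h
    rw [← h] at hω
    have h2 := AllOfLab.two_eq_zero' hF
    have : (1 : F) = 0 := by linear_combination hω - ω * h2
    exact one_ne_zero this
  have hsub : ∀ {x y : Subgroup.centralizer ({a} : Set P)}, x ≠ y → (x : P) ≠ (y : P) :=
    fun h h' => h (Subtype.ext h')
  refine ⟨lift (u + v), (hiff _).2 (Or.inr (by rw [e3]; exact hD _ _ o3)), lift (ω • u + v),
    (hiff _).2 (Or.inr (by rw [e4]; exact hD _ _ o4)), lift (ω ^ 2 • u + v),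
    (hiff _).2 (Or.inr (by rw [e5]; exact hD _ _ o5)), ?_, ?_, ?_⟩
  · have d1 := hD _ _ o1
    have d2 := hD _ _ o2
    have d3 := hD _ _ o3
    have d4 := hD _ _ o4
    have d5 := hD _ _ o5
    have q12 := hsub (hpne _ _ _ _ o1 o2 (by simp))
    have q13 := hsub (hpne _ _ _ _ o1 o3 (by simp))
    have q14 := hsub (hpne _ _ _ _ o1 o4 (by simp))
    have q15 := hsub (hpne _ _ _ _ o1 o5 (by simp))
    have q23 := hsub (hpne _ _ _ _ o2 o3 (by simp))
    have q24 := hsub (hpne _ _ _ _ o2 o4 (by simpa using h6.symm))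
    have q25 := hsub (hpne _ _ _ _ o2 o5 (by simpa using (pow_ne_zero 2 h6).symm))
    have q34 := hsub (hpne _ _ _ _ o3 o4 (by simpa using w1.symm))
    have q35 := hsub (hpne _ _ _ _ o3 o5 (by simpa using w2.symm))
    have q45 := hsub (hpne _ _ _ _ o4 o5 (by simpa using w3))
    rw [← e1] at d1 q12 q13 q14 q15
    rw [← e2] at d2 q12 q23 q24 q25
    rw [← e3] at d3 q13 q23 q34 q35
    rw [← e4] at d4 q14 q24 q34 q45
    rw [← e5] at d5 q15 q25 q35 q45
    simp [ne _ d1, ne _ d2, ne _ d3, ne _ d4, ne _ d5, q12, q13, q14, q15, q23, q24, q25, q34,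
      q35, q45]
  · have q12 := hpc _ _ _ _ o1 o2
    have q13 := hpc _ _ _ _ o1 o3
    have q14 := hpc _ _ _ _ o1 o4
    have q15 := hpc _ _ _ _ o1 o5
    have q23 := hpc _ _ _ _ o2 o3
    have q24 := hpc _ _ _ _ o2 o4
    have q25 := hpc _ _ _ _ o2 o5
    have q34 := hpc _ _ _ _ o3 o4
    have q35 := hpc _ _ _ _ o3 o5
    have q45 := hpc _ _ _ _ o4 o5
    rw [← e1] at q12 q13 q14 q15
    rw [← e2] at q12 q23 q24 q25
    rw [← e3] at q13 q23 q34 q35
    rw [← e4] at q14 q24 q34 q45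
    rw [← e5] at q15 q25 q35 q45
    simp [zcom, q12, q13, q14, q15, q23, q24, q25, q34, q35, q45]
  · have h3 : (lift u : P) * lift v * lift (u + v) * lift (ω • u + v) * lift (ω ^ 2 • u + v) = a :=
      congrArg Subtype.val hline
    have haa : a * a = 1 := congrArg Subtype.val L.ext.zz
    calc a * (lift u : P) * lift v * lift (u + v) * lift (ω • u + v) * lift (ω ^ 2 • u + v)
        = a * ((lift u : P) * lift v * lift (u + v) * lift (ω • u + v) *
            lift (ω ^ 2 • u + v)) := by group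
      _ = 1 := by rw [h3, haa]

end transitivity

/-! ### Transitivity in the double cover -/

section covertrans

variable {P C : Type*} [Group P] [Group C] {π : C →* P} {z : C} {T : Set P} {D : Set C}
  {F : Type*} [Field F] [Fintype F] {hF : Fintype.card F = 2 ^ 2}

theorem Cover.commute_iff (hC : Cover π z T D) {a b : C} (ha : a ∈ D) (hb : b ∈ D) :
    π a * π b = π b * π a ↔ a * b = b * a := by
  constructor
  · exact fun h => hC.comm a ha b hb h
  · intro h
    rw [← map_mul, h, map_mul]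

/-- Transitivity of `C` on the triples of different commuting members of `D`. -/
theorem Cover.trans_triples (hC : Cover π z T D) (hDc : ∀ c : C, ∀ a ∈ D, c * a * c⁻¹ ∈ D)
    (hT : ∀ g : P, ∀ a ∈ T, g * a * g⁻¹ ∈ T) (hL : R01.Loc.Loc hF T)
    (htr : ∀ a ∈ T, ∀ b ∈ T, ∃ g : P, g * a * g⁻¹ = b) :
    ∀ a ∈ D, ∀ b ∈ D, ∀ d ∈ D, ∀ a' ∈ D, ∀ b' ∈ D, ∀ d' ∈ D, a ≠ b → a ≠ d → b ≠ d →
      a' ≠ b' → a' ≠ d' → b' ≠ d' → a * b = b * a → a * d = d * a → b * d = d * b →
      a' * b' = b' * a' → a' * d' = d' * a' → b' * d' = d' * b' →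
      ∃ g : C, g * a * g⁻¹ = a' ∧ g * b * g⁻¹ = b' ∧ g * d * g⁻¹ = d' := by
  intro a ha b hb d hd a' ha' b' hb' d' hd' nab nad nbd nab' nad' nbd' cab cad cbd cab' cad' cbd'
  have m : ∀ x ∈ D, π x ∈ T := fun x hx => hC.bij.1 hx
  have n : ∀ x ∈ D, ∀ y ∈ D, x ≠ y → π x ≠ π y := fun x hx y hy h h' => h (hC.inj hx hy h')
  obtain ⟨g, h1, h2, h3⟩ := KeyFi22.trans_triples hT hL htr (π a) (m a ha) (π b) (m b hb) (π d)
    (m d hd) (π a') (m a' ha') (π b') (m b' hb') (π d') (m d' hd') (n a ha b hb nab)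
    (n a ha d hd nad) (n b hb d hd nbd) (n a' ha' b' hb' nab') (n a' ha' d' hd' nad')
    (n b' hb' d' hd' nbd') ((hC.commute_iff ha hb).2 cab) ((hC.commute_iff ha hd).2 cad)
    ((hC.commute_iff hb hd).2 cbd) ((hC.commute_iff ha' hb').2 cab')
    ((hC.commute_iff ha' hd').2 cad') ((hC.commute_iff hb' hd').2 cbd')
  obtain ⟨c, rfl⟩ := hC.ext.surj g
  refine ⟨c, hC.inj (hDc c a ha) ha' ?_, hC.inj (hDc c b hb) hb' ?_, hC.inj (hDc c d hd) hd' ?_⟩
  · rw [map_mul, map_mul, map_inv, h1]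
  · rw [map_mul, map_mul, map_inv, h2]
  · rw [map_mul, map_mul, map_inv, h3]

/-- Transitivity of `C` on the pairs of different commuting members of `D`. -/
theorem Cover.trans_pairs (hC : Cover π z T D) (hDc : ∀ c : C, ∀ a ∈ D, c * a * c⁻¹ ∈ D)
    (hT : ∀ g : P, ∀ a ∈ T, g * a * g⁻¹ ∈ T) (hL : R01.Loc.Loc hF T)
    (htr : ∀ a ∈ T, ∀ b ∈ T, ∃ g : P, g * a * g⁻¹ = b) :
    ∀ a ∈ D, ∀ b ∈ D, ∀ a' ∈ D, ∀ b' ∈ D, a ≠ b → a' ≠ b' → a * b = b * a → a' * b' = b' * a' →
      ∃ g : C, g * a * g⁻¹ = a' ∧ g * b * g⁻¹ = b' := by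
  intro a ha b hb a' ha' b' hb' nab nab' cab cab'
  have m : ∀ x ∈ D, π x ∈ T := fun x hx => hC.bij.1 hx
  have n : ∀ x ∈ D, ∀ y ∈ D, x ≠ y → π x ≠ π y := fun x hx y hy h h' => h (hC.inj hx hy h')
  obtain ⟨g, h1, h2⟩ := KeyFi22.trans_pairs hT hL htr (π a) (m a ha) (π b) (m b hb)
    (π a') (m a' ha') (π b') (m b' hb') (n a ha b hb nab) (n a' ha' b' hb' nab')
    ((hC.commute_iff ha hb).2 cab) ((hC.commute_iff ha' hb').2 cab')
  obtain ⟨c, rfl⟩ := hC.ext.surj g
  refine ⟨c, hC.inj (hDc c a ha) ha' ?_, hC.inj (hDc c b hb) hb' ?_⟩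
  · rw [map_mul, map_mul, map_inv, h1]
  · rw [map_mul, map_mul, map_inv, h2]

/-- Transitivity of `C` on `D`. -/
theorem Cover.trans (hC : Cover π z T D) (hDc : ∀ c : C, ∀ a ∈ D, c * a * c⁻¹ ∈ D)
    (htr : ∀ a ∈ T, ∀ b ∈ T, ∃ g : P, g * a * g⁻¹ = b) :
    ∀ a ∈ D, ∀ b ∈ D, ∃ g : C, g * a * g⁻¹ = b := by
  intro a ha b hb
  obtain ⟨g, h1⟩ := htr (π a) (hC.bij.1 ha) (π b) (hC.bij.1 hb)
  obtain ⟨c, rfl⟩ := hC.ext.surj g
  exact ⟨c, hC.inj (hDc c a ha) hb (by rw [map_mul, map_mul, map_inv, h1])⟩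

/-- The hypothesis on the hexads: the lifts of six commuting members with product one have product `z`. -/
def HexZ (π : C →* P) (z : C) (D : Set C) : Prop :=
  ∀ a ∈ D, ∀ b ∈ D, ∀ c ∈ D, ∀ x ∈ D, ∀ y ∈ D, ∀ w ∈ D, [a, b, c, x, y, w].Nodup →
    [a, b, c, x, y, w].Pairwise Commute → π (a * b * c * x * y * w) = 1 → a * b * c * x * y * w = z

/-- Three commuting members of `D` lie in a hexad. -/
theorem Cover.exists_hexad (hC : Cover π z T D) (hL : R01.Loc.Loc hF T) {a b d : C} (ha : a ∈ D)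
    (hb : b ∈ D) (hd : d ∈ D) (nab : a ≠ b) (nad : a ≠ d) (nbd : b ≠ d) (cab : a * b = b * a)
    (cad : a * d = d * a) (cbd : b * d = d * b) :
    ∃ x ∈ D, ∃ y ∈ D, ∃ w ∈ D, [a, b, d, x, y, w].Nodup ∧ [a, b, d, x, y, w].Pairwise Commute ∧
      π (a * b * d * x * y * w) = 1 := by
  have n : ∀ x ∈ D, ∀ y ∈ D, x ≠ y → π x ≠ π y := fun x hx y hy h h' => h (hC.inj hx hy h')
  obtain ⟨x, hx, y, hy, w, hw, h1, h2, h3⟩ := KeyFi22.exists_hexad hL (hC.bij.1 ha) (hC.bij.1 hb)
    (hC.bij.1 hd) (n a ha b hb nab) (n a ha d hd nad) (n b hb d hd nbd)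
    ((hC.commute_iff ha hb).2 cab) ((hC.commute_iff ha hd).2 cad) ((hC.commute_iff hb hd).2 cbd)
  obtain ⟨x, hx', rfl⟩ := hC.exists_lift hx
  obtain ⟨y, hy', rfl⟩ := hC.exists_lift hy
  obtain ⟨w, hw', rfl⟩ := hC.exists_lift hw
  have e : [π a, π b, π d, π x, π y, π w] = [a, b, d, x, y, w].map π := rfl
  have hmem : ∀ u ∈ [a, b, d, x, y, w], u ∈ D := by
    intro u hu
    simp only [List.mem_cons, List.not_mem_nil, or_false] at hu
    rcases hu with rfl | rfl | rfl | rfl | rfl | rfl <;> assumption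
  rw [e] at h1 h2
  refine ⟨x, hx', y, hy', w, hw', List.Nodup.of_map _ h1, ?_, ?_⟩
  · rw [List.pairwise_map] at h2
    exact h2.imp_of_mem fun {u v} hu hv h => hC.comm u (hmem u hu) v (hmem v hv) h
  · simp only [map_mul]
    exact h3

/-- `z` times the product of three commuting members is the product of three commuting members (the rest of
the hexad), all six being different. -/
theorem Cover.z_mul_three (hC : Cover π z T D) (hL : R01.Loc.Loc hF T) (hZ : HexZ π z D)
    {a b d : C} (ha : a ∈ D)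
    (hb : b ∈ D) (hd : d ∈ D) (nab : a ≠ b) (nad : a ≠ d) (nbd : b ≠ d) (cab : a * b = b * a)
    (cad : a * d = d * a) (cbd : b * d = d * b) :
    ∃ x ∈ D, ∃ y ∈ D, ∃ w ∈ D, [a, b, d, x, y, w].Nodup ∧ [a, b, d, x, y, w].Pairwise Commute ∧
      z * (a * b * d) = x * y * w := by
  obtain ⟨x, hx, y, hy, w, hw, h1, h2, h3⟩ := hC.exists_hexad hL ha hb hd nab nad nbd cab cad cbd
  refine ⟨x, hx, y, hy, w, hw, h1, h2, ?_⟩
  have h4 := hZ a ha b hb d hd x hx y hy w hw h1 h2 h3
  have h5 : [a, b, d].Pairwise Commute := by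
    simp only [List.pairwise_cons, List.mem_cons, List.not_mem_nil, or_false,
      forall_eq_or_imp, forall_eq] at h2 ⊢
    tauto
  have h6 : a * b * d * (a * b * d) = 1 := by
    have := sq_list [a, b, d] h5 (by
      intro u hu
      simp only [List.mem_cons, List.not_mem_nil, or_false] at hu
      rcases hu with rfl | rfl | rfl
      · exact hC.sq _ ha
      · exact hC.sq _ hb
      · exact hC.sq _ hd)
    simpa [mul_assoc] using this
  calc z * (a * b * d) = (a * b * d) * z := (hC.ext.comm _).symm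
    _ = (a * b * d) * (a * b * d * x * y * w) := by rw [h4]
    _ = (a * b * d * (a * b * d)) * (x * y * w) := by group
    _ = x * y * w := by rw [h6, one_mul]

/-- The product of three commuting members is conjugate to `z` times it. -/
theorem Cover.conj_three (hC : Cover π z T D) (hDc : ∀ c : C, ∀ a ∈ D, c * a * c⁻¹ ∈ D)
    (hT : ∀ g : P, ∀ a ∈ T, g * a * g⁻¹ ∈ T) (hL : R01.Loc.Loc hF T)
    (htr : ∀ a ∈ T, ∀ b ∈ T, ∃ g : P, g * a * g⁻¹ = b) (hZ : HexZ π z D)
    {a b d : C} (ha : a ∈ D)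
    (hb : b ∈ D) (hd : d ∈ D) (nab : a ≠ b) (nad : a ≠ d) (nbd : b ≠ d) (cab : a * b = b * a)
    (cad : a * d = d * a) (cbd : b * d = d * b) :
    ∃ g : C, g * (a * b * d) * g⁻¹ = z * (a * b * d) := by
  obtain ⟨x, hx, y, hy, w, hw, h1, h2, h3⟩ := hC.z_mul_three hL hZ ha hb hd nab nad nbd cab cad cbd
  simp only [List.nodup_cons, List.mem_cons, List.not_mem_nil, or_false, not_or] at h1
  simp only [List.pairwise_cons, List.mem_cons, List.not_mem_nil, or_false,
      forall_eq_or_imp, forall_eq] at h2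
  obtain ⟨g, g1, g2, g3⟩ := hC.trans_triples hDc hT hL htr a ha b hb d hd x hx y hy w hw nab nad nbd
    (by tauto) (by tauto) (by tauto) cab cad cbd (by have := h2.2.2.2.1.1; exact this)
    (by have := h2.2.2.2.1.2; exact this) (by have := h2.2.2.2.2.1; exact this)
  refine ⟨g, ?_⟩
  rw [h3, ← g1, ← g2, ← g3]
  group

end covertrans

end Cfsg.Agent.R01.KeyFi22
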