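import Cfsg.Agent.R01.IsLabel

/-!
Lifting the class `T` of a group `P` with the local hypothesis `Loc hF T` (for instance the 3510
transpositions of the Fischer group of order 64561751654400) to a perfect central extension.
-/

set_option autoImplicit false

namespace Cfsg.Agent.R01.LiftsLoc

open Cfsg Cfsg.Agent.R01.Lifts Cfsg.Agent.R01.Start Cfsg.Agent.R01.Loc Cfsg.Agent.R01.IsLabel

universe u v

variable {P : Type u} [Group P] {F : Type v} [Field F] [Fintype F] {hF : Fintype.card F = 2 ^ 2}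
  {T : Set P}

theorem conj_mem (hT : IsThreeTranspositionClass T) {x : P} (hx : x ∈ T) (g : P) :
    g * x * g⁻¹ ∈ T := by
  obtain ⟨t0, -, h0⟩ := hT.2.1
  rw [h0] at hx ⊢
  exact IsConj.trans (show IsConj t0 x from hx) (isConj_iff.2 ⟨g, rfl⟩)

theorem exists_conj (hT : IsThreeTranspositionClass T) {x y : P} (hx : x ∈ T) (hy : y ∈ T) :
    ∃ g : P, g * x * g⁻¹ = y := by
  obtain ⟨t0, -, h0⟩ := hT.2.1
  rw [h0] at hx hy
  exact isConj_iff.1 ((show IsConj t0 x from hx).symm.trans (show IsConj t0 y from hy))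

/-- Transitivity on commuting pairs. -/
theorem trans_commuting (hT : IsThreeTranspositionClass T) (hL : Loc hF T) :
    ∀ a ∈ T, ∀ b ∈ T, ∀ a' ∈ T, ∀ b' ∈ T, a ≠ b → a' ≠ b' → Commute a b → Commute a' b' →
      ∃ g : P, g * a * g⁻¹ = a' ∧ g * b * g⁻¹ = b' := by
  intro a ha b hb a' ha' b' hb' hne hne' hc hc'
  obtain ⟨g, hg⟩ := exists_conj hT ha ha'
  obtain ⟨τ, hτ⟩ := exists_label (hL a' ha')
  have h1 : g * b * g⁻¹ ≠ a' := by
    intro h
    rw [← hg] at h
    exact hne (by simpa using h.symm)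
  have h2 : Commute (g * b * g⁻¹) a' := by
    rw [← hg]
    exact (Commute.conj_iff g).2 hc.symm
  obtain ⟨v, hv0, hv, hv1⟩ := hτ.surj _ (conj_mem hT hb g) h1 h2
  obtain ⟨w, hw0, hw, hw1⟩ := hτ.surj b' hb' hne'.symm hc'.symm
  obtain ⟨k, hk, hk1⟩ := hτ.trans v w hv0 hw0 hv hw
  refine ⟨k * g, ?_, ?_⟩
  · calc k * g * a * (k * g)⁻¹ = k * (g * a * g⁻¹) * k⁻¹ := by group
      _ = a' := by rw [hg, hk.eq, mul_inv_cancel_right]
  · calc k * g * b * (k * g)⁻¹ = k * (g * b * g⁻¹) * k⁻¹ := by group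
      _ = b' := by rw [← hv1, hk1, hw1]

/-- Centralisers are generated by members of the class. -/
theorem centralizer_le (hL : Loc hF T) :
    ∀ t ∈ T, Subgroup.centralizer {t} ≤ Subgroup.closure (T ∩ {u | Commute t u}) := by
  intro t ht
  obtain ⟨τ, hτ⟩ := exists_label (hL t ht)
  refine hτ.gen.trans (Subgroup.closure_mono ?_)
  rintro a ⟨ha, -, hc⟩
  exact ⟨ha, hc.symm⟩

/-- The lifting theorem for a group with the local hypothesis. -/
theorem lifts_of_loc {C : Type*} [Group C] {π : C →* P} {z : C} (h : Ext π z)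
    (hperf : commutator C = ⊤) (hT : IsThreeTranspositionClass T) (hL : Loc hF T)
    (h3 : ∃ l : List P, Odd l.length ∧ (∀ x ∈ l, x ∈ T) ∧ l.Pairwise Commute ∧ l.prod = 1 ∧
      ∃ r ∈ T, ∀ x ∈ l, r ≠ x ∧ Commute r x) :
    ∃ D : Set C, IsThreeTranspositionClass D ∧ Set.BijOn π D T ∧
      (∀ c, π c ∈ T → c ∈ D ∨ c * z ∈ D) ∧ (∀ c ∈ D, c * z ∉ D) ∧
      (∀ a b, π a ∈ T → π b ∈ T → Commute (π a) (π b) → Commute a b) ∧
      (∀ a, π a ∈ T → orderOf a = 2) ∧
      (∀ a g, π a ∈ T → Commute (π g) (π a) → Commute g a) :=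
  liftsOdd h hperf hT (trans_commuting hT hL) h3 (centralizer_le hL)

end Cfsg.Agent.R01.LiftsLoc
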