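import Cfsg.Agent.R01.FiFacts
import Cfsg.Agent.R01.KeyFi22
import Cfsg.Agent.R01.Assembly2
import Cfsg.Agent.R01.LiftsLoc

/-!
The facts `TFacts` on a class `T` of 3-transpositions from the local hypothesis `Loc hF T`.
-/

set_option autoImplicit false
set_option linter.unusedSectionVars false

namespace Cfsg.Agent.R01.FiLocal

open Cfsg Cfsg.Agent.LieClassical.HermBasic Cfsg.Agent.ClassicalGeometry.UnitTransv
open Cfsg.Agent.SporadicStructure.UnitTwo
open Cfsg.Agent.R01.Lifts Cfsg.Agent.R01.PSUSix Cfsg.Agent.R01.Label Cfsg.Agent.R01.InvForm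
open Cfsg.Agent.R01.FiFusion Cfsg.Agent.R01.FiFacts
open Cfsg.Agent.R01.Start (zel)
open Cfsg.Agent.R01.Loc (Loc)
open Cfsg.Agent.ClassicalGeometry.UnitAutBasic (tau pr pr_surjective)

section Vec

variable {F : Type*} [Field F] [Fintype F] (hF : Fintype.card F = 2 ^ 2)
include hF

/-- A relation between five commuting transvections is a relation between forms. -/
theorem five_rel {u v p q r : Fin 6 → F} (hu0 : u ≠ 0)
    (hu : hermForm 6 F 2 u u = 0) (hv : hermForm 6 F 2 v v = 0) (hp : hermForm 6 F 2 p p = 0)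
    (hq : hermForm 6 F 2 q q = 0) (hr : hermForm 6 F 2 r r = 0)
    (huv : hermForm 6 F 2 u v = 0) (hup : hermForm 6 F 2 u p = 0) (huq : hermForm 6 F 2 u q = 0)
    (hur : hermForm 6 F 2 u r = 0) (hvp : hermForm 6 F 2 v p = 0) (hvq : hermForm 6 F 2 v q = 0)
    (hvr : hermForm 6 F 2 v r = 0) (hpq : hermForm 6 F 2 p q = 0) (hpr : hermForm 6 F 2 p r = 0)
    (hqr : hermForm 6 F 2 q r = 0)
    (h : tau hF u * tau hF v * tau hF p * tau hF q * tau hF r = 1) (y : Fin 6 → F) :
    hermForm 6 F 2 y u • u + hermForm 6 F 2 y v • v + hermForm 6 F 2 y p • p +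
      hermForm 6 F 2 y q • q + hermForm 6 F 2 y r • r = 0 := by
  have hvu := herm_eq_zero_swap hF huv
  have hpu := herm_eq_zero_swap hF hup
  have hqu := herm_eq_zero_swap hF huq
  have hru := herm_eq_zero_swap hF hur
  have hpv := herm_eq_zero_swap hF hvp
  have hqv := herm_eq_zero_swap hF hvq
  have hrv := herm_eq_zero_swap hF hvr
  have hqp := herm_eq_zero_swap hF hpq
  have hrp := herm_eq_zero_swap hF hpr
  have hrq := herm_eq_zero_swap hF hqr
  rw [tau_eq_pr hF hu, tau_eq_pr hF hv, tau_eq_pr hF hp, tau_eq_pr hF hq, tau_eq_pr hF hr,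
    ← map_mul, ← map_mul, ← map_mul, ← map_mul, ← map_one (pr 6 F 2)] at h
  obtain ⟨c, hc0, hcx⟩ := Cfsg.Agent.ClassicalGeometry.UnitAutBasic.exists_scalar_of_pr_eq hF
    (by norm_num) h.symm
  have key : ∀ y, y + (hermForm 6 F 2 y u • u + hermForm 6 F 2 y v • v + hermForm 6 F 2 y p • p +
      hermForm 6 F 2 y q • q + hermForm 6 F 2 y r • r) = c • y := by
    intro y
    have h1 : act (T hF u hu * T hF v hv * T hF p hp * T hF q hq * T hF r hr) y =
      c • act (1 : SU 6 F 2) y := hcx y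
    rw [act_one, act_mul, act_mul, act_mul, act_mul, act_T, act_T, act_T, act_T, act_T] at h1
    rw [← h1]
    simp only [herm_add_left, herm_smul_left, hpu, hqu, hru, hvu, hpv, hqv, hrv, hqp, hrp, hrq,
      mul_zero, add_zero]
    abel
  have hc1 : c = 1 := by
    have h1 := key u
    rw [hu, huv, hup, huq, hur] at h1
    simp only [zero_smul, add_zero] at h1
    have h2 : (c - 1) • u = 0 := by rw [sub_smul, ← h1, one_smul, sub_self]
    rcases smul_eq_zero.1 h2 with h3 | h3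
    · exact sub_eq_zero.1 h3
    · exact absurd h3 hu0
  have h2 := key y
  rw [hc1, one_smul, add_eq_left] at h2
  exact h2

/-- A point in a relation of five lies on the line of any two others. -/
theorem line_of_rel {u v p q r : Fin 6 → F} (hu0 : u ≠ 0) (hv0 : v ≠ 0)
    (huv : ¬ ∃ c : F, v = c • u) (hpq : ¬ ∃ c : F, p = c • q) (hpr : ¬ ∃ c : F, p = c • r)
    (h : ∀ y, hermForm 6 F 2 y u • u + hermForm 6 F 2 y v • v + hermForm 6 F 2 y p • p +
      hermForm 6 F 2 y q • q + hermForm 6 F 2 y r • r = 0) : ∃ a b : F, p = a • u + b • v := by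
  by_contra hcon
  have hvu : ¬ ∃ c : F, u = c • v := by
    rintro ⟨c, hc⟩
    apply huv
    have hc0 : c ≠ 0 := by
      rintro rfl
      rw [zero_smul] at hc
      exact hu0 hc
    exact ⟨c⁻¹, by rw [hc, smul_smul, inv_mul_cancel₀ hc0, one_smul]⟩
  obtain ⟨x, hxu, hxv, hpx⟩ := exists_perp_ne2 hF hu0 hv0 huv hvu hcon
  have hxp : hermForm 6 F 2 x p ≠ 0 := fun h0 => hpx (herm_eq_zero_swap hF h0)
  have h1 := h x
  rw [hxu, hxv, zero_smul, zero_smul, zero_add, zero_add] at h1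
  have h2 : hermForm 6 F 2 x p ^ 3 + hermForm 6 F 2 x q ^ 3 + hermForm 6 F 2 x r ^ 3 = 0 := by
    have h3 := congrArg (fun t => hermForm 6 F 2 t x) h1
    simp only [herm_add_left, herm_smul_left, herm_zero_left] at h3
    rw [herm_swap hF x p, herm_swap hF x q, herm_swap hF x r] at h3
    linear_combination h3
  have h21 := two_eq_zero hF
  have hp3 := pow_three hF hxp
  by_cases hxq : hermForm 6 F 2 x q = 0
  · by_cases hxr : hermForm 6 F 2 x r = 0
    · rw [hxq, hxr, hp3] at h2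
      simp at h2
    · apply hpr
      rw [hxq, zero_smul, add_zero] at h1
      have h3 : hermForm 6 F 2 x p • p = -(hermForm 6 F 2 x r • r) := eq_neg_of_add_eq_zero_left h1
      refine ⟨-((hermForm 6 F 2 x p)⁻¹ * hermForm 6 F 2 x r), ?_⟩
      calc p = (hermForm 6 F 2 x p)⁻¹ • (hermForm 6 F 2 x p • p) := by
            rw [smul_smul, inv_mul_cancel₀ hxp, one_smul]
        _ = _ := by rw [h3, smul_neg, smul_smul, neg_smul]
  · by_cases hxr : hermForm 6 F 2 x r = 0
    · apply hpq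
      rw [hxr, zero_smul, add_zero] at h1
      have h3 : hermForm 6 F 2 x p • p = -(hermForm 6 F 2 x q • q) := eq_neg_of_add_eq_zero_left h1
      refine ⟨-((hermForm 6 F 2 x p)⁻¹ * hermForm 6 F 2 x q), ?_⟩
      calc p = (hermForm 6 F 2 x p)⁻¹ • (hermForm 6 F 2 x p • p) := by
            rw [smul_smul, inv_mul_cancel₀ hxp, one_smul]
        _ = _ := by rw [h3, smul_neg, smul_smul, neg_smul]
    · rw [hp3, pow_three hF hxq, pow_three hF hxr] at h2
      have : (1 : F) = 0 := by linear_combination h2 - h21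
      exact one_ne_zero this

/-- The nonzero elements of the field. -/
theorem cases_ne_zero {ω : F} (hω : ω ^ 2 + ω + 1 = 0) {x : F} (hx : x ≠ 0) :
    x = 1 ∨ x = ω ∨ x = ω ^ 2 := by
  have h21 := two_eq_zero hF
  have h3 := pow_three hF hx
  have h1 : (x - 1) * ((x - ω) * (x - ω ^ 2)) = 0 := by
    have hw3 : ω ^ 3 = 1 := omega_cubed hω
    linear_combination h3 - hw3 - x ^ 2 * hω + ω * x * hω
  rcases mul_eq_zero.1 h1 with h | h
  · exact Or.inl (sub_eq_zero.1 h)
  · rcases mul_eq_zero.1 h with h | h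
    · exact Or.inr (Or.inl (sub_eq_zero.1 h))
    · exact Or.inr (Or.inr (sub_eq_zero.1 h))

end Vec

section Group

variable {P : Type*} [Group P] {F : Type*} [Field F] [Fintype F] {hF : Fintype.card F = 2 ^ 2}
  {T : Set P}

/-- The three further points of a line. -/
theorem pt_cases {C : Type*} [Group C] {π : C →* PSU 6 F 2} {z ε : C} {lift : (Fin 6 → F) → C}
    (L : Lab hF π z ε lift) {ω : F} (hω : ω ^ 2 + ω + 1 = 0) {u v p : Fin 6 → F}
    (hp0 : p ≠ 0) (hu : hermForm 6 F 2 u u = 0) (hv : hermForm 6 F 2 v v = 0)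
    (huv : hermForm 6 F 2 u v = 0)
    (hpu : lift p ≠ lift u) (hpv : lift p ≠ lift v) {a b : F} (h : p = a • u + b • v) :
    lift p = lift (u + v) ∨ lift p = lift (ω • u + v) ∨ lift p = lift (ω ^ 2 • u + v) := by
  have hvu := herm_eq_zero_swap hF huv
  have ha : a ≠ 0 := by
    rintro rfl
    rw [zero_smul, zero_add] at h
    have hb : b ≠ 0 := by
      rintro rfl
      rw [zero_smul] at h
      exact hp0 h
    exact hpv (by rw [h, L.smul v b hv hb])
  have hb : b ≠ 0 := by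
    rintro rfl
    rw [zero_smul, add_zero] at h
    exact hpu (by rw [h, L.smul u a hu ha])
  have h1 : p = b • ((b⁻¹ * a) • u + v) := by
    rw [h, smul_add, smul_smul, mul_inv_cancel_left₀ hb]
  have h2 : lift p = lift ((b⁻¹ * a) • u + v) := by
    conv_lhs => rw [h1]
    refine L.smul _ b ?_ hb
    rw [herm_add_left, herm_add_right hF, herm_add_right hF, herm_smul_left, herm_smul_left,
      herm_smul_right, herm_smul_right, hu, hv, huv, hvu]
    ring
  rcases cases_ne_zero hF hω (mul_ne_zero (inv_ne_zero hb) ha) with h3 | h3 | h3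
  · left; rw [h2, h3, one_smul]
  · right; left; rw [h2, h3]
  · right; right; rw [h2, h3]

/-- The members of a hexad containing the member at which we look. -/
theorem hex_mem {a b c a' b' c' : P}
    {π : Subgroup.centralizer ({a} : Set P) →* PSU 6 F 2}
    {lift : (Fin 6 → F) → Subgroup.centralizer ({a} : Set P)}
    (L : Lab hF π (zel a) (zel a) lift)
    (hiff : ∀ x : Subgroup.centralizer ({a} : Set P), (x : P) ∈ T ↔ x = zel a ∨ x ∈ Dset lift)
    {u v : Fin 6 → F} (hu0 : u ≠ 0) (hv0 : v ≠ 0) (hu : hermForm 6 F 2 u u = 0)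
    (hv : hermForm 6 F 2 v v = 0) (hb : b = (lift u : P)) (hc : c = (lift v : P))
    {ω : F} (hω : ω ^ 2 + ω + 1 = 0) (H : Hex T a b c a' b' c') :
    (a' = lift (u + v) ∨ a' = lift (ω • u + v) ∨ a' = lift (ω ^ 2 • u + v)) ∧
    (b' = lift (u + v) ∨ b' = lift (ω • u + v) ∨ b' = lift (ω ^ 2 • u + v)) ∧
    (c' = lift (u + v) ∨ c' = lift (ω • u + v) ∨ c' = lift (ω ^ 2 • u + v)) := by
  obtain ⟨p, hp0, hp, h1⟩ := AllOfLab.mem_Dset_of hiff H.t'.mx H.caa.symm H.aa.symm
  obtain ⟨q, hq0, hq, h2⟩ := AllOfLab.mem_Dset_of hiff H.t'.my H.cab.symm H.ab.symm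
  obtain ⟨r, hr0, hr, h3⟩ := AllOfLab.mem_Dset_of hiff H.t'.mw H.cac.symm H.ac.symm
  have ha' : a' = (lift p : P) := congrArg Subtype.val h1
  have hb' : b' = (lift q : P) := congrArg Subtype.val h2
  have hc' : c' = (lift r : P) := congrArg Subtype.val h3
  have hcomm : ∀ {x y : Fin 6 → F}, x ≠ 0 → y ≠ 0 → hermForm 6 F 2 x x = 0 →
      hermForm 6 F 2 y y = 0 → (lift x : P) * (lift y : P) = (lift y : P) * (lift x : P) →
      hermForm 6 F 2 x y = 0 := by
    intro x y hx0 hy0 hx hy h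
    exact (L.commute_iff hx hy hx0 hy0).1 (AllOfLab.comm_coe.mpr h)
  obtain ⟨⟨-, -, -, n1, n2, n3, c1, c2, c3⟩, ⟨-, -, -, m1, m2, m3, d1, d2, d3⟩, k1, k2, k3, k4, k5,
    k6, k7, k8, k9, l1, l2, l3, l4, l5, l6, l7, l8, l9, hprod⟩ := H
  subst hb hc ha' hb' hc'
  have huv := hcomm hu0 hv0 hu hv c3
  have hup := hcomm hu0 hp0 hu hp l4
  have huq := hcomm hu0 hq0 hu hq l5
  have hur := hcomm hu0 hr0 hu hr l6
  have hvp := hcomm hv0 hp0 hv hp l7
  have hvq := hcomm hv0 hq0 hv hq l8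
  have hvr := hcomm hv0 hr0 hv hr l9
  have hpq := hcomm hp0 hq0 hp hq d1
  have hpr := hcomm hp0 hr0 hp hr d2
  have hqr := hcomm hq0 hr0 hq hr d3
  have hprod' : zel a * lift u * lift v * (lift p * lift q * lift r) = 1 := Subtype.ext hprod
  have htau : tau hF u * tau hF v * tau hF p * tau hF q * tau hF r = 1 := by
    have h4 := congrArg π hprod'
    rw [map_mul, map_mul, map_mul, map_mul, map_mul, L.ext.mapz, one_mul, L.map u hu0 hu,
      L.map v hv0 hv, L.map p hp0 hp, L.map q hq0 hq, L.map r hr0 hr, map_one] at h4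
    rw [← h4]
    group
  have rel := five_rel hF hu0 hu hv hp hq hr huv hup huq hur hvp hvq hvr hpq hpr hqr htau
  have hne : ∀ {x y : Fin 6 → F}, x ≠ 0 → hermForm 6 F 2 y y = 0 →
      (lift x : P) ≠ (lift y : P) → ¬ ∃ c : F, x = c • y := by
    rintro x y hx0 hy h ⟨c, rfl⟩
    apply h
    have hc0 : c ≠ 0 := by
      rintro rfl
      exact hx0 (zero_smul _ _)
    rw [L.smul y c hy hc0]
  have hsub : ∀ {x y : Subgroup.centralizer ({a} : Set P)}, (x : P) ≠ (y : P) → x ≠ y :=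
    fun h h' => h (congrArg Subtype.val h')
  have hvu' := hne hv0 hu n3.symm
  obtain ⟨a1, b1, e1⟩ := line_of_rel hF hu0 hv0 hvu' (hne hp0 hq m1) (hne hp0 hr m2) rel
  obtain ⟨a2, b2, e2⟩ := line_of_rel hF hu0 hv0 hvu' (hne hq0 hp m1.symm) (hne hq0 hr m3)
    (fun y => by rw [← rel y]; abel)
  obtain ⟨a3, b3, e3⟩ := line_of_rel hF hu0 hv0 hvu' (hne hr0 hp m2.symm) (hne hr0 hq m3.symm)
    (fun y => by rw [← rel y]; abel)
  refine ⟨?_, ?_, ?_⟩
  · rcases pt_cases L hω hp0 hu hv huv (hsub k4.symm) (hsub k7.symm) e1 with h | h | h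
    · left; rw [h]
    · right; left; rw [h]
    · right; right; rw [h]
  · rcases pt_cases L hω hq0 hu hv huv (hsub k5.symm) (hsub k8.symm) e2 with h | h | h
    · left; rw [h]
    · right; left; rw [h]
    · right; right; rw [h]
  · rcases pt_cases L hω hr0 hu hv huv (hsub k6.symm) (hsub k9.symm) e3 with h | h | h
    · left; rw [h]
    · right; left; rw [h]
    · right; right; rw [h]

theorem pigeon {X : Type*} {x y w a b c t : X} (hab : a ≠ b) (hac : a ≠ c) (hbc : b ≠ c)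
    (ha : a = x ∨ a = y ∨ a = w) (hb : b = x ∨ b = y ∨ b = w) (hc : c = x ∨ c = y ∨ c = w)
    (ht : t = x ∨ t = y ∨ t = w) : t = a ∨ t = b ∨ t = c := by
  rcases ha with rfl | rfl | rfl <;> rcases hb with rfl | rfl | rfl <;>
    rcases hc with rfl | rfl | rfl <;> rcases ht with rfl | rfl | rfl <;> simp_all

/-- Three members determine the hexad. -/
theorem uniq (hL : Loc hF T) {a b c a' b' c' a'' b'' c'' : P} (H : Hex T a b c a' b' c')
    (H' : Hex T a b c a'' b'' c'') :
    (a'' = a' ∨ a'' = b' ∨ a'' = c') ∧ (b'' = a' ∨ b'' = b' ∨ b'' = c') ∧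
      (c'' = a' ∨ c'' = b' ∨ c'' = c') := by
  obtain ⟨π, lift, L, hiff⟩ := hL a H.t.mx
  obtain ⟨u, hu0, hu, h1⟩ := AllOfLab.mem_Dset_of hiff H.t.my H.t.cxy.symm H.t.xy.symm
  obtain ⟨v, hv0, hv, h2⟩ := AllOfLab.mem_Dset_of hiff H.t.mw H.t.cxw.symm H.t.xw.symm
  obtain ⟨ω, hω⟩ := exists_omega hF
  obtain ⟨e1, e2, e3⟩ := hex_mem L hiff hu0 hv0 hu hv (congrArg Subtype.val h1)
    (congrArg Subtype.val h2) hω H
  obtain ⟨f1, f2, f3⟩ := hex_mem L hiff hu0 hv0 hu hv (congrArg Subtype.val h1)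
    (congrArg Subtype.val h2) hω H'
  have n1 := H.t'.xy
  have n2 := H.t'.xw
  have n3 := H.t'.yw
  exact ⟨pigeon n1 n2 n3 e1 e2 e3 f1, pigeon n1 n2 n3 e1 e2 e3 f2, pigeon n1 n2 n3 e1 e2 e3 f3⟩

/-- From a hexad in list form. -/
theorem hex_of_list {a b c x y w : P} (ha : a ∈ T) (hb : b ∈ T) (hc : c ∈ T) (hx : x ∈ T)
    (hy : y ∈ T) (hw : w ∈ T) (hn : [a, b, c, x, y, w].Nodup)
    (hp : [a, b, c, x, y, w].Pairwise Commute) (h : a * b * c * x * y * w = 1) :
    Hex T a b c x y w := by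
  simp only [List.nodup_cons, List.mem_cons, List.not_mem_nil, or_false, not_or] at hn
  obtain ⟨⟨n1, n2, n3, n4, n5⟩, ⟨n6, n7, n8, n9⟩, ⟨n10, n11, n12⟩, ⟨n13, n14⟩, n15, -⟩ := hn
  simp only [List.pairwise_cons, List.mem_cons, List.not_mem_nil, or_false, forall_eq_or_imp,
    forall_eq] at hp
  obtain ⟨⟨p1, p2, p3, p4, p5⟩, ⟨p6, p7, p8, p9⟩, ⟨p10, p11, p12⟩, ⟨p13, p14⟩, p15, -⟩ := hp
  exact
    { t := ⟨ha, hb, hc, n1, n2, n6, p1.eq, p2.eq, p6.eq⟩
      t' := ⟨hx, hy, hw, n13, n14, n15, p13.eq, p14.eq, p15.eq⟩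
      aa := n3, ab := n4, ac := n5, ba := n7, bb := n8, bc := n9, ca := n10, cb := n11, cc := n12
      caa := p3.eq, cab := p4.eq, cac := p5.eq, cba := p7.eq, cbb := p8.eq, cbc := p9.eq
      cca := p10.eq, ccb := p11.eq, ccc := p12.eq
      prod := by rw [← h]; group }

/-- The line through two members commuting with `s` as a hexad, and an elation moving it. -/
theorem elat (hL : Loc hF T) {s t : P} (hs : s ∈ T) (ht : t ∈ T) (hst : s ≠ t)
    (hc : s * t = t * s) : ∃ x₁ x₂ x₃ x₄ y₁ y₂ : P,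
    Hex T s t x₁ x₂ x₃ x₄ ∧ y₁ ∈ T ∧ y₂ ∈ T ∧ y₁ * y₂ = y₂ * y₁ ∧
    (y₁ * y₂) * x₁ * (y₁ * y₂)⁻¹ = x₃ ∧ (y₁ * y₂) * x₂ * (y₁ * y₂)⁻¹ = x₄ := by
  obtain ⟨π, lift, L, hiff⟩ := hL s hs
  obtain ⟨t₀, ht0, htt, h1⟩ := AllOfLab.mem_Dset_of hiff ht hc.symm hst.symm
  have hte : t = (lift t₀ : P) := congrArg Subtype.val h1
  obtain ⟨ω, hω⟩ := exists_omega hF
  have h3 : ω ^ 3 = 1 := omega_cubed hω
  have h21 := two_eq_zero hF
  have hω0 : ω ≠ 0 := by
    rintro rfl
    simp at hω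
  have hω1 : ω ≠ 1 := by
    rintro rfl
    have : (1 : F) = 0 := by linear_combination hω - h21
    exact one_ne_zero this
  -- the vectors
  have H := Frames.hyp_std (F := F) hF hω
  have hE0 : (Frames.E 0 : Fin 6 → F) ≠ 0 := by
    intro h
    have := H.gk 0 0
    rw [h, herm_zero_left] at this
    simp at this
  obtain ⟨g, c, hc0, hg⟩ := exists_map hF (Frames.E 0 : Fin 6 → F) t₀ hE0 ht0 (H.gg 0 0) htt
  set p := act g (Frames.E 0) with hp
  set x := act g (Frames.E 1) with hx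
  set y := act g (Frames.P ω 1) with hy
  have hpp : hermForm 6 F 2 p p = 0 := by rw [hp, herm_act]; exact H.gg 0 0
  have hxx : hermForm 6 F 2 x x = 0 := by rw [hx, herm_act]; exact H.gg 1 1
  have hyy : hermForm 6 F 2 y y = 0 := by rw [hy, herm_act]; exact H.kk 1 1
  have hpx : hermForm 6 F 2 p x = 0 := by rw [hp, hx, herm_act]; exact H.gg 0 1
  have hpy : hermForm 6 F 2 p y = 0 := by rw [hp, hy, herm_act, H.gk 0 1]; simp
  have hxy : hermForm 6 F 2 x y = 1 := by rw [hx, hy, herm_act, H.gk 1 1]; simp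
  have hxp := herm_eq_zero_swap hF hpx
  have hyp := herm_eq_zero_swap hF hpy
  have hyx : hermForm 6 F 2 y x = 1 := by rw [herm_swap hF x y, hxy, one_pow]
  have hp0 : p ≠ 0 := by rw [hp]; exact Lab.act_ne_zero hE0
  have htp : t = (lift p : P) := by rw [hte, hg, L.smul t₀ c htt hc0]
  -- points
  have hpt : ∀ a b a' b' : F, hermForm 6 F 2 (a • p + b • x) (a' • p + b' • x) = 0 := by
    intro a b a' b'
    simp [herm_add_left, herm_add_right hF, herm_smul_left, herm_smul_right, hpp, hxx, hpx, hxp]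
  have hind : ∀ a b : F, a • p + b • x = 0 → a = 0 ∧ b = 0 := by
    intro a b h
    have hb : b = 0 := by
      have := congrArg (fun t => hermForm 6 F 2 t y) h
      simpa [herm_add_left, herm_smul_left, hpy, hxy, herm_zero_left] using this
    rw [hb, zero_smul, add_zero] at h
    rcases smul_eq_zero.1 h with h | h
    · exact ⟨h, hb⟩
    · exact absurd h hp0
  have hne : ∀ a b a' b' : F, (a ≠ 0 ∨ b ≠ 0) → (a' ≠ 0 ∨ b' ≠ 0) → a * b' ≠ a' * b →
      lift (a • p + b • x) ≠ lift (a' • p + b' • x) := by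
    intro a b a' b' h4 h5 h6 h7
    have n1 : a • p + b • x ≠ 0 := fun h => by
      obtain ⟨h8, h9⟩ := hind a b h
      rcases h4 with h4 | h4
      · exact h4 h8
      · exact h4 h9
    have n2 : a' • p + b' • x ≠ 0 := fun h => by
      obtain ⟨h8, h9⟩ := hind a' b' h
      rcases h5 with h5 | h5
      · exact h5 h8
      · exact h5 h9
    obtain ⟨k, hk0, hk⟩ := (L.lift_eq_iff (hpt a b a b) (hpt a' b' a' b') n1 n2).1 h7
    have h8 : (a' - k * a) • p + (b' - k * b) • x = 0 := by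
      have : (a' - k * a) • p + (b' - k * b) • x = (a' • p + b' • x) - k • (a • p + b • x) := by
        module
      rw [this, hk, sub_self]
    obtain ⟨h9, h10⟩ := hind _ _ h8
    apply h6
    linear_combination a * h10 - b * h9
  have e1 : p = (1 : F) • p + (0 : F) • x := by module
  have e2 : x = (0 : F) • p + (1 : F) • x := by module
  have e3 : p + x = (1 : F) • p + (1 : F) • x := by module
  have e4 : ω • p + x = ω • p + (1 : F) • x := by module
  have e5 : ω ^ 2 • p + x = ω ^ 2 • p + (1 : F) • x := by module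
  have o1 : (1 : F) ≠ 0 ∨ (0 : F) ≠ 0 := Or.inl one_ne_zero
  have o2 : (0 : F) ≠ 0 ∨ (1 : F) ≠ 0 := Or.inr one_ne_zero
  have o3 : (1 : F) ≠ 0 ∨ (1 : F) ≠ 0 := Or.inl one_ne_zero
  have o4 : ω ≠ 0 ∨ (1 : F) ≠ 0 := Or.inl hω0
  have o5 : ω ^ 2 ≠ 0 ∨ (1 : F) ≠ 0 := Or.inr one_ne_zero
  have w2 : ω ^ 2 ≠ 1 := by
    intro h
    rw [h] at hω
    exact hω0 (by linear_combination hω - h21)
  have w3 : ω ≠ ω ^ 2 := by
    intro h
    rw [← h] at hω
    have : (1 : F) = 0 := by linear_combination hω - ω * h21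
    exact one_ne_zero this
  have hn0 : ∀ a b : F, (a ≠ 0 ∨ b ≠ 0) → a • p + b • x ≠ 0 := by
    intro a b h4 h
    obtain ⟨h8, h9⟩ := hind a b h
    rcases h4 with h4 | h4
    · exact h4 h8
    · exact h4 h9
  have hD : ∀ a b : F, (a ≠ 0 ∨ b ≠ 0) → lift (a • p + b • x) ∈ Dset lift := fun a b h =>
    Lab.mem_D (hn0 a b h) (hpt a b a b)
  have hcm : ∀ a b a' b' : F, (a ≠ 0 ∨ b ≠ 0) → (a' ≠ 0 ∨ b' ≠ 0) →
      (lift (a • p + b • x) : P) * (lift (a' • p + b' • x) : P) =
        (lift (a' • p + b' • x) : P) * (lift (a • p + b • x) : P) := by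
    intro a b a' b' h h'
    exact AllOfLab.comm_coe.mp ((L.commute_iff (hpt a b a b) (hpt a' b' a' b') (hn0 a b h)
      (hn0 a' b' h')).2 (hpt a b a' b'))
  have nez : ∀ w ∈ Dset lift, s ≠ (w : P) := by
    intro w hw h
    have : w = zel s := Subtype.ext h.symm
    rw [this] at hw
    exact L.z_notMem hw
  have hsub : ∀ {x y : Subgroup.centralizer ({s} : Set P)}, x ≠ y → (x : P) ≠ (y : P) :=
    fun h h' => h (Subtype.ext h')
  have hT' : ∀ w ∈ Dset lift, (w : P) ∈ T := fun w hw => (hiff w).2 (Or.inr hw)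
  have hnot : ¬ ∃ c : F, x = c • p := by
    rintro ⟨c, h⟩
    have := (hind (-c) 1 (by rw [h, one_smul, neg_smul, neg_add_cancel])).2
    exact one_ne_zero this
  have hline := L.line p x hp0 (by rw [e2]; exact hn0 _ _ o2) hpp hxx hpx hnot ω hω
  have d1 := hD _ _ o1
  have d2 := hD _ _ o2
  have d3 := hD _ _ o3
  have d4 := hD _ _ o4
  have d5 := hD _ _ o5
  have q12 := hsub (hne _ _ _ _ o1 o2 (by simp))
  have q13 := hsub (hne _ _ _ _ o1 o3 (by simp))
  have q14 := hsub (hne _ _ _ _ o1 o4 (by simp))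
  have q15 := hsub (hne _ _ _ _ o1 o5 (by simp))
  have q23 := hsub (hne _ _ _ _ o2 o3 (by simp))
  have q24 := hsub (hne _ _ _ _ o2 o4 (by simpa using hω0.symm))
  have q25 := hsub (hne _ _ _ _ o2 o5 (by simpa using (pow_ne_zero 2 hω0).symm))
  have q34 := hsub (hne _ _ _ _ o3 o4 (by simpa using hω1.symm))
  have q35 := hsub (hne _ _ _ _ o3 o5 (by simpa using w2.symm))
  have q45 := hsub (hne _ _ _ _ o4 o5 (by simpa using w3))
  have c12 := hcm _ _ _ _ o1 o2
  have c13 := hcm _ _ _ _ o1 o3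
  have c14 := hcm _ _ _ _ o1 o4
  have c15 := hcm _ _ _ _ o1 o5
  have c23 := hcm _ _ _ _ o2 o3
  have c24 := hcm _ _ _ _ o2 o4
  have c25 := hcm _ _ _ _ o2 o5
  have c34 := hcm _ _ _ _ o3 o4
  have c35 := hcm _ _ _ _ o3 o5
  have c45 := hcm _ _ _ _ o4 o5
  rw [← e1] at d1 q12 q13 q14 q15 c12 c13 c14 c15
  rw [← e2] at d2 q12 q23 q24 q25 c12 c23 c24 c25
  rw [← e3] at d3 q13 q23 q34 q35 c13 c23 c34 c35
  rw [← e4] at d4 q14 q24 q34 q45 c14 c24 c34 c45
  rw [← e5] at d5 q15 q25 q35 q45 c15 c25 c35 c45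
  have z1 := AllOfLab.zel_comm (lift p)
  have z2 := AllOfLab.zel_comm (lift x)
  have z3 := AllOfLab.zel_comm (lift (p + x))
  have z4 := AllOfLab.zel_comm (lift (ω • p + x))
  have z5 := AllOfLab.zel_comm (lift (ω ^ 2 • p + x))
  -- the elation
  have hy0 : y ≠ 0 := by
    intro h
    rw [h, herm_zero_left] at hyx
    exact one_ne_zero hyx.symm
  have hyp' : hermForm 6 F 2 (y + ω • p) (y + ω • p) = 0 := by
    simp [herm_add_left, herm_add_right hF, herm_smul_left, herm_smul_right, hpp, hyy, hpy, hyp]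
  have hyp0 : y + ω • p ≠ 0 := by
    intro h
    have := congrArg (fun t => hermForm 6 F 2 t x) h
    simp [herm_add_left, herm_smul_left, hpx, hyx, herm_zero_left] at this
  have hycomm : hermForm 6 F 2 y (y + ω • p) = 0 := by
    simp [herm_add_right hF, herm_smul_right, hyy, hyp]
  have hmove : ∀ v w : Fin 6 → F, v ≠ 0 → hermForm 6 F 2 v v = 0 →
      v + hermForm 6 F 2 v (y + ω • p) • (y + ω • p) ≠ 0 →
      v + hermForm 6 F 2 v (y + ω • p) • (y + ω • p) +
        hermForm 6 F 2 (v + hermForm 6 F 2 v (y + ω • p) • (y + ω • p)) y • y = w →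
      (lift y : P) * lift (y + ω • p) * (lift v : P) * ((lift y : P) * lift (y + ω • p))⁻¹ =
        (lift w : P) := by
    intro v w hv0 hv hn hw
    have h4 := L.conj_lift hyp' hv hyp0 hv0
    have hv' : hermForm 6 F 2 (v + hermForm 6 F 2 v (y + ω • p) • (y + ω • p))
        (v + hermForm 6 F 2 v (y + ω • p) • (y + ω • p)) = 0 := by
      rw [← act_T hF _ hyp' v, herm_act, hv]
    have h5 := L.conj_lift hyy hv' hy0 hn
    rw [hw] at h5
    have i1 : (lift y)⁻¹ = lift y := inv_eq_of_mul_eq_one_left (L.sq y hy0 hyy)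
    have i2 : (lift (y + ω • p))⁻¹ = lift (y + ω • p) :=
      inv_eq_of_mul_eq_one_left (L.sq _ hyp0 hyp')
    have h6 : lift y * lift (y + ω • p) * lift v * (lift y * lift (y + ω • p))⁻¹ = lift w := by
      rw [mul_inv_rev, i1, i2, ← h5, ← h4]
      group
    exact congrArg Subtype.val h6
  refine ⟨lift x, lift (p + x), lift (ω • p + x), lift (ω ^ 2 • p + x), lift y,
    lift (y + ω • p), ?_, hT' _ (Lab.mem_D hy0 hyy), hT' _ (Lab.mem_D hyp0 hyp'), ?_, ?_, ?_⟩
  · rw [htp]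
    exact
      { t := ⟨hs, hT' _ d1, hT' _ d2, nez _ d1, nez _ d2, q12, z1, z2, c12⟩
        t' := ⟨hT' _ d3, hT' _ d4, hT' _ d5, q34, q35, q45, c34, c35, c45⟩
        aa := nez _ d3, ab := nez _ d4, ac := nez _ d5
        ba := q13, bb := q14, bc := q15, ca := q23, cb := q24, cc := q25
        caa := z3, cab := z4, cac := z5, cba := c13, cbb := c14, cbc := c15
        cca := c23, ccb := c24, ccc := c25
        prod := by
          have h4 : zel s * lift p * lift x * (lift (p + x) * lift (ω • p + x) *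
              lift (ω ^ 2 • p + x)) = 1 := by
            calc zel s * lift p * lift x * (lift (p + x) * lift (ω • p + x) *
                  lift (ω ^ 2 • p + x)) = zel s * (lift p * lift x * lift (p + x) *
                    lift (ω • p + x) * lift (ω ^ 2 • p + x)) := by group
              _ = 1 := by rw [hline, L.ext.zz]
          exact congrArg Subtype.val h4 }
  · exact AllOfLab.comm_coe.mp ((L.commute_iff hyy hyp' hy0 hyp0).2 hycomm)
  · have k1 : hermForm 6 F 2 x (y + ω • p) = 1 := by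
      simp [herm_add_right hF, herm_smul_right, hxy, hxp]
    have k2 : hermForm 6 F 2 (x + (1 : F) • (y + ω • p)) y = 1 := by
      simp [herm_add_left, herm_smul_left, hxy, hyy, hpy]
    refine hmove x _ ?_ hxx ?_ ?_
    · intro h
      rw [h, herm_zero_left] at hxy
      exact one_ne_zero hxy.symm
    · rw [k1]
      intro h
      rw [h, herm_zero_left] at k2
      exact one_ne_zero k2.symm
    · rw [k1, k2]
      have h2 : y + y = 0 := by rw [← two_smul F y, h21, zero_smul]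
      calc x + (1 : F) • (y + ω • p) + (1 : F) • y = ω • p + x + (y + y) := by module
        _ = ω • p + x := by rw [h2, add_zero]
  · have k1 : hermForm 6 F 2 (p + x) (y + ω • p) = 1 := by
      simp [herm_add_left, herm_add_right hF, herm_smul_right, hxy, hxp, hpy, hpp]
    have k2 : hermForm 6 F 2 (p + x + (1 : F) • (y + ω • p)) y = 1 := by
      simp [herm_add_left, herm_smul_left, hxy, hyy, hpy]
    refine hmove (p + x) _ ?_ (by rw [e3]; exact hpt _ _ _ _) ?_ ?_
    · rw [e3]; exact hn0 _ _ o3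
    · rw [k1]
      intro h
      rw [h, herm_zero_left] at k2
      exact one_ne_zero k2.symm
    · rw [k1, k2]
      have h2 : y + y = 0 := by rw [← two_smul F y, h21, zero_smul]
      have h4 : ω ^ 2 = 1 + ω := by linear_combination hω - (1 + ω) * h21
      calc p + x + (1 : F) • (y + ω • p) + (1 : F) • y = (1 + ω) • p + x + (y + y) := by module
        _ = ω ^ 2 • p + x := by rw [h2, add_zero, h4]

/-- The extended local structure. -/
theorem loc_of_loc [Finite P] (hT : IsThreeTranspositionClass T) (hL : Loc hF T) :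
    AllOfLab.Loc F hF T := by
  have hsq := Assembly2.sq_of_loc hL
  obtain ⟨d, hd, -⟩ := hT.2.1
  exact
    { sq := fun a ha => (hsq a ha).1
      ne := fun a ha => (hsq a ha).2
      conj := fun g a ha => LiftsLoc.conj_mem hT ha g
      nonempty := ⟨d, hd⟩
      lab := hL
      baer := fun a _ π lift L => Assembly2.hasBaer L }

/-- Two commuting members commute with two noncommuting members. -/
theorem ef_of_loc [Finite P] (hT : IsThreeTranspositionClass T) (hL : Loc hF T) :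
    ∀ a ∈ T, ∀ b ∈ T, a ≠ b → a * b = b * a → ∃ e ∈ T, ∃ f ∈ T, e * f ≠ f * e ∧
      e * a = a * e ∧ e * b = b * e ∧ f * a = a * f ∧ f * b = b * f := by
  intro a ha b hb hab hc
  have H := loc_of_loc hT hL
  obtain ⟨c, hcT, n1, n2, c1, c2⟩ := H.exists_third ha hb hc hab
  obtain ⟨-, -, e, he, f, hf, h1, h2, h3, -, h4, h5, -⟩ :=
    H.config ha hb hcT hc c1 c2 hab n1.symm n2.symm
  exact ⟨e, he, f, hf, h1, h2, h3, h4, h5⟩

/-- **The facts on the transpositions of `Fi22`** from the local hypothesis. -/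
theorem tFacts_of_loc [Finite P] (hT : IsThreeTranspositionClass T) (hL : Loc hF T) :
    TFacts T := by
  have hconj : ∀ g : P, ∀ a ∈ T, g * a * g⁻¹ ∈ T := fun g a ha => LiftsLoc.conj_mem hT ha g
  have htr : ∀ a ∈ T, ∀ b ∈ T, ∃ g : P, g * a * g⁻¹ = b := fun a ha b hb =>
    LiftsLoc.exists_conj hT ha hb
  have H := loc_of_loc hT hL
  exact
    { sq := H.sq
      ne := H.ne
      conj := hconj
      trans := htr
      two := H.two
      prod := fun a b c h => H.prod a h.mx b h.my c h.mw h.xy h.xw h.yw h.cxy h.cxw h.cyw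
      link := by
        intro a ha b hb hab hc
        obtain ⟨c, h1, -, h2⟩ := H.link a ha b hb hab hc
        exact ⟨c, h1, h2⟩
      tri := fun a b c a' b' c' h h' => KeyFi22.trans_triples hconj hL htr a h.mx b h.my c h.mw a'
        h'.mx b' h'.my c' h'.mw h.xy h.xw h.yw h'.xy h'.xw h'.yw h.cxy h.cxw h.cyw h'.cxy h'.cxw
        h'.cyw
      hex := by
        intro a b c h
        obtain ⟨x, hx, y, hy, w, hw, h1, h2, h3⟩ := KeyFi22.exists_hexad hL h.mx h.my h.mw h.xy
          h.xw h.yw h.cxy h.cxw h.cyw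
        exact ⟨x, y, w, hex_of_list h.mx h.my h.mw hx hy hw h1 h2 h3⟩
      uniq := fun a b c a' b' c' a'' b'' c'' h h' => uniq hL h h'
      elat := fun s hs t ht hst hc => elat hL hs ht hst hc
      inv := by
        rintro f hf ⟨t, ht, hft⟩
        by_cases hf1 : f = 1
        · exact Or.inl hf1
        obtain ⟨x, hx, y, hy, z, hz, n1, n2, n3, c1, c2, c3, -, h | h | h⟩ :=
          H.prod3' ht hf hf1 hft
        · exact Or.inr (Or.inl (by rw [h]; exact hx))
        · exact Or.inr (Or.inr (Or.inl ⟨x, hx, y, hy, n1, c1, h⟩))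
        · exact Or.inr (Or.inr (Or.inr ⟨x, y, z, ⟨hx, hy, hz, n1, n2, n3, c1, c2, c3⟩, h⟩))
      four := by
        obtain ⟨x, hx, y, hy, n1, c1⟩ := H.pair
        obtain ⟨w, hw, n2, n3, c2, c3⟩ := H.exists_third hx hy c1 n1
        obtain ⟨a', b', c', Hx⟩ : ∃ a' b' c', Hex T x y w a' b' c' := by
          obtain ⟨x', hx', y', hy', w', hw', h1, h2, h3⟩ := KeyFi22.exists_hexad hL hx hy hw n1
            n2.symm n3.symm c1 c2 c3
          exact ⟨x', y', w', hex_of_list hx hy hw hx' hy' hw' h1 h2 h3⟩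
        exact ⟨x, y, w, a', Hx.t, ⟨hx, hy, Hx.t'.mx, n1, Hx.aa, Hx.ba, c1, Hx.caa, Hx.cba⟩,
          Hx.ca, Hx.cca⟩ }

end Group

end Cfsg.Agent.R01.FiLocal
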