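import Cfsg.Agent.R01.FiFusion

/-!
The facts on the class `T` of 3-transpositions of `Fi22` which are used in the fusion step of S1714.
-/

set_option autoImplicit false

namespace Cfsg.Agent.R01.FiFacts

open Cfsg Cfsg.Agent.R01.FiFusion

/-- Six different pairwise commuting members with product one. -/
structure Hex {Φ : Type*} [Group Φ] (T : Set Φ) (a b c a' b' c' : Φ) : Prop where
  t : Tri T a b c
  t' : Tri T a' b' c'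
  aa : a ≠ a'
  ab : a ≠ b'
  ac : a ≠ c'
  ba : b ≠ a'
  bb : b ≠ b'
  bc : b ≠ c'
  ca : c ≠ a'
  cb : c ≠ b'
  cc : c ≠ c'
  caa : a * a' = a' * a
  cab : a * b' = b' * a
  cac : a * c' = c' * a
  cba : b * a' = a' * b
  cbb : b * b' = b' * b
  cbc : b * c' = c' * b
  cca : c * a' = a' * c
  ccb : c * b' = b' * c
  ccc : c * c' = c' * c
  prod : a * b * c * (a' * b' * c') = 1

/-- The facts on the class `T` of 3-transpositions. -/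
structure TFacts {Φ : Type*} [Group Φ] (T : Set Φ) : Prop where
  sq : ∀ a ∈ T, a * a = 1
  ne : ∀ a ∈ T, a ≠ 1
  conj : ∀ g : Φ, ∀ a ∈ T, g * a * g⁻¹ ∈ T
  trans : ∀ a ∈ T, ∀ b ∈ T, ∃ g : Φ, g * a * g⁻¹ = b
  two : ∀ a ∈ T, ∀ b ∈ T, a ≠ b → a * b = b * a → a * b ∉ T
  prod : ∀ a b c : Φ, Tri T a b c → a * b * c ∉ T
  link : ∀ a ∈ T, ∀ b ∈ T, a ≠ b → a * b = b * a → ∃ c ∈ T, c * a ≠ a * c ∧ c * b ≠ b * c
  tri : ∀ a b c a' b' c' : Φ, Tri T a b c → Tri T a' b' c' →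
    ∃ g : Φ, g * a * g⁻¹ = a' ∧ g * b * g⁻¹ = b' ∧ g * c * g⁻¹ = c'
  hex : ∀ a b c : Φ, Tri T a b c → ∃ a' b' c' : Φ, Hex T a b c a' b' c'
  uniq : ∀ a b c a' b' c' a'' b'' c'' : Φ, Hex T a b c a' b' c' → Hex T a b c a'' b'' c'' →
    (a'' = a' ∨ a'' = b' ∨ a'' = c') ∧ (b'' = a' ∨ b'' = b' ∨ b'' = c') ∧
      (c'' = a' ∨ c'' = b' ∨ c'' = c')
  /-- the lift of an elation: `y₁ y₂` maps `x₁` to `x₃` and `x₂` to `x₄` -/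
  elat : ∀ s ∈ T, ∀ t ∈ T, s ≠ t → s * t = t * s → ∃ x₁ x₂ x₃ x₄ y₁ y₂ : Φ,
    Hex T s t x₁ x₂ x₃ x₄ ∧ y₁ ∈ T ∧ y₂ ∈ T ∧ y₁ * y₂ = y₂ * y₁ ∧
    (y₁ * y₂) * x₁ * (y₁ * y₂)⁻¹ = x₃ ∧ (y₁ * y₂) * x₂ * (y₁ * y₂)⁻¹ = x₄
  /-- the involutions commuting with a member of `T` -/
  inv : ∀ f : Φ, f * f = 1 → (∃ t ∈ T, f * t = t * f) → f = 1 ∨ f ∈ T ∨
    (∃ a ∈ T, ∃ b ∈ T, a ≠ b ∧ a * b = b * a ∧ f = a * b) ∨ ∃ a b c : Φ, Tri T a b c ∧ f = a * b * c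
  four : ∃ a b c c' : Φ, Tri T a b c ∧ Tri T a b c' ∧ c ≠ c' ∧ c * c' = c' * c

end Cfsg.Agent.R01.FiFacts
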