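import Cfsg.Agent.R01.Loc
import Cfsg.Agent.R01.Closing2

/-!
The bridge from the local data of a group of type `Fi23` (centralisers of the members of `D` are double covers of
`Fi22`, with a known intersection with `D`) to the hypotheses `Closing2.All` of the closing theorem.
-/

set_option autoImplicit false

namespace Cfsg.Agent.R01.Loc23

open Cfsg Cfsg.Agent.R01.Lifts Cfsg.Agent.R01.Start Cfsg.Agent.R01.Closing

universe u v

section Abstract

variable {F : Type v} [Group F]

/-- Six different, mutually commuting members of `T` with product one. -/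
structure Hexad (T : Set F) (x : Fin 6 → F) : Prop where
  mem : ∀ i, x i ∈ T
  inj : Function.Injective x
  comm : ∀ i j, x i * x j = x j * x i
  prod : x 0 * x 1 * x 2 * x 3 * x 4 * x 5 = 1

/-- Three different, mutually commuting members of `T`. -/
structure Tri (T : Set F) (a b c : F) : Prop where
  ha : a ∈ T
  hb : b ∈ T
  hc : c ∈ T
  ab : a ≠ b
  ac : a ≠ c
  bc : b ≠ c
  cab : a * b = b * a
  cac : a * c = c * a
  cbc : b * c = c * b

/-- The facts on the class of transpositions of `Fi22`. -/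
structure Geo (T : Set F) : Prop where
  sq : ∀ t ∈ T, t * t = 1
  ne : ∀ t ∈ T, t ≠ 1
  nonempty : T.Nonempty
  second : ∀ a ∈ T, ∃ b ∈ T, a ≠ b ∧ a * b = b * a
  third : ∀ a ∈ T, ∀ b ∈ T, a ≠ b → a * b = b * a → ∃ c, Tri T a b c
  two : ∀ a ∈ T, ∀ b ∈ T, a ≠ b → a * b = b * a → a * b ∉ T
  hexad : ∀ a b c, Tri T a b c → ∃ x, Hexad T x ∧ x 0 = a ∧ x 1 = b ∧ x 2 = c
  noncomm : ∀ a b c, Tri T a b c → ∃ e ∈ T, ∃ f ∈ T, e * f ≠ f * e ∧ e * a = a * e ∧
    e * b = b * e ∧ e * c = c * e ∧ f * a = a * f ∧ f * b = b * f ∧ f * c = c * f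
  link : ∀ a ∈ T, ∀ b ∈ T, a ≠ b → a * b = b * a → ∃ c ∈ T, c * a ≠ a * c ∧ c * b ≠ b * c

/-- Every involution is a product of at most three commuting members of `T`. -/
def AllInv (T : Set F) : Prop :=
  ∀ s : F, s * s = 1 → s ≠ 1 → ∃ x y w, Tri T x y w ∧ (s = x ∨ s = x * y ∨ s = x * y * w)

theorem Geo.exists_tri {T : Set F} (h : Geo T) {a : F} (ha : a ∈ T) : ∃ b c, Tri T a b c := by
  obtain ⟨b, hb, hab, hc⟩ := h.second a ha
  obtain ⟨c, hc⟩ := h.third a ha b hb hab hc
  exact ⟨b, c, hc⟩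

end Abstract

section Chart

variable {F : Type v} [Group F] {G : Type u} [Group G]

/-- The local data at a member `d` of `D`. -/
structure Chart (T : Set F) (D : Set G) (d : G) (π : Subgroup.centralizer ({d} : Set G) →* F)
    (D0 : Set (Subgroup.centralizer ({d} : Set G))) : Prop where
  ext : Ext π (zel d)
  perf : commutator (Subgroup.centralizer ({d} : Set G)) = ⊤
  bij : Set.BijOn π D0 T
  sq0 : ∀ a ∈ D0, a * a = 1
  comm : ∀ a ∈ D0, ∀ b ∈ D0, π a * π b = π b * π a → a * b = b * a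
  hexad : ∀ x : Fin 6 → Subgroup.centralizer ({d} : Set G), (∀ i, x i ∈ D0) →
    Hexad T (fun i => π (x i)) → x 0 * x 1 * x 2 * x 3 * x 4 * x 5 = zel d
  mem : ∀ x : Subgroup.centralizer ({d} : Set G), (x : G) ∈ D ↔ x = zel d ∨ x ∈ D0

/-- The local data at all members of `D`. -/
def Loc23 (T : Set F) (D : Set G) : Prop := ∀ d ∈ D, ∃ π D0, Chart T D d π D0

namespace Chart

variable {T : Set F} {D : Set G} {d : G} {π : Subgroup.centralizer ({d} : Set G) →* F}
  {D0 : Set (Subgroup.centralizer ({d} : Set G))}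

theorem lift (h : Chart T D d π D0) {t : F} (ht : t ∈ T) : ∃ x ∈ D0, π x = t := h.bij.2.2 ht

theorem inj (h : Chart T D d π D0) {x y : Subgroup.centralizer ({d} : Set G)} (hx : x ∈ D0)
    (hy : y ∈ D0) (hxy : π x = π y) : x = y := h.bij.2.1 hx hy hxy

theorem map_mem (h : Chart T D d π D0) {x : Subgroup.centralizer ({d} : Set G)} (hx : x ∈ D0) :
    π x ∈ T := h.bij.1 hx

theorem coe_mem (h : Chart T D d π D0) {x : Subgroup.centralizer ({d} : Set G)} (hx : x ∈ D0) :
    (x : G) ∈ D := (h.mem x).2 (Or.inr hx)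

theorem self_mem (h : Chart T D d π D0) : d ∈ D := (h.mem (zel d)).2 (Or.inl rfl)

theorem comm_d (x : Subgroup.centralizer ({d} : Set G)) : (x : G) * d = d * x :=
  Subgroup.mem_centralizer_singleton_iff.1 x.2

theorem ne_zel (h : Chart T D d π D0) (hg : Geo T) {x : Subgroup.centralizer ({d} : Set G)}
    (hx : x ∈ D0) : x ≠ zel d := by
  rintro rfl
  exact hg.ne _ (h.map_mem hx) h.ext.mapz

theorem ne_d (h : Chart T D d π D0) (hg : Geo T) {x : Subgroup.centralizer ({d} : Set G)}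
    (hx : x ∈ D0) : (x : G) ≠ d := fun h5 => h.ne_zel hg hx (Subtype.ext h5)

/-- The members of `D` commuting with `d`. -/
theorem exists_of_comm (h : Chart T D d π D0) {b : G} (hb : b ∈ D) (hbd : b * d = d * b)
    (hne : b ≠ d) : ∃ x ∈ D0, (x : G) = b := by
  have hbc : b ∈ Subgroup.centralizer ({d} : Set G) :=
    Subgroup.mem_centralizer_singleton_iff.2 hbd
  rcases (h.mem ⟨b, hbc⟩).1 hb with h5 | h5
  · exact absurd (congrArg Subtype.val h5) hne
  · exact ⟨_, h5, rfl⟩

theorem comm_iff (h : Chart T D d π D0) {x y : Subgroup.centralizer ({d} : Set G)} (hx : x ∈ D0)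
    (hy : y ∈ D0) : (x : G) * y = y * x ↔ π x * π y = π y * π x := by
  constructor
  · intro h5
    have h6 : x * y = y * x := Subtype.ext h5
    rw [← map_mul, h6, map_mul]
  · intro h5
    exact congrArg Subtype.val (h.comm x hx y hy h5)

/-- Lifting a triple. -/
theorem tri (h : Chart T D d π D0) {x y w : Subgroup.centralizer ({d} : Set G)} (hx : x ∈ D0)
    (hy : y ∈ D0) (hw : w ∈ D0) (ht : Tri T (π x) (π y) (π w)) : Tri D (x : G) y w where
  ha := h.coe_mem hx
  hb := h.coe_mem hy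
  hc := h.coe_mem hw
  ab h5 := ht.ab (by rw [Subtype.ext h5])
  ac h5 := ht.ac (by rw [Subtype.ext h5])
  bc h5 := ht.bc (by rw [Subtype.ext h5])
  cab := (h.comm_iff hx hy).2 ht.cab
  cac := (h.comm_iff hx hw).2 ht.cac
  cbc := (h.comm_iff hy hw).2 ht.cbc

/-- Extending a pair of the fibre by `d`. -/
theorem tri_d (h : Chart T D d π D0) (hg : Geo T) {x y : Subgroup.centralizer ({d} : Set G)}
    (hx : x ∈ D0) (hy : y ∈ D0) (hne : π x ≠ π y) (hc : π x * π y = π y * π x) :
    Tri D d (x : G) y where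
  ha := h.self_mem
  hb := h.coe_mem hx
  hc := h.coe_mem hy
  ab := (h.ne_d hg hx).symm
  ac := (h.ne_d hg hy).symm
  bc h5 := hne (by rw [Subtype.ext h5])
  cab := (comm_d x).symm
  cac := (comm_d y).symm
  cbc := (h.comm_iff hx hy).2 hc

/-- Two non-commuting members of `D` commuting with `d` and a given triple. -/
theorem exists_noncomm (h : Chart T D d π D0) (hg : Geo T)
    {x y w : Subgroup.centralizer ({d} : Set G)} (hx : x ∈ D0) (hy : y ∈ D0) (hw : w ∈ D0)
    (ht : Tri T (π x) (π y) (π w)) :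
    ∃ e ∈ D, ∃ f ∈ D, e * f ≠ f * e ∧ e * d = d * e ∧ e * x = x * e ∧ e * y = y * e ∧
      e * w = w * e ∧ f * d = d * f ∧ f * x = x * f ∧ f * y = y * f ∧ f * w = w * f := by
  obtain ⟨e', he', f', hf', h0, h1, h2, h3, h4, h5, h6⟩ := hg.noncomm _ _ _ ht
  obtain ⟨e, he, rfl⟩ := h.lift he'
  obtain ⟨f, hf, rfl⟩ := h.lift hf'
  exact ⟨e, h.coe_mem he, f, h.coe_mem hf, fun h7 => h0 ((h.comm_iff he hf).1 h7), comm_d e,
    (h.comm_iff he hx).2 h1, (h.comm_iff he hy).2 h2, (h.comm_iff he hw).2 h3, comm_d f,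
    (h.comm_iff hf hx).2 h4, (h.comm_iff hf hy).2 h5, (h.comm_iff hf hw).2 h6⟩

/-- Lifting a hexad. -/
theorem exists_hexad (h : Chart T D d π D0) (hg : Geo T)
    {x y w : Subgroup.centralizer ({d} : Set G)} (hx : x ∈ D0) (hy : y ∈ D0) (hw : w ∈ D0)
    (ht : Tri T (π x) (π y) (π w)) :
    ∃ l : Fin 6 → Subgroup.centralizer ({d} : Set G), l 0 = x ∧ l 1 = y ∧ l 2 = w ∧
      (∀ i, l i ∈ D0) ∧ Hexad T (fun i => π (l i)) ∧ (∀ i j, l i * l j = l j * l i) ∧
      l 0 * l 1 * l 2 * l 3 * l 4 * l 5 = zel d := by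
  obtain ⟨q, hq, q0, q1, q2⟩ := hg.hexad _ _ _ ht
  choose l hl using fun i => h.lift (hq.mem i)
  have hq' : Hexad T (fun i => π (l i)) := by
    have : (fun i => π (l i)) = q := funext fun i => (hl i).2
    rwa [this]
  refine ⟨l, h.inj (hl 0).1 hx (by rw [(hl 0).2, q0]), h.inj (hl 1).1 hy (by rw [(hl 1).2, q1]),
    h.inj (hl 2).1 hw (by rw [(hl 2).2, q2]), fun i => (hl i).1, hq', fun i j => ?_, ?_⟩
  · exact h.comm _ (hl i).1 _ (hl j).1 (hq'.comm i j)
  · exact h.hexad l (fun i => (hl i).1) hq'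

/-- The fibre is not empty, in the form of a triple. -/
theorem exists_triple (h : Chart T D d π D0) (hg : Geo T) : ∃ x ∈ D0, ∃ y ∈ D0, ∃ w ∈ D0,
    Tri T (π x) (π y) (π w) := by
  obtain ⟨a, ha⟩ := hg.nonempty
  obtain ⟨b, c, ht⟩ := hg.exists_tri ha
  obtain ⟨x, hx, rfl⟩ := h.lift ht.ha
  obtain ⟨y, hy, rfl⟩ := h.lift ht.hb
  obtain ⟨w, hw, rfl⟩ := h.lift ht.hc
  exact ⟨x, hx, y, hy, w, hw, ht⟩

/-- A member of the fibre belongs to a triple. -/
theorem exists_triple' (h : Chart T D d π D0) (hg : Geo T)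
    {x : Subgroup.centralizer ({d} : Set G)} (hx : x ∈ D0) : ∃ y ∈ D0, ∃ w ∈ D0,
    Tri T (π x) (π y) (π w) := by
  obtain ⟨b, c, ht⟩ := hg.exists_tri (h.map_mem hx)
  obtain ⟨y, hy, ey⟩ := h.lift ht.hb
  obtain ⟨w, hw, ew⟩ := h.lift ht.hc
  exact ⟨y, hy, w, hw, by rw [ey, ew]; exact ht⟩

/-- A commuting pair of the fibre belongs to a triple. -/
theorem exists_third (h : Chart T D d π D0) (hg : Geo T)
    {x y : Subgroup.centralizer ({d} : Set G)} (hx : x ∈ D0) (hy : y ∈ D0) (hne : π x ≠ π y)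
    (hc : π x * π y = π y * π x) : ∃ w ∈ D0, Tri T (π x) (π y) (π w) := by
  obtain ⟨c, ht⟩ := hg.third _ (h.map_mem hx) _ (h.map_mem hy) hne hc
  obtain ⟨w, hw, ew⟩ := h.lift ht.hc
  exact ⟨w, hw, by rw [ew]; exact ht⟩

end Chart

end Chart

section Main

variable {F : Type v} [Group F] {G : Type u} [Group G] {T : Set F} {D : Set G}

theorem conn_of_comm {a b : G} (ha : a ∈ D) (hb : b ∈ D) (h : a * b = b * a) : Conn D a b :=
  Conn.of_comm ha hb h

/-- The conclusion of the field `prod3` of the closing theorem. -/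
def P3 (D : Set G) (d t : G) : Prop :=
  ∃ x ∈ D, ∃ y ∈ D, ∃ z ∈ D, x ≠ y ∧ x ≠ z ∧ y ≠ z ∧ x * y = y * x ∧ x * z = z * x ∧
    y * z = z * y ∧ Conn D d x ∧ (t = x ∨ t = x * y ∨ t = x * y * z) ∧
    ∃ e ∈ D, ∃ f ∈ D, e * f ≠ f * e ∧ e * x = x * e ∧ e * y = y * e ∧ e * z = z * e ∧
      f * x = x * f ∧ f * y = y * f ∧ f * z = z * f

/-- The form of a member of a centraliser whose square is one. -/
theorem prod3 (hg : Geo T) (hinv : AllInv T) (hL : Loc23 T D) : ∀ d ∈ D, ∀ t : G, t * t = 1 →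
    t ≠ 1 → t * d = d * t →
    P3 D d t := by
  intro d hd t htt ht1 htd
  obtain ⟨π, D0, h⟩ := hL d hd
  -- packaging the output
  have pack : ∀ x y w : G, Tri D x y w → x * d = d * x → (t = x ∨ t = x * y ∨ t = x * y * w) →
      (∃ e ∈ D, ∃ f ∈ D, e * f ≠ f * e ∧ e * x = x * e ∧ e * y = y * e ∧ e * w = w * e ∧
        f * x = x * f ∧ f * y = y * f ∧ f * w = w * f) → P3 D d t := by
    intro x y w hT hxd ht hef
    exact ⟨x, hT.ha, y, hT.hb, w, hT.hc, hT.ab, hT.ac, hT.bc, hT.cab, hT.cac, hT.cbc,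
      conn_of_comm hd hT.ha hxd.symm, ht, hef⟩
  -- the two shapes of triples
  have shape1 : ∀ x ∈ D0, ∀ y ∈ D0, ∀ w ∈ D0, Tri T (π x) (π y) (π w) →
      (t = x ∨ t = x * y ∨ t = x * y * w) → P3 D d t := by
    intro x hx y hy w hw hT ht
    apply pack x y w (h.tri hx hy hw hT) (Chart.comm_d x) ht
    obtain ⟨e, he, f, hf, h0, -, h1, h2, h3, -, h4, h5, h6⟩ := h.exists_noncomm hg hx hy hw hT
    exact ⟨e, he, f, hf, h0, h1, h2, h3, h4, h5, h6⟩
  have shape2 : ∀ x ∈ D0, ∀ y ∈ D0, ∀ w ∈ D0, Tri T (π x) (π y) (π w) →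
      (t = d ∨ t = d * x ∨ t = d * x * y) → P3 D d t := by
    intro x hx y hy w hw hT ht
    apply pack d x y (h.tri_d hg hx hy hT.ab hT.cab) rfl ht
    obtain ⟨e, he, f, hf, h0, h0', h1, h2, h3, h0'', h4, h5, h6⟩ :=
      h.exists_noncomm hg hx hy hw hT
    exact ⟨e, he, f, hf, h0, h0', h1, h2, h0'', h4, h5⟩
  -- `t` as a member of the centraliser
  obtain ⟨s, hs⟩ : ∃ s : Subgroup.centralizer ({d} : Set G), (s : G) = t :=
    ⟨⟨t, Subgroup.mem_centralizer_singleton_iff.2 htd⟩, rfl⟩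
  have hss : s * s = 1 := Subtype.ext (by
    show (s : G) * s = 1
    rw [hs, htt])
  have hs1 : s ≠ 1 := by
    rintro rfl
    exact ht1 hs.symm
  by_cases h1 : π s = 1
  · rcases (h.ext.ker s).1 h1 with h5 | h5
    · exact absurd h5 hs1
    · obtain ⟨x, hx, y, hy, w, hw, hT⟩ := h.exists_triple hg
      apply shape2 x hx y hy w hw hT
      left
      rw [← hs, h5]
      rfl
  · obtain ⟨x', y', w', hT, hform⟩ := hinv (π s) (by rw [← map_mul, hss, map_one]) h1
    obtain ⟨x, hx, rfl⟩ := h.lift hT.ha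
    obtain ⟨y, hy, rfl⟩ := h.lift hT.hb
    obtain ⟨w, hw, rfl⟩ := h.lift hT.hc
    rw [← map_mul, ← map_mul] at hform
    have hzd : ((zel d : Subgroup.centralizer ({d} : Set G)) : G) = d := rfl
    rcases hform with h5 | h5 | h5 <;> rcases h.ext.map_eq.1 h5 with h6 | h6
    · exact shape1 x hx y hy w hw hT (Or.inl (by rw [← hs, h6]))
    · refine shape2 x hx y hy w hw hT (Or.inr (Or.inl ?_))
      rw [← hs, h6, Subgroup.coe_mul, hzd]
      exact Chart.comm_d x
    · exact shape1 x hx y hy w hw hT (Or.inr (Or.inl (by rw [← hs, h6, Subgroup.coe_mul])))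
    · refine shape2 x hx y hy w hw hT (Or.inr (Or.inr ?_))
      rw [← hs, h6, Subgroup.coe_mul, hzd, mul_assoc]
      exact Chart.comm_d (x * y)
    · exact shape1 x hx y hy w hw hT (Or.inr (Or.inr (by
        rw [← hs, h6, Subgroup.coe_mul, Subgroup.coe_mul])))
    · -- the last case: replace by the rest of the hexad
      obtain ⟨l, l0, l1, l2, hlD, hH, hcomm, hprod⟩ := h.exists_hexad hg hx hy hw hT
      have hT' : Tri T (π (l 3)) (π (l 4)) (π (l 5)) := by
        refine ⟨hH.mem 3, hH.mem 4, hH.mem 5, fun h7 => ?_, fun h7 => ?_, fun h7 => ?_,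
          hH.comm 3 4, hH.comm 3 5, hH.comm 4 5⟩
        · exact absurd (hH.inj h7) (by decide)
        · exact absurd (hH.inj h7) (by decide)
        · exact absurd (hH.inj h7) (by decide)
      refine shape1 (l 3) (hlD 3) (l 4) (hlD 4) (l 5) (hlD 5) hT' (Or.inr (Or.inr ?_))
      rw [← hs, ← Subgroup.coe_mul, ← Subgroup.coe_mul]
      congr 1
      rw [h6]
      -- `x y w z = l 3 l 4 l 5`
      have sq : ∀ i, l i * l i = 1 := fun i => h.sq0 _ (hlD i)
      rw [l0, l1, l2] at hprod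
      rw [← hprod]
      have sx := sq 0
      have sy := sq 1
      have sw := sq 2
      have cxy := hcomm 0 1
      have cxw := hcomm 0 2
      have cyw := hcomm 1 2
      rw [l0] at sx cxy cxw
      rw [l1] at sy cxy cyw
      rw [l2] at sw cxw cyw
      have key : x * y * w * (x * y * w) = 1 := by
        calc x * y * w * (x * y * w) = x * y * (w * x) * y * w := by group
          _ = x * y * (x * w) * y * w := by rw [cxw]
          _ = x * (y * x) * (w * y) * w := by group
          _ = x * (x * y) * (y * w) * w := by rw [cxy, cyw]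
          _ = (x * x) * (y * y) * (w * w) := by group
          _ = 1 := by rw [sx, sy, sw, mul_one, mul_one]
      calc x * y * w * (x * y * w * l 3 * l 4 * l 5)
          = (x * y * w * (x * y * w)) * (l 3 * l 4 * l 5) := by group
        _ = l 3 * l 4 * l 5 := by rw [key, one_mul]

/-- **The bridge**: the hypotheses of the closing theorem from the local data. -/
theorem all (hg : Geo T) (hinv : AllInv T) (hD : ∀ g : G, ∀ a ∈ D, g * a * g⁻¹ ∈ D)
    (hne : D.Nonempty) (hL : Loc23 T D)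
    (hthree : ∀ a ∈ D, ∀ b ∈ D, Conn D a b → a * b = b * a ∨ (a * b) ^ 3 = 1)
    (hcard : ∀ d ∈ D, Odd (Nat.card {b : G // Conn D d b}) ∨
      Nat.card {b : G // Conn D d b} % 4 = 2) : Closing2.All D where
  sq := by
    intro a ha
    obtain ⟨π, D0, h⟩ := hL a ha
    exact congrArg Subtype.val h.ext.zz
  ne := by
    rintro a ha h1
    obtain ⟨π, D0, h⟩ := hL a ha
    exact h.ext.zne (Subtype.ext h1)
  conj := hD
  pair := by
    obtain ⟨a, ha⟩ := hne
    obtain ⟨π, D0, h⟩ := hL a ha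
    obtain ⟨x, hx, y, hy, w, hw, hT⟩ := h.exists_triple hg
    exact ⟨a, ha, x, h.coe_mem hx, (h.ne_d hg hx).symm, (Chart.comm_d x).symm⟩
  two := by
    intro a ha b hb hab hc hmem
    obtain ⟨π, D0, h⟩ := hL a ha
    obtain ⟨x, hx, rfl⟩ := h.exists_of_comm hb hc.symm (Ne.symm hab)
    have h1 : ((zel a * x : Subgroup.centralizer ({a} : Set G)) : G) ∈ D := hmem
    rcases (h.mem _).1 h1 with h2 | h2
    · have h3 : x = 1 := by
        have : zel a * x = zel a * 1 := by rw [h2, mul_one]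
        exact mul_left_cancel this
      exact hg.ne _ (h.map_mem hx) (by rw [h3, map_one])
    · have h3 : zel a * x = x := h.inj h2 hx (by rw [map_mul, h.ext.mapz, one_mul])
      exact h.ext.zne (mul_eq_right.1 h3)
  prod := by
    intro a ha b hb c hc hab hac hbc cab cac cbc hmem
    obtain ⟨π, D0, h⟩ := hL a ha
    obtain ⟨x, hx, rfl⟩ := h.exists_of_comm hb cab.symm (Ne.symm hab)
    obtain ⟨y, hy, rfl⟩ := h.exists_of_comm hc cac.symm (Ne.symm hac)
    have h1 : ((zel a * x * y : Subgroup.centralizer ({a} : Set G)) : G) ∈ D := hmem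
    have hπ : π (zel a * x * y) = π x * π y := by
      rw [map_mul, map_mul, h.ext.mapz, one_mul]
    rcases (h.mem _).1 h1 with h2 | h2
    · have h3 : x * y = 1 := by
        have : zel a * (x * y) = zel a * 1 := by rw [← mul_assoc, h2, mul_one]
        exact mul_left_cancel this
      apply hbc
      have h4 : x = y := by
        calc x = x * (y * y) := by rw [h.sq0 y hy, mul_one]
          _ = (x * y) * y := by group
          _ = y := by rw [h3, one_mul]
      rw [h4]
    · have h3 := h.map_mem h2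
      rw [hπ] at h3
      refine hg.two _ (h.map_mem hx) _ (h.map_mem hy) (fun h5 => hbc ?_)
        ((h.comm_iff hx hy).1 cbc) h3
      rw [h.inj hx hy h5]
  odd := by
    intro a ha b hb hab hc
    obtain ⟨π, D0, h⟩ := hL a ha
    obtain ⟨x, hx, rfl⟩ := h.exists_of_comm hb hc.symm (Ne.symm hab)
    obtain ⟨y, hy, w, hw, hT⟩ := h.exists_triple' hg hx
    obtain ⟨l, l0, l1, l2, hlD, hH, hcomm, hprod⟩ := h.exists_hexad hg hx hy hw hT
    refine ⟨a :: List.ofFn (fun i => (l i : G)), ?_, ?_, ?_, ?_, ?_, ?_⟩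
    · rw [List.length_cons, List.length_ofFn]
      decide
    · intro q hq
      rw [List.mem_cons, List.mem_ofFn] at hq
      rcases hq with rfl | ⟨i, rfl⟩
      · exact ha
      · exact h.coe_mem (hlD i)
    · intro q hq q' hq'
      rw [List.mem_cons, List.mem_ofFn] at hq hq'
      rcases hq with rfl | ⟨i, rfl⟩ <;> rcases hq' with rfl | ⟨j, rfl⟩
      · rfl
      · exact (Chart.comm_d (l j)).symm
      · exact Chart.comm_d (l i)
      · exact congrArg Subtype.val (hcomm i j)
    · intro q hq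
      rw [List.mem_cons, List.mem_ofFn] at hq
      rcases hq with rfl | ⟨i, rfl⟩
      · rfl
      · exact Chart.comm_d (l i)
    · intro q hq
      rw [List.mem_cons, List.mem_ofFn] at hq
      rcases hq with rfl | ⟨i, rfl⟩
      · exact hc
      · have := congrArg Subtype.val (hcomm i 0)
        rw [l0] at this
        exact this
    · have h1 : List.ofFn (fun i => (l i : G)) =
          [(l 0 : G), (l 1 : G), (l 2 : G), (l 3 : G), (l 4 : G), (l 5 : G)] := rfl
      have h2 : (l 0 : G) * l 1 * l 2 * l 3 * l 4 * l 5 = a := congrArg Subtype.val hprod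
      have h3 : a * a = 1 := congrArg Subtype.val h.ext.zz
      rw [List.prod_cons, h1]
      simp only [List.prod_cons, List.prod_nil, mul_one, ← mul_assoc]
      simp only [mul_assoc] at h2 ⊢
      rw [h2, h3]
  prod3 := prod3 hg hinv hL
  link := by
    intro a ha b hb hab hc
    obtain ⟨π, D0, h⟩ := hL a ha
    obtain ⟨x, hx, rfl⟩ := h.exists_of_comm hb hc.symm (Ne.symm hab)
    obtain ⟨y, hy, w, hw, hT⟩ := h.exists_triple' hg hx
    -- the chart at `y`
    obtain ⟨π', D0', h'⟩ := hL y (h.coe_mem hy)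
    obtain ⟨a', ha', haa⟩ := h'.exists_of_comm ha (Chart.comm_d y).symm (h.ne_d hg hy).symm
    obtain ⟨x', hx', hxx⟩ := h'.exists_of_comm (h.coe_mem hx) ((h.comm_iff hx hy).2 hT.cab)
      (fun h5 => hT.ab (by rw [Subtype.ext h5]))
    have hne : π' a' ≠ π' x' := by
      intro h5
      exact hab (haa.symm.trans ((congrArg Subtype.val (h'.inj ha' hx' h5)).trans hxx))
    have hcc : π' a' * π' x' = π' x' * π' a' := by
      rw [← h'.comm_iff ha' hx', haa, hxx]
      exact hc
    obtain ⟨c, hcT, h1, h2⟩ := hg.link _ (h'.map_mem ha') _ (h'.map_mem hx') hne hcc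
    obtain ⟨c', hc', rfl⟩ := h'.lift hcT
    refine ⟨c', h'.coe_mem hc', ?_, ?_, ?_⟩
    · exact (conn_of_comm ha (h.coe_mem hy) (Chart.comm_d y).symm).trans
        (conn_of_comm (h.coe_mem hy) (h'.coe_mem hc') (Chart.comm_d c').symm)
    · intro h5
      apply h1
      rw [← h'.comm_iff hc' ha', haa]
      exact h5
    · intro h5
      apply h2
      rw [← h'.comm_iff hc' hx', hxx]
      exact h5
  perf := by
    intro d hd
    obtain ⟨π, D0, h⟩ := hL d hd
    exact h.perf
  three := hthree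
  card := hcard

end Main

end Cfsg.Agent.R01.Loc23
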