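import Cfsg.Agent.R01.KeyFi22
import Cfsg.Agent.R01.Assembly2
import Cfsg.Agent.R01.AllOfLoc23

/-!
# T1 of S1714, unconditional forms

`P` finite perfect with a conjugacy invariant set `T` of `3510` (two modulo four) transpositions with the local
structure `Loc.Loc hF T`.
-/

set_option autoImplicit false
set_option linter.dupNamespace false

namespace Cfsg.Agent.R01.KeyFi22

open Cfsg Cfsg.Agent.R01.Lifts Cfsg.Agent.R01.Start Cfsg.Agent.R01.Label Cfsg.Agent.R01.PSUSix

variable {P : Type*} [Group P] {F : Type*} [Field F] [Fintype F] {hF : Fintype.card F = 2 ^ 2}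
  {T : Set P}

/-- The local hypotheses in the form of `AllOfLab`. -/
theorem Base.toLoc [Finite P] (h : Base P hF T) : AllOfLab.Loc F hF T where
  sq a ha := (Assembly2.sq_of_loc h.loc a ha).1
  ne a ha := (Assembly2.sq_of_loc h.loc a ha).2
  conj := h.conj
  nonempty := by
    by_contra hn
    have h1 : T = ∅ := Set.eq_empty_iff_forall_notMem.2 fun x hx => hn ⟨x, hx⟩
    have h2 := h.card
    rw [h1] at h2
    simp at h2
  lab := h.loc
  baer _ _ _ _ L := Assembly2.hasBaer L

/-- An involution commutes with a member of `T`. -/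
theorem Base.exists_commute [Finite P] (h : Base P hF T) {s : P} (hs : s * s = 1) :
    ∃ t ∈ T, s * t = t * s := KeyFi22.exists_commute h.conj h.perf h.card hs

/-- **T1 (F1)**: every involution is a product of at most three different commuting members of `T`. -/
theorem Base.allInv [Finite P] (h : Base P hF T) : Loc23.AllInv T := by
  intro s hs hs1
  obtain ⟨x, hx, y, hy, w, hw, n1, n2, n3, c1, c2, c3, h4⟩ :=
    exists_three h.toLoc h.perf h.card hs hs1
  exact ⟨x, y, w, ⟨hx, hy, hw, n1, n2, n3, c1, c2, c3⟩, h4⟩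

/-- **KEY** for a cover: an element `c` with `c ^ 2 ∈ {1, z}` is up to `z` a product of at most three different
commuting members of `D`. -/
theorem Cover.key [Finite P] {C : Type*} [Group C] {π : C →* P} {z : C} {D : Set C}
    (hC : Cover π z T D) (hP : Base P hF T) {c : C} (hc : c * c = 1 ∨ c * c = z) :
    ∃ c₀ : C, (c₀ = 1 ∨ c₀ = z) ∧ (c = c₀ ∨ ∃ x ∈ D, ∃ y ∈ D, ∃ w ∈ D, x ≠ y ∧ x ≠ w ∧ y ≠ w ∧
      x * y = y * x ∧ x * w = w * x ∧ y * w = w * y ∧
      (c = c₀ * x ∨ c = c₀ * (x * y) ∨ c = c₀ * (x * y * w))) :=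
  hC.key_three hP.toLoc hP.perf hP.card hc

/-- The six classes: with the hexad hypothesis, an element `c` with `c ^ 2 ∈ {1, z}` is `1`, `z`, `x`, `z x`,
`x y`, `z x y` or `x y w` with different commuting `x, y, w ∈ D`. -/
theorem Cover.key_hex [Finite P] {C : Type*} [Group C] {π : C →* P} {z : C} {D : Set C}
    (hC : Cover π z T D) (hP : Base P hF T) (hZ : HexZ π z D) {c : C}
    (hc : c * c = 1 ∨ c * c = z) : c = 1 ∨ c = z ∨ ∃ x ∈ D, ∃ y ∈ D, ∃ w ∈ D, x ≠ y ∧ x ≠ w ∧
      y ≠ w ∧ x * y = y * x ∧ x * w = w * x ∧ y * w = w * y ∧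
      (c = x ∨ c = z * x ∨ c = x * y ∨ c = z * (x * y) ∨ c = x * y * w) := by
  obtain ⟨c₀, h0, h1⟩ := hC.key hP hc
  rcases h1 with h1 | ⟨x, hx, y, hy, w, hw, n1, n2, n3, c1, c2, c3, h4⟩
  · rcases h0 with h0 | h0
    · exact Or.inl (h1.trans h0)
    · exact Or.inr (Or.inl (h1.trans h0))
  right
  right
  rcases h0 with h0 | h0
  · rw [h0, one_mul, one_mul, one_mul] at h4
    refine ⟨x, hx, y, hy, w, hw, n1, n2, n3, c1, c2, c3, ?_⟩
    rcases h4 with h4 | h4 | h4
    · exact Or.inl h4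
    · exact Or.inr (Or.inr (Or.inl h4))
    · exact Or.inr (Or.inr (Or.inr (Or.inr h4)))
  · rw [h0] at h4
    rcases h4 with h4 | h4 | h4
    · exact ⟨x, hx, y, hy, w, hw, n1, n2, n3, c1, c2, c3, Or.inr (Or.inl h4)⟩
    · exact ⟨x, hx, y, hy, w, hw, n1, n2, n3, c1, c2, c3, Or.inr (Or.inr (Or.inr (Or.inl h4)))⟩
    · obtain ⟨x', hx', y', hy', w', hw', g1, g2, g3⟩ :=
        hC.z_mul_three hP.loc hZ hx hy hw n1 n2 n3 c1 c2 c3
      simp only [List.nodup_cons, List.mem_cons, List.not_mem_nil, or_false, not_or] at g1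
      simp only [List.pairwise_cons, List.mem_cons, List.not_mem_nil, or_false,
        forall_eq_or_imp, forall_eq] at g2
      exact ⟨x', hx', y', hy', w', hw', by tauto, by tauto, by tauto, g2.2.2.2.1.1, g2.2.2.2.1.2,
        g2.2.2.2.2.1, Or.inr (Or.inr (Or.inr (Or.inr (h4.trans g3))))⟩

end Cfsg.Agent.R01.KeyFi22
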