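import Cfsg.Agent.R01.LamSys
import Cfsg.Agent.ClassicalGeometry.HermFrame

/-!
The standard hyperbolic basis of the unitary space `F^6`, `F` the field with four elements, and
transitivity of `SU 6 F 2` on the totally isotropic frames.
-/

set_option autoImplicit false
set_option linter.unusedSectionVars false

namespace Cfsg.Agent.R01.Frames

open Cfsg Cfsg.Agent.LieClassical.HermBasic Cfsg.Agent.ClassicalGeometry.UnitTransv
open Cfsg.Agent.SporadicStructure.UnitTwo Cfsg.Agent.R01.PSUSix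
open scoped Matrix

variable {F : Type*} [Field F] [Fintype F] (hF : Fintype.card F = 2 ^ 2)

/-- first vector -/
def e1 : Fin 6 → F := ![1, 1, 0, 0, 0, 0]
/-- second vector -/
def e2 : Fin 6 → F := ![0, 0, 1, 1, 0, 0]
/-- third vector -/
def e3 : Fin 6 → F := ![0, 0, 0, 0, 1, 1]
/-- partner of the first vector -/
def f1 (ω : F) : Fin 6 → F := ![ω, ω ^ 2, 0, 0, 0, 0]
/-- partner of the second vector -/
def f2 (ω : F) : Fin 6 → F := ![0, 0, ω, ω ^ 2, 0, 0]
/-- partner of the third vector -/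
def f3 (ω : F) : Fin 6 → F := ![0, 0, 0, 0, ω, ω ^ 2]

/-- The form in coordinates. -/
theorem herm_six (x y : Fin 6 → F) : hermForm 6 F 2 x y =
    x 0 * y 0 ^ 2 + x 1 * y 1 ^ 2 + x 2 * y 2 ^ 2 + x 3 * y 3 ^ 2 + x 4 * y 4 ^ 2 + x 5 * y 5 ^ 2 := by
  rw [herm_def, Fin.sum_univ_six]

theorem herm_e1 (x : Fin 6 → F) : hermForm 6 F 2 x e1 = x 0 + x 1 := by
  rw [herm_six]; simp [e1]
theorem herm_e2 (x : Fin 6 → F) : hermForm 6 F 2 x e2 = x 2 + x 3 := by
  rw [herm_six]; simp [e2]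
theorem herm_e3 (x : Fin 6 → F) : hermForm 6 F 2 x e3 = x 4 + x 5 := by
  rw [herm_six]; simp [e3]

theorem pow_two_two {ω : F} (hω : ω ^ 2 + ω + 1 = 0) : (ω ^ 2) ^ 2 = ω := by
  have h3 : ω ^ 3 = 1 := omega_cubed hω
  linear_combination ω * h3

theorem herm_f1 {ω : F} (hω : ω ^ 2 + ω + 1 = 0) (x : Fin 6 → F) :
    hermForm 6 F 2 x (f1 ω) = x 0 * ω ^ 2 + x 1 * ω := by
  rw [herm_six]; simp [f1, pow_two_two hω]
theorem herm_f2 {ω : F} (hω : ω ^ 2 + ω + 1 = 0) (x : Fin 6 → F) :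
    hermForm 6 F 2 x (f2 ω) = x 2 * ω ^ 2 + x 3 * ω := by
  rw [herm_six]; simp [f2, pow_two_two hω]
theorem herm_f3 {ω : F} (hω : ω ^ 2 + ω + 1 = 0) (x : Fin 6 → F) :
    hermForm 6 F 2 x (f3 ω) = x 4 * ω ^ 2 + x 5 * ω := by
  rw [herm_six]; simp [f3, pow_two_two hω]

include hF in
/-- Coordinates with respect to the hyperbolic basis. -/
theorem expand {ω : F} (hω : ω ^ 2 + ω + 1 = 0) (x : Fin 6 → F) :
    x = hermForm 6 F 2 x (f1 ω) • e1 + hermForm 6 F 2 x (f2 ω) • e2 +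
      hermForm 6 F 2 x (f3 ω) • e3 + hermForm 6 F 2 x e1 • f1 ω + hermForm 6 F 2 x e2 • f2 ω +
      hermForm 6 F 2 x e3 • f3 ω := by
  have h2 := two_eq_zero hF
  rw [herm_f1 hω, herm_f2 hω, herm_f3 hω, herm_e1, herm_e2, herm_e3]
  funext i
  fin_cases i <;> simp [e1, e2, e3, f1, f2, f3]
  · linear_combination (-x 0) * hω + (x 0 - x 1 * ω) * h2
  · linear_combination (-x 1) * hω + (x 1 - x 0 * ω ^ 2) * h2
  · linear_combination (-x 2) * hω + (x 2 - x 3 * ω) * h2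
  · linear_combination (-x 3) * hω + (x 3 - x 2 * ω ^ 2) * h2
  · linear_combination (-x 4) * hω + (x 4 - x 5 * ω) * h2
  · linear_combination (-x 5) * hω + (x 5 - x 4 * ω ^ 2) * h2


/-- `x ↦ h(x, y)` as a linear form. -/
def hL (y : Fin 6 → F) : (Fin 6 → F) →ₗ[F] F where
  toFun x := hermForm 6 F 2 x y
  map_add' x x' := herm_add_left x x' y
  map_smul' c x := by rw [herm_smul_left, RingHom.id_apply, smul_eq_mul]

theorem hL_apply (x y : Fin 6 → F) : hL y x = hermForm 6 F 2 x y := rfl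

/-- the totally isotropic part of the standard basis -/
def E (i : Fin 3) : Fin 6 → F := ![e1, e2, e3] i
/-- the partners -/
def P (ω : F) (i : Fin 3) : Fin 6 → F := ![f1 ω, f2 ω, f3 ω] i

/-- A hyperbolic basis. -/
structure Hyp (g k : Fin 3 → (Fin 6 → F)) : Prop where
  gg : ∀ i j, hermForm 6 F 2 (g i) (g j) = 0
  kk : ∀ i j, hermForm 6 F 2 (k i) (k j) = 0
  gk : ∀ i j, hermForm 6 F 2 (g i) (k j) = if i = j then 1 else 0

include hF in
theorem Hyp.kg {g k : Fin 3 → (Fin 6 → F)} (h : Hyp g k) (i j : Fin 3) :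
    hermForm 6 F 2 (k i) (g j) = if i = j then 1 else 0 := by
  rw [herm_swap hF (g j) (k i), h.gk]
  by_cases hij : i = j
  · rw [if_pos hij, if_pos hij.symm, one_pow]
  · rw [if_neg hij, if_neg (Ne.symm hij), zero_pow two_ne_zero]

theorem hyp_std {ω : F} (hF : Fintype.card F = 2 ^ 2) (hω : ω ^ 2 + ω + 1 = 0) :
    Hyp (F := F) E (P ω) := by
  have h2 := two_eq_zero hF
  have h3 : ω ^ 3 = 1 := omega_cubed hω
  refine ⟨?_, ?_, ?_⟩
  · intro i j
    fin_cases i <;> fin_cases j <;> simp [E, herm_e1, herm_e2, herm_e3] <;>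
      simp [e1, e2, e3] <;> linear_combination h2
  · intro i j
    fin_cases i <;> fin_cases j <;>
      simp [P, herm_f1 hω, herm_f2 hω, herm_f3 hω] <;> simp [f1, f2, f3] <;>
      linear_combination ω * ω ^ 2 * h2
  · intro i j
    fin_cases i <;> fin_cases j <;>
      simp [E, P, herm_f1 hω, herm_f2 hω, herm_f3 hω] <;> simp [e1, e2, e3] <;>
      linear_combination hω - h2

include hF in
theorem herm_sum {g k : Fin 3 → (Fin 6 → F)} (h : Hyp g k) (a b a' b' : Fin 3 → F) :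
    hermForm 6 F 2 (∑ i, (a i • g i + b i • k i)) (∑ j, (a' j • g j + b' j • k j)) =
      ∑ i, (a i * b' i ^ 2 + b i * a' i ^ 2) := by
  rw [herm_sum_left]
  refine Finset.sum_congr rfl fun i _ => ?_
  rw [herm_sum_right hF]
  have : ∀ j, hermForm 6 F 2 (a i • g i + b i • k i) (a' j • g j + b' j • k j) =
      if i = j then a i * b' j ^ 2 + b i * a' j ^ 2 else 0 := by
    intro j
    rw [herm_add_left, herm_add_right hF, herm_add_right hF]
    simp only [herm_smul_left, herm_smul_right, h.gg, h.kk, h.gk, h.kg hF]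
    by_cases hij : i = j
    · simp [hij]; ring
    · simp [hij]
  simp only [this, Finset.sum_ite_eq, Finset.mem_univ, if_true]

/-- The linear map taking the standard basis to `g`, `k`. -/
def fmap (ω : F) (g k : Fin 3 → (Fin 6 → F)) : (Fin 6 → F) →ₗ[F] (Fin 6 → F) :=
  ∑ i : Fin 3, ((hL (P ω i)).smulRight (g i) + (hL (E i)).smulRight (k i))

theorem fmap_apply (ω : F) (g k : Fin 3 → (Fin 6 → F)) (x : Fin 6 → F) :
    fmap ω g k x = ∑ i : Fin 3, (hermForm 6 F 2 x (P ω i) • g i + hermForm 6 F 2 x (E i) • k i) := by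
  simp [fmap, hL_apply]

include hF in
theorem expand' {ω : F} (hω : ω ^ 2 + ω + 1 = 0) (x : Fin 6 → F) :
    ∑ i : Fin 3, (hermForm 6 F 2 x (P ω i) • E i + hermForm 6 F 2 x (E i) • P ω i) = x := by
  conv_rhs => rw [expand hF hω x]
  rw [Fin.sum_univ_three]
  simp only [E, P, Matrix.cons_val_zero, Matrix.cons_val_one, Matrix.cons_val]
  abel

include hF in
theorem herm_fmap {ω : F} (hω : ω ^ 2 + ω + 1 = 0) {g k : Fin 3 → (Fin 6 → F)} (h : Hyp g k)
    (x y : Fin 6 → F) :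
    hermForm 6 F 2 (fmap ω g k x) (fmap ω g k y) = hermForm 6 F 2 x y := by
  rw [fmap_apply, fmap_apply, herm_sum hF h]
  conv_rhs => rw [← expand' hF hω x, ← expand' hF hω y]
  rw [herm_sum hF (hyp_std hF hω)]

theorem fmap_E {ω : F} (hF : Fintype.card F = 2 ^ 2) (hω : ω ^ 2 + ω + 1 = 0)
    (g k : Fin 3 → (Fin 6 → F)) (j : Fin 3) : fmap ω g k (E j) = g j := by
  rw [fmap_apply]
  simp [(hyp_std hF hω).gg, (hyp_std hF hω).gk]

theorem fmap_P {ω : F} (hF : Fintype.card F = 2 ^ 2) (hω : ω ^ 2 + ω + 1 = 0)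
    (g k : Fin 3 → (Fin 6 → F)) (j : Fin 3) : fmap ω g k (P ω j) = k j := by
  rw [fmap_apply]
  simp [(hyp_std hF hω).kk, (hyp_std hF hω).kg hF]

include hF in
/-- The determinant of a matrix preserving the form has cube one. -/
theorem det_cube {M : Matrix (Fin 6) (Fin 6) F}
    (hM : ∀ x y, hermForm 6 F 2 (M *ᵥ x) (M *ᵥ y) = hermForm 6 F 2 x y) : M.det ^ 3 = 1 := by
  have h1 : Mᵀ * M.map (fun x => x ^ 2) = 1 := by
    ext i j
    have h := hM (Pi.single i 1) (Pi.single j 1)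
    rw [Matrix.mulVec_single_one, Matrix.mulVec_single_one, herm_single_right hF, one_pow,
      mul_one, herm_def] at h
    rw [Matrix.mul_apply]
    simp only [Matrix.transpose_apply, Matrix.map_apply]
    rw [Matrix.one_apply]
    simp only [Matrix.col_apply] at h
    rw [h, Pi.single_apply]
    simp only [eq_comm]
  have h2 := congrArg Matrix.det h1
  rw [Matrix.det_mul, Matrix.det_transpose, Matrix.det_one] at h2
  have h3 : (M.map (fun x => x ^ 2)).det = M.det ^ 2 := by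
    have : (M.map (fun x => x ^ 2)) = (conj hF).mapMatrix M := by
      ext i j
      rfl
    rw [this, ← RingEquiv.map_det, conj_apply]
  rw [h3] at h2
  linear_combination h2


/-- The diagonal matrix `diag(a, a, 1, 1, 1, 1)`. -/
def dg (a : F) : Fin 6 → F := ![a, a, 1, 1, 1, 1]

theorem det_dg (a : F) : (Matrix.diagonal (dg a)).det = a ^ 2 := by
  rw [Matrix.det_diagonal, Fin.prod_univ_six]
  simp [dg]
  ring

theorem herm_dg {a : F} (ha : a ^ 3 = 1) (x y : Fin 6 → F) :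
    hermForm 6 F 2 (Matrix.diagonal (dg a) *ᵥ x) (Matrix.diagonal (dg a) *ᵥ y) =
      hermForm 6 F 2 x y := by
  rw [herm_six, herm_six]
  simp only [Matrix.mulVec_diagonal]
  simp [dg]
  linear_combination (x 0 * y 0 ^ 2 + x 1 * y 1 ^ 2) * ha

theorem dg_E (a : F) : Matrix.diagonal (dg a) *ᵥ (E 0) = a • E 0 ∧
    Matrix.diagonal (dg a) *ᵥ (E 1) = (E 1 : Fin 6 → F) ∧
    Matrix.diagonal (dg a) *ᵥ (E 2) = (E 2 : Fin 6 → F) := by
  refine ⟨?_, ?_, ?_⟩ <;> funext i <;> rw [Matrix.mulVec_diagonal] <;> fin_cases i <;>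
    simp [dg, E, e1, e2, e3]

theorem dg_P (a ω : F) : Matrix.diagonal (dg a) *ᵥ (P ω 0) = a • P ω 0 ∧
    Matrix.diagonal (dg a) *ᵥ (P ω 1) = (P ω 1 : Fin 6 → F) ∧
    Matrix.diagonal (dg a) *ᵥ (P ω 2) = (P ω 2 : Fin 6 → F) := by
  refine ⟨?_, ?_, ?_⟩ <;> funext i <;> rw [Matrix.mulVec_diagonal] <;> fin_cases i <;>
    simp [dg, P, f1, f2, f3]

include hF in
/-- Transitivity on hyperbolic bases, up to a scalar on the first pair. -/
theorem trans_hyp {ω : F} (hω : ω ^ 2 + ω + 1 = 0) {g k : Fin 3 → (Fin 6 → F)} (h : Hyp g k) :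
    ∃ (s : SU 6 F 2) (a : F), a ≠ 0 ∧ act s (E 0) = a • g 0 ∧ act s (E 1) = g 1 ∧
      act s (E 2) = g 2 ∧ act s (P ω 0) = a • k 0 ∧ act s (P ω 1) = k 1 ∧ act s (P ω 2) = k 2 := by
  set M := LinearMap.toMatrix' (fmap ω g k) with hM
  have hMv : ∀ x, M *ᵥ x = fmap ω g k x := fun x => LinearMap.toMatrix'_mulVec _ _
  have hMh : ∀ x y, hermForm 6 F 2 (M *ᵥ x) (M *ᵥ y) = hermForm 6 F 2 x y := by
    intro x y
    rw [hMv, hMv, herm_fmap hF hω h]
  have hd := det_cube hF hMh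
  set a := M.det with ha
  have ha0 : a ≠ 0 := by
    intro h0
    rw [h0] at hd
    simp at hd
  have hN : ∀ x y, hermForm 6 F 2 ((M * Matrix.diagonal (dg a)) *ᵥ x)
      ((M * Matrix.diagonal (dg a)) *ᵥ y) = hermForm 6 F 2 x y := by
    intro x y
    rw [← Matrix.mulVec_mulVec, ← Matrix.mulVec_mulVec, hMh, herm_dg hd]
  have hNd : (M * Matrix.diagonal (dg a)).det = 1 := by
    rw [Matrix.det_mul, det_dg, ← ha, ← pow_succ', hd]
  refine ⟨mk _ hNd hN, a, ha0, ?_, ?_, ?_, ?_, ?_, ?_⟩ <;>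
    rw [act_mk, ← Matrix.mulVec_mulVec]
  · rw [(dg_E a).1, Matrix.mulVec_smul, hMv, fmap_E hF hω]
  · rw [(dg_E a).2.1, hMv, fmap_E hF hω]
  · rw [(dg_E a).2.2, hMv, fmap_E hF hω]
  · rw [(dg_P a ω).1, Matrix.mulVec_smul, hMv, fmap_P hF hω]
  · rw [(dg_P a ω).2.1, hMv, fmap_P hF hω]
  · rw [(dg_P a ω).2.2, hMv, fmap_P hF hω]

/-- Linearly independent mutually orthogonal isotropic triples. -/
structure TI3 (u v w : Fin 6 → F) : Prop where
  uu : hermForm 6 F 2 u u = 0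
  vv : hermForm 6 F 2 v v = 0
  ww : hermForm 6 F 2 w w = 0
  uv : hermForm 6 F 2 u v = 0
  uw : hermForm 6 F 2 u w = 0
  vw : hermForm 6 F 2 v w = 0
  ind : ∀ a b c : F, a • u + b • v + c • w = 0 → a = 0 ∧ b = 0 ∧ c = 0

/-- Linearly independent orthogonal isotropic pairs. -/
structure TI2 (u v : Fin 6 → F) : Prop where
  uu : hermForm 6 F 2 u u = 0
  vv : hermForm 6 F 2 v v = 0
  uv : hermForm 6 F 2 u v = 0
  ind : ∀ a b : F, a • u + b • v = 0 → a = 0 ∧ b = 0

include hF in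
/-- Transitivity on totally isotropic frames, up to a scalar on the first vector; the partners are
moved along. -/
theorem trans_frames {ω : F} (hω : ω ^ 2 + ω + 1 = 0) {u v w : Fin 6 → F} (h : TI3 u v w) :
    ∃ (s : SU 6 F 2) (a : F), a ≠ 0 ∧ act s (E 0) = a • u ∧ act s (E 1) = v ∧ act s (E 2) = w := by
  have hli : LinearIndependent F ![u, v, w] := by
    rw [Fintype.linearIndependent_iff]
    intro c hc
    rw [Fin.sum_univ_three] at hc
    obtain ⟨h0, h1, h2⟩ := h.ind _ _ _ hc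
    intro i
    fin_cases i
    exacts [h0, h1, h2]
  have hiso : ∀ i j, hermForm 6 F 2 (![u, v, w] i) (![u, v, w] j) = 0 := by
    intro i j
    fin_cases i <;> fin_cases j
    exacts [h.uu, h.uv, h.uw, herm_eq_zero_swap hF h.uv, h.vv, h.vw, herm_eq_zero_swap hF h.uw,
      herm_eq_zero_swap hF h.vw, h.ww]
  obtain ⟨k, hk1, hk2⟩ := Cfsg.Agent.ClassicalGeometry.HermFrame.exists_hyperbolic hF hli hiso
  obtain ⟨s, a, ha, h0, h1, h2, -⟩ := trans_hyp hF hω (g := ![u, v, w]) (k := k) ⟨hiso, hk2, hk1⟩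
  exact ⟨s, a, ha, h0, h1, h2⟩

end Cfsg.Agent.R01.Frames
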