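import Cfsg.Agent.SporadicStructure.UnitTwo
import Cfsg.Agent.ClassicalGeometry.UnitAutBasic
import Cfsg.Agent.LieClassical.HermCount

/-!
Facts on the transvections of `PSU 6 F 2`, `F` the field with four elements.
-/

set_option autoImplicit false
set_option linter.unusedSectionVars false

namespace Cfsg.Agent.R01.PSUSix

open Cfsg Cfsg.Agent.LieClassical.HermBasic Cfsg.Agent.ClassicalGeometry.UnitTransv
open Cfsg.Agent.SporadicStructure.UnitTwo
open scoped Matrix

section Embed

variable {F : Type*} [Field F] {m k : ℕ}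

theorem herm_append (x x' : Fin m → F) (y y' : Fin k → F) :
    hermForm (m + k) F 2 (Fin.append x y) (Fin.append x' y') =
      hermForm m F 2 x x' + hermForm k F 2 y y' := by
  rw [herm_def, herm_def, herm_def, Fin.sum_univ_add]
  simp

theorem eq_append (z : Fin (m + k) → F) :
    z = Fin.append (fun i => z (Fin.castAdd k i)) (fun j => z (Fin.natAdd m j)) := by
  rw [Fin.append_castAdd_natAdd]

/-- Block diagonal embedding. -/
def embMat (k : ℕ) (A : Matrix (Fin m) (Fin m) F) : Matrix (Fin (m + k)) (Fin (m + k)) F :=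
  Matrix.reindex finSumFinEquiv finSumFinEquiv (Matrix.fromBlocks A 0 0 1)

theorem embMat_mulVec (A : Matrix (Fin m) (Fin m) F) (x : Fin m → F) (y : Fin k → F) :
    embMat k A *ᵥ Fin.append x y = Fin.append (A *ᵥ x) y := by
  funext i
  simp only [embMat, Matrix.mulVec, dotProduct, Matrix.reindex_apply, Matrix.submatrix_apply]
  rw [Fin.sum_univ_add]
  refine Fin.addCases (fun i => ?_) (fun j => ?_) i
  · simp [Matrix.mulVec, dotProduct]
  · simp [Matrix.one_apply]

theorem det_embMat (A : Matrix (Fin m) (Fin m) F) : (embMat k A).det = A.det := by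
  rw [embMat, Matrix.det_reindex_self, Matrix.det_fromBlocks_zero₂₁, Matrix.det_one, mul_one]

theorem embMat_herm (A : Matrix (Fin m) (Fin m) F)
    (hA : ∀ x y, hermForm m F 2 (A *ᵥ x) (A *ᵥ y) = hermForm m F 2 x y)
    (x y : Fin (m + k) → F) :
    hermForm (m + k) F 2 (embMat k A *ᵥ x) (embMat k A *ᵥ y) = hermForm (m + k) F 2 x y := by
  rw [eq_append x, eq_append y, embMat_mulVec, embMat_mulVec, herm_append, herm_append, hA]

/-- The embedding `SU m → SU (m + k)` on the first `m` coordinates. -/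
def embF (k : ℕ) (g : SU m F 2) : SU (m + k) F 2 :=
  mk (embMat k ((g : Matrix.SpecialLinearGroup (Fin m) F) : Matrix (Fin m) (Fin m) F))
    (by rw [det_embMat]; exact (g : Matrix.SpecialLinearGroup (Fin m) F).det_coe)
    (embMat_herm _ g.2)

theorem act_embF (g : SU m F 2) (x : Fin m → F) (y : Fin k → F) :
    act (embF k g) (Fin.append x y) = Fin.append (act g x) y := by
  rw [embF, act_mk, embMat_mulVec, act_def]

/-- The embedding as a homomorphism. -/
def emb (k : ℕ) : SU m F 2 →* SU (m + k) F 2 :=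
  MonoidHom.mk' (embF k) (by
    intro g h
    apply ext_act
    intro x
    rw [eq_append x, act_mul, act_embF, act_embF, act_embF, act_mul])

theorem act_emb (g : SU m F 2) (x : Fin m → F) (y : Fin k → F) :
    act (emb k g) (Fin.append x y) = Fin.append (act g x) y := act_embF g x y

end Embed

section Stab

variable {F : Type*} [Field F] [Fintype F] {n m : ℕ} (hF : Fintype.card F = 2 ^ 2)
include hF

/-- The subgroup generated by the transvections with centre orthogonal to `u`. -/
def Ru (u : Fin n → F) : Subgroup (SU n F 2) :=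
  Subgroup.closure {g | ∃ (w : Fin n → F) (hw : hermForm n F 2 w w = 0),
    hermForm n F 2 w u = 0 ∧ g = T hF w hw}

theorem T_mem_Ru {u w : Fin n → F} (hw : hermForm n F 2 w w = 0) (hwu : hermForm n F 2 w u = 0) :
    T hF w hw ∈ Ru hF u :=
  Subgroup.subset_closure ⟨w, hw, hwu, rfl⟩

theorem act_of_mem_Ru {u : Fin n → F} {r : SU n F 2} (hr : r ∈ Ru hF u) : act r u = u := by
  refine Subgroup.closure_induction (p := fun r _ => act r u = u) ?_ ?_ ?_ ?_ hr
  · rintro r ⟨w, hw, hwu, rfl⟩
    exact act_T_of_perp hF w hw u (herm_eq_zero_swap hF hwu)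
  · exact act_one u
  · intro a b _ _ ha hb
    rw [act_mul, hb, ha]
  · intro a _ ha
    conv_lhs => rw [← ha]
    rw [act_inv_act]

/-- The transvection interchanging two vectors. -/
theorem swapT {u v v' : Fin n → F} (hv : hermForm n F 2 v v = 0) (hv' : hermForm n F 2 v' v' = 0)
    (hvu : hermForm n F 2 v u = 1) (hvu' : hermForm n F 2 v' u = 1)
    (hvv : hermForm n F 2 v v' = 1) : ∃ r ∈ Ru hF u, act r v = v' := by
  have h1 : hermForm n F 2 v' v = 1 := by rw [herm_swap hF v v', hvv, one_pow]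
  have h0 : hermForm n F 2 (v + v') (v + v') = 0 := by
    rw [herm_add_left, herm_add_right hF, herm_add_right hF, hv, hv', hvv, h1, zero_add, add_zero]
    exact add_self hF 1
  refine ⟨T hF (v + v') h0, T_mem_Ru hF h0 ?_, ?_⟩
  · rw [herm_add_left, hvu, hvu']
    exact add_self hF 1
  · rw [act_T, herm_add_right hF, hv, hvv, zero_add, one_smul, ← add_assoc, vadd_self hF, zero_add]

omit hF [Fintype F] in
variable (F) in
/-- The isotropic vector `e_m + e_{m+1}`. -/
def u0 (m : ℕ) : Fin (m + 2) → F := Fin.append 0 ![1, 1]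

omit hF [Fintype F] in
/-- The isotropic vector `ω e_m + ω² e_{m+1}`. -/
def v0 (m : ℕ) (ω : F) : Fin (m + 2) → F := Fin.append 0 ![ω, ω ^ 2]

theorem herm_u0 : hermForm (m + 2) F 2 (u0 F m) (u0 F m) = 0 := by
  rw [u0, herm_append, herm_zero_left, herm_def]
  simp [Fin.sum_univ_two]
  linear_combination two_eq_zero hF

theorem u0_ne_zero : (u0 F m : Fin (m + 2) → F) ≠ 0 := by
  intro h
  have := congrFun h (Fin.natAdd m 0)
  simp [u0] at this

variable {ω : F} (hω : ω ^ 2 + ω + 1 = 0)
include hω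

omit hF in
theorem omega_cubed : ω ^ 3 = 1 := by
  linear_combination (ω - 1) * hω

theorem herm_v0 : hermForm (m + 2) F 2 (v0 m ω) (v0 m ω) = 0 := by
  rw [v0, herm_append, herm_zero_left, herm_def]
  simp [Fin.sum_univ_two]
  have h3 := omega_cubed hω
  linear_combination (1 + ω ^ 3 + 1) * h3 + two_eq_zero hF

theorem herm_v0_u0 : hermForm (m + 2) F 2 (v0 m ω) (u0 F m) = 1 := by
  rw [v0, u0, herm_append, herm_zero_left, herm_def]
  simp [Fin.sum_univ_two]
  linear_combination hω - two_eq_zero hF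

theorem herm_u0_v0 : hermForm (m + 2) F 2 (u0 F m) (v0 m ω) = 1 := by
  rw [herm_swap hF (v0 m ω), herm_v0_u0 hF hω, one_pow]

/-- A vector orthogonal to `u0` and `v0` has only the first `m` coordinates. -/
theorem eq_append_of_perp {x : Fin (m + 2) → F} (h1 : hermForm (m + 2) F 2 x (u0 F m) = 0)
    (h2 : hermForm (m + 2) F 2 x (v0 m ω) = 0) :
    x = Fin.append (fun i => x (Fin.castAdd 2 i)) 0 := by
  have hx := eq_append x
  rw [hx] at h1 h2
  rw [u0, herm_append, herm_def (n := m), herm_def] at h1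
  rw [v0, herm_append, herm_def (n := m), herm_def] at h2
  simp [Fin.sum_univ_two] at h1 h2
  have h3 := omega_cubed hω
  set a := x (Fin.natAdd m 0) with ha
  set b := x (Fin.natAdd m 1) with hb
  have hb0 : b = 0 := by
    have hab : a = -b := by linear_combination h1
    rw [hab] at h2
    have h4 : b * 1 = 0 := by
      linear_combination h2 - b * ω * h3 + b * hω - b * two_eq_zero hF * ω
    simpa using h4
  have ha0 : a = 0 := by linear_combination h1 - hb0
  conv_lhs => rw [hx]
  congr 1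
  funext j
  fin_cases j
  · exact ha0
  · exact hb0

/-- Transitivity of `Ru u0` on the isotropic vectors `v'` with `h(v', u0) = 1`. -/
theorem siegel_trans (hm : 3 ≤ m) {v' : Fin (m + 2) → F}
    (hv' : hermForm (m + 2) F 2 v' v' = 0) (hvu : hermForm (m + 2) F 2 v' (u0 F m) = 1) :
    ∃ r ∈ Ru hF (u0 F m), act r (v0 m ω) = v' := by
  have h2 := two_eq_zero hF
  have huu := herm_u0 (F := F) hF (m := m)
  have hvv := herm_v0 (F := F) hF hω (m := m)
  have hvu0 := herm_v0_u0 (F := F) hF hω (m := m)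
  have huv0 := herm_u0_v0 (F := F) hF hω (m := m)
  have huv' : hermForm (m + 2) F 2 (u0 F m) v' = 1 := by rw [herm_swap hF v', hvu, one_pow]
  set u := u0 F m with hu
  set v := v0 m ω with hv
  set a := hermForm (m + 2) F 2 v v' with ha
  have ha' : hermForm (m + 2) F 2 v' v = a ^ 2 := by rw [herm_swap hF v v', ← ha]
  by_cases ha1 : a = 1
  · exact swapT hF hvv hv' hvu0 hvu (by rw [← ha, ha1])
  have htwo : ∀ w : Fin (m + 2) → F, hermForm (m + 2) F 2 w w = 0 →
      hermForm (m + 2) F 2 w u = 1 → hermForm (m + 2) F 2 v w = 1 →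
      hermForm (m + 2) F 2 w v' = 1 → ∃ r ∈ Ru hF u, act r v = v' := by
    intro w hw hwu hvw hwv'
    obtain ⟨r1, hr1, h1⟩ := swapT hF hvv hw hvu0 hwu hvw
    obtain ⟨r2, hr2, h3⟩ := swapT hF hw hv' hwu hvu hwv'
    exact ⟨r2 * r1, mul_mem hr2 hr1, by rw [act_mul, h1, h3]⟩
  by_cases ha0 : a = 0
  · apply htwo (v + u)
    · rw [herm_add_left, herm_add_right hF, herm_add_right hF, hvv, hvu0, huv0, huu]
      linear_combination h2
    · rw [herm_add_left, hvu0, huu, add_zero]
    · rw [herm_add_right hF, hvv, hvu0, zero_add]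
    · rw [herm_add_left, ← ha, ha0, huv', zero_add]
  · have ha3 := pow_three hF ha0
    have ha2 : a ^ 2 + a = 1 := by
      have : (a - 1) * (a ^ 2 + a + 1) = 0 := by linear_combination ha3
      rcases mul_eq_zero.1 this with h | h
      · exact absurd (by linear_combination h) ha1
      · linear_combination h - h2
    set x := v' + v + a ^ 2 • u with hx
    have hxu : hermForm (m + 2) F 2 x u = 0 := by
      rw [hx, herm_add_left, herm_add_left, herm_smul_left, hvu, hvu0, huu]
      linear_combination h2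
    have hxv : hermForm (m + 2) F 2 x v = 0 := by
      rw [hx, herm_add_left, herm_add_left, herm_smul_left, ha', hvv, huv0]
      linear_combination a ^ 2 * h2
    have hxx : hermForm (m + 2) F 2 x x = 1 := by
      have e1 : hermForm (m + 2) F 2 x x = hermForm (m + 2) F 2 x v' := by
        conv_lhs => rw [hx]
        rw [← hx, herm_add_right hF, herm_add_right hF, herm_smul_right, hxv, hxu, mul_zero,
          add_zero, add_zero]
      rw [e1, hx, herm_add_left, herm_add_left, herm_smul_left, hv', ← ha, huv']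
      linear_combination ha2
    have hxa := eq_append_of_perp hF hω hxu hxv
    obtain ⟨z, hz1, -, hz2⟩ := exists_perp hF hm (fun i => x (Fin.castAdd 2 i))
    set y : Fin (m + 2) → F := a • x + Fin.append z 0 with hy
    have hzz : hermForm (m + 2) F 2 (Fin.append z 0) (Fin.append z 0) = 1 := by
      rw [herm_append, hz1, herm_zero_left, add_zero]
    have hxz : hermForm (m + 2) F 2 x (Fin.append z 0) = 0 := by
      rw [hxa, herm_append, hz2, herm_zero_left, add_zero]
    have hzx := herm_eq_zero_swap hF hxz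
    have hzu : hermForm (m + 2) F 2 (Fin.append z 0) u = 0 := by
      rw [hu, u0, herm_append, herm_zero_right hF, herm_zero_left, add_zero]
    have hzv : hermForm (m + 2) F 2 (Fin.append z 0) v = 0 := by
      rw [hv, v0, herm_append, herm_zero_right hF, herm_zero_left, add_zero]
    have hyu : hermForm (m + 2) F 2 y u = 0 := by
      rw [hy, herm_add_left, herm_smul_left, hxu, hzu, mul_zero, add_zero]
    have hyv : hermForm (m + 2) F 2 y v = 0 := by
      rw [hy, herm_add_left, herm_smul_left, hxv, hzv, mul_zero, add_zero]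
    have huy := herm_eq_zero_swap hF hyu
    have hvy := herm_eq_zero_swap hF hyv
    have hyy : hermForm (m + 2) F 2 y y = 0 := by
      rw [hy, herm_add_left, herm_add_right hF, herm_add_right hF, herm_smul_left, herm_smul_right,
        herm_smul_left, herm_smul_right, hxx, hxz, hzx, hzz]
      linear_combination ha3 + h2
    have hyx : hermForm (m + 2) F 2 y x = a := by
      rw [hy, herm_add_left, herm_smul_left, hxx, hzx, mul_one, add_zero]
    have hv'x : v' = v + a ^ 2 • u + x := by
      funext i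
      rw [hx]
      simp only [Pi.add_apply, Pi.smul_apply, smul_eq_mul]
      linear_combination (- v i - a ^ 2 * u i) * h2
    clear_value y
    apply htwo (v + u + y)
    · rw [herm_add_left, herm_add_left, herm_add_right hF, herm_add_right hF, herm_add_right hF,
        herm_add_right hF, herm_add_right hF, herm_add_right hF, hvv, hvu0, huv0, huu, hvy, huy,
        hyu, hyv, hyy]
      linear_combination h2
    · rw [herm_add_left, herm_add_left, hvu0, huu, hyu]
      ring
    · rw [herm_add_right hF, herm_add_right hF, hvv, hvu0, hvy]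
      ring
    · have e1 : hermForm (m + 2) F 2 y v' = a := by
        rw [hv'x, herm_add_right hF, herm_add_right hF, herm_smul_right, hyv, hyu, hyx]
        ring
      rw [herm_add_left, herm_add_left, ← ha, huv', e1]
      linear_combination a * h2

omit hω in
theorem fixes_append (hω : ω ^ 2 + ω + 1 = 0) {g : SU (m + 2) F 2} (h1 : act g (u0 F m) = u0 F m)
    (h2 : act g (v0 m ω) = v0 m ω) (y : Fin 2 → F) :
    act g (Fin.append 0 y) = Fin.append 0 y := by
  have key : (Fin.append 0 y : Fin (m + 2) → F) =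
      (y 0 + (y 0 + y 1) * ω) • u0 F m + (y 0 + y 1) • v0 m ω := by
    funext i
    refine Fin.addCases (fun i => ?_) (fun j => ?_) i
    · simp [u0, v0]
    · fin_cases j
      · simp [u0, v0]
        linear_combination (-(y 0 + y 1) * ω) * two_eq_zero hF
      · simp [u0, v0]
        linear_combination (-(y 0 + y 1)) * hω + y 1 * two_eq_zero hF
  rw [key, act_add, act_smul, act_smul, h1, h2]

/-- An element fixing `u0` and `v0` comes from `SU m`. -/
theorem eq_emb {g : SU (m + 2) F 2} (h1 : act g (u0 F m) = u0 F m)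
    (h2 : act g (v0 m ω) = v0 m ω) : ∃ g0 : SU m F 2, g = emb 2 g0 := by
  have hfix := fixes_append hF hω h1 h2
  set M := ((g : Matrix.SpecialLinearGroup (Fin (m + 2)) F) : Matrix (Fin (m + 2)) (Fin (m + 2)) F)
    with hM
  set A : Matrix (Fin m) (Fin m) F := fun i j => M (Fin.castAdd 2 i) (Fin.castAdd 2 j) with hA
  have hx : ∀ x : Fin m → F, act g (Fin.append x 0) = Fin.append (A *ᵥ x) 0 := by
    intro x
    have e1 : hermForm (m + 2) F 2 (act g (Fin.append x 0)) (u0 F m) = 0 := by
      rw [← h1, herm_act, u0, herm_append, herm_zero_right hF, herm_zero_left, add_zero]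
    have e2 : hermForm (m + 2) F 2 (act g (Fin.append x 0)) (v0 m ω) = 0 := by
      rw [← h2, herm_act, v0, herm_append, herm_zero_right hF, herm_zero_left, add_zero]
    rw [eq_append_of_perp hF hω e1 e2]
    congr 1
    funext i
    rw [act_def, ← hM]
    simp only [Matrix.mulVec, dotProduct]
    rw [Fin.sum_univ_add]
    simp [hA]
  have hall : ∀ (x : Fin m → F) (y : Fin 2 → F),
      act g (Fin.append x y) = Fin.append (A *ᵥ x) y := by
    intro x y
    have e1 : (Fin.append x y : Fin (m + 2) → F) = Fin.append x 0 + Fin.append 0 y := by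
      funext i
      refine Fin.addCases (fun i => ?_) (fun j => ?_) i <;> simp
    have e2 : (Fin.append (A *ᵥ x) y : Fin (m + 2) → F)
        = Fin.append (A *ᵥ x) 0 + Fin.append 0 y := by
      funext i
      refine Fin.addCases (fun i => ?_) (fun j => ?_) i <;> simp
    rw [e1, act_add, hx, hfix, e2]
  have hMA : M = embMat 2 A := by
    apply Matrix.toLin'.injective
    apply LinearMap.ext
    intro z
    rw [Matrix.toLin'_apply, Matrix.toLin'_apply, eq_append z, embMat_mulVec]
    exact hall _ _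
  have hdet : A.det = 1 := by
    rw [← det_embMat (k := 2) A, ← hMA]
    exact (g : Matrix.SpecialLinearGroup (Fin (m + 2)) F).det_coe
  have hherm : ∀ x y, hermForm m F 2 (A *ᵥ x) (A *ᵥ y) = hermForm m F 2 x y := by
    intro x y
    have := herm_act g (Fin.append x 0) (Fin.append y 0)
    rw [hall, hall, herm_append, herm_append, herm_zero_left, add_zero, add_zero] at this
    exact this
  refine ⟨mk A hdet hherm, ext_act fun z => ?_⟩
  rw [eq_append z, hall, act_emb, act_mk]

/-- **Generation of the stabiliser of an isotropic vector.** -/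
theorem stab_le (hm : 4 ≤ m) {g : SU (m + 2) F 2} (hg : act g (u0 F m) = u0 F m) :
    g ∈ Ru hF (u0 F m) := by
  obtain ⟨r, hr, hrv⟩ := siegel_trans hF hω (by omega : 3 ≤ m) (v' := act g (v0 m ω))
    (by rw [herm_act, herm_v0 hF hω]) (by
      conv_lhs => rw [← hg]
      rw [herm_act, herm_v0_u0 hF hω])
  obtain ⟨g0, hg0⟩ := eq_emb hF hω (g := r⁻¹ * g)
    (by rw [act_mul, hg]; exact act_of_mem_Ru hF (inv_mem hr))
    (by rw [act_mul, ← hrv, act_inv_act])
  have hemb : ∀ x : SU m F 2, emb 2 x ∈ Ru hF (u0 F m) := by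
    intro x
    have hx : x ∈ R (n := m) hF := by rw [R_eq_top hF hm]; trivial
    refine Subgroup.closure_induction (p := fun x _ => emb 2 x ∈ Ru hF (u0 F m)) ?_ ?_ ?_ ?_ hx
    · rintro x ⟨v, hv, -, rfl⟩
      have hv2 : hermForm (m + 2) F 2 (Fin.append v 0) (Fin.append v 0) = 0 := by
        rw [herm_append, hv, herm_zero_left, add_zero]
      have : emb 2 (T hF v hv) = T hF (Fin.append v 0) hv2 := by
        apply ext_act
        intro z
        rw [eq_append z, act_emb, act_T, act_T, herm_append, herm_zero_right hF, add_zero]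
        funext i
        refine Fin.addCases (fun i => ?_) (fun j => ?_) i <;> simp
      rw [this]
      apply T_mem_Ru
      rw [u0, herm_append, herm_zero_right hF, herm_zero_left, add_zero]
    · rw [map_one]; exact one_mem _
    · intro a b _ _ ha hb
      rw [map_mul]; exact mul_mem ha hb
    · intro a _ ha
      rw [map_inv]; exact inv_mem ha
  have : g = r * (r⁻¹ * g) := by group
  rw [this, hg0]
  exact mul_mem hr (hemb g0)

end Stab

section Tau

open Cfsg.Agent.ClassicalGeometry.UnitAutBasic (tau pr pr_surjective c0)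

variable {F : Type*} [Field F] [Fintype F] {n : ℕ} (hF : Fintype.card F = 2 ^ 2)
include hF

theorem c0_eq : c0 hF = 1 := by
  have h0 := Cfsg.Agent.ClassicalGeometry.UnitAutBasic.c0_ne_zero hF
  have h1 := Cfsg.Agent.ClassicalGeometry.UnitAutBasic.c0_tr hF
  have h2 : c0 hF * (c0 hF + 1) = 0 := by linear_combination h1
  rcases mul_eq_zero.1 h2 with h | h
  · exact absurd h h0
  · linear_combination h - two_eq_zero hF

theorem T_eq {v : Fin n → F} (hv : hermForm n F 2 v v = 0) :
    Cfsg.Agent.ClassicalGeometry.UnitAutBasic.T hF v = T hF v hv := by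
  apply ext_act
  intro x
  have := Cfsg.Agent.ClassicalGeometry.UnitAutBasic.act_T hF hv x
  rw [c0_eq, one_mul] at this
  rw [act_T]
  exact this

theorem tau_eq_pr {v : Fin n → F} (hv : hermForm n F 2 v v = 0) :
    tau hF v = pr n F 2 (T hF v hv) := by
  rw [Cfsg.Agent.ClassicalGeometry.UnitAutBasic.tau_def, T_eq hF hv]

theorem norm_iff {c : F} : c * c ^ 2 = 1 ↔ c ≠ 0 := by
  constructor
  · rintro h rfl
    simp at h
  · intro h
    have := pow_three hF h
    linear_combination this

theorem herm_smul_self {v : Fin n → F} (hv : hermForm n F 2 v v = 0) (c : F) :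
    hermForm n F 2 (c • v) (c • v) = 0 := by
  rw [herm_smul_left, herm_smul_right, hv, mul_zero, mul_zero]

theorem tau_smul {v : Fin n → F} (hv : hermForm n F 2 v v = 0) {c : F} (hc : c ≠ 0) :
    tau hF (c • v) = tau hF v := by
  have := Cfsg.Agent.ClassicalGeometry.UnitAutBasic.tau_smul_congr hF hv (a := c) (b := 1)
    (by rw [(norm_iff hF).2 hc]; ring)
  rwa [one_smul] at this

theorem tau_eq_iff (hn : 3 ≤ n) {v w : Fin n → F} (hv : hermForm n F 2 v v = 0)
    (hw : hermForm n F 2 w w = 0) (h0 : v ≠ 0) :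
    tau hF v = tau hF w ↔ ∃ c : F, c ≠ 0 ∧ w = c • v := by
  rw [Cfsg.Agent.ClassicalGeometry.UnitAutBasic.tau_eq_tau_iff hF hn hv hw h0]
  simp only [norm_iff hF]

theorem tau_commute_iff (hn : 3 ≤ n) {v w : Fin n → F} (hv : hermForm n F 2 v v = 0)
    (hw : hermForm n F 2 w w = 0) (h0 : v ≠ 0) :
    Commute (tau hF v) (tau hF w) ↔ hermForm n F 2 v w = 0 := by
  rw [← Cfsg.Agent.ClassicalGeometry.UnitAutBasic.tau_comm_iff hF hn hw hv h0]
  exact eq_comm

theorem tau_ne_one (hn : 3 ≤ n) {v : Fin n → F} (hv : hermForm n F 2 v v = 0) (h0 : v ≠ 0) :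
    tau hF v ≠ 1 := fun h =>
  h0 ((Cfsg.Agent.ClassicalGeometry.UnitAutBasic.tau_eq_one_iff hF hn hv).1 h)

theorem tau_mul_self {v : Fin n → F} (hv : hermForm n F 2 v v = 0) :
    tau hF v * tau hF v = 1 := by
  rw [tau_eq_pr hF hv, ← map_mul, T_mul_self, map_one]

theorem tau_inv {v : Fin n → F} (hv : hermForm n F 2 v v = 0) :
    (tau hF v)⁻¹ = tau hF v := inv_eq_of_mul_eq_one_left (tau_mul_self hF hv)

theorem conj_tau (g : SU n F 2) {v : Fin n → F} (hv : hermForm n F 2 v v = 0) :
    pr n F 2 g * tau hF v * (pr n F 2 g)⁻¹ = tau hF (act g v) :=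
  Cfsg.Agent.ClassicalGeometry.UnitAutBasic.conj_tau hF g hv

/-- Conjugating a transvection by another one. -/
theorem tau_conj_tau {v w : Fin n → F} (hv : hermForm n F 2 v v = 0)
    (hw : hermForm n F 2 w w = 0) :
    tau hF v * tau hF w * tau hF v = tau hF (w + hermForm n F 2 w v • v) := by
  conv_lhs =>
    rw [← tau_inv hF hv]
    rw [tau_inv hF hv]
  have h1 := conj_tau hF (T hF v hv) hw
  rw [← tau_eq_pr, tau_inv hF hv, act_T] at h1
  exact h1

/-- The set of transvections in `PSU n F 2`. -/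
def TT (n : ℕ) : Set (PSU n F 2) :=
  {t | ∃ v : Fin n → F, v ≠ 0 ∧ hermForm n F 2 v v = 0 ∧ t = tau hF v}

theorem tau_mem {v : Fin n → F} (h0 : v ≠ 0) (hv : hermForm n F 2 v v = 0) :
    tau hF v ∈ TT hF n := ⟨v, h0, hv, rfl⟩

theorem mem_TT_iff {x : PSU n F 2} :
    x ∈ TT hF n ↔ ∃ g ∈ {g : ↥(Cfsg.SU n F 2) |
      (((g : Matrix.SpecialLinearGroup (Fin n) F) : Matrix (Fin n) (Fin n) F) - 1).rank = 1},
      pr n F 2 g = x := by
  constructor
  · rintro ⟨v, h0, hv, rfl⟩
    exact ⟨T hF v hv, (rank_one_iff hF _).2 ⟨v, hv, h0, rfl⟩, (tau_eq_pr hF hv).symm⟩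
  · rintro ⟨g, hg, rfl⟩
    obtain ⟨v, hv, h0, rfl⟩ := (rank_one_iff hF g).1 hg
    exact ⟨v, h0, hv, (tau_eq_pr hF hv).symm⟩

/-- **(U1)** The transvections form a class of 3-transpositions of `PSU n F 2`. -/
theorem isThreeTranspositionClass_TT (hn : 4 ≤ n) : IsThreeTranspositionClass (TT hF n) := by
  obtain ⟨⟨-, h2⟩, ⟨d, hd, h3⟩, h4⟩ := isThreeTranspositionClass (F := F) (n := n) hF hn
  refine ⟨⟨?_, ?_⟩, ?_, ?_⟩
  · rintro x ⟨v, h0, hv, rfl⟩
    rw [orderOf_eq_prime_iff, pow_two]
    exact ⟨tau_mul_self hF hv, tau_ne_one hF (by omega) hv h0⟩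
  · intro x hx y hy
    obtain ⟨g, hg, rfl⟩ := (mem_TT_iff hF).1 hx
    obtain ⟨g', hg', rfl⟩ := (mem_TT_iff hF).1 hy
    rcases h2 g hg g' hg' with h | h
    · left
      rw [← map_mul, ← map_pow, h, map_one]
    · right
      rw [← map_mul, ← map_pow, h, map_one]
  · refine ⟨pr n F 2 d, (mem_TT_iff hF).2 ⟨d, hd, rfl⟩, ?_⟩
    ext x
    rw [mem_TT_iff, h3]
    constructor
    · rintro ⟨g, hg, rfl⟩
      obtain ⟨c, hc⟩ := isConj_iff.1 (show IsConj d g from hg)
      exact isConj_iff.2 ⟨pr n F 2 c, by rw [← map_inv, ← map_mul, ← map_mul, hc]⟩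
    · intro hx
      obtain ⟨c, hc⟩ := isConj_iff.1 (show IsConj (pr n F 2 d) x from hx)
      obtain ⟨c, rfl⟩ := pr_surjective c
      exact ⟨c * d * c⁻¹, isConj_iff.2 ⟨c, rfl⟩, by rw [← hc, map_mul, map_mul, map_inv]⟩
  · have h5 : TT hF n = pr n F 2 '' {g : ↥(Cfsg.SU n F 2) |
        (((g : Matrix.SpecialLinearGroup (Fin n) F) : Matrix (Fin n) (Fin n) F) - 1).rank = 1} := by
      ext x
      exact mem_TT_iff hF
    rw [h5, ← MonoidHom.map_closure, h4, ← MonoidHom.range_eq_map]
    exact MonoidHom.range_eq_top.2 pr_surjective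

theorem conj_mem_TT {x : PSU n F 2} (hx : x ∈ TT hF n) (g : PSU n F 2) :
    g * x * g⁻¹ ∈ TT hF n := by
  obtain ⟨v, h0, hv, rfl⟩ := hx
  obtain ⟨g, rfl⟩ := pr_surjective g
  rw [conj_tau hF g hv]
  refine ⟨act g v, ?_, by rw [herm_act, hv], rfl⟩
  intro h
  apply h0
  apply act_injective g
  rw [h, act_zero]

/-- **(U3)** The product of the five transvections with centres on a totally isotropic line. -/
theorem line_prod {a b : Fin n → F} (ha : hermForm n F 2 a a = 0) (hb : hermForm n F 2 b b = 0)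
    (hab : hermForm n F 2 a b = 0) {ω : F} (hω : ω ^ 2 + ω + 1 = 0) :
    tau hF a * tau hF b * tau hF (a + b) * tau hF (ω • a + b) * tau hF (ω ^ 2 • a + b) = 1 := by
  have hba := herm_eq_zero_swap hF hab
  have hs : ∀ c : F, hermForm n F 2 (c • a + b) (c • a + b) = 0 := by
    intro c
    rw [herm_add_left, herm_add_right hF, herm_add_right hF, herm_smul_left, herm_smul_left,
      herm_smul_right, herm_smul_right, ha, hb, hab, hba]
    ring
  have h1 : hermForm n F 2 (a + b) (a + b) = 0 := by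
    have := hs 1
    rwa [one_smul] at this
  rw [tau_eq_pr hF ha, tau_eq_pr hF hb, tau_eq_pr hF h1, tau_eq_pr hF (hs ω),
    tau_eq_pr hF (hs (ω ^ 2)), ← map_mul, ← map_mul, ← map_mul, ← map_mul]
  suffices h : T hF a ha * T hF b hb * T hF (a + b) h1 * T hF (ω • a + b) (hs ω) *
      T hF (ω ^ 2 • a + b) (hs (ω ^ 2)) = 1 by rw [h, map_one]
  apply ext_act
  intro x
  have h3 : ω ^ 3 = 1 := omega_cubed hω
  have h2 := two_eq_zero hF
  simp only [act_mul, act_one, act_T, herm_add_left, herm_smul_left, herm_add_right hF,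
    herm_smul_right, ha, hb, hab, hba, mul_zero, add_zero]
  funext i
  simp only [Pi.add_apply, Pi.smul_apply, smul_eq_mul]
  generalize hermForm n F 2 x a = p
  generalize hermForm n F 2 x b = q
  have h4 : ω ^ 4 = ω := by linear_combination ω * h3
  have h6 : ω ^ 6 = 1 := by linear_combination (ω ^ 3 + 1) * h3
  linear_combination q * a i * hω + p * b i * hω + p * b i * h4 + p * a i * h3 + p * a i * h6 +
    (2 * p * a i + 2 * q * b i) * h2

/-- If `w` is not a multiple of `u`, some vector orthogonal to `u` is not orthogonal to `w`. -/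
theorem exists_perp_ne {u w : Fin n → F} (hu0 : u ≠ 0) (hw : ¬ ∃ c : F, w = c • u) :
    ∃ a, hermForm n F 2 a u = 0 ∧ hermForm n F 2 w a ≠ 0 := by
  by_contra hcon
  push Not at hcon
  apply hw
  obtain ⟨b, hb⟩ := exists_herm_ne_zero hF hu0
  set s := hermForm n F 2 u b with hs
  have hbu : hermForm n F 2 b u = s ^ 2 := by rw [herm_swap hF u b]
  have hs3 := pow_three hF hb
  refine ⟨hermForm n F 2 w b * s⁻¹, ?_⟩
  have key : w - (hermForm n F 2 w b * s⁻¹) • u = 0 := by
    apply herm_nondeg hF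
    intro a
    -- the component of `a` orthogonal to `u`
    have h1 := hcon (a - (hermForm n F 2 a u * (s ^ 2)⁻¹) • b) (by
      rw [herm_sub_left, herm_smul_left, hbu, mul_assoc, inv_mul_cancel₀ (pow_ne_zero 2 hb),
        mul_one, sub_self])
    rw [herm_sub_right hF, herm_smul_right, mul_pow, ← herm_swap hF a u] at h1
    rw [herm_sub_left, herm_smul_left]
    have h4 : ((s ^ 2)⁻¹) ^ 2 = s⁻¹ := by
      rw [inv_pow]
      congr 1
      linear_combination s * hs3
    rw [h4] at h1
    linear_combination h1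
  rwa [sub_eq_zero] at key

/-- `Ru u` is transitive on the points of `u^⊥` different from `u`. -/
theorem trans_perp {u w w' : Fin n → F} (hu0 : u ≠ 0) (hw : hermForm n F 2 w w = 0)
    (hw' : hermForm n F 2 w' w' = 0) (hwu : hermForm n F 2 w u = 0)
    (hwu' : hermForm n F 2 w' u = 0) (hn : ¬ ∃ c : F, w = c • u) (hn' : ¬ ∃ c : F, w' = c • u)
    (hu : hermForm n F 2 u u = 0) :
    ∃ r ∈ Ru hF u, ∃ c : F, c ≠ 0 ∧ act r w = c • w' := by
  have h2 := two_eq_zero hF
  have key : ∀ a b : Fin n → F, hermForm n F 2 a a = 0 → hermForm n F 2 b b = 0 →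
      hermForm n F 2 a u = 0 → hermForm n F 2 b u = 0 → hermForm n F 2 a b ≠ 0 →
      ∃ r ∈ Ru hF u, ∃ c : F, c ≠ 0 ∧ act r a = c • b := by
    intro a b ha hb hau hbu hab
    set s := hermForm n F 2 a b with hs
    have hs3 := pow_three hF hab
    have e1 : hermForm n F 2 a (s • b) = 1 := by
      rw [herm_smul_right, ← hs]; linear_combination hs3
    have e2 : hermForm n F 2 (s • b) a = 1 := by
      rw [herm_swap hF a, e1, one_pow]
    have h0 : hermForm n F 2 (a + s • b) (a + s • b) = 0 := by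
      rw [herm_add_left, herm_add_right hF, herm_add_right hF, ha, e1, e2, herm_smul_left,
        herm_smul_right, hb]
      linear_combination h2
    refine ⟨T hF _ h0, T_mem_Ru hF h0 ?_, s, hab, ?_⟩
    · rw [herm_add_left, herm_smul_left, hau, hbu, mul_zero, add_zero]
    · rw [act_T, herm_add_right hF, ha, e1, zero_add, one_smul, ← add_assoc, vadd_self hF, zero_add]
  by_cases hww : hermForm n F 2 w w' = 0
  · obtain ⟨z, hzu, hz1, hz2⟩ : ∃ z, hermForm n F 2 z u = 0 ∧ hermForm n F 2 w z ≠ 0 ∧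
        hermForm n F 2 w' z ≠ 0 := by
      obtain ⟨a, hau, ha⟩ := exists_perp_ne hF hu0 hn
      obtain ⟨b, hbu, hb⟩ := exists_perp_ne hF hu0 hn'
      by_cases h1 : hermForm n F 2 w' a = 0
      · by_cases h3 : hermForm n F 2 w b = 0
        · exact ⟨a + b, by rw [herm_add_left, hau, hbu, add_zero],
            by rwa [herm_add_right hF, h3, add_zero], by rwa [herm_add_right hF, h1, zero_add]⟩
        · exact ⟨b, hbu, h3, hb⟩
      · exact ⟨a, hau, ha, h1⟩
    obtain ⟨x, hx⟩ := exists_trace_eq hF (c := hermForm n F 2 z z) (herm_self_pow hF z)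
    set s := hermForm n F 2 w z with hs
    set l := x * s⁻¹ with hl
    have hls : l * s = x := by rw [hl, mul_assoc, inv_mul_cancel₀ hz1, mul_one]
    have hw'w := herm_eq_zero_swap hF hww
    have hz0 : hermForm n F 2 (z + l • w) (z + l • w) = 0 := by
      rw [herm_add_left, herm_add_right hF, herm_add_right hF, herm_smul_left, herm_smul_right,
        herm_smul_left, herm_smul_right, hw, herm_swap hF w z, ← hs, mul_zero, mul_zero, add_zero,
        hls]
      have e3 : l ^ 2 * s ^ 2 = x ^ 2 := by rw [← hls]; ring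
      rw [e3, ← hx]
      linear_combination (x + x ^ 2) * two_eq_zero hF
    have hzlu : hermForm n F 2 (z + l • w) u = 0 := by
      rw [herm_add_left, herm_smul_left, hzu, hwu, mul_zero, add_zero]
    obtain ⟨g1, hg1, c1, hc1, h1⟩ := key w (z + l • w) hw hz0 hwu hzlu (by
      rw [herm_add_right hF, herm_smul_right, hw, mul_zero, add_zero]; exact hz1)
    obtain ⟨g2, hg2, c2, hc2, h2⟩ := key (z + l • w) w' hz0 hw' hzlu hwu' (by
      intro h
      have h' := herm_eq_zero_swap hF h
      rw [herm_add_right hF, herm_smul_right, hw'w, mul_zero, add_zero] at h'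
      exact hz2 h')
    exact ⟨g2 * g1, mul_mem hg2 hg1, c1 * c2, mul_ne_zero hc1 hc2,
      by rw [act_mul, h1, act_smul, h2, smul_smul]⟩
  · exact key w w' hw hw' hwu hwu' hww

/-- **(U2)** Transitivity on the pairs of different commuting transvections. -/
theorem trans_commuting (hn : 3 ≤ n) :
    ∀ a ∈ TT hF n, ∀ b ∈ TT hF n, ∀ a' ∈ TT hF n, ∀ b' ∈ TT hF n, a ≠ b → a' ≠ b' →
      Commute a b → Commute a' b' → ∃ g : PSU n F 2, g * a * g⁻¹ = a' ∧ g * b * g⁻¹ = b' := by
  rintro _ ⟨u, hu0, hu, rfl⟩ _ ⟨v, hv0, hv, rfl⟩ _ ⟨u', hu0', hu', rfl⟩ _ ⟨v', hv0', hv', rfl⟩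
    hne hne' hc hc'
  rw [tau_commute_iff hF hn hu hv hu0] at hc
  rw [tau_commute_iff hF hn hu' hv' hu0'] at hc'
  obtain ⟨g, c, hc0, hg⟩ := exists_map hF u u' hu0 hu0' hu hu'
  have hgv : hermForm n F 2 (act g v) (act g v) = 0 := by rw [herm_act, hv]
  have h1 : hermForm n F 2 (act g v) u' = 0 := by
    have h3 : hermForm n F 2 (act g v) (act g u) = 0 := by
      rw [herm_act]; exact herm_eq_zero_swap hF hc
    rw [hg, herm_smul_right] at h3
    exact (mul_eq_zero.1 h3).resolve_left (pow_ne_zero _ hc0)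
  have hn1 : ¬ ∃ c : F, act g v = c • u' := by
    rintro ⟨d, hd⟩
    apply hne
    have hd0 : d ≠ 0 := by
      rintro rfl
      rw [zero_smul] at hd
      apply hv0
      apply act_injective g
      rw [hd, act_zero]
    rw [tau_eq_iff hF hn hu hv hu0]
    refine ⟨d * c⁻¹, mul_ne_zero hd0 (inv_ne_zero hc0), ?_⟩
    apply act_injective g
    rw [hd, act_smul, hg, smul_smul, mul_assoc, inv_mul_cancel₀ hc0, mul_one]
  have hn2 : ¬ ∃ c : F, v' = c • u' := by
    rintro ⟨d, hd⟩
    apply hne'
    have hd0 : d ≠ 0 := by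
      rintro rfl
      rw [zero_smul] at hd
      exact hv0' hd
    rw [tau_eq_iff hF hn hu' hv' hu0']
    exact ⟨d, hd0, hd⟩
  obtain ⟨r, hr, d, hd0, hrd⟩ := trans_perp hF hu0' hgv hv' h1 (herm_eq_zero_swap hF hc') hn1 hn2
    hu'
  have hru : act r u' = u' := act_of_mem_Ru hF hr
  refine ⟨pr n F 2 (r * g), ?_, ?_⟩
  · rw [conj_tau hF _ hu, act_mul, hg, act_smul, hru, tau_smul hF hu' hc0]
  · rw [conj_tau hF _ hv, act_mul, hrd, tau_smul hF hv' hd0]

/-- **(U2')** Transitivity on the pairs of noncommuting transvections. -/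
theorem trans_noncommuting {m : ℕ} (hm : 3 ≤ m) :
    ∀ a ∈ TT hF (m + 2), ∀ b ∈ TT hF (m + 2), ∀ a' ∈ TT hF (m + 2), ∀ b' ∈ TT hF (m + 2),
      ¬ Commute a b → ¬ Commute a' b' →
      ∃ g : PSU (m + 2) F 2, g * a * g⁻¹ = a' ∧ g * b * g⁻¹ = b' := by
  obtain ⟨ω, hω⟩ := exists_omega hF
  have huu := herm_u0 (F := F) hF (m := m)
  have hvv := herm_v0 (F := F) hF hω (m := m)
  have key : ∀ a ∈ TT hF (m + 2), ∀ b ∈ TT hF (m + 2), ¬ Commute a b →
      ∃ g : PSU (m + 2) F 2, g * tau hF (u0 F m) * g⁻¹ = a ∧ g * tau hF (v0 m ω) * g⁻¹ = b := by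
    rintro _ ⟨u, hu0, hu, rfl⟩ _ ⟨v, hv0, hv, rfl⟩ hc
    rw [tau_commute_iff hF (by omega) hu hv hu0] at hc
    obtain ⟨g, c, hc0, hg⟩ := exists_map hF (u0 F m) u (u0_ne_zero hF) hu0 huu hu
    have hg' : act g⁻¹ u = c⁻¹ • u0 F m := by
      apply act_injective g
      rw [act_act_inv, act_smul, hg, smul_smul, inv_mul_cancel₀ hc0, one_smul]
    have h1 : hermForm (m + 2) F 2 (act g⁻¹ v) (u0 F m) ≠ 0 := by
      intro h
      apply hc
      apply herm_eq_zero_swap hF
      have h3 : hermForm (m + 2) F 2 (act g⁻¹ v) (act g⁻¹ u) = 0 := by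
        rw [hg', herm_smul_right, h, mul_zero]
      rwa [herm_act] at h3
    set s := hermForm (m + 2) F 2 (act g⁻¹ v) (u0 F m) with hs
    have hgv : hermForm (m + 2) F 2 (act g⁻¹ v) (act g⁻¹ v) = 0 := by rw [herm_act, hv]
    obtain ⟨r, hr, hrv⟩ := siegel_trans hF hω hm (v' := s⁻¹ • act g⁻¹ v)
      (herm_smul_self hF hgv _) (by
        rw [herm_smul_left, ← hs, inv_mul_cancel₀ h1])
    refine ⟨pr (m + 2) F 2 (g * r), ?_, ?_⟩
    · rw [conj_tau hF _ huu, act_mul, act_of_mem_Ru hF hr, hg, tau_smul hF hu hc0]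
    · rw [conj_tau hF _ hvv, act_mul, hrv, act_smul, act_act_inv, tau_smul hF hv (inv_ne_zero h1)]
  intro a ha b hb a' ha' b' hb' h h'
  obtain ⟨g, hg1, hg2⟩ := key a ha b hb h
  obtain ⟨g', hg1', hg2'⟩ := key a' ha' b' hb' h'
  refine ⟨g' * g⁻¹, ?_, ?_⟩
  · rw [← hg1, ← hg1']; group
  · rw [← hg2, ← hg2']; group

/-- **(U4)** Centralisers of transvections of `PSU 6 F 2` are generated by transvections. -/
theorem centralizer_le :
    ∀ t ∈ TT hF 6, Subgroup.centralizer {t} ≤ Subgroup.closure (TT hF 6 ∩ {u | Commute t u}) := by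
  obtain ⟨ω, hω⟩ := exists_omega hF
  have huu := herm_u0 (F := F) hF (m := 4)
  have hu0 := u0_ne_zero (F := F) hF (m := 4)
  -- the case of `u0`
  have key : Subgroup.centralizer {tau hF (u0 F 4)} ≤
      Subgroup.closure (TT hF 6 ∩ {u | Commute (tau hF (u0 F 4)) u}) := by
    intro x hx
    rw [Subgroup.mem_centralizer_singleton_iff] at hx
    obtain ⟨g, rfl⟩ := pr_surjective x
    have h1 : tau hF (u0 F 4) = tau hF (act g (u0 F 4)) := by
      rw [← conj_tau hF g huu, eq_mul_inv_iff_mul_eq]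
      exact hx.symm
    obtain ⟨c, hc0, hc⟩ := (tau_eq_iff hF (by norm_num) huu (by rw [herm_act, huu]) hu0).1 h1
    have hc3 : c⁻¹ ^ 3 = 1 := pow_three hF (inv_ne_zero hc0)
    set z : SU 6 F 2 := Cfsg.Agent.LieClassical.SUBasic.suScalar 2 c⁻¹
      (by rw [show (6 : ℕ) = 3 * 2 from rfl, pow_mul, hc3, one_pow]) hc3 with hz
    have hzact : ∀ v : Fin 6 → F, act z v = c⁻¹ • v := by
      intro v
      rw [act_def, hz, Cfsg.Agent.LieClassical.SUBasic.coe_suScalar]
      funext i
      rw [Matrix.mulVec_diagonal]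
      rfl
    have hzc : z ∈ Subgroup.center (SU 6 F 2) :=
      Cfsg.Agent.LieClassical.SUBasic.suScalar_mem_center _ _ _ _
    have hprz : pr 6 F 2 z = 1 := (QuotientGroup.eq_one_iff z).2 hzc
    have hpr : pr 6 F 2 g = pr 6 F 2 (z * g) := by rw [map_mul, hprz, one_mul]
    have hmem : z * g ∈ Ru hF (u0 F 4) := by
      apply stab_le hF hω (le_refl 4)
      rw [act_mul, hc, hzact, smul_smul, inv_mul_cancel₀ hc0, one_smul]
    rw [hpr]
    refine Subgroup.closure_induction (p := fun x _ => pr 6 F 2 x ∈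
      Subgroup.closure (TT hF 6 ∩ {u | Commute (tau hF (u0 F 4)) u})) ?_ ?_ ?_ ?_ hmem
    · rintro x ⟨w, hw, hwu, rfl⟩
      by_cases hw0 : w = 0
      · subst hw0
        rw [T_zero, map_one]
        exact one_mem _
      · rw [← tau_eq_pr]
        apply Subgroup.subset_closure
        refine ⟨tau_mem hF hw0 hw, ?_⟩
        exact (tau_commute_iff hF (by norm_num) huu hw hu0).2 (herm_eq_zero_swap hF hwu)
    · rw [map_one]; exact one_mem _
    · intro a b _ _ ha hb
      rw [map_mul]; exact mul_mem ha hb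
    · intro a _ ha
      rw [map_inv]; exact inv_mem ha
  rintro _ ⟨v, hv0, hv, rfl⟩ x hx
  obtain ⟨g, c, hc0, hg⟩ := exists_map hF (u0 F 4) v hu0 hv0 huu hv
  have hvt : tau hF v = pr 6 F 2 g * tau hF (u0 F 4) * (pr 6 F 2 g)⁻¹ := by
    rw [conj_tau hF g huu, hg, tau_smul hF hv hc0]
  rw [Subgroup.mem_centralizer_singleton_iff] at hx
  set y := (pr 6 F 2 g) with hy
  have hx' : y⁻¹ * x * y ∈ Subgroup.centralizer {tau hF (u0 F 4)} := by
    rw [Subgroup.mem_centralizer_singleton_iff]
    rw [hvt] at hx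
    calc y⁻¹ * x * y * tau hF (u0 F 4) = y⁻¹ * (x * (y * tau hF (u0 F 4) * y⁻¹)) * y := by group
      _ = y⁻¹ * ((y * tau hF (u0 F 4) * y⁻¹) * x) * y := by rw [hx]
      _ = tau hF (u0 F 4) * (y⁻¹ * x * y) := by group
  have h5 := key hx'
  have h6 : x = y * (y⁻¹ * x * y) * y⁻¹ := by group
  rw [h6]
  refine Subgroup.closure_induction (p := fun a _ => y * a * y⁻¹ ∈
      Subgroup.closure (TT hF 6 ∩ {u | Commute (tau hF v) u})) ?_ ?_ ?_ ?_ h5
  · rintro a ⟨ha1, ha2⟩
    apply Subgroup.subset_closure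
    refine ⟨conj_mem_TT hF ha1 y, ?_⟩
    show Commute (tau hF v) (y * a * y⁻¹)
    rw [hvt]
    exact (Commute.conj_iff y).2 ha2
  · rw [mul_one, mul_inv_cancel]; exact one_mem _
  · intro a b _ _ ha hb
    have : y * (a * b) * y⁻¹ = (y * a * y⁻¹) * (y * b * y⁻¹) := by group
    rw [this]; exact mul_mem ha hb
  · intro a _ ha
    have : y * a⁻¹ * y⁻¹ = (y * a * y⁻¹)⁻¹ := by group
    rw [this]; exact inv_mem ha

end Tau

end Cfsg.Agent.R01.PSUSix
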