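import Cfsg.Agent.R01.Lifts
import Cfsg.Agent.R01.PSUSix

/-!
The labelling of the class of 3-transpositions of a perfect central extension `C` of `PSU 6 F 2` by a
group `⟨z⟩` of order two by the isotropic points of the unitary space `F ^ 6`, `|F| = 4`.
-/

set_option autoImplicit false
set_option linter.unusedSectionVars false

namespace Cfsg.Agent.R01.Label

open Cfsg Cfsg.Agent.LieClassical.HermBasic Cfsg.Agent.ClassicalGeometry.UnitTransv
open Cfsg.Agent.SporadicStructure.UnitTwo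
open Cfsg.Agent.R01.Lifts Cfsg.Agent.R01.PSUSix
open Cfsg.Agent.ClassicalGeometry.UnitAutBasic (tau pr pr_surjective)
open scoped commutatorElement

section General

variable {C U : Type*} [Group C] [Group U] {π : C →* U} {z : C}

/-- A set whose image generates `U` generates the perfect central extension `C`. -/
theorem closure_eq_top (h : Ext π z) (hperf : commutator C = ⊤) {D : Set C}
    (hD : Subgroup.closure (π '' D) = ⊤) : Subgroup.closure D = ⊤ := by
  have hall : ∀ c : C, c ∈ Subgroup.closure D ∨ c * z ∈ Subgroup.closure D := by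
    intro c
    have hc : π c ∈ Subgroup.closure (π '' D) := by rw [hD]; trivial
    rw [← MonoidHom.map_closure] at hc
    obtain ⟨c', hc', hcc⟩ := hc
    rcases h.map_eq.1 hcc with h5 | h5
    · left; rwa [← h5]
    · right; rwa [← h5]
  rw [eq_top_iff, ← hperf, commutator_def, Subgroup.commutator_le]
  intro x _ y _
  have hz : ∀ u : C, z * u = u * z := fun u => (h.comm u).symm
  have hzi : z⁻¹ = z := inv_eq_of_mul_eq_one_left h.zz
  have r1 : ∀ u v : C, ⁅u * z, v⁆ = ⁅u, v⁆ := by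
    intro u v
    rw [commutatorElement_def, commutatorElement_def, mul_inv_rev, hzi]
    calc u * z * v * (z * u⁻¹) * v⁻¹ = u * (z * v) * z * u⁻¹ * v⁻¹ := by group
      _ = u * (v * z) * z * u⁻¹ * v⁻¹ := by rw [hz]
      _ = u * v * (z * z) * u⁻¹ * v⁻¹ := by group
      _ = u * v * u⁻¹ * v⁻¹ := by rw [h.zz, mul_one]
  have r2 : ∀ u v : C, ⁅u, v * z⁆ = ⁅u, v⁆ := by
    intro u v
    rw [← commutatorElement_inv, r1, commutatorElement_inv]
  have r3 : ∀ u ∈ Subgroup.closure D, ∀ v ∈ Subgroup.closure D, ⁅u, v⁆ ∈ Subgroup.closure D := by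
    intro u hu v hv
    rw [commutatorElement_def]
    exact mul_mem (mul_mem (mul_mem hu hv) (inv_mem hu)) (inv_mem hv)
  rcases hall x with hx | hx <;> rcases hall y with hy | hy
  · exact r3 _ hx _ hy
  · rw [← r2]; exact r3 _ hx _ hy
  · rw [← r1]; exact r3 _ hx _ hy
  · rw [← r1, ← r2]; exact r3 _ hx _ hy

end General

variable {C : Type*} [Group C] {F : Type*} [Field F] [Fintype F]

/-- The labelling of the 3-transpositions of `C` by isotropic vectors. -/
structure Lab (hF : Fintype.card F = 2 ^ 2) (π : C →* PSU 6 F 2) (z ε : C)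
    (lift : (Fin 6 → F) → C) : Prop where
  ext : Ext π z
  perf : commutator C = ⊤
  map : ∀ v, v ≠ 0 → hermForm 6 F 2 v v = 0 → π (lift v) = tau hF v
  smul : ∀ v (c : F), hermForm 6 F 2 v v = 0 → c ≠ 0 → lift (c • v) = lift v
  sq : ∀ v, v ≠ 0 → hermForm 6 F 2 v v = 0 → lift v * lift v = 1
  conj : ∀ c g v, π c = pr 6 F 2 g → v ≠ 0 → hermForm 6 F 2 v v = 0 →
    c * lift v * c⁻¹ = lift (act g v)
  commute : ∀ a v, v ≠ 0 → hermForm 6 F 2 v v = 0 → Commute (π a) (tau hF v) → Commute a (lift v)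
  line : ∀ a b, a ≠ 0 → b ≠ 0 → hermForm 6 F 2 a a = 0 → hermForm 6 F 2 b b = 0 →
    hermForm 6 F 2 a b = 0 → (¬ ∃ c : F, b = c • a) → ∀ ω : F, ω ^ 2 + ω + 1 = 0 →
    lift a * lift b * lift (a + b) * lift (ω • a + b) * lift (ω ^ 2 • a + b) = ε

/-- The set of labelled elements. -/
def Dset (lift : (Fin 6 → F) → C) : Set C :=
  {x | ∃ v, v ≠ 0 ∧ hermForm 6 F 2 v v = 0 ∧ x = lift v}

namespace Lab

variable {hF : Fintype.card F = 2 ^ 2} {π : C →* PSU 6 F 2} {z ε : C}
  {lift : (Fin 6 → F) → C}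

theorem mem_D {v : Fin 6 → F} (h0 : v ≠ 0) (hv : hermForm 6 F 2 v v = 0) :
    lift v ∈ Dset lift := ⟨v, h0, hv, rfl⟩

theorem lift_eq_iff (L : Lab hF π z ε lift) {v w : Fin 6 → F} (hv : hermForm 6 F 2 v v = 0)
    (hw : hermForm 6 F 2 w w = 0) (hv0 : v ≠ 0) (hw0 : w ≠ 0) :
    lift v = lift w ↔ ∃ c : F, c ≠ 0 ∧ w = c • v := by
  constructor
  · intro h
    rw [← tau_eq_iff hF (by norm_num) hv hw hv0, ← L.map v hv0 hv, ← L.map w hw0 hw, h]
  · rintro ⟨c, hc, rfl⟩
    exact (L.smul v c hv hc).symm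

theorem commute_iff (L : Lab hF π z ε lift) {v w : Fin 6 → F} (hv : hermForm 6 F 2 v v = 0)
    (hw : hermForm 6 F 2 w w = 0) (hv0 : v ≠ 0) (hw0 : w ≠ 0) :
    Commute (lift v) (lift w) ↔ hermForm 6 F 2 v w = 0 := by
  rw [← tau_commute_iff hF (by norm_num) hv hw hv0]
  constructor
  · intro h
    have := h.map π
    rwa [L.map v hv0 hv, L.map w hw0 hw] at this
  · intro h
    apply L.commute _ _ hw0 hw
    rwa [L.map v hv0 hv]

theorem conj_lift (L : Lab hF π z ε lift) {v w : Fin 6 → F} (hv : hermForm 6 F 2 v v = 0)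
    (hw : hermForm 6 F 2 w w = 0) (hv0 : v ≠ 0) (hw0 : w ≠ 0) :
    lift v * lift w * lift v = lift (w + hermForm 6 F 2 w v • v) := by
  have hinv : (lift v)⁻¹ = lift v := inv_eq_of_mul_eq_one_left (L.sq v hv0 hv)
  have := L.conj (lift v) (T hF v hv) w (by rw [L.map v hv0 hv, tau_eq_pr hF hv]) hw0 hw
  rw [hinv, act_T] at this
  exact this

theorem act_ne_zero {g : SU 6 F 2} {v : Fin 6 → F} (h0 : v ≠ 0) : act g v ≠ 0 := by
  intro h
  apply h0
  apply act_injective g
  rw [h, act_zero]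

theorem conj_mem (L : Lab hF π z ε lift) {x : C} (hx : x ∈ Dset lift) (c : C) :
    c * x * c⁻¹ ∈ Dset lift := by
  obtain ⟨v, h0, hv, rfl⟩ := hx
  obtain ⟨g, hg⟩ := pr_surjective (π c)
  rw [L.conj c g v hg.symm h0 hv]
  exact mem_D (act_ne_zero h0) (by rw [herm_act, hv])

theorem lift_ne_one (L : Lab hF π z ε lift) {v : Fin 6 → F} (h0 : v ≠ 0)
    (hv : hermForm 6 F 2 v v = 0) : lift v ≠ 1 := by
  intro h
  have := L.map v h0 hv
  rw [h, map_one] at this
  exact tau_ne_one hF (by norm_num) hv h0 this.symm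

theorem orderOf_lift (L : Lab hF π z ε lift) {v : Fin 6 → F} (h0 : v ≠ 0)
    (hv : hermForm 6 F 2 v v = 0) : orderOf (lift v) = 2 := by
  rw [orderOf_eq_prime_iff, pow_two]
  exact ⟨L.sq v h0 hv, L.lift_ne_one h0 hv⟩

/-- The transitivity of `C` on the points. -/
theorem trans (L : Lab hF π z ε lift) {v w : Fin 6 → F} (hv : hermForm 6 F 2 v v = 0)
    (hw : hermForm 6 F 2 w w = 0) (hv0 : v ≠ 0) (hw0 : w ≠ 0) :
    ∃ c : C, c * lift v * c⁻¹ = lift w := by
  obtain ⟨g, d, hd, hg⟩ := exists_map hF v w hv0 hw0 hv hw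
  obtain ⟨c, hc⟩ := L.ext.surj (pr 6 F 2 g)
  exact ⟨c, by rw [L.conj c g v hc hv0 hv, hg, L.smul w d hw hd]⟩

theorem map_D (L : Lab hF π z ε lift) : π '' Dset lift = TT hF 6 := by
  ext x
  constructor
  · rintro ⟨_, ⟨v, h0, hv, rfl⟩, rfl⟩
    rw [L.map v h0 hv]
    exact tau_mem hF h0 hv
  · rintro ⟨v, h0, hv, rfl⟩
    exact ⟨lift v, mem_D h0 hv, L.map v h0 hv⟩

theorem isThreeTranspositionClass (L : Lab hF π z ε lift) :
    IsThreeTranspositionClass (Dset lift) := by
  refine ⟨⟨?_, ?_⟩, ?_, ?_⟩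
  · rintro x ⟨v, h0, hv, rfl⟩
    exact L.orderOf_lift h0 hv
  · rintro x ⟨v, hv0, hv, rfl⟩ y ⟨w, hw0, hw, rfl⟩
    by_cases h : hermForm 6 F 2 v w = 0
    · left
      have := (L.commute_iff hv hw hv0 hw0).2 h
      rw [this.mul_pow, pow_two, pow_two, L.sq v hv0 hv, L.sq w hw0 hw, one_mul]
    · right
      set s := hermForm 6 F 2 v w with hs
      have hs3 := pow_three hF h
      have hwv : hermForm 6 F 2 w v = s ^ 2 := herm_swap hF v w
      have e1 := L.conj_lift hv hw hv0 hw0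
      have e2 := L.conj_lift hw hv hw0 hv0
      rw [hwv] at e1
      rw [← hs] at e2
      have hz : hermForm 6 F 2 (w + s ^ 2 • v) (w + s ^ 2 • v) = 0 := by
        have h3 : w + s ^ 2 • v = act (T hF v hv) w := by rw [act_T, hwv]
        rw [h3, herm_act, hw]
      have e3 : v + s • w = s • (w + s ^ 2 • v) := by
        rw [smul_add, smul_smul]
        have : s * s ^ 2 = 1 := by linear_combination hs3
        rw [this, one_smul, add_comm]
      rw [e3, L.smul _ s hz h, ← e1] at e2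
      calc (lift v * lift w) ^ 3 = (lift v * lift w * lift v) * (lift w * lift v * lift w) := by
            rw [pow_succ, pow_two]; group
        _ = (lift w * lift v * lift w) * (lift w * lift v * lift w) := by rw [e2]
        _ = lift w * lift v * (lift w * lift w) * lift v * lift w := by group
        _ = lift w * (lift v * lift v) * lift w := by rw [L.sq w hw0 hw]; group
        _ = 1 := by rw [L.sq v hv0 hv, mul_one, L.sq w hw0 hw]
  · have huu := herm_u0 (F := F) hF (m := 4)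
    have hu0 := u0_ne_zero (F := F) hF (m := 4)
    refine ⟨lift (u0 F 4), mem_D hu0 huu, ?_⟩
    ext x
    constructor
    · rintro ⟨v, h0, hv, rfl⟩
      obtain ⟨c, hc⟩ := L.trans huu hv hu0 h0
      exact isConj_iff.2 ⟨c, hc⟩
    · intro hx
      obtain ⟨c, rfl⟩ := isConj_iff.1 (show IsConj (lift (u0 F 4)) x from hx)
      exact L.conj_mem (mem_D hu0 huu) c
  · apply closure_eq_top L.ext L.perf
    rw [L.map_D]
    exact (isThreeTranspositionClass_TT hF (by norm_num)).2.2

theorem bijOn (L : Lab hF π z ε lift) : Set.BijOn π (Dset lift) (TT hF 6) := by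
  refine ⟨?_, ?_, ?_⟩
  · rintro x ⟨v, h0, hv, rfl⟩
    rw [L.map v h0 hv]
    exact tau_mem hF h0 hv
  · rintro x ⟨v, hv0, hv, rfl⟩ y ⟨w, hw0, hw, rfl⟩ h
    rw [L.map v hv0 hv, L.map w hw0 hw, tau_eq_iff hF (by norm_num) hv hw hv0] at h
    exact (L.lift_eq_iff hv hw hv0 hw0).2 h
  · rintro x ⟨v, h0, hv, rfl⟩
    exact ⟨lift v, mem_D h0 hv, L.map v h0 hv⟩

theorem cover (L : Lab hF π z ε lift) {c : C} (hc : π c ∈ TT hF 6) :
    c ∈ Dset lift ∨ c * z ∈ Dset lift := by
  obtain ⟨v, h0, hv, h⟩ := hc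
  rcases L.ext.map_eq.1 ((L.map v h0 hv).trans h.symm) with h5 | h5
  · left; rw [← h5]; exact mem_D h0 hv
  · right; rw [← h5]; exact mem_D h0 hv

theorem mul_z_notMem (L : Lab hF π z ε lift) {c : C} (hc : c ∈ Dset lift) : c * z ∉ Dset lift := by
  intro h
  apply L.ext.ne_mul c
  apply L.bijOn.2.1 hc h
  rw [map_mul, L.ext.mapz, mul_one]

theorem z_notMem (L : Lab hF π z ε lift) : z ∉ Dset lift := by
  rintro ⟨v, h0, hv, h⟩
  have := L.map v h0 hv
  rw [← h, L.ext.mapz] at this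
  exact tau_ne_one hF (by norm_num) hv h0 this.symm

/-- Transitivity on pairs of different commuting elements. -/
theorem trans_commuting (L : Lab hF π z ε lift) :
    ∀ a ∈ Dset lift, ∀ b ∈ Dset lift, ∀ a' ∈ Dset lift, ∀ b' ∈ Dset lift, a ≠ b → a' ≠ b' →
      Commute a b → Commute a' b' → ∃ g : C, g * a * g⁻¹ = a' ∧ g * b * g⁻¹ = b' := by
  intro a ha b hb a' ha' b' hb' hne hne' hc hc'
  have hinj := L.bijOn.2.1
  have hm := L.bijOn.1
  obtain ⟨g, h1, h2⟩ := PSUSix.trans_commuting hF (by norm_num) (π a) (hm ha) (π b) (hm hb) (π a')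
    (hm ha') (π b') (hm hb') (fun h => hne (hinj ha hb h)) (fun h => hne' (hinj ha' hb' h))
    (hc.map π) (hc'.map π)
  obtain ⟨c, rfl⟩ := L.ext.surj g
  refine ⟨c, hinj (L.conj_mem ha c) ha' ?_, hinj (L.conj_mem hb c) hb' ?_⟩
  · rw [map_mul, map_mul, map_inv, h1]
  · rw [map_mul, map_mul, map_inv, h2]

/-- Transitivity on pairs of noncommuting elements. -/
theorem trans_noncommuting (L : Lab hF π z ε lift) :
    ∀ a ∈ Dset lift, ∀ b ∈ Dset lift, ∀ a' ∈ Dset lift, ∀ b' ∈ Dset lift,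
      ¬ Commute a b → ¬ Commute a' b' → ∃ g : C, g * a * g⁻¹ = a' ∧ g * b * g⁻¹ = b' := by
  intro a ha b hb a' ha' b' hb' hc hc'
  have hinj := L.bijOn.2.1
  have hm := L.bijOn.1
  have key : ∀ x ∈ Dset lift, ∀ y ∈ Dset lift, Commute (π x) (π y) → Commute x y := by
    rintro x _ _ ⟨w, hw0, hw, rfl⟩ h
    apply L.commute _ _ hw0 hw
    rwa [L.map w hw0 hw] at h
  obtain ⟨g, h1, h2⟩ := PSUSix.trans_noncommuting (m := 4) hF (by norm_num) (π a) (hm ha) (π b)
    (hm hb) (π a') (hm ha') (π b') (hm hb') (fun h => hc (key a ha b hb h))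
    (fun h => hc' (key a' ha' b' hb' h))
  obtain ⟨c, rfl⟩ := L.ext.surj g
  refine ⟨c, hinj (L.conj_mem ha c) ha' ?_, hinj (L.conj_mem hb c) hb' ?_⟩
  · rw [map_mul, map_mul, map_inv, h1]
  · rw [map_mul, map_mul, map_inv, h2]

/-- The other class of lifts. -/
theorem twist (L : Lab hF π z ε lift) : Lab hF π z (ε * z) (fun v => lift v * z) where
  ext := L.ext
  perf := L.perf
  map v h0 hv := by rw [map_mul, L.ext.mapz, mul_one, L.map v h0 hv]
  smul v c hv hc := by rw [L.smul v c hv hc]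
  sq v h0 hv := by
    calc lift v * z * (lift v * z) = lift v * (z * lift v) * z := by group
      _ = lift v * (lift v * z) * z := by rw [← L.ext.comm (lift v)]
      _ = (lift v * lift v) * (z * z) := by group
      _ = 1 := by rw [L.sq v h0 hv, L.ext.zz, mul_one]
  conj c g v hc h0 hv := by
    calc c * (lift v * z) * c⁻¹ = c * lift v * (z * c⁻¹) := by group
      _ = c * lift v * (c⁻¹ * z) := by rw [← L.ext.comm c⁻¹]
      _ = (c * lift v * c⁻¹) * z := by group
      _ = _ := by rw [L.conj c g v hc h0 hv]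
  commute a v h0 hv h := (L.commute a v h0 hv h).mul_right (L.ext.comm a)
  line a b ha0 hb0 ha hb hab hne ω hω := by
    have := L.line a b ha0 hb0 ha hb hab hne ω hω
    have hz : ∀ u : C, z * u = u * z := fun u => (L.ext.comm u).symm
    calc lift a * z * (lift b * z) * (lift (a + b) * z) * (lift (ω • a + b) * z) *
          (lift (ω ^ 2 • a + b) * z)
        = lift a * (z * lift b) * z * lift (a + b) * (z * lift (ω • a + b)) * z *
          lift (ω ^ 2 • a + b) * z := by group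
      _ = lift a * (lift b * z) * z * lift (a + b) * (lift (ω • a + b) * z) * z *
          lift (ω ^ 2 • a + b) * z := by rw [hz, hz]
      _ = lift a * lift b * (z * z) * lift (a + b) * lift (ω • a + b) * (z * z) *
          lift (ω ^ 2 • a + b) * z := by group
      _ = lift a * lift b * lift (a + b) * lift (ω • a + b) * lift (ω ^ 2 • a + b) * z := by
          rw [L.ext.zz]; group
      _ = ε * z := by rw [this]

end Lab

/-- The lifting theorem for `PSU 6 F 2`. -/
theorem exists_D {hF : Fintype.card F = 2 ^ 2} {π : C →* PSU 6 F 2} {z : C} (h : Ext π z)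
    (hperf : commutator C = ⊤) :
    ∃ D : Set C, IsThreeTranspositionClass D ∧ Set.BijOn π D (TT hF 6) ∧
      (∀ c, π c ∈ TT hF 6 → c ∈ D ∨ c * z ∈ D) ∧ (∀ c ∈ D, c * z ∉ D) ∧
      (∀ a b, π a ∈ TT hF 6 → π b ∈ TT hF 6 → Commute (π a) (π b) → Commute a b) ∧
      (∀ a, π a ∈ TT hF 6 → orderOf a = 2) ∧
      (∀ a g, π a ∈ TT hF 6 → Commute (π g) (π a) → Commute g a) := by
  refine liftsOdd h hperf (isThreeTranspositionClass_TT hF (by norm_num))
    (PSUSix.trans_commuting hF (by norm_num)) ?_ (centralizer_le hF)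
  obtain ⟨ω, hω⟩ := exists_omega hF
  have h2 := two_eq_zero hF
  -- vectors
  let a : Fin 6 → F := ![1, 1, 0, 0, 0, 0]
  let b : Fin 6 → F := ![0, 0, 1, 1, 0, 0]
  let r : Fin 6 → F := ![0, 0, 0, 0, 1, 1]
  have haa : hermForm 6 F 2 a a = 0 := by
    rw [herm_def]; simp [a, Fin.sum_univ_succ]; linear_combination h2
  have hbb : hermForm 6 F 2 b b = 0 := by
    rw [herm_def]; simp [b, Fin.sum_univ_succ]; linear_combination h2
  have hrr : hermForm 6 F 2 r r = 0 := by
    rw [herm_def]; simp [r, Fin.sum_univ_succ]; linear_combination h2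
  have hab : hermForm 6 F 2 a b = 0 := by
    rw [herm_def]; simp [a, b, Fin.sum_univ_succ]
  have hra : hermForm 6 F 2 r a = 0 := by
    rw [herm_def]; simp [a, r, Fin.sum_univ_succ]
  have hrb : hermForm 6 F 2 r b = 0 := by
    rw [herm_def]; simp [b, r, Fin.sum_univ_succ]
  have hba := herm_eq_zero_swap hF hab
  have hne0 : ∀ s t : F, (s ≠ 0 ∨ t ≠ 0) → s • a + t • b ≠ 0 := by
    intro s t hst h0
    have e0 := congrFun h0 0
    have e2 := congrFun h0 2
    simp [a, b] at e0 e2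
    rcases hst with h | h
    · exact h e0
    · exact h e2
  have hr0 : r ≠ 0 := by
    intro h
    have := congrFun h 4
    simp [r] at this
  have hrne : ∀ s t c : F, r ≠ c • (s • a + t • b) := by
    intro s t c h
    have := congrFun h 4
    simp [r, a, b] at this
  clear_value a b r
  have horth : ∀ s t s' t' : F, hermForm 6 F 2 (s • a + t • b) (s' • a + t' • b) = 0 := by
    intro s t s' t'
    rw [herm_add_left, herm_add_right hF, herm_add_right hF, herm_smul_left, herm_smul_left,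
      herm_smul_right, herm_smul_right, herm_smul_left, herm_smul_left,
      herm_smul_right, herm_smul_right, haa, hbb, hab, hba]
    ring
  have hrorth : ∀ s t : F, hermForm 6 F 2 r (s • a + t • b) = 0 := by
    intro s t
    rw [herm_add_right hF, herm_smul_right, herm_smul_right, hra, hrb]
    ring
  have hmem : ∀ x ∈ [tau hF a, tau hF b, tau hF (a + b), tau hF (ω • a + b),
      tau hF (ω ^ 2 • a + b)], ∃ s t : F, (s ≠ 0 ∨ t ≠ 0) ∧ x = tau hF (s • a + t • b) := by
    intro x hx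
    simp only [List.mem_cons, List.not_mem_nil, or_false] at hx
    rcases hx with rfl | rfl | rfl | rfl | rfl
    · exact ⟨1, 0, Or.inl one_ne_zero, by rw [one_smul, zero_smul, add_zero]⟩
    · exact ⟨0, 1, Or.inr one_ne_zero, by rw [one_smul, zero_smul, zero_add]⟩
    · exact ⟨1, 1, Or.inl one_ne_zero, by rw [one_smul, one_smul]⟩
    · exact ⟨ω, 1, Or.inr one_ne_zero, by rw [one_smul]⟩
    · exact ⟨ω ^ 2, 1, Or.inr one_ne_zero, by rw [one_smul]⟩
  refine ⟨[tau hF a, tau hF b, tau hF (a + b), tau hF (ω • a + b), tau hF (ω ^ 2 • a + b)],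
    ⟨2, rfl⟩, ?_, ?_, ?_, tau hF r, tau_mem hF hr0 hrr, ?_⟩
  · intro x hx
    obtain ⟨s, t, hst, rfl⟩ := hmem x hx
    exact tau_mem hF (hne0 s t hst) (horth s t s t)
  · have hall : ∀ x ∈ [tau hF a, tau hF b, tau hF (a + b), tau hF (ω • a + b),
        tau hF (ω ^ 2 • a + b)], ∀ y ∈ [tau hF a, tau hF b, tau hF (a + b), tau hF (ω • a + b),
        tau hF (ω ^ 2 • a + b)], Commute x y := by
      intro x hx y hy
      obtain ⟨s, t, hst, rfl⟩ := hmem x hx
      obtain ⟨s', t', hst', rfl⟩ := hmem y hy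
      exact (tau_commute_iff hF (by norm_num) (horth s t s t) (horth s' t' s' t')
        (hne0 s t hst)).2 (horth s t s' t')
    exact List.pairwise_iff_forall_sublist.2 fun {x y} hxy =>
      hall x (hxy.subset (by simp)) y (hxy.subset (by simp))
  · simp only [List.prod_cons, List.prod_nil, mul_one, ← mul_assoc]
    exact line_prod hF haa hbb hab hω
  · intro x hx
    obtain ⟨s, t, hst, rfl⟩ := hmem x hx
    refine ⟨?_, (tau_commute_iff hF (by norm_num) hrr (horth s t s t) hr0).2 (hrorth s t)⟩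
    intro h
    obtain ⟨c, hc0, hc⟩ := (tau_eq_iff hF (by norm_num) (horth s t s t) hrr (hne0 s t hst)).1 h.symm
    exact hrne s t c hc

/-- Two elements of `{1, z}` are equal or differ by `z`. -/
theorem eps_cases {z ε ε' : C} (hz : z * z = 1) (h : ε = 1 ∨ ε = z) (h' : ε' = 1 ∨ ε' = z) :
    ε' = ε ∨ ε' = ε * z := by
  rcases h with rfl | rfl <;> rcases h' with rfl | rfl
  · exact Or.inl rfl
  · right; rw [one_mul]
  · right; rw [hz]
  · exact Or.inl rfl

/-- **Existence of the labelling**: for either choice of `ε ∈ {1, z}`. -/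
theorem exists_lab (hF : Fintype.card F = 2 ^ 2) {π : C →* PSU 6 F 2} {z : C} (h : Ext π z)
    (hperf : commutator C = ⊤) {ε : C} (hε : ε = 1 ∨ ε = z) :
    ∃ lift : (Fin 6 → F) → C, Lab hF π z ε lift := by
  classical
  obtain ⟨D, hD, hbij, hcover, hDz, hcomm, hord, hcent⟩ := exists_D (hF := hF) h hperf
  have hsurj : ∀ v : Fin 6 → F, v ≠ 0 → hermForm 6 F 2 v v = 0 → ∃ x ∈ D, π x = tau hF v :=
    fun v h0 hv => hbij.2.2 (tau_mem hF h0 hv)
  let lift : (Fin 6 → F) → C := fun v =>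
    if hv : v ≠ 0 ∧ hermForm 6 F 2 v v = 0 then (hsurj v hv.1 hv.2).choose else 1
  have hlift : ∀ v : Fin 6 → F, v ≠ 0 → hermForm 6 F 2 v v = 0 →
      lift v ∈ D ∧ π (lift v) = tau hF v := by
    intro v h0 hv
    simp only [lift, dif_pos (And.intro h0 hv)]
    exact (hsurj v h0 hv).choose_spec
  have hDc : ∀ x ∈ D, ∀ c : C, c * x * c⁻¹ ∈ D := by
    obtain ⟨x0, -, hx0⟩ := hD.2.1
    intro x hx c
    rw [hx0] at hx ⊢
    exact IsConj.trans (show IsConj x0 x from hx) (isConj_iff.2 ⟨c, rfl⟩)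
  have huniq : ∀ v : Fin 6 → F, v ≠ 0 → hermForm 6 F 2 v v = 0 → ∀ x ∈ D, π x = tau hF v →
      x = lift v := by
    intro v h0 hv x hx hxv
    exact hbij.2.1 hx (hlift v h0 hv).1 (by rw [hxv, (hlift v h0 hv).2])
  have hsmul : ∀ v (c : F), hermForm 6 F 2 v v = 0 → c ≠ 0 → lift (c • v) = lift v := by
    intro v c hv hc
    by_cases h0 : v = 0
    · subst h0; rw [smul_zero]
    · have h0' : c • v ≠ 0 := fun h => h0 (by
        rcases smul_eq_zero.1 h with h | h
        · exact absurd h hc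
        · exact h)
      have hv' := herm_smul_self hF hv c
      apply huniq v h0 hv _ (hlift _ h0' hv').1
      rw [(hlift _ h0' hv').2, tau_smul hF hv hc]
  have hconj : ∀ c g v, π c = pr 6 F 2 g → v ≠ 0 → hermForm 6 F 2 v v = 0 →
      c * lift v * c⁻¹ = lift (act g v) := by
    intro c g v hc h0 hv
    apply huniq _ (Lab.act_ne_zero h0) (by rw [herm_act, hv]) _ (hDc _ (hlift v h0 hv).1 c)
    rw [map_mul, map_mul, map_inv, hc, (hlift v h0 hv).2, conj_tau hF g hv]
  have hcommL : ∀ v w : Fin 6 → F, v ≠ 0 → w ≠ 0 → hermForm 6 F 2 v v = 0 →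
      hermForm 6 F 2 w w = 0 → hermForm 6 F 2 v w = 0 → Commute (lift v) (lift w) := by
    intro v w hv0 hw0 hv hw hvw
    apply hcomm
    · rw [(hlift v hv0 hv).2]; exact tau_mem hF hv0 hv
    · rw [(hlift w hw0 hw).2]; exact tau_mem hF hw0 hw
    · rw [(hlift v hv0 hv).2, (hlift w hw0 hw).2]
      exact (tau_commute_iff hF (by norm_num) hv hw hv0).2 hvw
  obtain ⟨ω₀, hω₀⟩ := exists_omega hF
  have hω3 := omega_cubed hω₀
  have hω0 : ω₀ ≠ 0 := by rintro rfl; simp at hω₀
  have h2 := two_eq_zero hF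
  -- the lines
  let Line : (Fin 6 → F) → (Fin 6 → F) → Prop := fun a b => a ≠ 0 ∧ b ≠ 0 ∧
    hermForm 6 F 2 a a = 0 ∧ hermForm 6 F 2 b b = 0 ∧ hermForm 6 F 2 a b = 0 ∧
    ¬ ∃ c : F, b = c • a
  let P : (Fin 6 → F) → (Fin 6 → F) → C := fun a b =>
    lift a * lift b * lift (a + b) * lift (ω₀ • a + b) * lift (ω₀ ^ 2 • a + b)
  have hpt : ∀ a b, Line a b → ∀ c : F, c • a + b ≠ 0 ∧
      hermForm 6 F 2 (c • a + b) (c • a + b) = 0 := by
    rintro a b ⟨ha0, hb0, ha, hb, hab, hne⟩ c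
    refine ⟨fun h => hne ⟨-c, ?_⟩, ?_⟩
    · rw [neg_smul]; exact eq_neg_of_add_eq_zero_right h
    · rw [herm_add_left, herm_add_right hF, herm_add_right hF, herm_smul_left, herm_smul_left,
        herm_smul_right, herm_smul_right, ha, hb, hab, herm_eq_zero_swap hF hab]
      ring
  have hptc : ∀ a b, Line a b → ∀ c d : F, Commute (lift (c • a + b)) (lift (d • a + b)) := by
    intro a b hL c d
    obtain ⟨h1, h2⟩ := hpt a b hL c
    obtain ⟨h3, h4⟩ := hpt a b hL d
    apply hcommL _ _ h1 h3 h2 h4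
    obtain ⟨ha0, hb0, ha, hb, hab, hne⟩ := hL
    rw [herm_add_left, herm_add_right hF, herm_add_right hF, herm_smul_left, herm_smul_left,
      herm_smul_right, herm_smul_right, ha, hb, hab, herm_eq_zero_swap hF hab]
    ring
  have hP1 : ∀ a b, Line a b → P a b = 1 ∨ P a b = z := by
    intro a b hL
    apply (h.ker _).1
    have e1 := (hlift _ (hpt a b hL 1).1 (hpt a b hL 1).2).2
    have e2 := (hlift _ (hpt a b hL ω₀).1 (hpt a b hL ω₀).2).2
    have e3 := (hlift _ (hpt a b hL (ω₀ ^ 2)).1 (hpt a b hL (ω₀ ^ 2)).2).2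
    rw [one_smul] at e1
    obtain ⟨ha0, hb0, ha, hb, hab, hne⟩ := hL
    simp only [P, map_mul]
    rw [(hlift a ha0 ha).2, (hlift b hb0 hb).2, e1, e2, e3]
    exact line_prod hF ha hb hab hω₀
  have hPcyc : ∀ a b, Line a b → ∀ l : F, l ≠ 0 → lift (l • a + b) * lift ((ω₀ * l) • a + b) *
      lift ((ω₀ ^ 2 * l) • a + b) = lift (a + b) * lift (ω₀ • a + b) * lift (ω₀ ^ 2 • a + b) := by
    intro a b hL l hl
    have c1 := hptc a b hL 1 ω₀
    have c2 := hptc a b hL 1 (ω₀ ^ 2)
    have c3 := hptc a b hL ω₀ (ω₀ ^ 2)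
    rw [one_smul] at c1 c2
    have hl' : l = 1 ∨ l = ω₀ ∨ l = ω₀ ^ 2 := by
      have h3 := pow_three hF hl
      have : (l - 1) * ((l - ω₀) * (l - ω₀ ^ 2)) = 0 := by
        linear_combination h3 + (l - l ^ 2) * hω₀ + (l - 1) * hω3
      rcases mul_eq_zero.1 this with h5 | h5
      · left; linear_combination h5
      · rcases mul_eq_zero.1 h5 with h5 | h5
        · right; left; linear_combination h5
        · right; right; linear_combination h5
    rcases hl' with hl' | hl' | hl' <;> rw [hl']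
    · rw [one_smul, mul_one, mul_one]
    · have e1 : ω₀ * ω₀ = ω₀ ^ 2 := by ring
      have e2 : ω₀ ^ 2 * ω₀ = 1 := by linear_combination hω3
      rw [e1, e2, one_smul]
      rw [(c1.mul_right c2).eq.symm]
      group
    · have e1 : ω₀ * ω₀ ^ 2 = 1 := by linear_combination hω3
      have e2 : ω₀ ^ 2 * ω₀ ^ 2 = ω₀ := by linear_combination ω₀ * hω3
      rw [e1, e2, one_smul]
      rw [mul_assoc, (c2.symm.mul_right c3.symm).eq]
  have hPs : ∀ a b, Line a b → ∀ c d : F, c ≠ 0 → d ≠ 0 → P (c • a) (d • b) = P a b := by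
    intro a b hL c d hc hd
    have e0 : ∀ s : F, lift (s • (c • a) + d • b) = lift ((s * (c * d⁻¹)) • a + b) := by
      intro s
      have : s • (c • a) + d • b = d • ((s * (c * d⁻¹)) • a + b) := by
        rw [smul_add, smul_smul, smul_smul]
        congr 2
        field_simp
      rw [this, hsmul _ d (hpt a b hL _).2 hd]
    have e1 := e0 1
    rw [one_smul, one_mul] at e1
    simp only [P]
    rw [hsmul a c hL.2.2.1 hc, hsmul b d hL.2.2.2.1 hd, e1, e0, e0]
    have := hPcyc a b hL (c * d⁻¹) (mul_ne_zero hc (inv_ne_zero hd))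
    simp only [mul_assoc] at this ⊢
    rw [this]
  have hPg : ∀ a b, Line a b → ∀ g : SU 6 F 2, P (act g a) (act g b) = P a b := by
    intro a b hL g
    obtain ⟨c, hc⟩ := h.surj (pr 6 F 2 g)
    have f1 := hconj c g _ hc hL.1 hL.2.2.1
    have f2 := hconj c g _ hc hL.2.1 hL.2.2.2.1
    have f3 := fun s : F => hconj c g _ hc (hpt a b hL s).1 (hpt a b hL s).2
    have f4 := f3 1
    simp only [act_add, act_smul] at f3
    rw [one_smul, act_add] at f4
    have : P (act g a) (act g b) = c * P a b * c⁻¹ := by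
      simp only [P]
      rw [← f1, ← f2, ← f4, ← f3, ← f3]
      group
    rw [this]
    rcases hP1 a b hL with h5 | h5
    · rw [h5]; group
    · rw [h5, h.comm c, mul_inv_cancel_right]
  have hPall : ∀ a b a' b', Line a b → Line a' b' → P a b = P a' b' := by
    intro a b a' b' hL hL'
    obtain ⟨ha0, hb0, ha, hb, hab, hne⟩ := hL
    obtain ⟨ha0', hb0', ha', hb', hab', hne'⟩ := hL'
    obtain ⟨x, hx1, hx2⟩ := PSUSix.trans_commuting hF (by norm_num : 3 ≤ 6) _ (tau_mem hF ha0 ha) _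
      (tau_mem hF hb0 hb) _ (tau_mem hF ha0' ha') _ (tau_mem hF hb0' hb')
      (fun h5 => by
        obtain ⟨c, -, hc⟩ := (tau_eq_iff hF (by norm_num) ha hb ha0).1 h5
        exact hne ⟨c, hc⟩)
      (fun h5 => by
        obtain ⟨c, -, hc⟩ := (tau_eq_iff hF (by norm_num) ha' hb' ha0').1 h5
        exact hne' ⟨c, hc⟩)
      ((tau_commute_iff hF (by norm_num) ha hb ha0).2 hab)
      ((tau_commute_iff hF (by norm_num) ha' hb' ha0').2 hab')
    obtain ⟨g, rfl⟩ := pr_surjective x
    rw [conj_tau hF g ha, eq_comm, tau_eq_iff hF (by norm_num) ha' (by rw [herm_act, ha]) ha0'] at hx1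
    rw [conj_tau hF g hb, eq_comm, tau_eq_iff hF (by norm_num) hb' (by rw [herm_act, hb]) hb0'] at hx2
    obtain ⟨c, hc0, hc⟩ := hx1
    obtain ⟨d, hd0, hd⟩ := hx2
    rw [← hPg a b ⟨ha0, hb0, ha, hb, hab, hne⟩ g, hc, hd,
      hPs a' b' ⟨ha0', hb0', ha', hb', hab', hne'⟩ c d hc0 hd0]
  -- the labelling for some `ε`
  have hmain : ∀ ε₀ : C, (∀ a b, Line a b → P a b = ε₀) → Lab hF π z ε₀ lift := by
    intro ε₀ hε₀
    refine ⟨h, hperf, fun v h0 hv => (hlift v h0 hv).2, hsmul, ?_, hconj, ?_, ?_⟩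
    · intro v h0 hv
      have := hord (lift v) (by rw [(hlift v h0 hv).2]; exact tau_mem hF h0 hv)
      rw [← pow_two, ← this]
      exact pow_orderOf_eq_one _
    · intro a v h0 hv hc
      apply hcent _ _ (by rw [(hlift v h0 hv).2]; exact tau_mem hF h0 hv)
      rwa [(hlift v h0 hv).2]
    · intro a b ha0 hb0 ha hb hab hne ω hω
      have hL : Line a b := ⟨ha0, hb0, ha, hb, hab, hne⟩
      have hcase : ω = ω₀ ∨ ω = ω₀ ^ 2 := by
        have : (ω - ω₀) * (ω - ω₀ ^ 2) = 0 := by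
          linear_combination hω - ω * hω₀ + hω3
        rcases mul_eq_zero.1 this with h5 | h5
        · left; linear_combination h5
        · right; linear_combination h5
      rw [← hε₀ a b hL]
      rcases hcase with rfl | rfl
      · rfl
      · have e4 : (ω₀ ^ 2) ^ 2 = ω₀ := by linear_combination ω₀ * hω3
        rw [e4]
        show _ = lift a * lift b * lift (a + b) * lift (ω₀ • a + b) * lift (ω₀ ^ 2 • a + b)
        rw [mul_assoc _ (lift (ω₀ ^ 2 • a + b)), mul_assoc _ (lift (ω₀ • a + b)),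
          (hptc a b hL (ω₀ ^ 2) ω₀).eq]
  by_cases hex : ∃ a b, Line a b
  · obtain ⟨a, b, hL⟩ := hex
    rcases eps_cases h.zz (hP1 a b hL) hε with h5 | h5
    · exact ⟨lift, hmain ε fun a' b' hL' => by rw [h5]; exact hPall a' b' a b hL' hL⟩
    · refine ⟨fun v => lift v * z, ?_⟩
      rw [h5]
      exact (hmain (P a b) fun a' b' hL' => hPall a' b' a b hL' hL).twist
  · exact ⟨lift, hmain ε fun a b hL => absurd ⟨a, b, hL⟩ hex⟩


end Cfsg.Agent.R01.Label
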