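import Cfsg.Agent.R01.IdentSpider

/-!
Six reflections of the affine group of type `E7`: letters `a = 0, b = 1, c = 2, d = 3, e = 4, f = 5, g = 6, h = 7`,
edges `a-b-c-d-e-f-g`, `d-h`. If `(abcdefh)^9` is central then the reflections `s₁ = a, s₂, s₃, t₁ = g, t₂, t₃` commute
pairwise and their product is `(abcdefh)^9 (bcdefgh)^9`.
-/

set_option autoImplicit false

namespace Cfsg.Agent.R01.FiSix

open Cfsg.Agent.R01.IdentWord
open Cfsg.Agent.R01.IdentSpider (P P_cons P_nil P_append P_single P_conj P_flatten_replicate)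

/-- The edges `a-b-c-d-e-f-g`, `d-h`. -/
def E : List (ℕ × ℕ) := [(0, 1), (1, 2), (2, 3), (3, 4), (4, 5), (5, 6), (3, 7)]

variable {G : Type*} [Group G]

/-- The relations of type affine `E7`. -/
structure Rel (x : ℕ → G) : Prop where
  sq : ∀ i < 8, x i * x i = 1
  adj : ∀ i < 8, ∀ j < 8, i ≠ j → adj E i j = true → (x i * x j) ^ 3 = 1
  comm : ∀ i < 8, ∀ j < 8, i ≠ j → IdentWord.adj E i j = false → x i * x j = x j * x i

variable {x : ℕ → G}

theorem Rel.eq (h : Rel x) (ω ω' : List ℕ) (hc : test 8 E ω ω' = true) : P x ω = P x ω' :=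
  word_eq 8 E x h.sq h.adj h.comm ω ω' hc

theorem Rel.sqs (h : Rel x) {u : List ℕ} (hu : (u.all fun k => Nat.blt k 8) = true) :
    ∀ k ∈ u, x k * x k = 1 := by
  intro k hk
  rw [List.all_eq_true] at hu
  have := hu k hk
  rw [Nat.blt_eq] at this
  exact h.sq k this

/-- Conjugating words. -/
def u2 : List ℕ := [1, 2, 3, 7, 4, 3, 2, 1]
def u3 : List ℕ := [5, 4, 3, 7, 2, 3, 4, 1, 2, 3, 7, 5, 4, 3, 2, 1]
def v2 : List ℕ := [5, 4, 3, 7, 6, 5, 4, 3]
def v3 : List ℕ := [1, 2, 3, 7, 4, 5, 3, 4, 2, 3, 7, 6, 5, 4, 3, 2]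

def s2 : List ℕ := u2 ++ [0] ++ u2.reverse
def s3 : List ℕ := u3 ++ [0] ++ u3.reverse
def t2 : List ℕ := v2 ++ [2] ++ v2.reverse
def t3 : List ℕ := v3 ++ [1] ++ v3.reverse

/-- The product of the four commuting reflections of the `D4` on `c, d, e, h`. -/
def R : List ℕ := [2, 4, 7, 3, 7, 4, 3, 2, 3, 4, 7, 3]

/-- The word `(abcdefh)^9`. -/
def w1 : List ℕ := (List.replicate 9 [0, 1, 2, 3, 4, 5, 7]).flatten

/-- The word `(bcdefgh)^9`. -/
def w2 : List ℕ := (List.replicate 9 [1, 2, 3, 4, 5, 6, 7]).flatten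

theorem P_w1 (x : ℕ → G) : P x w1 = (x 0 * x 1 * x 2 * x 3 * x 4 * x 5 * x 7) ^ 9 := by
  rw [w1, P_flatten_replicate]
  simp only [P_cons, P_nil, mul_one, mul_assoc]

theorem P_w2 (x : ℕ → G) : P x w2 = (x 1 * x 2 * x 3 * x 4 * x 5 * x 6 * x 7) ^ 9 := by
  rw [w2, P_flatten_replicate]
  simp only [P_cons, P_nil, mul_one, mul_assoc]

theorem Rel.comm_words (h : Rel x) (u v : List ℕ) (hc : test 8 E (u ++ v) (v ++ u) = true) :
    P x u * P x v = P x v * P x u := by
  rw [← P_append, ← P_append]
  exact h.eq _ _ hc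

/-- The six elements. -/
def six (x : ℕ → G) : Fin 6 → G := ![P x [0], P x s2, P x s3, P x [6], P x t2, P x t3]

theorem Rel.prod_six (h : Rel x) :
    P x [0] * P x s2 * P x s3 * (P x [6] * P x t2 * P x t3) = P x w1 * P x w2 := by
  rw [← P_append, ← P_append, ← P_append, ← P_append, ← P_append, ← P_append]
  exact h.eq _ _ (by decide +kernel)

/-- Parallel reflections commute. -/
theorem Rel.par (h : Rel x) (s t r : List ℕ) (hw : test 8 E w1 (s ++ r) = true)
    (hr : test 8 E (r ++ t) (t ++ r) = true) (hz : ∀ ω : List ℕ, P x w1 * P x ω = P x ω * P x w1) :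
    P x s * P x t = P x t * P x s := by
  have h1 : P x w1 = P x s * P x r := by rw [← P_append]; exact h.eq _ _ hw
  have h2 := h.comm_words r t hr
  have h3 := hz t
  rw [h1] at h3
  have h4 : P x s * P x t * P x r = P x t * P x s * P x r := by
    calc P x s * P x t * P x r = P x s * (P x t * P x r) := by group
      _ = P x s * (P x r * P x t) := by rw [h2]
      _ = P x s * P x r * P x t := by group
      _ = P x t * (P x s * P x r) := h3
      _ = P x t * P x s * P x r := by group
  exact mul_right_cancel h4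

theorem Rel.comm_six (h : Rel x) (hz : ∀ ω : List ℕ, P x w1 * P x ω = P x ω * P x w1) (i j : Fin 6) :
    six x i * six x j = six x j * six x i := by
  have c01 := h.comm_words [0] s2 (by decide +kernel)
  have c02 := h.comm_words [0] s3 (by decide +kernel)
  have c03 := h.comm_words [0] [6] (by decide +kernel)
  have c04 := h.comm_words [0] t2 (by decide +kernel)
  have c05 := h.par [0] t3 (s2 ++ s3 ++ R) (by decide +kernel) (by decide +kernel) hz
  have c12 := h.comm_words s2 s3 (by decide +kernel)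
  have c13 := h.comm_words s2 [6] (by decide +kernel)
  have c14 := h.par s2 t2 ([0] ++ s3 ++ R) (by decide +kernel) (by decide +kernel) hz
  have c15 := h.comm_words s2 t3 (by decide +kernel)
  have c23 := h.par s3 [6] ([0] ++ s2 ++ R) (by decide +kernel) (by decide +kernel) hz
  have c24 := h.comm_words s3 t2 (by decide +kernel)
  have c25 := h.comm_words s3 t3 (by decide +kernel)
  have c34 := h.comm_words [6] t2 (by decide +kernel)
  have c35 := h.comm_words [6] t3 (by decide +kernel)
  have c45 := h.comm_words t2 t3 (by decide +kernel)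
  fin_cases i <;> fin_cases j <;> first
    | rfl
    | exact c01 | exact c01.symm | exact c02 | exact c02.symm | exact c03 | exact c03.symm
    | exact c04 | exact c04.symm | exact c05 | exact c05.symm | exact c12 | exact c12.symm
    | exact c13 | exact c13.symm | exact c14 | exact c14.symm | exact c15 | exact c15.symm
    | exact c23 | exact c23.symm | exact c24 | exact c24.symm | exact c25 | exact c25.symm
    | exact c34 | exact c34.symm | exact c35 | exact c35.symm | exact c45 | exact c45.symm

/-- The six elements are conjugates of generators. -/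
theorem Rel.six_mem (h : Rel x) {D : Set G} (hD : ∀ i < 8, x i ∈ D)
    (hconj : ∀ g : G, ∀ y ∈ D, g * y * g⁻¹ ∈ D) (i : Fin 6) : six x i ∈ D := by
  have key : ∀ (u : List ℕ) (k : ℕ), k < 8 → (u.all fun k => Nat.blt k 8) = true →
      P x (u ++ [k] ++ u.reverse) ∈ D := by
    intro u k hk hu
    rw [P_conj x u [k] (h.sqs hu), P_single]
    exact hconj _ _ (hD k hk)
  fin_cases i
  · show P x [0] ∈ D
    rw [P_single]; exact hD 0 (by norm_num)
  · exact key u2 0 (by norm_num) (by decide)
  · exact key u3 0 (by norm_num) (by decide)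
  · show P x [6] ∈ D
    rw [P_single]; exact hD 6 (by norm_num)
  · exact key v2 2 (by norm_num) (by decide)
  · exact key v3 1 (by norm_num) (by decide)

end Cfsg.Agent.R01.FiSix
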