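import Cfsg.Agent.R01.Label
import Cfsg.Prelude.Def_Spor_Fi22

/-!
Let `C` be a perfect central extension of the presented group `Fi22` by `⟨z⟩`, `z` of order two, and let `X a, …, X i`
be lifts of the generators satisfying the Coxeter relations and the spider relation. Then exactly one of
`(abcdefh)^9`, `(bcdefgh)^9` is `z` and the other is one, since otherwise the extension splits.
-/

set_option autoImplicit false
set_option linter.unusedSimpArgs false

namespace Cfsg.Agent.R01.FiWords

open Cfsg Cfsg.Spor Cfsg.Agent.R01.Lifts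

section gen

variable {C Φ : Type*} [Group C] [Group Φ] {π : C →* Φ} {z : C}

/-- A perfect central extension does not split. -/
theorem no_section (h : Ext π z) (hperf : commutator C = ⊤) (φ : Φ →* C)
    (hφ : ∀ f, π (φ f) = f) : False := by
  have h1 : Subgroup.closure (π '' Set.range φ) = ⊤ := by
    rw [eq_top_iff]
    intro f _
    apply Subgroup.subset_closure
    exact ⟨φ f, ⟨f, rfl⟩, hφ f⟩
  have h2 := Label.closure_eq_top h hperf h1
  have h3 : z ∈ Subgroup.closure (Set.range φ) := by rw [h2]; trivial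
  have h4 : Subgroup.closure (Set.range φ) = φ.range := by
    apply le_antisymm
    · rw [Subgroup.closure_le]
      rintro _ ⟨f, rfl⟩
      exact ⟨f, rfl⟩
    · rintro _ ⟨f, rfl⟩
      exact Subgroup.subset_closure ⟨f, rfl⟩
  rw [h4] at h3
  obtain ⟨f, hf⟩ := h3
  apply h.zne
  have h5 := hφ f
  rw [hf, h.mapz] at h5
  rw [← hf, ← h5, map_one]

end gen

variable {C : Type*} [Group C] {π : C →* Spor.Fi22} {z : C}

/-- Lifts of the generators satisfying the Coxeter relations and the spider relation. -/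
structure Gens (π : C →* Spor.Fi22) (X : Fi22.Gen → C) : Prop where
  map : ∀ p, π (X p) = PresentedGroup.of p
  cox : ∀ p q, (X p * X q) ^ coxLabel Fi22.edges p q = 1
  spider : (X .d * X .c * X .b * X .d * X .e * X .f * X .d * X .h * X .i) ^ 10 = 1

/-- The two `E₇` relators. -/
def W₁ (X : Fi22.Gen → C) : C := (X .a * X .b * X .c * X .d * X .e * X .f * X .h) ^ 9

/-- The two `E₇` relators. -/
def W₂ (X : Fi22.Gen → C) : C := (X .b * X .c * X .d * X .e * X .f * X .g * X .h) ^ 9

/-- The two relators cannot be both one. -/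
theorem not_both_one (h : Ext π z) (hperf : commutator C = ⊤) {X : Fi22.Gen → C} (hX : Gens π X)
    (h1 : W₁ X = 1) (h2 : W₂ X = 1) : False := by
  have hrel : ∀ r ∈ coxRelators Fi22.edges ∪ {r | r ∈ Fi22.extra}, FreeGroup.lift X r = 1 := by
    rintro r (⟨x, -, y, -, rfl⟩ | hr)
    · rw [map_pow, map_mul, FreeGroup.lift_apply_of, FreeGroup.lift_apply_of]
      exact hX.cox x y
    · simp only [Fi22.extra, Set.mem_ofPred_eq, List.mem_cons, List.not_mem_nil, or_false] at hr
      rcases hr with rfl | rfl | rfl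
      · simp only [map_pow, map_mul, Fi22.a, Fi22.b, Fi22.c, Fi22.d, Fi22.e, Fi22.f, Fi22.g, Fi22.h,
          Fi22.i, FreeGroup.lift_apply_of]
        exact hX.spider
      · simp only [map_pow, map_mul, Fi22.a, Fi22.b, Fi22.c, Fi22.d, Fi22.e, Fi22.f, Fi22.g, Fi22.h,
          Fi22.i, FreeGroup.lift_apply_of]
        exact h1
      · simp only [map_pow, map_mul, Fi22.a, Fi22.b, Fi22.c, Fi22.d, Fi22.e, Fi22.f, Fi22.g, Fi22.h,
          Fi22.i, FreeGroup.lift_apply_of]
        exact h2
  let φ : Spor.Fi22 →* C := PresentedGroup.toGroup hrel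
  have hφ : ∀ p, φ (PresentedGroup.of p) = X p := fun p => PresentedGroup.toGroup.of hrel
  apply no_section h hperf φ
  have h3 : π.comp φ = MonoidHom.id _ := by
    apply PresentedGroup.ext
    intro p
    show π (φ (PresentedGroup.of p)) = _
    rw [hφ, hX.map]
    rfl
  intro f
  exact DFunLike.congr_fun h3 f

theorem map_W₁ {X : Fi22.Gen → C} (hX : Gens π X) : π (W₁ X) = 1 := by
  rw [W₁]
  simp only [map_pow, map_mul, hX.map]
  have h : PresentedGroup.mk (coxRelators Fi22.edges ∪ {r | r ∈ Fi22.extra})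
      ((Fi22.a * Fi22.b * Fi22.c * Fi22.d * Fi22.e * Fi22.f * Fi22.h) ^ 9) = 1 := by
    apply PresentedGroup.one_of_mem
    right
    show _ ∈ Fi22.extra
    simp [Fi22.extra]
  simp only [map_pow, map_mul] at h
  exact h

theorem map_W₂ {X : Fi22.Gen → C} (hX : Gens π X) : π (W₂ X) = 1 := by
  rw [W₂]
  simp only [map_pow, map_mul, hX.map]
  have h : PresentedGroup.mk (coxRelators Fi22.edges ∪ {r | r ∈ Fi22.extra})
      ((Fi22.b * Fi22.c * Fi22.d * Fi22.e * Fi22.f * Fi22.g * Fi22.h) ^ 9) = 1 := by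
    apply PresentedGroup.one_of_mem
    right
    show _ ∈ Fi22.extra
    simp [Fi22.extra]
  simp only [map_pow, map_mul] at h
  exact h

/-- The relators for the lifts multiplied by `z`. -/
theorem Gens.twist (h : Ext π z) {X : Fi22.Gen → C} (hX : Gens π X) :
    Gens π (fun p => X p * z) ∧ W₁ (fun p => X p * z) = W₁ X * z ∧
      W₂ (fun p => X p * z) = W₂ X * z := by
  have hz : ∀ u : C, z * u = u * z := fun u => (h.comm u).symm
  have hcz : ∀ u : C, Commute u z := fun u => h.comm u
  have p2 : ∀ u v : C, (u * z) * (v * z) = u * v := by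
    intro u v
    calc (u * z) * (v * z) = u * (z * v) * z := by group
      _ = u * v * (z * z) := by rw [hz]; group
      _ = u * v := by rw [h.zz, mul_one]
  have zeven : ∀ n : ℕ, z ^ (2 * n) = 1 := by
    intro n
    rw [pow_mul, pow_two, h.zz, one_pow]
  refine ⟨⟨?_, ?_, ?_⟩, ?_, ?_⟩
  · intro p
    show π (X p * z) = _
    rw [map_mul, h.mapz, mul_one, hX.map]
  · intro p q
    show (X p * z * (X q * z)) ^ _ = 1
    rw [p2]
    exact hX.cox p q
  · show (X .d * z * (X .c * z) * (X .b * z) * (X .d * z) * (X .e * z) * (X .f * z) * (X .d * z) *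
      (X .h * z) * (X .i * z)) ^ 10 = 1
    have e : X .d * z * (X .c * z) * (X .b * z) * (X .d * z) * (X .e * z) * (X .f * z) * (X .d * z) *
      (X .h * z) * (X .i * z) =
        X .d * X .c * X .b * X .d * X .e * X .f * X .d * X .h * X .i * z := by
      rw [p2, ← mul_assoc (X .d * X .c), mul_assoc _ z, ]
      rw [hz (X .d * z), mul_assoc (X .d) z z, h.zz, mul_one]
      rw [← mul_assoc (X .d * X .c * X .b * X .d) (X .e) z, mul_assoc _ z (X .f * z), hz (X .f * z),
        mul_assoc (X .f) z z, h.zz, mul_one]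
      rw [← mul_assoc _ (X .d) z, mul_assoc _ z (X .h * z), hz (X .h * z), mul_assoc (X .h) z z, h.zz,
        mul_one, ← mul_assoc _ (X .i) z]
    rw [e, (hcz _).mul_pow, hX.spider, one_mul]
    exact zeven 5
  · show (X .a * z * (X .b * z) * (X .c * z) * (X .d * z) * (X .e * z) * (X .f * z) * (X .h * z)) ^ 9
      = _
    have e : X .a * z * (X .b * z) * (X .c * z) * (X .d * z) * (X .e * z) * (X .f * z) * (X .h * z) =
        X .a * X .b * X .c * X .d * X .e * X .f * X .h * z := by
      rw [p2, ← mul_assoc (X .a * X .b), mul_assoc _ z, ]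
      rw [hz (X .d * z), mul_assoc (X .d) z z, h.zz, mul_one]
      rw [← mul_assoc (X .a * X .b * X .c * X .d) (X .e) z, mul_assoc _ z (X .f * z), hz (X .f * z),
        mul_assoc (X .f) z z, h.zz, mul_one]
      rw [← mul_assoc _ (X .h) z]
    rw [e, (hcz _).mul_pow, W₁]
    congr 1
    exact pow_odd_of_sq h.zz (by decide)
  · show (X .b * z * (X .c * z) * (X .d * z) * (X .e * z) * (X .f * z) * (X .g * z) * (X .h * z)) ^ 9
      = _
    have e : X .b * z * (X .c * z) * (X .d * z) * (X .e * z) * (X .f * z) * (X .g * z) * (X .h * z) =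
        X .b * X .c * X .d * X .e * X .f * X .g * X .h * z := by
      rw [p2, ← mul_assoc (X .b * X .c), mul_assoc _ z, ]
      rw [hz (X .e * z), mul_assoc (X .e) z z, h.zz, mul_one]
      rw [← mul_assoc (X .b * X .c * X .d * X .e) (X .f) z, mul_assoc _ z (X .g * z), hz (X .g * z),
        mul_assoc (X .g) z z, h.zz, mul_one]
      rw [← mul_assoc _ (X .h) z]
    rw [e, (hcz _).mul_pow, W₂]
    congr 1
    exact pow_odd_of_sq h.zz (by decide)

/-- **The sign of the relators.** -/
theorem sign (h : Ext π z) (hperf : commutator C = ⊤) {X : Fi22.Gen → C} (hX : Gens π X) :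
    (W₁ X = 1 ∧ W₂ X = z) ∨ (W₁ X = z ∧ W₂ X = 1) := by
  obtain ⟨hX', e1, e2⟩ := hX.twist h
  rcases (h.ker _).1 (map_W₁ hX) with h1 | h1 <;> rcases (h.ker _).1 (map_W₂ hX) with h2 | h2
  · exact (not_both_one h hperf hX h1 h2).elim
  · exact Or.inl ⟨h1, h2⟩
  · exact Or.inr ⟨h1, h2⟩
  · exact (not_both_one h hperf hX' (by rw [e1, h1, h.zz]) (by rw [e2, h2, h.zz])).elim

theorem W_mul_W (h : Ext π z) (hperf : commutator C = ⊤) {X : Fi22.Gen → C} (hX : Gens π X) :
    W₁ X * W₂ X = z := by
  rcases sign h hperf hX with ⟨h1, h2⟩ | ⟨h1, h2⟩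
  · rw [h1, h2, one_mul]
  · rw [h1, h2, mul_one]

/-- The spider relation holds for lifts if `z` is not a square. -/
theorem spider_of (h : Ext π z) (hns : ∀ c : C, c * c ≠ z) {X : Fi22.Gen → C}
    (hmap : ∀ p, π (X p) = PresentedGroup.of p) :
    (X .d * X .c * X .b * X .d * X .e * X .f * X .d * X .h * X .i) ^ 10 = 1 := by
  set s := X .d * X .c * X .b * X .d * X .e * X .f * X .d * X .h * X .i with hs
  have h1 : π (s ^ 10) = 1 := by
    rw [hs]
    simp only [map_pow, map_mul, hmap]
    have h : PresentedGroup.mk (coxRelators Fi22.edges ∪ {r | r ∈ Fi22.extra})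
        ((Fi22.d * Fi22.c * Fi22.b * Fi22.d * Fi22.e * Fi22.f * Fi22.d * Fi22.h * Fi22.i) ^ 10) =
          1 := by
      apply PresentedGroup.one_of_mem
      right
      show _ ∈ Fi22.extra
      simp [Fi22.extra]
    simp only [map_pow, map_mul] at h
    exact h
  rcases (h.ker _).1 h1 with h2 | h2
  · exact h2
  · exfalso
    apply hns (s ^ 5)
    rw [← pow_add]
    exact h2

end Cfsg.Agent.R01.FiWords
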