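import Cfsg.Agent.R01.FiFacts
import Cfsg.Agent.R01.FiWords
import Cfsg.Agent.R01.FiSix

/-!
The sign of the hexads: in a perfect double cover `C` of `Fi22` the product of the lifts (in the class `D₀`) of six
different commuting 3-transpositions with product one is `z`.
-/

set_option autoImplicit false

namespace Cfsg.Agent.R01.FiHexad

open Cfsg Cfsg.Spor Cfsg.Agent.R01.Lifts Cfsg.Agent.R01.FiFusion Cfsg.Agent.R01.FiFacts

/-- The class `D₀` of lifts of the members of `T`. -/
structure Lifted {C Φ : Type*} [Group C] [Group Φ] (π : C →* Φ) (z : C) (T : Set Φ) (D₀ : Set C) :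
    Prop where
  ext : Ext π z
  sq : ∀ x ∈ D₀, x * x = 1
  conj : ∀ c : C, ∀ x ∈ D₀, c * x * c⁻¹ ∈ D₀
  map : ∀ x ∈ D₀, π x ∈ T
  inj : ∀ x ∈ D₀, ∀ y ∈ D₀, π x = π y → x = y
  surj : ∀ t ∈ T, ∃ x ∈ D₀, π x = t
  nz : ∀ x ∈ D₀, x * z ∉ D₀
  comm : ∀ x ∈ D₀, ∀ y ∈ D₀, π x * π y = π y * π x → x * y = y * x
  three : ∀ x ∈ D₀, ∀ y ∈ D₀, x * y = y * x ∨ (x * y) ^ 3 = 1

theorem reduce {C : Type*} [Group C] {l : List C} (hsq : ∀ x ∈ l, x * x = 1)
    (hc : ∀ x ∈ l, ∀ y ∈ l, x * y = y * x) (hnd : ¬ l.Nodup) :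
    ∃ l' : List C, l'.length + 2 = l.length ∧ (∀ x ∈ l', x ∈ l) ∧ l'.prod = l.prod := by
  rw [List.nodup_iff_sublist] at hnd
  push Not at hnd
  obtain ⟨a, ha⟩ := hnd
  obtain ⟨l', hl'⟩ := ha.exists_perm_append
  have hal : a ∈ l := by rw [hl'.mem_iff]; simp
  have hpw : l.Pairwise Commute :=
    List.pairwise_of_forall_mem_list fun x hx y hy => hc x hx y hy
  refine ⟨l', ?_, ?_, ?_⟩
  · have := hl'.length_eq
    simp only [List.cons_append, List.nil_append, List.length_cons] at this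
    omega
  · intro x hx
    rw [hl'.mem_iff]
    exact List.mem_append_right _ hx
  · rw [hl'.prod_eq' hpw]
    simp only [List.cons_append, List.nil_append, List.prod_cons]
    rw [← mul_assoc, hsq a hal, one_mul]

variable {C Φ : Type*} [Group C] [Group Φ] {π : C →* Φ} {z : C} {T : Set Φ} {D₀ : Set C}

theorem Lifted.nodup (L : Lifted π z T D₀) (hT : TFacts T) {l : List C} (hlen : l.length = 6)
    (hmem : ∀ x ∈ l, x ∈ D₀) (hc : ∀ x ∈ l, ∀ y ∈ l, x * y = y * x) (hp : l.prod = z) :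
    l.Nodup := by
  by_contra hnd
  obtain ⟨l₁, h1, h2, h3⟩ := reduce (fun x hx => L.sq x (hmem x hx)) hc hnd
  have hlen1 : l₁.length = 4 := by omega
  have hmem1 : ∀ x ∈ l₁, x ∈ D₀ := fun x hx => hmem x (h2 x hx)
  have hc1 : ∀ x ∈ l₁, ∀ y ∈ l₁, x * y = y * x := fun x hx y hy => hc x (h2 x hx) y (h2 y hy)
  rw [hp] at h3
  by_cases hnd1 : l₁.Nodup
  · obtain ⟨x, y, u, v, rfl⟩ : ∃ x y u v, l₁ = [x, y, u, v] := by
      rcases l₁ with _ | ⟨x, _ | ⟨y, _ | ⟨u, _ | ⟨v, _ | ⟨w, l₂⟩⟩⟩⟩⟩ <;> simp_all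
    have mx := hmem1 x (by simp)
    have my := hmem1 y (by simp)
    have mu := hmem1 u (by simp)
    have mv := hmem1 v (by simp)
    simp only [List.nodup_cons, List.mem_cons, List.not_mem_nil, or_false, not_or] at hnd1
    have ht : Tri T (π x) (π y) (π u) := by
      refine ⟨L.map x mx, L.map y my, L.map u mu, ?_, ?_, ?_, ?_, ?_, ?_⟩
      · intro h; exact hnd1.1.1 (L.inj x mx y my h)
      · intro h; exact hnd1.1.2.1 (L.inj x mx u mu h)
      · intro h; exact hnd1.2.1.1 (L.inj y my u mu h)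
      · rw [← map_mul, ← map_mul, hc1 x (by simp) y (by simp)]
      · rw [← map_mul, ← map_mul, hc1 x (by simp) u (by simp)]
      · rw [← map_mul, ← map_mul, hc1 y (by simp) u (by simp)]
    apply hT.prod _ _ _ ht
    have h4 : x * y * u * v = z := by
      rw [← h3]; simp [mul_assoc]
    have h5 : π x * π y * π u * π v = 1 := by
      rw [← map_mul, ← map_mul, ← map_mul, h4, L.ext.mapz]
    have h6 : π v * π v = 1 := by rw [← map_mul, L.sq v mv, map_one]
    have h7 : π x * π y * π u = π v := by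
      calc π x * π y * π u = (π x * π y * π u) * (π v * π v) := by rw [h6, mul_one]
        _ = (π x * π y * π u * π v) * π v := by group
        _ = π v := by rw [h5, one_mul]
    rw [h7]
    exact L.map v mv
  · obtain ⟨l₂, k1, k2, k3⟩ := reduce (fun x hx => L.sq x (hmem1 x hx)) hc1 hnd1
    have hlen2 : l₂.length = 2 := by omega
    obtain ⟨x, y, rfl⟩ := List.length_eq_two.1 hlen2
    rw [h3] at k3
    have mx := hmem1 x (k2 x (by simp))
    have my := hmem1 y (k2 y (by simp))
    have h4 : x * y = z := by rw [← k3]; simp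
    apply L.nz y my
    rw [← h4, hc1 x (k2 x (by simp)) y (k2 y (by simp)), ← mul_assoc, L.sq y my, one_mul]
    exact mx

/-- Six commuting members of `D₀` with product `z` form a hexad. -/
theorem Lifted.hex (L : Lifted π z T D₀) (hT : TFacts T) (u : Fin 6 → C) (hu : ∀ i, u i ∈ D₀)
    (hc : ∀ i j, u i * u j = u j * u i) (hp : u 0 * u 1 * u 2 * (u 3 * u 4 * u 5) = z) :
    Hex T (π (u 0)) (π (u 1)) (π (u 2)) (π (u 3)) (π (u 4)) (π (u 5)) := by
  have hinj : Function.Injective u := by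
    rw [← List.nodup_ofFn]
    apply L.nodup hT (by simp)
    · intro x hx
      obtain ⟨i, rfl⟩ := List.mem_ofFn.1 hx
      exact hu i
    · intro x hx y hy
      obtain ⟨i, rfl⟩ := List.mem_ofFn.1 hx
      obtain ⟨j, rfl⟩ := List.mem_ofFn.1 hy
      exact hc i j
    · rw [← hp]
      simp [List.ofFn_succ, mul_assoc]
  have hne : ∀ i j, i ≠ j → π (u i) ≠ π (u j) := fun i j hij h =>
    hij (hinj (L.inj _ (hu i) _ (hu j) h))
  have hcc : ∀ i j, π (u i) * π (u j) = π (u j) * π (u i) := fun i j => by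
    rw [← map_mul, ← map_mul, hc i j]
  have hm : ∀ i, π (u i) ∈ T := fun i => L.map _ (hu i)
  exact ⟨⟨hm _, hm _, hm _, hne _ _ (by decide), hne _ _ (by decide), hne _ _ (by decide),
    hcc _ _, hcc _ _, hcc _ _⟩, ⟨hm _, hm _, hm _, hne _ _ (by decide), hne _ _ (by decide),
    hne _ _ (by decide), hcc _ _, hcc _ _, hcc _ _⟩, hne _ _ (by decide), hne _ _ (by decide),
    hne _ _ (by decide), hne _ _ (by decide), hne _ _ (by decide), hne _ _ (by decide),
    hne _ _ (by decide), hne _ _ (by decide), hne _ _ (by decide), hcc _ _, hcc _ _, hcc _ _,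
    hcc _ _, hcc _ _, hcc _ _, hcc _ _, hcc _ _, hcc _ _, by
      rw [← map_mul, ← map_mul, ← map_mul, ← map_mul, ← map_mul, hp, L.ext.mapz]⟩

/-- All hexads have sign `z` if one has. -/
theorem Lifted.sign_all (L : Lifted π z T D₀) (hT : TFacts T) (u : Fin 6 → C) (hu : ∀ i, u i ∈ D₀)
    (hc : ∀ i j, u i * u j = u j * u i) (hp : u 0 * u 1 * u 2 * (u 3 * u 4 * u 5) = z)
    {a b c a' b' c' : C} (ha : a ∈ D₀) (hb : b ∈ D₀) (hcc : c ∈ D₀) (ha' : a' ∈ D₀)
    (hb' : b' ∈ D₀) (hcc' : c' ∈ D₀) (hH : Hex T (π a) (π b) (π c) (π a') (π b') (π c')) :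
    a * b * c * (a' * b' * c') = z := by
  have h0 := L.hex hT u hu hc hp
  obtain ⟨g, g1, g2, g3⟩ := hT.tri _ _ _ _ _ _ h0.t hH.t
  obtain ⟨k, rfl⟩ := L.ext.surj g
  have e : ∀ {x y : C}, x ∈ D₀ → y ∈ D₀ → π k * π x * (π k)⁻¹ = π y → k * x * k⁻¹ = y := by
    intro x y hx hy h
    apply L.inj _ (L.conj k x hx) _ hy
    rw [map_mul, map_mul, map_inv, h]
  have e0 := e (hu 0) ha g1
  have e1 := e (hu 1) hb g2
  have e2 := e (hu 2) hcc g3
  -- the conjugate hexad
  set v : Fin 6 → C := fun i => k * u i * k⁻¹ with hv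
  have hvD : ∀ i, v i ∈ D₀ := fun i => L.conj k _ (hu i)
  have hvc : ∀ i j, v i * v j = v j * v i := by
    intro i j
    calc k * u i * k⁻¹ * (k * u j * k⁻¹) = k * (u i * u j) * k⁻¹ := by group
      _ = k * (u j * u i) * k⁻¹ := by rw [hc]
      _ = k * u j * k⁻¹ * (k * u i * k⁻¹) := by group
  have hvp : v 0 * v 1 * v 2 * (v 3 * v 4 * v 5) = z := by
    calc v 0 * v 1 * v 2 * (v 3 * v 4 * v 5) = k * (u 0 * u 1 * u 2 * (u 3 * u 4 * u 5)) * k⁻¹ := by
          simp only [hv]; group
      _ = k * z * k⁻¹ := by rw [hp]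
      _ = z := by rw [L.ext.comm k, mul_inv_cancel_right]
  have hvH := L.hex hT v hvD hvc hvp
  have v0 : v 0 = a := e0
  have v1 : v 1 = b := e1
  have v2 : v 2 = c := e2
  rw [v0, v1, v2] at hvH hvp
  obtain ⟨h3, h4, h5⟩ := hT.uniq _ _ _ _ _ _ _ _ _ hH hvH
  have i3 : v 3 = a' ∨ v 3 = b' ∨ v 3 = c' := by
    rcases h3 with h | h | h
    · exact Or.inl (L.inj _ (hvD 3) _ ha' h)
    · exact Or.inr (Or.inl (L.inj _ (hvD 3) _ hb' h))
    · exact Or.inr (Or.inr (L.inj _ (hvD 3) _ hcc' h))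
  have i4 : v 4 = a' ∨ v 4 = b' ∨ v 4 = c' := by
    rcases h4 with h | h | h
    · exact Or.inl (L.inj _ (hvD 4) _ ha' h)
    · exact Or.inr (Or.inl (L.inj _ (hvD 4) _ hb' h))
    · exact Or.inr (Or.inr (L.inj _ (hvD 4) _ hcc' h))
  have i5 : v 5 = a' ∨ v 5 = b' ∨ v 5 = c' := by
    rcases h5 with h | h | h
    · exact Or.inl (L.inj _ (hvD 5) _ ha' h)
    · exact Or.inr (Or.inl (L.inj _ (hvD 5) _ hb' h))
    · exact Or.inr (Or.inr (L.inj _ (hvD 5) _ hcc' h))
  have n34 : v 3 ≠ v 4 := fun h => hvH.t'.xy (by rw [h])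
  have n35 : v 3 ≠ v 5 := fun h => hvH.t'.xw (by rw [h])
  have n45 : v 4 ≠ v 5 := fun h => hvH.t'.yw (by rw [h])
  have cab : a' * b' = b' * a' := L.comm _ ha' _ hb' hH.t'.cxy
  have cac : a' * c' = c' * a' := L.comm _ ha' _ hcc' hH.t'.cxw
  have cbc : b' * c' = c' * b' := L.comm _ hb' _ hcc' hH.t'.cyw
  have hfin : v 3 * v 4 * v 5 = a' * b' * c' := by
    rcases i3 with i3 | i3 | i3 <;> rcases i4 with i4 | i4 | i4 <;> rcases i5 with i5 | i5 | i5
    · exact absurd (i3.trans i4.symm) n34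
    · exact absurd (i3.trans i4.symm) n34
    · exact absurd (i3.trans i4.symm) n34
    · exact absurd (i3.trans i5.symm) n35
    · exact absurd (i4.trans i5.symm) n45
    · rw [i3, i4, i5]
    · exact absurd (i3.trans i5.symm) n35
    · rw [i3, i4, i5, mul_assoc, ← cbc, ← mul_assoc]
    · exact absurd (i4.trans i5.symm) n45
    · exact absurd (i4.trans i5.symm) n45
    · exact absurd (i3.trans i5.symm) n35
    · rw [i3, i4, i5, ← cab]
    · exact absurd (i3.trans i4.symm) n34
    · exact absurd (i3.trans i4.symm) n34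
    · exact absurd (i3.trans i4.symm) n34
    · rw [i3, i4, i5, mul_assoc, ← cac, ← mul_assoc, ← cab]
    · exact absurd (i3.trans i5.symm) n35
    · exact absurd (i4.trans i5.symm) n45
    · exact absurd (i4.trans i5.symm) n45
    · rw [i3, i4, i5, ← cac, mul_assoc, ← cbc, ← mul_assoc]
    · exact absurd (i3.trans i5.symm) n35
    · rw [i3, i4, i5, mul_assoc, ← cab, ← mul_assoc, ← cac, mul_assoc, ← cbc, ← mul_assoc]
    · exact absurd (i4.trans i5.symm) n45
    · exact absurd (i3.trans i5.symm) n35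
    · exact absurd (i3.trans i4.symm) n34
    · exact absurd (i3.trans i4.symm) n34
    · exact absurd (i3.trans i4.symm) n34
  rw [← hfin]
  exact hvp

/-! ### The Fischer group -/

section Fi

variable {π : C →* Spor.Fi22} {T : Set Spor.Fi22}

/-- Numbering of the generators. -/
def gn : ℕ → Fi22.Gen
  | 0 => .a
  | 1 => .b
  | 2 => .c
  | 3 => .d
  | 4 => .e
  | 5 => .f
  | 6 => .g
  | 7 => .h
  | _ => .i

theorem gn_label : ∀ i < 8, ∀ j < 8, i ≠ j → coxLabel Fi22.edges (gn i) (gn j) =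
    if IdentWord.adj FiSix.E i j then 3 else 2 := by decide

theorem rel_of_gens {X : Fi22.Gen → C} (hX : FiWords.Gens π X) (hsq : ∀ p, X p * X p = 1) :
    FiSix.Rel (fun i => X (gn i)) where
  sq i _ := hsq _
  adj i hi j hj hij ha := by
    have h := hX.cox (gn i) (gn j)
    rw [gn_label i hi j hj hij, if_pos ha] at h
    exact h
  comm i hi j hj hij ha := by
    have h := hX.cox (gn i) (gn j)
    rw [gn_label i hi j hj hij, if_neg (by rw [ha]; exact Bool.false_ne_true)] at h
    have hp : (X (gn i))⁻¹ = X (gn i) := inv_eq_of_mul_eq_one_left (hsq _)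
    have hq : (X (gn j))⁻¹ = X (gn j) := inv_eq_of_mul_eq_one_left (hsq _)
    have h1 : (X (gn i) * X (gn j))⁻¹ = X (gn i) * X (gn j) :=
      inv_eq_of_mul_eq_one_left (by rw [← pow_two, h])
    rw [mul_inv_rev, hp, hq] at h1
    exact h1.symm

theorem gens_of (L : Lifted π z T D₀) (hns : ∀ c : C, c * c ≠ z) {X : Fi22.Gen → C}
    (hXD : ∀ p, X p ∈ D₀) (hmap : ∀ p, π (X p) = PresentedGroup.of p) : FiWords.Gens π X where
  map := hmap
  spider := FiWords.spider_of L.ext hns hmap
  cox p q := by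
    have hrel : (PresentedGroup.of p * PresentedGroup.of q : Spor.Fi22) ^
        coxLabel Fi22.edges p q = 1 := by
      have h : PresentedGroup.mk (coxRelators Fi22.edges ∪ {r | r ∈ Fi22.extra})
          ((FreeGroup.of p * FreeGroup.of q) ^ coxLabel Fi22.edges p q) = 1 := by
        apply PresentedGroup.one_of_mem
        refine Or.inl ⟨p, ?_, q, ?_, rfl⟩
        · cases p <;> decide
        · cases q <;> decide
      rw [map_pow, map_mul] at h
      exact h
    have hl : coxLabel Fi22.edges p q = 1 ∨ coxLabel Fi22.edges p q = 2 ∨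
        coxLabel Fi22.edges p q = 3 := by
      cases p <;> cases q <;> decide
    have hl1 : coxLabel Fi22.edges p q = 1 → p = q := by
      cases p <;> cases q <;> decide
    have sqT : ∀ p, (PresentedGroup.of p * PresentedGroup.of p : Spor.Fi22) = 1 := by
      intro p
      rw [← hmap p, ← map_mul, L.sq _ (hXD p), map_one]
    rcases hl with hl | hl | hl
    · have := hl1 hl
      subst this
      rw [hl, pow_one]
      exact L.sq _ (hXD p)
    · rw [hl] at hrel ⊢
      have hc : (PresentedGroup.of p * PresentedGroup.of q : Spor.Fi22) =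
          PresentedGroup.of q * PresentedGroup.of p := by
        have hp := inv_eq_of_mul_eq_one_left (sqT p)
        have hq := inv_eq_of_mul_eq_one_left (sqT q)
        have h1 : (PresentedGroup.of p * PresentedGroup.of q : Spor.Fi22)⁻¹ =
            PresentedGroup.of p * PresentedGroup.of q :=
          inv_eq_of_mul_eq_one_left (by rw [← pow_two, hrel])
        rw [mul_inv_rev, hp, hq] at h1
        exact h1.symm
      have h2 := L.comm _ (hXD p) _ (hXD q) (by rw [hmap, hmap]; exact hc)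
      have h3 : Commute (X p) (X q) := h2
      rw [h3.mul_pow, pow_two, pow_two, L.sq _ (hXD p), L.sq _ (hXD q), one_mul]
    · rw [hl] at hrel ⊢
      rcases L.three _ (hXD p) _ (hXD q) with h | h
      · have hc : Commute (PresentedGroup.of p : Spor.Fi22) (PresentedGroup.of q) := by
          show (PresentedGroup.of p : Spor.Fi22) * PresentedGroup.of q =
            PresentedGroup.of q * PresentedGroup.of p
          rw [← hmap p, ← hmap q, ← map_mul, ← map_mul, h]
        have h2 : (PresentedGroup.of p * PresentedGroup.of q : Spor.Fi22) ^ 2 = 1 := by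
          rw [hc.mul_pow, pow_two, pow_two, sqT, sqT, one_mul]
        have h4 : (PresentedGroup.of p * PresentedGroup.of q : Spor.Fi22) = 1 := by
          rw [pow_succ, h2, one_mul] at hrel
          exact hrel
        have h5 : X p = X q := by
          apply L.inj _ (hXD p) _ (hXD q)
          rw [hmap, hmap]
          calc (PresentedGroup.of p : Spor.Fi22) =
              PresentedGroup.of p * (PresentedGroup.of q * PresentedGroup.of q) := by
                rw [sqT, mul_one]
            _ = (PresentedGroup.of p * PresentedGroup.of q) * PresentedGroup.of q := by group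
            _ = PresentedGroup.of q := by rw [h4, one_mul]
        rw [h5, L.sq _ (hXD q), one_pow]
      · exact h

/-- **The hexad sign.** -/
theorem Lifted.hexad_sign (L : Lifted π z T D₀) (hT : TFacts T) (hperf : commutator C = ⊤)
    (hns : ∀ c : C, c * c ≠ z) (hgen : ∀ p, (PresentedGroup.of p : Spor.Fi22) ∈ T)
    {a b c a' b' c' : C} (ha : a ∈ D₀) (hb : b ∈ D₀) (hcc : c ∈ D₀) (ha' : a' ∈ D₀)
    (hb' : b' ∈ D₀) (hcc' : c' ∈ D₀) (hH : Hex T (π a) (π b) (π c) (π a') (π b') (π c')) :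
    a * b * c * (a' * b' * c') = z := by
  choose X hXD hmap using fun p => L.surj _ (hgen p)
  have hX := gens_of L hns hXD hmap
  have hR := rel_of_gens hX fun p => L.sq _ (hXD p)
  have hW := FiWords.W_mul_W L.ext hperf hX
  have hw1 : IdentSpider.P (fun i => X (gn i)) FiSix.w1 = FiWords.W₁ X := by
    rw [FiSix.P_w1]; rfl
  have hw2 : IdentSpider.P (fun i => X (gn i)) FiSix.w2 = FiWords.W₂ X := by
    rw [FiSix.P_w2]; rfl
  have hcen : ∀ ω : List ℕ, IdentSpider.P (fun i => X (gn i)) FiSix.w1 *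
      IdentSpider.P (fun i => X (gn i)) ω = IdentSpider.P (fun i => X (gn i)) ω *
      IdentSpider.P (fun i => X (gn i)) FiSix.w1 := by
    intro ω
    rw [hw1]
    rcases (L.ext.ker _).1 (FiWords.map_W₁ hX) with h | h
    · rw [h, one_mul, mul_one]
    · rw [h]; exact (L.ext.comm _).symm
  apply L.sign_all hT (FiSix.six (fun i => X (gn i)))
    (hR.six_mem (fun i _ => hXD _) L.conj) (hR.comm_six hcen) _ ha hb hcc ha' hb' hcc' hH
  have h := hR.prod_six
  rw [hw1, hw2, hW] at h
  exact h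

end Fi

end Cfsg.Agent.R01.FiHexad
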