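import Cfsg.Agent.R01.Label

/-!
Counting the transvections: 693 of them, 180 commuting with a given one, 512 not commuting.
-/

set_option autoImplicit false
set_option linter.unusedSectionVars false

namespace Cfsg.Agent.R01.Count

open Cfsg Cfsg.Agent.LieClassical.HermBasic Cfsg.Agent.ClassicalGeometry.UnitTransv
open Cfsg.Agent.SporadicStructure.UnitTwo
open Cfsg.Agent.R01.Lifts Cfsg.Agent.R01.PSUSix Cfsg.Agent.R01.Label

variable {C : Type*} [Group C] {F : Type*} [Field F] [Fintype F]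
variable {hF : Fintype.card F = 2 ^ 2} {π : C →* PSU 6 F 2} {z ε : C} {lift : (Fin 6 → F) → C}

theorem ncard_image (L : Lab hF π z ε lift) (S : Set (Fin 6 → F))
    (hS : ∀ v ∈ S, v ≠ 0 ∧ hermForm 6 F 2 v v = 0) (hSc : ∀ v ∈ S, ∀ c : F, c ≠ 0 → c • v ∈ S) :
    S.ncard = 3 * (lift '' S).ncard := by
  classical
  have hfin : S.Finite := Set.toFinite _
  set S' := hfin.toFinset with hS'
  have e1 : S.ncard = S'.card := Set.ncard_eq_toFinset_card S hfin
  have e2 : (lift '' S).ncard = (S'.image lift).card := by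
    rw [← Set.ncard_coe_finset, Finset.coe_image, hS', hfin.coe_toFinset]
  rw [e1, e2, mul_comm, Finset.card_eq_sum_card_fiberwise (f := lift) (t := S'.image lift)
    (fun x hx => Finset.mem_coe.2 (Finset.mem_image_of_mem _ hx)), ← smul_eq_mul,
    ← Finset.sum_const]
  apply Finset.sum_congr rfl
  intro y hy
  obtain ⟨v, hv, rfl⟩ := Finset.mem_image.1 hy
  have hvS : v ∈ S := by rwa [hS', hfin.mem_toFinset] at hv
  obtain ⟨hv0, hvv⟩ := hS v hvS
  -- the fibre is the set of multiples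
  have hfib : S'.filter (fun a => lift a = lift v) =
      (Finset.univ.filter (fun c : F => c ≠ 0)).image (fun c => c • v) := by
    ext w
    simp only [Finset.mem_filter, Finset.mem_image, Finset.mem_univ, true_and, hS',
      hfin.mem_toFinset]
    constructor
    · rintro ⟨hw, h⟩
      obtain ⟨hw0, hww⟩ := hS w hw
      obtain ⟨c, hc, h⟩ := (L.lift_eq_iff hvv hww hv0 hw0).1 h.symm
      exact ⟨c, hc, h.symm⟩
    · rintro ⟨c, hc, rfl⟩
      exact ⟨hSc v hvS c hc, L.smul v c hvv hc⟩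
  rw [hfib, Finset.card_image_of_injective _ (smul_left_injective F hv0), Finset.filter_ne',
    Finset.card_erase_of_mem (Finset.mem_univ _), Finset.card_univ, hF]
  norm_num

/-- The vector count. -/
theorem ncard_iso (hF : Fintype.card F = 2 ^ 2) :
    {v : Fin 6 → F | v ≠ 0 ∧ hermForm 6 F 2 v v = 0}.ncard = 2079 := by
  have h1 := Cfsg.Agent.LieClassical.HermCount.card_isotropic hF 6
  have h2 : {v : Fin 6 → F | v ≠ 0 ∧ hermForm 6 F 2 v v = 0} =
      {v : Fin 6 → F | hermForm 6 F 2 v v = 0} \ {0} := by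
    ext v
    simp only [Set.mem_ofPred_eq, Set.mem_sdiff, Set.mem_singleton_iff]
    exact and_comm
  rw [h2, Set.ncard_sdiff_singleton_of_mem (show (0 : Fin 6 → F) ∈ _ from herm_zero_left 0)]
  change Nat.card ↥{v : Fin 6 → F | hermForm 6 F 2 v v = 0} - 1 = _
  have h3 : Nat.card ↥{v : Fin 6 → F | hermForm 6 F 2 v v = 0} = 2080 := by
    rw [show (2080 : ℕ) = (if Even 6 then (2 ^ 6 - 1) * (2 ^ (6 - 1) + 1)
        else (2 ^ 6 + 1) * (2 ^ (6 - 1) - 1)) + 1 by decide]
    exact h1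
  rw [h3]

theorem Dset_eq (lift : (Fin 6 → F) → C) :
    Dset lift = lift '' {v : Fin 6 → F | v ≠ 0 ∧ hermForm 6 F 2 v v = 0} := by
  ext x
  constructor
  · rintro ⟨v, h0, hv, rfl⟩; exact ⟨v, ⟨h0, hv⟩, rfl⟩
  · rintro ⟨v, ⟨h0, hv⟩, rfl⟩; exact ⟨v, h0, hv, rfl⟩

/-- There are 693 labelled elements. -/
theorem ncard_D (L : Lab hF π z ε lift) : (Dset lift).ncard = 693 := by
  have h := ncard_image L {v : Fin 6 → F | v ≠ 0 ∧ hermForm 6 F 2 v v = 0} (fun v hv => hv)
    (fun v hv c hc => ⟨fun h => hv.1 (by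
      rcases smul_eq_zero.1 h with h | h
      · exact absurd h hc
      · exact h), herm_smul_self hF hv.2 c⟩)
  rw [ncard_iso hF, ← Dset_eq] at h
  omega

theorem perp_aux (hF : Fintype.card F = 2 ^ 2) {m : ℕ} {v : Fin (m + 2) → F}
    (hv1 : hermForm (m + 2) F 2 v v = 0) (hv2 : hermForm (m + 2) F 2 (u0 F m) v = 0) :
    v (Fin.natAdd m 0) = v (Fin.natAdd m 1) ∧
      hermForm m F 2 (fun i => v (Fin.castAdd 2 i)) (fun i => v (Fin.castAdd 2 i)) = 0 := by
  have h2 := two_eq_zero hF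
  rw [eq_append v, herm_append, herm_def (n := 2)] at hv1
  rw [u0, eq_append v, herm_append, herm_zero_left, herm_def] at hv2
  simp only [Fin.sum_univ_two, Matrix.cons_val_zero, Matrix.cons_val_one, one_mul,
    zero_add] at hv1 hv2
  have e : v (Fin.natAdd m 0) = v (Fin.natAdd m 1) := by
    have h3 : (v (Fin.natAdd m 0) - v (Fin.natAdd m 1)) ^ 2 = 0 := by
      linear_combination hv2 - v (Fin.natAdd m 0) * v (Fin.natAdd m 1) * h2
    exact sub_eq_zero.1 (pow_eq_zero_iff two_ne_zero |>.1 h3)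
  refine ⟨e, ?_⟩
  rw [e] at hv1
  linear_combination hv1 - v (Fin.natAdd m 1) ^ 3 * h2

/-- Coordinates on the isotropic vectors orthogonal to `u0`. -/
noncomputable def perpEquiv (hF : Fintype.card F = 2 ^ 2) (m : ℕ) :
    {v : Fin (m + 2) → F // hermForm (m + 2) F 2 v v = 0 ∧
      hermForm (m + 2) F 2 (u0 F m) v = 0} ≃ {x : Fin m → F // hermForm m F 2 x x = 0} × F where
  toFun v := ⟨⟨fun i => v.1 (Fin.castAdd 2 i), (perp_aux hF v.2.1 v.2.2).2⟩,
    v.1 (Fin.natAdd m 0)⟩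
  invFun p := ⟨Fin.append p.1.1 ![p.2, p.2], by
    have h2 := two_eq_zero hF
    refine ⟨?_, ?_⟩
    · rw [herm_append, p.1.2, herm_def]
      simp only [Fin.sum_univ_two, Matrix.cons_val_zero, Matrix.cons_val_one, zero_add]
      linear_combination p.2 * p.2 ^ 2 * h2
    · rw [u0, herm_append, herm_zero_left, herm_def]
      simp only [Fin.sum_univ_two, Matrix.cons_val_zero, Matrix.cons_val_one, one_mul,
        zero_add]
      linear_combination p.2 ^ 2 * h2⟩
  left_inv v := by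
    apply Subtype.ext
    have e := (perp_aux hF v.2.1 v.2.2).1
    show Fin.append (fun i => v.1 (Fin.castAdd 2 i)) ![v.1 (Fin.natAdd m 0),
      v.1 (Fin.natAdd m 0)] = v.1
    conv_rhs => rw [eq_append v.1]
    congr 1
    funext j
    fin_cases j
    · rfl
    · exact e
  right_inv p := by
    obtain ⟨⟨x, hx⟩, t⟩ := p
    apply Prod.ext
    · apply Subtype.ext
      funext i
      show (Fin.append x ![t, t] : Fin (m + 2) → F) (Fin.castAdd 2 i) = x i
      rw [Fin.append_left]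
    · show (Fin.append x ![t, t] : Fin (m + 2) → F) (Fin.natAdd m 0) = t
      rw [Fin.append_right]
      rfl

theorem ncard_perp (hF : Fintype.card F = 2 ^ 2) :
    {v : Fin 6 → F | (v ≠ 0 ∧ hermForm 6 F 2 v v = 0) ∧ hermForm 6 F 2 (u0 F 4) v = 0}.ncard
      = 543 := by
  have h4 := Cfsg.Agent.LieClassical.HermCount.card_isotropic hF 4
  have e1 : {v : Fin 6 → F | (v ≠ 0 ∧ hermForm 6 F 2 v v = 0) ∧ hermForm 6 F 2 (u0 F 4) v = 0} =
      {v : Fin 6 → F | hermForm 6 F 2 v v = 0 ∧ hermForm 6 F 2 (u0 F 4) v = 0} \ {0} := by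
    ext v
    simp only [Set.mem_ofPred_eq, Set.mem_sdiff, Set.mem_singleton_iff]
    tauto
  have e3 : (0 : Fin 6 → F) ∈
      {v : Fin 6 → F | hermForm 6 F 2 v v = 0 ∧ hermForm 6 F 2 (u0 F 4) v = 0} :=
    And.intro (herm_zero_left 0) (herm_zero_right hF _)
  rw [e1, Set.ncard_sdiff_singleton_of_mem e3]
  change Nat.card ↥{v : Fin 6 → F | hermForm 6 F 2 v v = 0 ∧ hermForm 6 F 2 (u0 F 4) v = 0} - 1 = _
  have e2 : Nat.card ↥{v : Fin 6 → F | hermForm 6 F 2 v v = 0 ∧ hermForm 6 F 2 (u0 F 4) v = 0} =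
      Nat.card ({x : Fin 4 → F // hermForm 4 F 2 x x = 0} × F) := Nat.card_congr (perpEquiv hF 4)
  rw [e2, Nat.card_prod, h4, Nat.card_eq_fintype_card (α := F), hF]
  decide

/-- 180 elements commute with a given one. -/
theorem ncard_commuting (L : Lab hF π z ε lift) {a : C} (ha : a ∈ Dset lift) :
    {x | x ∈ Dset lift ∧ Commute a x ∧ x ≠ a}.ncard = 180 := by
  have huu := herm_u0 (F := F) hF (m := 4)
  have hu0 := u0_ne_zero (F := F) hF (m := 4)
  -- the case of `u0`
  have key : {x | x ∈ Dset lift ∧ Commute (lift (u0 F 4)) x}.ncard = 181 := by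
    have h := ncard_image L {v : Fin 6 → F | (v ≠ 0 ∧ hermForm 6 F 2 v v = 0) ∧
      hermForm 6 F 2 (u0 F 4) v = 0} (fun v hv => hv.1)
      (fun v hv c hc => ⟨⟨fun h => hv.1.1 (by
        rcases smul_eq_zero.1 h with h | h
        · exact absurd h hc
        · exact h), herm_smul_self hF hv.1.2 c⟩, by
          rw [herm_smul_right, hv.2, mul_zero]⟩)
    rw [ncard_perp hF] at h
    have h5 : {x | x ∈ Dset lift ∧ Commute (lift (u0 F 4)) x} =
        lift '' {v : Fin 6 → F | (v ≠ 0 ∧ hermForm 6 F 2 v v = 0) ∧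
          hermForm 6 F 2 (u0 F 4) v = 0} := by
      ext x
      constructor
      · rintro ⟨⟨v, h0, hv, rfl⟩, hc⟩
        exact ⟨v, ⟨⟨h0, hv⟩, (L.commute_iff huu hv hu0 h0).1 hc⟩, rfl⟩
      · rintro ⟨v, ⟨⟨h0, hv⟩, hc⟩, rfl⟩
        exact ⟨⟨v, h0, hv, rfl⟩, (L.commute_iff huu hv hu0 h0).2 hc⟩
    rw [h5]
    omega
  obtain ⟨v, h0, hv, rfl⟩ := ha
  obtain ⟨c, hc⟩ := L.trans huu hv hu0 h0
  have h6 : {x | x ∈ Dset lift ∧ Commute (lift v) x} =
      (fun x => c * x * c⁻¹) '' {x | x ∈ Dset lift ∧ Commute (lift (u0 F 4)) x} := by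
    ext x
    constructor
    · rintro ⟨hx, hcx⟩
      refine ⟨c⁻¹ * x * c, ⟨?_, ?_⟩, by group⟩
      · have := L.conj_mem hx c⁻¹
        rwa [inv_inv] at this
      · rw [← hc] at hcx
        have h7 : x = c * (c⁻¹ * x * c) * c⁻¹ := by group
        rw [h7] at hcx
        exact (Commute.conj_iff c).1 hcx
    · rintro ⟨x, ⟨hx, hcx⟩, rfl⟩
      refine ⟨L.conj_mem hx c, ?_⟩
      rw [← hc]
      exact (Commute.conj_iff c).2 hcx
  have hfin : (Dset lift).Finite := by
    rw [Dset_eq]; exact (Set.toFinite _).image _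
  have h7 : {x | x ∈ Dset lift ∧ Commute (lift v) x}.ncard = 181 := by
    rw [h6, Set.ncard_image_of_injective _ (fun x y hxy => by
      simpa using hxy), key]
  have h8 : {x | x ∈ Dset lift ∧ Commute (lift v) x ∧ x ≠ lift v} =
      {x | x ∈ Dset lift ∧ Commute (lift v) x} \ {lift v} := by
    ext x
    simp only [Set.mem_ofPred_eq, Set.mem_sdiff, Set.mem_singleton_iff]
    tauto
  rw [h8, Set.ncard_sdiff_singleton_of_mem
    (show lift v ∈ {x | x ∈ Dset lift ∧ Commute (lift v) x} from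
      And.intro (Lab.mem_D h0 hv) (Commute.refl _)), h7]

/-- 512 elements do not commute with a given one. -/
theorem ncard_noncommuting (L : Lab hF π z ε lift) {a : C} (ha : a ∈ Dset lift) :
    {x | x ∈ Dset lift ∧ ¬ Commute a x}.ncard = 512 := by
  have hfin : (Dset lift).Finite := by
    rw [Dset_eq]; exact (Set.toFinite _).image _
  have h1 := ncard_commuting L ha
  have h2 := ncard_D L
  have h3 : Dset lift = insert a ({x | x ∈ Dset lift ∧ Commute a x ∧ x ≠ a} ∪
      {x | x ∈ Dset lift ∧ ¬ Commute a x}) := by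
    ext x
    simp only [Set.mem_insert_iff, Set.mem_union, Set.mem_ofPred_eq]
    constructor
    · intro hx
      by_cases h : x = a
      · exact Or.inl h
      · right
        by_cases h' : Commute a x
        · exact Or.inl ⟨hx, h', h⟩
        · exact Or.inr ⟨hx, h'⟩
    · rintro (rfl | ⟨hx, -, -⟩ | ⟨hx, -⟩)
      · exact ha
      · exact hx
      · exact hx
  have f1 : {x | x ∈ Dset lift ∧ Commute a x ∧ x ≠ a}.Finite := hfin.subset fun x hx => hx.1
  have f2 : {x | x ∈ Dset lift ∧ ¬ Commute a x}.Finite := hfin.subset fun x hx => hx.1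
  have h4 : (Dset lift).ncard = ({x | x ∈ Dset lift ∧ Commute a x ∧ x ≠ a} ∪
      {x | x ∈ Dset lift ∧ ¬ Commute a x}).ncard + 1 := by
    conv_lhs => rw [h3]
    rw [Set.ncard_insert_of_notMem _ (f1.union f2)]
    rintro (⟨-, -, h⟩ | ⟨-, h⟩)
    · exact h rfl
    · exact h (Commute.refl a)
  rw [Set.ncard_union_eq (by
    rw [Set.disjoint_left]
    rintro x ⟨-, h5, -⟩ ⟨-, h6⟩
    exact h6 h5) f1 f2, h1, h2] at h4
  omega

end Cfsg.Agent.R01.Count
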