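import Cfsg.Agent.R01.Oval
import Cfsg.Agent.R01.AllOfLab

/-!
The gluing step in abstract form: an isomorphism of the centralisers of `z` and `z'` extends to compatible
isomorphisms of the centralisers of `a` and `a'` for every `a` in the class of lifts.
-/

set_option autoImplicit false
set_option linter.unusedSectionVars false

namespace Cfsg.Agent.R01.GlueAbs

open Cfsg Cfsg.Agent.LieClassical.HermBasic Cfsg.Agent.R01.Lifts Cfsg.Agent.R01.Start
open Cfsg.Agent.R01.InvForm Cfsg.Agent.R01.HermRigid Cfsg.Agent.R01.HermPlane Cfsg.Agent.R01.Glue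
open Cfsg.Agent.R01.GlueFull Cfsg.Agent.R01.LabelsOf Cfsg.Agent.R01.FiHexad Cfsg.Agent.R01.FiFacts

universe u u' v w

/-- Transport of the set of lifts along an isomorphism. -/
theorem lifted_transport {C C' Φ : Type*} [Group C] [Group C'] [Group Φ] {π : C →* Φ} {z : C}
    {T : Set Φ} {D₀ : Set C} (L : Lifted π z T D₀) (e : C ≃* C') {z' : C'} (hz : e z = z') :
    Lifted (π.comp e.symm.toMonoidHom) z' T {y | e.symm y ∈ D₀} := by
  have hs : e.symm z' = z := by rw [← hz, e.symm_apply_apply]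
  refine ⟨⟨?_, ?_, ?_, ?_, ?_⟩, ?_, ?_, ?_, ?_, ?_, ?_, ?_, ?_⟩
  · exact L.ext.surj.comp e.symm.surjective
  · apply e.symm.injective
    rw [map_mul, hs, map_one]
    exact L.ext.zz
  · intro h
    apply L.ext.zne
    rw [← hs, h, map_one]
  · intro c
    show π (e.symm c) = 1 ↔ _
    rw [L.ext.ker]
    constructor
    · rintro (h | h)
      · left; apply e.symm.injective; rw [h, map_one]
      · right; apply e.symm.injective; rw [h, hs]
    · rintro (rfl | rfl)
      · left; exact map_one _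
      · right; exact hs
  · intro c
    apply e.symm.injective
    rw [map_mul, map_mul, hs]
    exact L.ext.comm _
  · intro x hx
    apply e.symm.injective
    rw [map_mul, map_one]
    exact L.sq _ hx
  · intro c x hx
    show e.symm (c * x * c⁻¹) ∈ D₀
    rw [map_mul, map_mul, map_inv]
    exact L.conj _ _ hx
  · intro x hx
    exact L.map _ hx
  · intro x hx y hy h
    exact e.symm.injective (L.inj _ hx _ hy h)
  · intro t ht
    obtain ⟨x, hx, rfl⟩ := L.surj t ht
    refine ⟨e x, ?_, ?_⟩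
    · show e.symm (e x) ∈ D₀
      rw [e.symm_apply_apply]; exact hx
    · show π (e.symm (e x)) = π x
      rw [e.symm_apply_apply]
  · intro x hx h
    have h' : e.symm (x * z') ∈ D₀ := h
    rw [map_mul, hs] at h'
    exact L.nz _ hx h'
  · intro x hx y hy h
    apply e.symm.injective
    rw [map_mul, map_mul]
    exact L.comm _ hx _ hy h
  · intro x hx y hy
    rcases L.three _ hx _ hy with h | h
    · left
      apply e.symm.injective
      rw [map_mul, map_mul]; exact h
    · right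
      apply e.symm.injective
      rw [map_pow, map_mul, map_one]; exact h

/-- A commuting pair of the class is swapped. -/
theorem exists_swap {G : Type u} [Group G] {z : G} {D₀ : Set (Subgroup.centralizer ({z} : Set G))}
    (hz0 : zel z ∉ D₀)
    (hcl : ∀ x ∈ D₀, ∀ y ∈ D₀, ∃ c : Subgroup.centralizer ({z} : Set G), c * x * c⁻¹ = y)
    (hmem : ∀ x : Subgroup.centralizer ({z} : Set G),
      (x : G) ∈ conjugatesOf z ↔ x = zel z ∨ x ∈ D₀)
    {a : Subgroup.centralizer ({z} : Set G)} (ha : a ∈ D₀) :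
    ∃ n : G, n * z * n⁻¹ = a ∧ n * a * n⁻¹ = z := by
  obtain ⟨g, hg⟩ := isConj_iff.1 (show IsConj z (a : G) from (hmem a).2 (Or.inr ha))
  have haz : (a : G) * z = z * a := Subgroup.mem_centralizer_singleton_iff.1 a.2
  have hb : g⁻¹ * z * g ∈ Subgroup.centralizer ({z} : Set G) := by
    rw [Subgroup.mem_centralizer_singleton_iff]
    rw [← hg] at haz
    calc g⁻¹ * z * g * z = g⁻¹ * (z * (g * z * g⁻¹)) * g := by group
      _ = g⁻¹ * ((g * z * g⁻¹) * z) * g := by rw [haz]
      _ = z * (g⁻¹ * z * g) := by group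
  have hbD : (⟨g⁻¹ * z * g, hb⟩ : Subgroup.centralizer ({z} : Set G)) ∈ D₀ := by
    rcases (hmem ⟨g⁻¹ * z * g, hb⟩).1 (isConj_iff.2 ⟨g⁻¹, by group⟩) with h | h
    · exfalso
      apply hz0
      have h1 : g⁻¹ * z * g = z := congrArg Subtype.val h
      have h2 : (a : G) = z := by
        rw [← hg]
        calc g * z * g⁻¹ = g * (g⁻¹ * z * g) * g⁻¹ := by rw [h1]
          _ = z := by group
      have h3 : a = zel z := Subtype.ext h2
      rw [← h3]; exact ha
    · exact h
  obtain ⟨c, hc⟩ := hcl a ha _ hbD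
  have hc' : (c : G) * a * (c : G)⁻¹ = g⁻¹ * z * g := congrArg Subtype.val hc
  have hcz : (c : G) * z * (c : G)⁻¹ = z := by
    rw [Subgroup.mem_centralizer_singleton_iff.1 c.2]; group
  refine ⟨g * c, ?_, ?_⟩
  · calc g * (c : G) * z * (g * (c : G))⁻¹ = g * ((c : G) * z * (c : G)⁻¹) * g⁻¹ := by group
      _ = a := by rw [hcz, hg]
  · calc g * (c : G) * a * (g * (c : G))⁻¹ = g * ((c : G) * a * (c : G)⁻¹) * g⁻¹ := by group
      _ = z := by rw [hc']; group

/-- Labels are transported by conjugation. -/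
theorem labels_conj {M : Type*} [Group M] {S : Set M} {n : ℕ} {F : Type*} [Field F]
    {lab : (Fin n → F) → M} (hL : Labels S n F lab) (g : M) :
    Labels {y | g * y * g⁻¹ ∈ S} n F (fun v => g⁻¹ * lab v * g) where
  mem v hv h0 := by
    show g * (g⁻¹ * lab v * g) * g⁻¹ ∈ S
    have : g * (g⁻¹ * lab v * g) * g⁻¹ = lab v := by group
    rw [this]; exact hL.mem v hv h0
  surj s hs := by
    obtain ⟨v, hv, h0, hsv⟩ := hL.surj _ hs
    refine ⟨v, hv, h0, ?_⟩
    rw [← hsv]; group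
  smul v hv h0 c hc := by
    show g⁻¹ * lab (c • v) * g = g⁻¹ * lab v * g
    rw [hL.smul v hv h0 c hc]
  inj v w hv hw h0 h1 h := by
    apply hL.inj v w hv hw h0 h1
    exact mul_left_cancel (mul_right_cancel h)
  comm v w hv hw h0 h1 := by
    rw [← hL.comm v w hv hw h0 h1]
    constructor
    · intro h
      have := h.map (MulAut.conj g)
      rw [MulAut.conj_apply, MulAut.conj_apply] at this
      have e1 : ∀ v, g * (g⁻¹ * lab v * g) * g⁻¹ = lab v := fun v => by group
      rwa [e1, e1] at this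
    · intro h
      have := h.map (MulAut.conj g⁻¹)
      rwa [MulAut.conj_apply, MulAut.conj_apply, inv_inv] at this
  sq v hv h0 := by
    show g⁻¹ * lab v * g * (g⁻¹ * lab v * g) = 1
    have h1 := hL.sq v hv h0
    calc g⁻¹ * lab v * g * (g⁻¹ * lab v * g) = g⁻¹ * (lab v * lab v) * g := by group
      _ = 1 := by rw [h1]; group
  conj v w hv hw h0 h1 := by
    show g⁻¹ * lab v * g * (g⁻¹ * lab w * g) * (g⁻¹ * lab v * g) =
      g⁻¹ * lab (w + hermForm n F 2 w v • v) * g
    rw [← hL.conj v w hv hw h0 h1]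
    group

/-- An isomorphism of centralisers as a `CIso`. -/
theorem cIso_of_mulEquiv {G H : Type*} [Group G] [Group H] {z : G} {z' : H}
    (e : Subgroup.centralizer ({z} : Set G) ≃* Subgroup.centralizer ({z'} : Set H)) :
    ∃ α : G → H, CIso z z' α ∧
      ∀ x : Subgroup.centralizer ({z} : Set G), α (x : G) = (e x : H) := by
  classical
  refine ⟨fun x => if h : x ∈ Subgroup.centralizer ({z} : Set G) then (e ⟨x, h⟩ : H) else 1,
    ⟨?_, ?_, ?_, ?_⟩, ?_⟩
  · intro x hx
    have hxc : x ∈ Subgroup.centralizer ({z} : Set G) := Subgroup.mem_centralizer_singleton_iff.2 hx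
    change Commute (dite _ _ _) z'
    rw [dif_pos hxc]
    exact Subgroup.mem_centralizer_singleton_iff.1 (e ⟨x, hxc⟩).2
  · intro x y hx hy
    have hxc : x ∈ Subgroup.centralizer ({z} : Set G) := Subgroup.mem_centralizer_singleton_iff.2 hx
    have hyc : y ∈ Subgroup.centralizer ({z} : Set G) := Subgroup.mem_centralizer_singleton_iff.2 hy
    change (dite _ _ _ : H) = (dite _ _ _ : H) * (dite _ _ _ : H)
    rw [dif_pos hxc, dif_pos hyc, dif_pos (mul_mem hxc hyc), ← Subgroup.coe_mul, ← map_mul]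
    rfl
  · intro x y hx hy hxy
    have hxc : x ∈ Subgroup.centralizer ({z} : Set G) := Subgroup.mem_centralizer_singleton_iff.2 hx
    have hyc : y ∈ Subgroup.centralizer ({z} : Set G) := Subgroup.mem_centralizer_singleton_iff.2 hy
    change (dite _ _ _ : H) = (dite _ _ _ : H) at hxy
    rw [dif_pos hxc, dif_pos hyc] at hxy
    have := e.injective (Subtype.ext hxy)
    exact congrArg (fun t : Subgroup.centralizer ({z} : Set G) => (t : G)) this
  · intro y hy
    have hyc : y ∈ Subgroup.centralizer ({z'} : Set H) :=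
      Subgroup.mem_centralizer_singleton_iff.2 hy
    obtain ⟨x, hx⟩ := e.surjective ⟨y, hyc⟩
    refine ⟨x, Subgroup.mem_centralizer_singleton_iff.1 x.2, ?_⟩
    rw [dif_pos x.2]
    rw [Subtype.coe_eta, hx]
  · intro x
    change (dite _ _ _ : H) = _
    rw [dif_pos x.2]

/-- Three independent orthogonal isotropic vectors. -/
theorem exists_fr3 {F : Type*} [Field F] [Fintype F] (hF : Fintype.card F = 2 ^ 2) :
    ∃ u v w : Fin 6 → F, Fr3 u v w := by
  have h2 := AllOfLab.two_eq_zero' hF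
  refine ⟨![1, 1, 0, 0, 0, 0], ![0, 0, 1, 1, 0, 0], ![0, 0, 0, 0, 1, 1],
    ⟨?_, ?_, ?_, ?_, ?_, ?_, ?_⟩⟩
  · rw [AllOfLab.herm6]; linear_combination h2
  · rw [AllOfLab.herm6]; linear_combination h2
  · rw [AllOfLab.herm6]; linear_combination h2
  · rw [AllOfLab.herm6]; ring
  · rw [AllOfLab.herm6]; ring
  · rw [AllOfLab.herm6]; ring
  · intro a b c h
    have e0 := congrFun h 0
    have e2 := congrFun h 2
    have e4 := congrFun h 4
    simp at e0 e2 e4
    exact ⟨e0, e2, e4⟩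

section

variable {G : Type u} {H : Type u'} [Group G] [Group H] {P : Type w} [Group P]
  {F : Type v} [Field F] [Fintype F] {hF : Fintype.card F = 2 ^ 2} {T : Set P}

/-- The local chart from the set of lifts. -/
theorem ch_of_lifted {z : G} {π : Subgroup.centralizer ({z} : Set G) →* P}
    {D₀ : Set (Subgroup.centralizer ({z} : Set G))} (L : Lifted π (zel z) T D₀)
    (hmem : ∀ x : Subgroup.centralizer ({z} : Set G),
      (x : G) ∈ conjugatesOf z ↔ x = zel z ∨ x ∈ D₀) : Ch T (conjugatesOf z) z π D₀ :=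
  ⟨L.ext, ⟨fun x hx => L.map x hx, fun x hx y hy h => L.inj x hx y hy h, fun t ht => L.surj t ht⟩,
    L.sq, L.comm, hmem⟩

theorem conj_mem {z : G} : ∀ g : G, ∀ x ∈ conjugatesOf z, g * x * g⁻¹ ∈ conjugatesOf z := by
  intro g x hx
  exact IsConj.trans hx (isConj_iff.2 ⟨g, rfl⟩)

/-- Labels at every commuting pair. -/
theorem exists_labels_pair {z : G} {π : Subgroup.centralizer ({z} : Set G) →* P}
    {D₀ : Set (Subgroup.centralizer ({z} : Set G))} (L : Lifted π (zel z) T D₀) (hT1 : (1 : P) ∉ T)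
    (hloc : Loc.Loc hF T)
    (hmem : ∀ x : Subgroup.centralizer ({z} : Set G),
      (x : G) ∈ conjugatesOf z ↔ x = zel z ∨ x ∈ D₀)
    {a i : G} (ha : a ∈ conjugatesOf z) (hi : i ∈ conjugatesOf z) (hne : i ≠ a)
    (hc : Commute i a) :
    ∃ lab : (Fin 6 → F) → G, Labels (Sset (conjugatesOf z) a i) 6 F lab := by
  obtain ⟨g, hg⟩ := isConj_iff.1 (show IsConj z a from ha)
  have hgi : g⁻¹ * i * g⁻¹⁻¹ ∈ conjugatesOf z := conj_mem _ _ hi
  have e1 : g⁻¹ * a * g⁻¹⁻¹ = z := by rw [← hg]; group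
  have hne' : g⁻¹ * i * g⁻¹⁻¹ ≠ z := by
    intro h
    apply hne
    rw [← e1] at h
    exact mul_left_cancel (mul_right_cancel h)
  have hc' : Commute (g⁻¹ * i * g⁻¹⁻¹) z := by
    have := hc.map (MulAut.conj g⁻¹)
    rwa [MulAut.conj_apply, MulAut.conj_apply, e1] at this
  obtain ⟨lab, hlab⟩ := exists_labels (ch_of_lifted L hmem) hT1 hloc conj_mem hgi hne' hc'
  refine ⟨fun v => g⁻¹⁻¹ * lab v * g⁻¹, ?_⟩
  have h1 := labels_conj hlab.labels g⁻¹
  have h2 : {y | g⁻¹ * y * g⁻¹⁻¹ ∈ Sset (conjugatesOf z) z (g⁻¹ * i * g⁻¹⁻¹)} =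
      Sset (conjugatesOf z) a i := by
    ext y
    have hD : g⁻¹ * y * g⁻¹⁻¹ ∈ conjugatesOf z ↔ y ∈ conjugatesOf z := by
      constructor
      · intro h
        have := conj_mem g _ h
        have h3 : g * (g⁻¹ * y * g⁻¹⁻¹) * g⁻¹ = y := by group
        rwa [h3] at this
      · exact conj_mem _ _
    have hcm : ∀ x, Commute (g⁻¹ * y * g⁻¹⁻¹) (g⁻¹ * x * g⁻¹⁻¹) ↔ Commute y x := by
      intro x
      constructor
      · intro h
        have := h.map (MulAut.conj g)
        rw [MulAut.conj_apply, MulAut.conj_apply] at this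
        have e3 : ∀ x, g * (g⁻¹ * x * g⁻¹⁻¹) * g⁻¹ = x := fun x => by group
        rwa [e3, e3] at this
      · intro h
        have := h.map (MulAut.conj g⁻¹)
        rwa [MulAut.conj_apply, MulAut.conj_apply] at this
    have hnm : ∀ x, g⁻¹ * y * g⁻¹⁻¹ = g⁻¹ * x * g⁻¹⁻¹ ↔ y = x := fun x =>
      ⟨fun h => mul_left_cancel (mul_right_cancel h), fun h => by rw [h]⟩
    show (g⁻¹ * y * g⁻¹⁻¹ ∈ conjugatesOf z ∧ Commute (g⁻¹ * y * g⁻¹⁻¹) z ∧
      Commute (g⁻¹ * y * g⁻¹⁻¹) (g⁻¹ * i * g⁻¹⁻¹) ∧ g⁻¹ * y * g⁻¹⁻¹ ≠ z ∧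
      g⁻¹ * y * g⁻¹⁻¹ ≠ g⁻¹ * i * g⁻¹⁻¹) ↔ _
    rw [hD, hcm i, Ne, Ne, hnm i, ← e1, hcm a, hnm a]
    exact Iff.rfl
  rw [h2] at h1
  exact h1

/-- **Gluing.** -/
theorem exists_beta (hT : TFacts T) (hT1 : (1 : P) ∉ T) (hloc : Loc.Loc hF T)
    {z : G} {π : Subgroup.centralizer ({z} : Set G) →* P}
    {D₀ : Set (Subgroup.centralizer ({z} : Set G))} (L : Lifted π (zel z) T D₀)
    (hsign : ∀ a ∈ D₀, ∀ b ∈ D₀, ∀ c ∈ D₀, ∀ a' ∈ D₀, ∀ b' ∈ D₀, ∀ c' ∈ D₀,
        Hex T (π a) (π b) (π c) (π a') (π b') (π c') → a * b * c * (a' * b' * c') = zel z)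
    (hmem : ∀ x : Subgroup.centralizer ({z} : Set G),
      (x : G) ∈ conjugatesOf z ↔ x = zel z ∨ x ∈ D₀)
    (hcl : ∀ x ∈ D₀, ∀ y ∈ D₀, ∃ c : Subgroup.centralizer ({z} : Set G), c * x * c⁻¹ = y)
    {z' : H} (e : Subgroup.centralizer ({z} : Set G) ≃* Subgroup.centralizer ({z'} : Set H))
    (hez : e (zel z) = zel z')
    (hmem' : ∀ x : Subgroup.centralizer ({z'} : Set H),
      (x : H) ∈ conjugatesOf z' ↔ x = zel z' ∨ e.symm x ∈ D₀)
    {a : Subgroup.centralizer ({z} : Set G)} (ha : a ∈ D₀) :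
    ∃ α β : G → H, CIso z z' α ∧ (∀ x : Subgroup.centralizer ({z} : Set G), α (x : G) = (e x : H)) ∧
      CIso (a : G) (e a : H) β ∧
      (∀ x, Commute x z → (x ∈ conjugatesOf z ↔ α x ∈ conjugatesOf z')) ∧
      (∀ x, Commute x (a : G) → (x ∈ conjugatesOf z ↔ β x ∈ conjugatesOf z')) ∧
      (∀ x, Commute x z → Commute x (a : G) → β x = α x) := by
  classical
  obtain ⟨α, hα, hαe⟩ := cIso_of_mulEquiv e
  have hL' := lifted_transport L e hez
  have hz0 : zel z ∉ D₀ := by
    intro h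
    apply hT1
    rw [← L.ext.mapz]
    exact L.map _ h
  have hz0' : zel z' ∉ {y | e.symm y ∈ D₀} := by
    intro h
    apply hT1
    rw [← hL'.ext.mapz]
    exact hL'.map _ h
  have hcl' : ∀ x ∈ {y | e.symm y ∈ D₀}, ∀ y ∈ {y | e.symm y ∈ D₀},
      ∃ c : Subgroup.centralizer ({z'} : Set H), c * x * c⁻¹ = y := by
    intro x hx y hy
    obtain ⟨c, hc⟩ := hcl _ hx _ hy
    refine ⟨e c, ?_⟩
    apply e.symm.injective
    rw [map_mul, map_mul, map_inv, e.symm_apply_apply, hc]
  have hea : e a ∈ {y | e.symm y ∈ D₀} := by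
    show e.symm (e a) ∈ D₀
    rw [e.symm_apply_apply]; exact ha
  obtain ⟨n, hn1, hn2⟩ := exists_swap hz0 hcl hmem ha
  obtain ⟨n', hn1', hn2'⟩ := exists_swap hz0' hcl' hmem' hea
  -- class preservation
  have hαD : ∀ x, Commute x z → (x ∈ conjugatesOf z ↔ α x ∈ conjugatesOf z') := by
    intro x hx
    have h1 := hmem ⟨x, Subgroup.mem_centralizer_singleton_iff.2 hx⟩
    have h2 := hmem' (e ⟨x, Subgroup.mem_centralizer_singleton_iff.2 hx⟩)
    have h3 := hαe ⟨x, Subgroup.mem_centralizer_singleton_iff.2 hx⟩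
    rw [← h3] at h2
    refine h1.trans (Iff.trans ?_ h2.symm)
    rw [e.symm_apply_apply, ← hez, e.injective.eq_iff]
  have haz : Commute (a : G) z := Subgroup.mem_centralizer_singleton_iff.1 a.2
  have hαz : α z = z' := by
    have := hαe (zel z)
    rw [hez] at this
    exact this
  have hαa : α (a : G) = (e a : H) := hαe a
  have haD : (a : G) ∈ conjugatesOf z := (hmem a).2 (Or.inr ha)
  have hne : (a : G) ≠ z := by
    intro h
    apply hz0
    have : a = zel z := Subtype.ext h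
    rw [← this]; exact ha
  have haD' : (e a : H) ∈ conjugatesOf z' := (hmem' (e a)).2 (Or.inr hea)
  have hne' : (e a : H) ≠ z' := by
    intro h
    apply hz0'
    have : e a = zel z' := Subtype.ext h
    rw [← this]; exact hea
  have haz' : Commute (e a : H) z' := Subgroup.mem_centralizer_singleton_iff.1 (e a).2
  -- labels
  obtain ⟨lab, hlab⟩ := exists_labels (ch_of_lifted L hmem) hT1 hloc conj_mem haD hne haz
  obtain ⟨lab', hlab'⟩ := exists_labels (ch_of_lifted hL' hmem') hT1 hloc conj_mem haD' hne' haz'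
  -- signs in `H`
  have hsign' : ∀ a ∈ {y | e.symm y ∈ D₀}, ∀ b ∈ {y | e.symm y ∈ D₀}, ∀ c ∈ {y | e.symm y ∈ D₀},
      ∀ a' ∈ {y | e.symm y ∈ D₀}, ∀ b' ∈ {y | e.symm y ∈ D₀}, ∀ c' ∈ {y | e.symm y ∈ D₀},
      Hex T ((π.comp e.symm.toMonoidHom) a) ((π.comp e.symm.toMonoidHom) b)
        ((π.comp e.symm.toMonoidHom) c) ((π.comp e.symm.toMonoidHom) a')
        ((π.comp e.symm.toMonoidHom) b') ((π.comp e.symm.toMonoidHom) c') →
      a * b * c * (a' * b' * c') = zel z' := by
    intro a ha b hb c hc a' ha' b' hb' c' hc' hH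
    apply e.symm.injective
    rw [map_mul, map_mul, map_mul, map_mul, map_mul, ← hez, e.symm_apply_apply]
    exact hsign _ ha _ hb _ hc _ ha' _ hb' _ hc' hH
  have h6 := HexNe.hex1 hL' hsign' hmem'
  have h5 := HexNe.five1 hL' hT hmem'
  -- a frame
  obtain ⟨u, v, w, hfr⟩ := exists_fr3 hF
  obtain ⟨f, hf⟩ := exists_frame_of_fr3 hF hfr
  have hzz' : z' * z' = 1 := congrArg Subtype.val hL'.ext.zz
  have haa' : (e a : H) * (e a : H) = 1 := congrArg Subtype.val (hL'.sq _ hea)
  obtain ⟨ho1, ho2⟩ := Oval.oval_inj hF hlab' hf h6 h5 mem_conjugatesOf_self haD' hzz' haa' haz' hne'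
  obtain ⟨n1, g1, g2, g3⟩ := GlueFull.exists_gp hF hα conj_mem conj_mem hαD haz hαz hαa hn1 hn2 hn1'
    hn2' hlab'.labels hfr ho1 ho2 hlab.gen
  refine ⟨α, fun x => n1 * α (n⁻¹ * x * n) * n1⁻¹, hα, hαe, hα.conj hn1 g1, hαD, ?_, ?_⟩
  · intro x hx
    have hx1 : Commute (n⁻¹ * x * n) z := by
      have h1 := hx.map (MulAut.conj n⁻¹)
      rw [MulAut.conj_apply, MulAut.conj_apply, inv_inv, ← hn1] at h1
      have h2 : n⁻¹ * (n * z * n⁻¹) * n = z := by group
      rwa [h2] at h1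
    have h1 : x ∈ conjugatesOf z ↔ n⁻¹ * x * n ∈ conjugatesOf z := by
      constructor
      · intro h
        have := conj_mem n⁻¹ _ h
        rwa [inv_inv] at this
      · intro h
        have := conj_mem n _ h
        have h2 : n * (n⁻¹ * x * n) * n⁻¹ = x := by group
        rwa [h2] at this
    rw [h1, hαD _ hx1]
    constructor
    · intro h
      exact conj_mem _ _ h
    · intro h
      have := conj_mem n1⁻¹ _ h
      have h2 : n1⁻¹ * (n1 * α (n⁻¹ * x * n) * n1⁻¹) * n1⁻¹⁻¹ = α (n⁻¹ * x * n) := by group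
      rwa [h2] at this
  · intro x hxz hxa
    exact Glue.agree (z' := z') (a' := (e a : H)) g3 x hxz hxa

/-- **The new element.** For `a, b, i` in the class of lifts, `i` commuting with `a` and `b`, and a transposition
`j'` commuting with the images of `a, b, i` there is a `j` in the centraliser of `a` and `b` which behaves to the
elements of `C(z) ∩ C(a)` as `j'` to their images. -/
theorem exists_j (hT : TFacts T) (hT1 : (1 : P) ∉ T) (hloc : Loc.Loc hF T)
    {z : G} {π : Subgroup.centralizer ({z} : Set G) →* P}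
    {D₀ : Set (Subgroup.centralizer ({z} : Set G))} (L : Lifted π (zel z) T D₀)
    (hsign : ∀ a ∈ D₀, ∀ b ∈ D₀, ∀ c ∈ D₀, ∀ a' ∈ D₀, ∀ b' ∈ D₀, ∀ c' ∈ D₀,
        Hex T (π a) (π b) (π c) (π a') (π b') (π c') → a * b * c * (a' * b' * c') = zel z)
    (hmem : ∀ x : Subgroup.centralizer ({z} : Set G),
      (x : G) ∈ conjugatesOf z ↔ x = zel z ∨ x ∈ D₀)
    (hcl : ∀ x ∈ D₀, ∀ y ∈ D₀, ∃ c : Subgroup.centralizer ({z} : Set G), c * x * c⁻¹ = y)
    {z' : H} (e : Subgroup.centralizer ({z} : Set G) ≃* Subgroup.centralizer ({z'} : Set H))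
    (hez : e (zel z) = zel z')
    (hmem' : ∀ x : Subgroup.centralizer ({z'} : Set H),
      (x : H) ∈ conjugatesOf z' ↔ x = zel z' ∨ e.symm x ∈ D₀)
    {a b i : Subgroup.centralizer ({z} : Set G)} (ha : a ∈ D₀) (hi : i ∈ D₀) (hai : a ≠ i)
    (hcai : i * a = a * i) (hcbi : b * i = i * b)
    {j' : H} (hj' : j' ∈ conjugatesOf z') (hja : Commute j' (e a)) (hji : Commute j' (e i))
    (hjb : Commute (e b : H) j') :
    ∃ j : G, j ∈ conjugatesOf z ∧ (∀ x : Subgroup.centralizer ({z} : Set G), x * a = a * x →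
      ∀ n : ℕ, ((x : G) * j) ^ n = 1 ↔ ((e x : H) * j') ^ n = 1) ∧ (b : G) * j = j * b := by
  classical
  obtain ⟨α, β, hα, hαe, hβ, hαD, hβD, hαβ⟩ := exists_beta hT hT1 hloc L hsign hmem hcl e hez hmem' ha
  have hL' := lifted_transport L e hez
  have hz0 : zel z ∉ D₀ := by
    intro h
    apply hT1
    rw [← L.ext.mapz]
    exact L.map _ h
  have hcent : ∀ x : Subgroup.centralizer ({z} : Set G), Commute (x : G) z := fun x =>
    Subgroup.mem_centralizer_singleton_iff.1 x.2
  have hne : ∀ x ∈ D₀, z ≠ (x : G) := by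
    intro x hx h
    apply hz0
    have : zel z = x := Subtype.ext h
    rw [this]; exact hx
  have hαz : α z = z' := by
    have := hαe (zel z)
    rw [hez] at this
    exact this
  have hiD' : (e i : H) ∈ conjugatesOf z' := (hmem' (e i)).2 (Or.inr (by
    rw [e.symm_apply_apply]; exact hi))
  have haD' : (e a : H) ∈ conjugatesOf z' := (hmem' (e a)).2 (Or.inr (by
    rw [e.symm_apply_apply]; exact ha))
  have hia' : (e i : H) ≠ e a := by
    intro h
    exact hai (e.injective (Subtype.ext h)).symm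
  have hcia' : Commute (e i : H) (e a : H) := by
    have : e i * e a = e a * e i := by rw [← map_mul, hcai, map_mul]
    exact congrArg Subtype.val this
  obtain ⟨lab, hlab⟩ := exists_labels_pair (hF := hF) hL' hT1 hloc hmem' haD' hiD' hia' hcia'
  obtain ⟨k, hk⟩ := hcl a ha i hi
  obtain ⟨j, hja1, hjj⟩ := hβ.surj j' hja
  have hjD : j ∈ conjugatesOf z := (hβD j hja1).2 (by rw [hjj]; exact hj')
  refine ⟨j, hjD, ?_, ?_⟩
  · intro x hxa n
    have hxa' : Commute (x : G) (a : G) := congrArg Subtype.val hxa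
    have h1 : β (x : G) = (e x : H) := by rw [hαβ _ (hcent x) hxa', hαe]
    rw [← h1, ← hjj, ← hβ.mul _ _ hxa' hja1, ← hβ.pow _ (hxa'.mul_left hja1) n,
      hβ.eq_one_iff _ ((hxa'.mul_left hja1).pow_left n)]
  · exact (Glue.commute_of_commute hF (D := conjugatesOf z) (D' := conjugatesOf z') hα hβ conj_mem
      conj_mem hαD hβD hαβ mem_conjugatesOf_self (hcent a) hαz (hαe a) (hcent i)
      (congrArg Subtype.val hcai) (hαe i) (hne i hi) (hne a ha) (hcent k)
      (congrArg Subtype.val hk) hlab hj' hja1 hjj hji (hcent b) (congrArg Subtype.val hcbi)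
      (by rw [hαe]; exact hjb)).eq

end

end Cfsg.Agent.R01.GlueAbs
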