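import Cfsg.Agent.R01.HermRigid
import Cfsg.Agent.R01.InvForm

/-!
Full rigidity of `H(5,4)` inside a group: a map respecting commuting and the products over the hyperovals of a
totally isotropic plane is conjugation by a product of labels.
-/

set_option autoImplicit false
set_option linter.unusedSectionVars false

namespace Cfsg.Agent.R01.HermPlane

open Cfsg Cfsg.Agent.LieClassical.HermBasic Cfsg.Agent.ClassicalGeometry.UnitTransv
open Cfsg.Agent.SporadicStructure.UnitTwo
open Cfsg.Agent.R01.HermRigid Cfsg.Agent.R01.InvForm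

variable {F : Type*} [Field F] [Fintype F] (hF : Fintype.card F = 2 ^ 2)
variable {M : Type*} [Group M] {S : Set M} {lab : (Fin 6 → F) → M}

include hF in
/-- Every element of the special unitary group is realised by conjugation. -/
theorem realize (hL : Labels S 6 F lab) (A : SU 6 F 2) :
    ∃ g ∈ Subgroup.closure S, ∀ v : Fin 6 → F, v ≠ 0 → hermForm 6 F 2 v v = 0 →
      g * lab v * g⁻¹ = lab (act A v) := by
  have hA : A ∈ R (n := 6) hF := by rw [R_eq_top hF (by norm_num)]; trivial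
  have hne : ∀ (x : SU 6 F 2) (v : Fin 6 → F), v ≠ 0 → act x v ≠ 0 := by
    intro x v hv h
    exact hv (act_injective x (by rw [h, act_zero]))
  unfold R at hA
  induction hA using Subgroup.closure_induction with
  | mem x hx =>
    obtain ⟨u, hu, hu0, rfl⟩ := hx
    refine ⟨lab u, Subgroup.subset_closure (hL.mem u hu0 hu), fun v hv0 hv => ?_⟩
    have h6 : (lab u)⁻¹ = lab u := inv_eq_of_mul_eq_one_left (hL.sq u hu0 hu)
    rw [h6, hL.conj u v hu0 hv0 hu hv, act_T]
  | one => exact ⟨1, one_mem _, fun v _ _ => by rw [act_one]; group⟩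
  | mul x y _ _ ihx ihy =>
    obtain ⟨g, hg, h1⟩ := ihx
    obtain ⟨g', hg', h2⟩ := ihy
    refine ⟨g * g', mul_mem hg hg', fun v hv0 hv => ?_⟩
    rw [act_mul, ← h1 _ (hne y v hv0) (by rw [herm_act, hv]), ← h2 v hv0 hv]
    group
  | inv x _ ih =>
    obtain ⟨g, hg, h1⟩ := ih
    refine ⟨g⁻¹, inv_mem hg, fun v hv0 hv => ?_⟩
    have h2 := h1 (act x⁻¹ v) (hne _ v hv0) (by rw [herm_act, hv])
    rw [act_act_inv] at h2
    rw [← h2]; group

open Classical in
/-- The six points of a hyperoval. -/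
noncomputable def ovalList (u v w : Fin 6 → F) (t : Fˣ) : List (Fin 6 → F) :=
  u :: v :: w :: (Finset.univ : Finset Fˣ).toList.map
    (fun b : Fˣ => u + (b : F) • v + ((t * b⁻¹ : Fˣ) : F) • w)

/-- Products over the hyperovals are reindexed by bijections. -/
theorem perm_prod {ι : Type*} [Fintype ι] (s : ι → ι) (hs : Function.Injective s) (g : ι → M)
    (hg : ∀ i j, Commute (g i) (g j)) :
    ((Finset.univ : Finset ι).toList.map (fun i => g (s i))).prod =
      ((Finset.univ : Finset ι).toList.map g).prod := by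
  classical
  have hbij := Finite.injective_iff_bijective.1 hs
  have h1 : ((Finset.univ : Finset ι).toList.map s).Perm (Finset.univ : Finset ι).toList := by
    rw [List.perm_ext_iff_of_nodup ((Finset.nodup_toList _).map hs) (Finset.nodup_toList _)]
    intro a
    simp only [List.mem_map, Finset.mem_toList, Finset.mem_univ, true_and, iff_true]
    exact hbij.2 a
  have h2 : ((Finset.univ : Finset ι).toList.map (fun i => g (s i))) =
      ((Finset.univ : Finset ι).toList.map s).map g := by rw [List.map_map]; rfl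
  rw [h2]
  refine (h1.map g).prod_eq' ?_
  rw [List.pairwise_map]
  exact List.pairwise_of_forall fun _ _ => hg _ _

section Plane

variable {e f : Fin 3 → (Fin 6 → F)}

include hF in
theorem smul_single (e f : Fin 3 → (Fin 6 → F)) (i : Fin 3) : comb e f (Pi.single i 1) 0 = e i := by
  rw [comb_zero_right hF, Finset.sum_eq_single i]
  · rw [Pi.single_eq_same, one_smul]
  · intro j _ hj
    rw [Pi.single_eq_of_ne hj, zero_smul]
  · intro hi
    exact absurd (Finset.mem_univ _) hi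

include hF in
theorem comb_vec (e f : Fin 3 → (Fin 6 → F)) (x y w : F) :
    comb e f ![x, y, w] 0 = x • e 0 + y • e 1 + w • e 2 := by
  rw [comb_zero_right hF, Fin.sum_univ_three]
  rfl

variable {τ : (Fin 6 → F) → M}

/-- The hypotheses on a map of the points of `H(5,4)` respecting commuting. -/
structure Auto (S : Set M) (lab τ : (Fin 6 → F) → M) : Prop where
  mem : ∀ v : Fin 6 → F, v ≠ 0 → hermForm 6 F 2 v v = 0 → τ v ∈ S
  surj : ∀ s ∈ S, ∃ v : Fin 6 → F, v ≠ 0 ∧ hermForm 6 F 2 v v = 0 ∧ τ v = s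
  comm : ∀ v w : Fin 6 → F, v ≠ 0 → w ≠ 0 → hermForm 6 F 2 v v = 0 → hermForm 6 F 2 w w = 0 →
      (Commute (τ v) (τ w) ↔ hermForm 6 F 2 v w = 0)
  smul : ∀ v : Fin 6 → F, v ≠ 0 → hermForm 6 F 2 v v = 0 → ∀ c : F, c ≠ 0 → τ (c • v) = τ v

variable (hL : Labels S 6 F lab) (h : Frame e f) (hτ : Auto S lab τ)
  (h3 : ∀ i, τ (e i) = lab (e i))

include hF h

theorem comb_ne (a : Fin 3 → F) (ha : a ≠ 0) : comb e f a 0 ≠ 0 := by
  intro h0
  exact ha (comb_eq_zero hF h h0).1

theorem combF_ne (a : Fin 3 → F) (ha : a ≠ 0) : comb e f 0 a ≠ 0 := by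
  intro h0
  exact ha (comb_eq_zero hF h h0).2

theorem iso_comb (a : Fin 3 → F) : hermForm 6 F 2 (comb e f a 0) (comb e f a 0) = 0 := by
  rw [herm_comb hF h]
  simp

theorem iso_combF (a : Fin 3 → F) : hermForm 6 F 2 (comb e f 0 a) (comb e f 0 a) = 0 := by
  rw [herm_comb hF h]
  simp

theorem e_ne (i : Fin 3) : e i ≠ 0 := by
  rw [← smul_single hF e f i]
  apply comb_ne hF h
  intro h0
  have := congrFun h0 i
  rw [Pi.single_eq_same] at this
  exact one_ne_zero this

include hL hτ h3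

/-- The plane is mapped to itself. -/
theorem image (x : Fin 3 → F) (hx : x ≠ 0) :
    ∃ x' : Fin 3 → F, x' ≠ 0 ∧ τ (comb e f x 0) = lab (comb e f x' 0) := by
  obtain ⟨v', hv'0, hv', hvτ⟩ := hL.surj _ (hτ.mem _ (comb_ne hF h x hx) (iso_comb hF h x))
  obtain ⟨a, b, rfl⟩ := exists_comb hF h v'
  have hb : b = 0 := by
    funext i
    have h1 : hermForm 6 F 2 (comb e f x 0) (e i) = 0 := by rw [herm_comb_e hF h, Pi.zero_apply]
    have h2 := (hτ.comm _ _ (comb_ne hF h x hx) (e_ne hF h i) (iso_comb hF h x) (h.ee i i)).2 h1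
    rw [hvτ, h3, hL.comm _ _ hv'0 (e_ne hF h i) hv' (h.ee i i), herm_comb_e hF h] at h2
    exact h2
  subst hb
  refine ⟨a, ?_, hvτ⟩
  rintro rfl
  apply hv'0
  rw [comb_zero_right hF]
  simp

/-- Lines of the plane are mapped to lines. -/
theorem line_image (δ' : Fin 3 → F) (hδ' : δ' ≠ 0) :
    ∃ δ : Fin 3 → F, ∀ x x' : Fin 3 → F, x ≠ 0 → x' ≠ 0 →
      τ (comb e f x 0) = lab (comb e f x' 0) →
      (∑ i, x' i * δ' i = 0 ↔ ∑ i, x i * δ i = 0) := by
  have hsq : ∀ x : F, (x ^ 2) ^ 2 = x := fun x => by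
    rw [← pow_mul]; exact pow_four hF x
  have hD0 : (fun i => δ' i ^ 2) ≠ (0 : Fin 3 → F) := by
    intro h0
    apply hδ'
    funext i
    exact pow_eq_zero_iff (two_ne_zero) |>.1 (congrFun h0 i)
  set y' := comb e f 0 (fun i => δ' i ^ 2) with hy'
  have hy'0 : y' ≠ 0 := combF_ne hF h _ hD0
  have hy'i : hermForm 6 F 2 y' y' = 0 := iso_combF hF h _
  obtain ⟨y, hy0, hy, hyy⟩ := hτ.surj _ (hL.mem y' hy'0 hy'i)
  refine ⟨fun i => hermForm 6 F 2 (e i) y, fun x x' hx hx' hxx => ?_⟩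
  have h1 := hτ.comm _ _ (comb_ne hF h x hx) hy0 (iso_comb hF h x) hy
  have h2 := hL.comm _ _ (comb_ne hF h x' hx') hy'0 (iso_comb hF h x') hy'i
  rw [hxx, hyy, h2] at h1
  have e1 : hermForm 6 F 2 (comb e f x' 0) y' = ∑ i, x' i * δ' i := by
    rw [hy', herm_comb hF h]
    simp [hsq]
  have e2 : hermForm 6 F 2 (comb e f x 0) y = ∑ i, x i * hermForm 6 F 2 (e i) y := by
    rw [comb_zero_right hF, herm_sum_left]
    exact Finset.sum_congr rfl fun i _ => herm_smul_left _ _ _
  rw [e1, e2] at h1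
  exact h1

/-- Zero coordinates are preserved. -/
theorem zero_iff (x x' : Fin 3 → F) (hx : x ≠ 0) (hx' : x' ≠ 0)
    (hxx : τ (comb e f x 0) = lab (comb e f x' 0)) (i : Fin 3) : x' i = 0 ↔ x i = 0 := by
  have hs0 : ∀ j : Fin 3, (Pi.single j 1 : Fin 3 → F) ≠ 0 := by
    intro j h0
    have := congrFun h0 j
    rw [Pi.single_eq_same] at this
    exact one_ne_zero this
  obtain ⟨δ, hδ⟩ := line_image hF hL h hτ h3 (Pi.single i 1) (hs0 i)
  have hsum : ∀ (y : Fin 3 → F) (j : Fin 3), ∑ k, y k * (Pi.single j 1 : Fin 3 → F) k = y j := by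
    intro y j
    rw [Finset.sum_eq_single j]
    · rw [Pi.single_eq_same, mul_one]
    · intro k _ hk
      rw [Pi.single_eq_of_ne hk, mul_zero]
    · intro hh; exact absurd (Finset.mem_univ _) hh
  have hsum' : ∀ (y : Fin 3 → F) (j : Fin 3), ∑ k, (Pi.single j 1 : Fin 3 → F) k * y k = y j := by
    intro y j
    rw [← hsum y j]
    exact Finset.sum_congr rfl fun k _ => mul_comm _ _
  have hej : ∀ j, (Pi.single j 1 : Fin 3 → F) i = 0 ↔ δ j = 0 := by
    intro j
    have h1 := hδ (Pi.single j 1) (Pi.single j 1) (hs0 j) (hs0 j) (by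
      rw [smul_single hF, h3])
    rwa [hsum, hsum'] at h1
  have h1 := hδ x x' hx hx' hxx
  rw [hsum] at h1
  have h2 : ∑ k, x k * δ k = x i * δ i := by
    rw [Finset.sum_eq_single i]
    · intro k _ hk
      rw [(hej k).1 (Pi.single_eq_of_ne (Ne.symm hk) _), mul_zero]
    · intro hh; exact absurd (Finset.mem_univ _) hh
  have h4 : δ i ≠ 0 := by
    intro h0
    have := (hej i).2 h0
    rw [Pi.single_eq_same] at this
    exact one_ne_zero this
  rw [h2, mul_eq_zero, or_iff_left h4] at h1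
  exact h1

/-- Normalised image. -/
theorem image1 (x : Fin 3 → F) (i : Fin 3) (hxi : x i ≠ 0) :
    ∃ x' : Fin 3 → F, x' i = 1 ∧ τ (comb e f x 0) = lab (comb e f x' 0) ∧
      ∀ k, x' k = 0 ↔ x k = 0 := by
  have hx : x ≠ 0 := by
    rintro rfl
    exact hxi rfl
  obtain ⟨x', hx', hxx⟩ := image hF hL h hτ h3 x hx
  have hz := zero_iff hF hL h hτ h3 x x' hx hx' hxx
  have hx'i : x' i ≠ 0 := fun h0 => hxi ((hz i).1 h0)
  refine ⟨(x' i)⁻¹ • x', ?_, ?_, ?_⟩
  · rw [Pi.smul_apply, smul_eq_mul, inv_mul_cancel₀ hx'i]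
  · have h1 : comb e f ((x' i)⁻¹ • x') 0 = (x' i)⁻¹ • comb e f x' 0 := by
      rw [smul_comb, smul_zero]
    rw [h1, hL.smul _ (comb_ne hF h x' hx') (iso_comb hF h x') _ (inv_ne_zero hx'i), hxx]
  · intro k
    rw [Pi.smul_apply, smul_eq_mul, mul_eq_zero, or_iff_right (inv_ne_zero hx'i), hz]

/-- The shape of the map on the plane. -/
theorem shape : ∃ s1 s2 s3 : Fˣ → Fˣ,
    (∀ b : Fˣ, τ (comb e f ![1, (b : F), 0] 0) = lab (comb e f ![1, (s1 b : F), 0] 0)) ∧
    (∀ c : Fˣ, τ (comb e f ![1, 0, (c : F)] 0) = lab (comb e f ![1, 0, (s2 c : F)] 0)) ∧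
    (∀ d : Fˣ, τ (comb e f ![0, 1, (d : F)] 0) = lab (comb e f ![0, 1, (s3 d : F)] 0)) ∧
    (∀ b c : Fˣ, τ (comb e f ![1, (b : F), (c : F)] 0) =
      lab (comb e f ![1, (s1 b : F), (s2 c : F)] 0)) ∧
    (∀ b c : Fˣ, s2 c = s1 b * s3 (c * b⁻¹)) ∧ Function.Injective s1 := by
  have e1 : ∀ b : Fˣ, ∃ b' : Fˣ,
      τ (comb e f ![1, (b : F), 0] 0) = lab (comb e f ![1, (b' : F), 0] 0) := by
    intro b
    obtain ⟨x', h1, h2, h4⟩ := image1 hF hL h hτ h3 ![1, (b : F), 0] 0 (by simp)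
    have h5 : x' 1 ≠ 0 := fun h0 => b.ne_zero (by simpa using (h4 1).1 h0)
    have h6 : x' 2 = 0 := (h4 2).2 (by simp)
    refine ⟨Units.mk0 _ h5, ?_⟩
    rw [h2]
    congr 2
    funext k
    fin_cases k
    · exact h1
    · rfl
    · exact h6
  have e2 : ∀ c : Fˣ, ∃ c' : Fˣ,
      τ (comb e f ![1, 0, (c : F)] 0) = lab (comb e f ![1, 0, (c' : F)] 0) := by
    intro b
    obtain ⟨x', h1, h2, h4⟩ := image1 hF hL h hτ h3 ![1, 0, (b : F)] 0 (by simp)
    have h5 : x' 2 ≠ 0 := fun h0 => b.ne_zero (by simpa using (h4 2).1 h0)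
    have h6 : x' 1 = 0 := (h4 1).2 (by simp)
    refine ⟨Units.mk0 _ h5, ?_⟩
    rw [h2]
    congr 2
    funext k
    fin_cases k
    · exact h1
    · exact h6
    · rfl
  have e3 : ∀ d : Fˣ, ∃ d' : Fˣ,
      τ (comb e f ![0, 1, (d : F)] 0) = lab (comb e f ![0, 1, (d' : F)] 0) := by
    intro b
    obtain ⟨x', h1, h2, h4⟩ := image1 hF hL h hτ h3 ![0, 1, (b : F)] 1 (by simp)
    have h5 : x' 2 ≠ 0 := fun h0 => b.ne_zero (by simpa using (h4 2).1 h0)
    have h6 : x' 0 = 0 := (h4 0).2 (by simp)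
    refine ⟨Units.mk0 _ h5, ?_⟩
    rw [h2]
    congr 2
    funext k
    fin_cases k
    · exact h6
    · exact h1
    · rfl
  choose s1 hs1 using e1
  choose s2 hs2 using e2
  choose s3 hs3 using e3
  have hne0 : ∀ y w : F, (![1, y, w] : Fin 3 → F) ≠ 0 := fun y w h0 => by
    have := congrFun h0 0
    simp at this
  have hne1 : ∀ x w : F, (![x, 1, w] : Fin 3 → F) ≠ 0 := fun y w h0 => by
    have := congrFun h0 1
    simp at this
  have hne2 : ∀ x y : F, (![x, y, 1] : Fin 3 → F) ≠ 0 := fun y w h0 => by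
    have := congrFun h0 2
    simp at this
  have sing0 : τ (comb e f ![1, 0, 0] 0) = lab (comb e f ![1, 0, 0] 0) := by
    have : (![1, 0, 0] : Fin 3 → F) = Pi.single 0 1 := by
      funext k; fin_cases k <;> simp
    rw [this, smul_single hF, h3]
  have sing1 : τ (comb e f ![0, 1, 0] 0) = lab (comb e f ![0, 1, 0] 0) := by
    have : (![0, 1, 0] : Fin 3 → F) = Pi.single 1 1 := by
      funext k; fin_cases k <;> simp
    rw [this, smul_single hF, h3]
  have sing2 : τ (comb e f ![0, 0, 1] 0) = lab (comb e f ![0, 0, 1] 0) := by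
    have : (![0, 0, 1] : Fin 3 → F) = Pi.single 2 1 := by
      funext k; fin_cases k <;> simp
    rw [this, smul_single hF, h3]
  have hchar : ∀ y : F, y + y = 0 := add_self hF
  have e4 : ∀ b c : Fˣ, τ (comb e f ![1, (b : F), (c : F)] 0) =
      lab (comb e f ![1, (s1 b : F), (s2 c : F)] 0) ∧ s2 c = s1 b * s3 (c * b⁻¹) := by
    intro b c
    obtain ⟨x', h1, h2, h4⟩ := image1 hF hL h hτ h3 ![1, (b : F), (c : F)] 0 (by simp)
    have hx'0 : x' ≠ 0 := by
      rintro rfl
      exact zero_ne_one h1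
    -- first line
    have k1 : x' 1 = s1 b := by
      obtain ⟨δ, hδ⟩ := line_image hF hL h hτ h3 ![(s1 b : F), 1, 0] (hne1 _ _)
      have a1 := (hδ _ _ (hne0 _ _) (hne0 _ _) (hs1 b)).1 (by
        simp only [Fin.sum_univ_three, Matrix.cons_val_zero, Matrix.cons_val_one, Matrix.cons_val]
        linear_combination hchar (s1 b : F))
      have a2 := (hδ _ _ (hne2 _ _) (hne2 _ _) sing2).1 (by
        simp [Fin.sum_univ_three])
      have a3 := (hδ _ _ (hne0 _ _) hx'0 h2).2 (by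
        simp only [Fin.sum_univ_three, Matrix.cons_val_zero, Matrix.cons_val_one,
          Matrix.cons_val] at a1 a2 ⊢
        linear_combination a1 + (c : F) * a2)
      simp only [Fin.sum_univ_three, Matrix.cons_val_zero, Matrix.cons_val_one,
          Matrix.cons_val, h1] at a3
      linear_combination a3 - hchar (s1 b : F)
    have k2 : x' 2 = s2 c := by
      obtain ⟨δ, hδ⟩ := line_image hF hL h hτ h3 ![(s2 c : F), 0, 1] (hne2 _ _)
      have a1 := (hδ _ _ (hne0 _ _) (hne0 _ _) (hs2 c)).1 (by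
        simp only [Fin.sum_univ_three, Matrix.cons_val_zero, Matrix.cons_val_one, Matrix.cons_val]
        linear_combination hchar (s2 c : F))
      have a2 := (hδ _ _ (hne1 _ _) (hne1 _ _) sing1).1 (by
        simp [Fin.sum_univ_three])
      have a3 := (hδ _ _ (hne0 _ _) hx'0 h2).2 (by
        simp only [Fin.sum_univ_three, Matrix.cons_val_zero, Matrix.cons_val_one,
          Matrix.cons_val] at a1 a2 ⊢
        linear_combination a1 + (b : F) * a2)
      simp only [Fin.sum_univ_three, Matrix.cons_val_zero, Matrix.cons_val_one,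
          Matrix.cons_val, h1] at a3
      linear_combination a3 - hchar (s2 c : F)
    have k3 : x' 2 = s3 (c * b⁻¹) * x' 1 := by
      obtain ⟨δ, hδ⟩ := line_image hF hL h hτ h3 ![0, (s3 (c * b⁻¹) : F), 1] (hne2 _ _)
      have a1 := (hδ _ _ (hne1 _ _) (hne1 _ _) (hs3 (c * b⁻¹))).1 (by
        simp only [Fin.sum_univ_three, Matrix.cons_val_zero, Matrix.cons_val_one, Matrix.cons_val]
        linear_combination hchar (s3 (c * b⁻¹) : F))
      have a2 := (hδ _ _ (hne0 _ _) (hne0 _ _) sing0).1 (by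
        simp [Fin.sum_univ_three])
      have hcb : (((c * b⁻¹ : Fˣ) : F)) * b = c := by
        rw [← Units.val_mul, inv_mul_cancel_right]
      have a3 := (hδ _ _ (hne0 _ _) hx'0 h2).2 (by
        simp only [Fin.sum_univ_three, Matrix.cons_val_zero, Matrix.cons_val_one,
          Matrix.cons_val] at a1 a2 ⊢
        linear_combination (b : F) * a1 + a2 - δ 2 * hcb)
      simp only [Fin.sum_univ_three, Matrix.cons_val_zero, Matrix.cons_val_one,
          Matrix.cons_val, h1] at a3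
      linear_combination a3 - hchar (s3 (c * b⁻¹) * x' 1)
    refine ⟨?_, ?_⟩
    · rw [h2]
      congr 2
      funext k
      fin_cases k
      · exact h1
      · exact k1
      · exact k2
    · apply Units.ext
      rw [Units.val_mul, ← k2, k3, k1, mul_comm]
  refine ⟨s1, s2, s3, hs1, hs2, hs3, fun b c => (e4 b c).1, fun b c => (e4 b c).2, ?_⟩
  -- injectivity
  intro b b' hbb
  by_contra hne
  obtain ⟨δ, hδ⟩ := line_image hF hL h hτ h3 ![(s1 b : F), 1, 0] (hne1 _ _)
  have a1 := (hδ _ _ (hne0 _ _) (hne0 _ _) (hs1 b)).1 (by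
    simp only [Fin.sum_univ_three, Matrix.cons_val_zero, Matrix.cons_val_one, Matrix.cons_val]
    linear_combination hchar (s1 b : F))
  have a2 := (hδ _ _ (hne0 _ _) (hne0 _ _) (hs1 b')).1 (by
    simp only [Fin.sum_univ_three, Matrix.cons_val_zero, Matrix.cons_val_one, Matrix.cons_val, ← hbb]
    linear_combination hchar (s1 b : F))
  have a3 := hδ _ _ (hne1 _ _) (hne1 _ _) sing1
  simp only [Fin.sum_univ_three, Matrix.cons_val_zero, Matrix.cons_val_one, Matrix.cons_val] at a1 a2 a3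
  have a4 : ((b : F) - b') * δ 1 = 0 := by linear_combination a1 - a2
  have a5 : δ 1 = 0 := (mul_eq_zero.1 a4).resolve_left
    (sub_ne_zero.2 fun hh => hne (Units.ext hh))
  have a6 := a3.2 (by rw [a5]; ring)
  apply one_ne_zero (α := F)
  linear_combination a6

/-- The map on the plane is diagonal of determinant one if the hyperoval products are preserved and distinct. -/
theorem plane_rigid
    (h5 : ∀ t : Fˣ, ((ovalList (e 0) (e 1) (e 2) t).map τ).prod =
      ((ovalList (e 0) (e 1) (e 2) t).map lab).prod)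
    (hinj : ∀ t t' : Fˣ, ((ovalList (e 0) (e 1) (e 2) t).map lab).prod =
      ((ovalList (e 0) (e 1) (e 2) t').map lab).prod → t = t') :
    ∃ β : Fˣ, ∀ x : Fin 3 → F, x ≠ 0 →
      τ (comb e f x 0) = lab (comb e f ![x 0, β * x 1, (β⁻¹ : Fˣ) * x 2] 0) := by
  classical
  obtain ⟨s1, s2, s3, hs1, hs2, hs3, hs4, hs5, hs1i⟩ := shape hF hL h hτ h3
  -- multiplicativity
  have m1 : ∀ d : Fˣ, s3 d * s1 1 = s1 d * s3 1 := by
    intro d
    have a1 := hs5 1 d
    have a2 := hs5 d d
    rw [inv_one, mul_one] at a1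
    rw [mul_inv_cancel] at a2
    rw [← a2, a1, mul_comm]
  have m2 : ∀ b c : Fˣ, s1 c * s1 1 = s1 b * s1 (c * b⁻¹) := by
    intro b c
    have a1 := hs5 b c
    have a2 := hs5 c c
    rw [mul_inv_cancel] at a2
    have a3 := m1 (c * b⁻¹)
    have a4 : s1 c * s3 1 * s1 1 = s1 b * s1 (c * b⁻¹) * s3 1 := by
      rw [← a2, a1, mul_assoc, a3, mul_assoc]
    have a5 : s1 c * s1 1 * s3 1 = s1 b * s1 (c * b⁻¹) * s3 1 := by
      rw [← a4, mul_assoc, mul_assoc, mul_comm (s1 1)]
    exact mul_right_cancel a5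
  set κ : Fˣ → Fˣ := fun t => s1 t * s1 1 * s3 1 with hκ
  have m3 : ∀ t b : Fˣ, s2 (t * b⁻¹) = κ t * (s1 b)⁻¹ := by
    intro t b
    have a2 := hs5 (t * b⁻¹) (t * b⁻¹)
    rw [mul_inv_cancel] at a2
    rw [a2, hκ]
    change s1 (t * b⁻¹) * s3 1 = s1 t * s1 1 * s3 1 * (s1 b)⁻¹
    rw [m2 b t, eq_mul_inv_iff_mul_eq, mul_right_comm, mul_comm (s1 (t * b⁻¹))]
  -- commuting
  have hcomm : ∀ x y : Fin 3 → F, x ≠ 0 → y ≠ 0 →
      Commute (lab (comb e f x 0)) (lab (comb e f y 0)) := by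
    intro x y hx hy
    rw [hL.comm _ _ (comb_ne hF h x hx) (comb_ne hF h y hy) (iso_comb hF h x) (iso_comb hF h y),
      herm_comb hF h]
    simp
  have hne0 : ∀ y w : F, (![1, y, w] : Fin 3 → F) ≠ 0 := fun y w h0 => by
    have := congrFun h0 0
    simp at this
  have hvec : ∀ b c : F, e 0 + b • e 1 + c • e 2 = comb e f ![1, b, c] 0 := by
    intro b c
    rw [comb_vec hF, one_smul]
  -- the hyperovals
  have hoval : ∀ t : Fˣ, ((ovalList (e 0) (e 1) (e 2) t).map τ).prod =
      ((ovalList (e 0) (e 1) (e 2) (κ t)).map lab).prod := by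
    intro t
    unfold ovalList
    simp only [List.map_cons, List.prod_cons, h3, List.map_map]
    congr 3
    have a1 : (τ ∘ fun b : Fˣ => e 0 + (b : F) • e 1 + ((t * b⁻¹ : Fˣ) : F) • e 2) =
        fun b : Fˣ => (fun b' : Fˣ => lab (e 0 + (b' : F) • e 1 + ((κ t * b'⁻¹ : Fˣ) : F) • e 2))
          (s1 b) := by
      funext b
      change τ (e 0 + (b : F) • e 1 + ((t * b⁻¹ : Fˣ) : F) • e 2) =
        lab (e 0 + (s1 b : F) • e 1 + ((κ t * (s1 b)⁻¹ : Fˣ) : F) • e 2)
      rw [hvec, hvec, hs4, m3]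
    rw [a1]
    exact perm_prod s1 hs1i
      (fun b' : Fˣ => lab (e 0 + (b' : F) • e 1 + ((κ t * b'⁻¹ : Fˣ) : F) • e 2))
      (fun i j => by
        rw [hvec, hvec]
        exact hcomm _ _ (hne0 _ _) (hne0 _ _))
  have hκt : ∀ t, κ t = t := fun t => hinj _ _ (by rw [← hoval, h5])
  have n1 : s1 1 * s1 1 * s3 1 = 1 := hκt 1
  have n2 : s3 1 = (s1 1)⁻¹ * (s1 1)⁻¹ := by
    rw [← mul_inv_rev, eq_inv_iff_mul_eq_one, mul_comm]
    exact n1
  have n3 : ∀ b, s1 b = b * s1 1 := by
    intro b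
    have a1 : s1 b * s1 1 * s3 1 = b := hκt b
    rw [n2] at a1
    have a2 : s1 b * s1 1 * ((s1 1)⁻¹ * (s1 1)⁻¹) = s1 b * (s1 1)⁻¹ := by group
    rw [a2] at a1
    exact eq_mul_of_mul_inv_eq a1
  have n4 : ∀ c, s2 c = c * (s1 1)⁻¹ := by
    intro c
    have a2 := hs5 c c
    rw [mul_inv_cancel, n3, n2] at a2
    rw [a2]; group
  have n5 : ∀ d, s3 d = d * ((s1 1)⁻¹ * (s1 1)⁻¹) := by
    intro d
    have a1 := m1 d
    rw [n3 d, n2] at a1
    have a2 := mul_right_cancel (b := s1 1) (a := s3 d)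
      (c := d * ((s1 1)⁻¹ * (s1 1)⁻¹)) (by rw [a1]; group)
    exact a2
  refine ⟨s1 1, fun x hx => ?_⟩
  have hscale : ∀ (c : F) (x : Fin 3 → F), c ≠ 0 → x ≠ 0 →
      τ (comb e f (c • x) 0) = τ (comb e f x 0) := by
    intro c x hc hx
    have h1 : comb e f (c • x) 0 = c • comb e f x 0 := by rw [smul_comb, smul_zero]
    rw [h1, hτ.smul _ (comb_ne hF h x hx) (iso_comb hF h x) c hc]
  have hscale' : ∀ (c : F) (x : Fin 3 → F), c ≠ 0 → x ≠ 0 →
      lab (comb e f (c • x) 0) = lab (comb e f x 0) := by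
    intro c x hc hx
    have h1 : comb e f (c • x) 0 = c • comb e f x 0 := by rw [smul_comb, smul_zero]
    rw [h1, hL.smul _ (comb_ne hF h x hx) (iso_comb hF h x) c hc]
  have hne1 : ∀ x w : F, (![x, 1, w] : Fin 3 → F) ≠ 0 := fun y w h0 => by
    have := congrFun h0 1
    simp at this
  have hne2 : ∀ x y : F, (![x, y, 1] : Fin 3 → F) ≠ 0 := fun y w h0 => by
    have := congrFun h0 2
    simp at this
  by_cases hx0 : x 0 = 0
  · by_cases hx1 : x 1 = 0
    · have hx2 : x 2 ≠ 0 := by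
        intro hx2
        apply hx
        funext k
        fin_cases k
        · exact hx0
        · exact hx1
        · exact hx2
      have a1 : x = (x 2) • ![0, 0, 1] := by
        funext k; fin_cases k <;> simp [hx0, hx1]
      have a2 : (![x 0, s1 1 * x 1, ((s1 1)⁻¹ : Fˣ) * x 2] : Fin 3 → F) =
          ((((s1 1)⁻¹ : Fˣ) : F) * x 2) • ![0, 0, 1] := by
        funext k; fin_cases k <;> simp [hx0, hx1]
      rw [a2, hscale' _ _ (mul_ne_zero (Units.ne_zero _) hx2) (hne2 _ _)]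
      conv_lhs => rw [a1]
      rw [hscale _ _ hx2 (hne2 _ _)]
      have a3 : (![0, 0, 1] : Fin 3 → F) = Pi.single 2 1 := by
        funext k; fin_cases k <;> simp
      rw [a3, smul_single hF, h3]
    · by_cases hx2 : x 2 = 0
      · have a1 : x = (x 1) • ![0, 1, 0] := by
          funext k; fin_cases k <;> simp [hx0, hx2]
        have a2 : (![x 0, s1 1 * x 1, ((s1 1)⁻¹ : Fˣ) * x 2] : Fin 3 → F) =
            ((s1 1 : F) * x 1) • ![0, 1, 0] := by
          funext k; fin_cases k <;> simp [hx0, hx2]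
        rw [a2, hscale' _ _ (mul_ne_zero (Units.ne_zero _) hx1) (hne1 _ _)]
        conv_lhs => rw [a1]
        rw [hscale _ _ hx1 (hne1 _ _)]
        have a3 : (![0, 1, 0] : Fin 3 → F) = Pi.single 1 1 := by
          funext k; fin_cases k <;> simp
        rw [a3, smul_single hF, h3]
      · obtain ⟨d, hdv⟩ : ∃ d : Fˣ, (d : F) * x 1 = x 2 :=
          ⟨Units.mk0 _ hx2 * (Units.mk0 _ hx1)⁻¹, by
          rw [Units.val_mul, Units.val_inv_eq_inv_val, Units.val_mk0, Units.val_mk0, mul_assoc,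
            inv_mul_cancel₀ hx1, mul_one]⟩
        have a1 : x = (x 1) • ![0, 1, (d : F)] := by
          funext k
          fin_cases k
          · simp [hx0]
          · simp
          · change x 2 = x 1 * d
            rw [← hdv, mul_comm]
        have a2 : (![x 0, s1 1 * x 1, ((s1 1)⁻¹ : Fˣ) * x 2] : Fin 3 → F) =
            ((s1 1 : F) * x 1) • ![0, 1, ((s3 d : Fˣ) : F)] := by
          funext k
          fin_cases k
          · simp [hx0]
          · simp
          · change (((s1 1)⁻¹ : Fˣ) : F) * x 2 = (s1 1 : F) * x 1 * s3 d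
            rw [n5, ← hdv]
            have a4 : ((s1 1 : Fˣ) : F) * ((s1 1)⁻¹ : Fˣ) = 1 := by
              rw [← Units.val_mul, mul_inv_cancel, Units.val_one]
            rw [Units.val_mul, Units.val_mul]
            generalize ((s1 1 : Fˣ) : F) = p at a4 ⊢
            generalize (((s1 1)⁻¹ : Fˣ) : F) = q at a4 ⊢
            linear_combination (-(d : F) * x 1 * q) * a4
        rw [a2, hscale' _ _ (mul_ne_zero (Units.ne_zero _) hx1) (hne1 _ _)]
        conv_lhs => rw [a1]
        rw [hscale _ _ hx1 (hne1 _ _), hs3]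
  · by_cases hx1 : x 1 = 0
    · by_cases hx2 : x 2 = 0
      · have a1 : x = (x 0) • ![1, 0, 0] := by
          funext k; fin_cases k <;> simp [hx1, hx2]
        have a2 : (![x 0, s1 1 * x 1, ((s1 1)⁻¹ : Fˣ) * x 2] : Fin 3 → F) =
            (x 0) • ![1, 0, 0] := by
          funext k; fin_cases k <;> simp [hx1, hx2]
        rw [a2, hscale' _ _ hx0 (hne0 _ _)]
        conv_lhs => rw [a1]
        rw [hscale _ _ hx0 (hne0 _ _)]
        have a3 : (![1, 0, 0] : Fin 3 → F) = Pi.single 0 1 := by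
          funext k; fin_cases k <;> simp
        rw [a3, smul_single hF, h3]
      · obtain ⟨d, hdv⟩ : ∃ d : Fˣ, (d : F) * x 0 = x 2 :=
          ⟨Units.mk0 _ hx2 * (Units.mk0 _ hx0)⁻¹, by
          rw [Units.val_mul, Units.val_inv_eq_inv_val, Units.val_mk0, Units.val_mk0, mul_assoc,
            inv_mul_cancel₀ hx0, mul_one]⟩
        have a1 : x = (x 0) • ![1, 0, (d : F)] := by
          funext k
          fin_cases k
          · simp
          · simp [hx1]
          · change x 2 = x 0 * d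
            rw [← hdv, mul_comm]
        have a2 : (![x 0, s1 1 * x 1, ((s1 1)⁻¹ : Fˣ) * x 2] : Fin 3 → F) =
            (x 0) • ![1, 0, ((s2 d : Fˣ) : F)] := by
          funext k
          fin_cases k
          · simp
          · simp [hx1]
          · change (((s1 1)⁻¹ : Fˣ) : F) * x 2 = x 0 * s2 d
            rw [n4, ← hdv, Units.val_mul]
            ring
        rw [a2, hscale' _ _ hx0 (hne0 _ _)]
        conv_lhs => rw [a1]
        rw [hscale _ _ hx0 (hne0 _ _), hs2]
    · obtain ⟨b, hbv⟩ : ∃ b : Fˣ, (b : F) * x 0 = x 1 :=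
        ⟨Units.mk0 _ hx1 * (Units.mk0 _ hx0)⁻¹, by
        rw [Units.val_mul, Units.val_inv_eq_inv_val, Units.val_mk0, Units.val_mk0, mul_assoc,
          inv_mul_cancel₀ hx0, mul_one]⟩
      by_cases hx2 : x 2 = 0
      · have a1 : x = (x 0) • ![1, (b : F), 0] := by
          funext k
          fin_cases k
          · simp
          · change x 1 = x 0 * b
            rw [← hbv, mul_comm]
          · simp [hx2]
        have a2 : (![x 0, s1 1 * x 1, ((s1 1)⁻¹ : Fˣ) * x 2] : Fin 3 → F) =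
            (x 0) • ![1, ((s1 b : Fˣ) : F), 0] := by
          funext k
          fin_cases k
          · simp
          · change (s1 1 : F) * x 1 = x 0 * s1 b
            rw [n3 b, ← hbv, Units.val_mul]
            ring
          · simp [hx2]
        rw [a2, hscale' _ _ hx0 (hne0 _ _)]
        conv_lhs => rw [a1]
        rw [hscale _ _ hx0 (hne0 _ _), hs1]
      · obtain ⟨d, hdv⟩ : ∃ d : Fˣ, (d : F) * x 0 = x 2 :=
          ⟨Units.mk0 _ hx2 * (Units.mk0 _ hx0)⁻¹, by
          rw [Units.val_mul, Units.val_inv_eq_inv_val, Units.val_mk0, Units.val_mk0, mul_assoc,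
            inv_mul_cancel₀ hx0, mul_one]⟩
        have a1 : x = (x 0) • ![1, (b : F), (d : F)] := by
          funext k
          fin_cases k
          · simp
          · change x 1 = x 0 * b
            rw [← hbv, mul_comm]
          · change x 2 = x 0 * d
            rw [← hdv, mul_comm]
        have a2 : (![x 0, s1 1 * x 1, ((s1 1)⁻¹ : Fˣ) * x 2] : Fin 3 → F) =
            (x 0) • ![1, ((s1 b : Fˣ) : F), ((s2 d : Fˣ) : F)] := by
          funext k
          fin_cases k
          · simp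
          · change (s1 1 : F) * x 1 = x 0 * s1 b
            rw [n3 b, ← hbv, Units.val_mul]
            ring
          · change (((s1 1)⁻¹ : Fˣ) : F) * x 2 = x 0 * s2 d
            rw [n4, ← hdv, Units.val_mul]
            ring
        rw [a2, hscale' _ _ hx0 (hne0 _ _)]
        conv_lhs => rw [a1]
        rw [hscale _ _ hx0 (hne0 _ _), hs4]

end Plane

section Full

variable {τ : (Fin 6 → F) → M}

/-- Conjugating a map by a realised isometry. -/
theorem Auto.conj (hL : Labels S 6 F lab) (hτ : Auto S lab τ) {A : SU 6 F 2} {c : M}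
    (hc : ∀ v : Fin 6 → F, v ≠ 0 → hermForm 6 F 2 v v = 0 → c * lab v * c⁻¹ = lab (act A v)) :
    Auto S lab (fun v => c * τ v * c⁻¹) := by
  have hne : ∀ (x : SU 6 F 2) (v : Fin 6 → F), v ≠ 0 → act x v ≠ 0 := by
    intro x v hv h
    exact hv (act_injective x (by rw [h, act_zero]))
  refine ⟨?_, ?_, ?_, ?_⟩
  · intro v hv0 hv
    obtain ⟨v', hv'0, hv', hvv⟩ := hL.surj _ (hτ.mem v hv0 hv)
    rw [hvv, hc v' hv'0 hv']
    exact hL.mem _ (hne A v' hv'0) (by rw [herm_act, hv'])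
  · intro s hs
    obtain ⟨v', hv'0, hv', rfl⟩ := hL.surj _ hs
    obtain ⟨y, hy0, hy, hyy⟩ := hτ.surj _
      (hL.mem _ (hne A⁻¹ v' hv'0) (by rw [herm_act, hv']))
    refine ⟨y, hy0, hy, ?_⟩
    rw [hyy, hc _ (hne A⁻¹ v' hv'0) (by rw [herm_act, hv']), act_act_inv]
  · intro v w hv0 hw0 hv hw
    rw [← hτ.comm v w hv0 hw0 hv hw]
    have : ∀ x : M, c * x * c⁻¹ = MulAut.conj c x := fun x => by rw [MulAut.conj_apply]
    rw [this, this]
    exact ⟨fun hh => Commute.of_map (MulAut.conj c).injective hh, fun hh => hh.map _⟩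
  · intro v hv0 hv a ha
    rw [hτ.smul v hv0 hv a ha]

theorem prod_conj (c : M) (l : List (Fin 6 → F)) (τ : (Fin 6 → F) → M) :
    (l.map (fun v => c * τ v * c⁻¹)).prod = c * (l.map τ).prod * c⁻¹ := by
  induction l with
  | nil => simp
  | cons a l ih =>
    rw [List.map_cons, List.prod_cons, ih, List.map_cons, List.prod_cons]
    group

theorem linearIndependent_of_fr3 {u v w : Fin 6 → F} (h : Fr3 u v w) :
    LinearIndependent F ![u, v, w] := by
  rw [Fintype.linearIndependent_iff]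
  intro g hg
  rw [Fin.sum_univ_three] at hg
  obtain ⟨h1, h2, h3⟩ := h.ind _ _ _ hg
  intro i
  fin_cases i
  · exact h1
  · exact h2
  · exact h3

include hF in
theorem exists_frame_of_fr3 {u v w : Fin 6 → F} (h : Fr3 u v w) :
    ∃ f : Fin 3 → (Fin 6 → F), Frame ![u, v, w] f := by
  obtain ⟨f, hef, hff⟩ := Cfsg.Agent.ClassicalGeometry.HermFrame.exists_hyperbolic hF
    (linearIndependent_of_fr3 h) (fun i j => by
      have hvu := herm_eq_zero_swap hF h.uv
      have hwu := herm_eq_zero_swap hF h.uw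
      have hwv := herm_eq_zero_swap hF h.vw
      fin_cases i <;> fin_cases j
      · exact h.uu
      · exact h.uv
      · exact h.uw
      · exact hvu
      · exact h.vv
      · exact h.vw
      · exact hwu
      · exact hwv
      · exact h.ww)
  refine ⟨f, ⟨?_, hef, hff⟩⟩
  intro i j
  have hvu := herm_eq_zero_swap hF h.uv
  have hwu := herm_eq_zero_swap hF h.uw
  have hwv := herm_eq_zero_swap hF h.vw
  fin_cases i <;> fin_cases j
  · exact h.uu
  · exact h.uv
  · exact h.uw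
  · exact hvu
  · exact h.vv
  · exact h.vw
  · exact hwu
  · exact hwv
  · exact h.ww

include hF in
/-- A diagonal isometry of determinant one on a totally isotropic plane. -/
theorem exists_diag {u v w : Fin 6 → F} (h : Fr3 u v w) (β : Fˣ) :
    ∃ B : SU 6 F 2, act B u = u ∧ act B v = (β : F) • v ∧ act B w = ((β⁻¹ : Fˣ) : F) • w := by
  obtain ⟨A, a, b, c, ha, hb, hc, hA1, hA2, hA3⟩ := trans_frames_SU hF h (fr3_std hF)
  have hβ3 : ∀ γ : Fˣ, (γ : F) ^ (2 + 1) = 1 := fun γ => pow_three hF γ.ne_zero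
  have hββ : (β : F) * ((β⁻¹ : Fˣ) : F) = 1 := by
    rw [← Units.val_mul, mul_inv_cancel, Units.val_one]
  set D : SU 6 F 2 := Cfsg.Agent.LieClassical.SUBasic.suDiag 2
    ![1, 1, (β : F), (β : F), ((β⁻¹ : Fˣ) : F), ((β⁻¹ : Fˣ) : F)] (by
      simp only [Fin.prod_univ_succ, Fin.prod_univ_zero, Matrix.cons_val_zero,
        Matrix.cons_val_succ, mul_one, one_mul]
      linear_combination ((β : F) * ((β⁻¹ : Fˣ) : F) + 1) * hββ) (by
      intro i
      fin_cases i
      · exact one_pow _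
      · exact one_pow _
      · exact hβ3 β
      · exact hβ3 β
      · exact hβ3 β⁻¹
      · exact hβ3 β⁻¹) with hD
  have hDact : ∀ (x : Fin 6 → F) (i : Fin 6), act D x i =
      ![1, 1, (β : F), (β : F), ((β⁻¹ : Fˣ) : F), ((β⁻¹ : Fˣ) : F)] i * x i := by
    intro x i
    rw [act_def, hD, Cfsg.Agent.LieClassical.SUBasic.coe_suDiag, Matrix.mulVec_diagonal]
  have hD1 : act D ![1, 1, 0, 0, 0, 0] = ![1, 1, 0, 0, 0, 0] := by
    funext i
    rw [hDact]
    fin_cases i <;> simp
  have hD2 : act D ![0, 0, 1, 1, 0, 0] = (β : F) • ![0, 0, 1, 1, 0, 0] := by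
    funext i
    rw [hDact]
    fin_cases i <;> simp
  have hD3 : act D ![0, 0, 0, 0, 1, 1] = ((β⁻¹ : Fˣ) : F) • ![0, 0, 0, 0, 1, 1] := by
    funext i
    rw [hDact]
    fin_cases i <;> simp
  refine ⟨A⁻¹ * D * A, ?_, ?_, ?_⟩
  · rw [act_mul, act_mul, hA1, act_smul, hD1, ← hA1, act_inv_act]
  · rw [act_mul, act_mul, hA2, act_smul, hD2, smul_comm, ← hA2, act_smul, act_inv_act]
  · rw [act_mul, act_mul, hA3, act_smul, hD3, smul_comm, ← hA3, act_smul, act_inv_act]

include hF in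
/-- FULL RIGIDITY: a map of the points respecting commuting, fixing the central products, is inner, if the three
classes of hyperovals have different central products. -/
theorem exists_conj_full (hL : Labels S 6 F lab) (hτ : Auto S lab τ) {Z : Set M}
    (hZ : ∀ y ∈ Z, ∀ s ∈ S, Commute y s)
    (hprod : ∀ l : List (Fin 6 → F), (∀ v ∈ l, v ≠ 0 ∧ hermForm 6 F 2 v v = 0) →
      (l.map lab).prod ∈ Z → (l.map τ).prod = (l.map lab).prod)
    {u v w : Fin 6 → F} (h : Fr3 u v w) (hoZ : ∀ t : Fˣ, ((ovalList u v w t).map lab).prod ∈ Z)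
    (hinj : ∀ t t' : Fˣ, ((ovalList u v w t).map lab).prod =
      ((ovalList u v w t').map lab).prod → t = t') :
    ∃ g ∈ Subgroup.closure S, ∀ x : Fin 6 → F, x ≠ 0 → hermForm 6 F 2 x x = 0 →
      τ x = g * lab x * g⁻¹ := by
  classical
  obtain ⟨f, hf⟩ := exists_frame_of_fr3 hF h
  set e : Fin 3 → (Fin 6 → F) := ![u, v, w] with he
  have he0 : e 0 = u := rfl
  have he1 : e 1 = v := rfl
  have he2 : e 2 = w := rfl
  have hene := e_ne hF hf
  have hei : ∀ i, hermForm 6 F 2 (e i) (e i) = 0 := fun i => hf.ee i i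
  have hfne : ∀ i, f i ≠ 0 := by
    intro i h0
    have := hf.ef i i
    rw [h0, herm_zero_right hF, if_pos rfl] at this
    exact zero_ne_one this
  -- step 1: images of the frame
  have hu : ∀ i, ∃ y : Fin 6 → F, y ≠ 0 ∧ hermForm 6 F 2 y y = 0 ∧ τ (e i) = lab y := fun i =>
    hL.surj _ (hτ.mem _ (hene i) (hei i))
  choose y hy0 hy hyτ using hu
  have hg : ∀ i, ∃ y : Fin 6 → F, y ≠ 0 ∧ hermForm 6 F 2 y y = 0 ∧ τ (f i) = lab y := fun i =>
    hL.surj _ (hτ.mem _ (hfne i) (hf.ff i i))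
  choose q hq0 hq hqτ using hg
  have hyy : ∀ i j, hermForm 6 F 2 (y i) (y j) = 0 := by
    intro i j
    rw [← hL.comm _ _ (hy0 i) (hy0 j) (hy i) (hy j), ← hyτ, ← hyτ,
      hτ.comm _ _ (hene i) (hene j) (hei i) (hei j)]
    exact hf.ee i j
  have hyq : ∀ i j, hermForm 6 F 2 (y i) (q j) = 0 ↔ i ≠ j := by
    intro i j
    rw [← hL.comm _ _ (hy0 i) (hq0 j) (hy i) (hq j), ← hyτ, ← hqτ,
      hτ.comm _ _ (hene i) (hfne j) (hei i) (hf.ff j j), hf.ef]
    by_cases hij : i = j
    · simp [hij]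
    · simp [hij]
  have hfr : Fr3 (y 0) (y 1) (y 2) := by
    refine ⟨hy 0, hy 1, hy 2, hyy 0 1, hyy 0 2, hyy 1 2, ?_⟩
    intro a b c habc
    have key : ∀ j, a * hermForm 6 F 2 (y 0) (q j) + b * hermForm 6 F 2 (y 1) (q j) +
        c * hermForm 6 F 2 (y 2) (q j) = 0 := by
      intro j
      rw [← herm_smul_left, ← herm_smul_left, ← herm_smul_left, ← herm_add_left, ← herm_add_left,
        habc, herm_zero_left]
    have k0 := key 0
    have k1 := key 1
    have k2 := key 2
    rw [(hyq 1 0).2 (by decide), (hyq 2 0).2 (by decide), mul_zero, mul_zero, add_zero,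
      add_zero, mul_eq_zero, hyq] at k0
    rw [(hyq 0 1).2 (by decide), (hyq 2 1).2 (by decide), mul_zero, mul_zero, zero_add,
      add_zero, mul_eq_zero, hyq] at k1
    rw [(hyq 0 2).2 (by decide), (hyq 1 2).2 (by decide), mul_zero, mul_zero, zero_add,
      zero_add, mul_eq_zero, hyq] at k2
    exact ⟨k0.resolve_right (fun hh => hh rfl), k1.resolve_right (fun hh => hh rfl),
      k2.resolve_right (fun hh => hh rfl)⟩
  obtain ⟨A, a0, a1, a2, ha0, ha1, ha2, hA0, hA1, hA2⟩ := trans_frames_SU hF hfr h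
  obtain ⟨c1, hc1, hc1v⟩ := realize hF hL A
  have hτ1 := hτ.conj hL hc1v
  have hτ1e : ∀ i, c1 * τ (e i) * c1⁻¹ = lab (e i) := by
    intro i
    rw [hyτ, hc1v _ (hy0 i) (hy i)]
    fin_cases i
    · change lab (act A (y 0)) = lab u
      rw [hA0, hL.smul u h.u_ne h.uu _ ha0]
    · change lab (act A (y 1)) = lab v
      rw [hA1, hL.smul v h.v_ne h.vv _ ha1]
    · change lab (act A (y 2)) = lab w
      rw [hA2, hL.smul w h.w_ne h.ww _ ha2]
  have hcl : ∀ g ∈ Subgroup.closure S, ∀ y ∈ Z, Commute y g := by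
    intro g hg y hy
    have h1 : Subgroup.closure S ≤ Subgroup.centralizer ({y} : Set M) := by
      rw [Subgroup.closure_le]
      intro s hs
      exact Subgroup.mem_centralizer_singleton_iff.2 (hZ y hy s hs).symm
    exact (Subgroup.mem_centralizer_singleton_iff.1 (h1 hg)).symm
  -- step 2: the plane
  have hiso : ∀ t : Fˣ, ∀ x ∈ ovalList u v w t, x ≠ 0 ∧ hermForm 6 F 2 x x = 0 := by
    intro t x hx
    unfold ovalList at hx
    simp only [List.mem_cons, List.mem_map, Finset.mem_toList, Finset.mem_univ, true_and] at hx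
    rcases hx with rfl | rfl | rfl | ⟨b, rfl⟩
    · exact ⟨h.u_ne, h.uu⟩
    · exact ⟨h.v_ne, h.vv⟩
    · exact ⟨h.w_ne, h.ww⟩
    · have h1 : u + (b : F) • v + ((t * b⁻¹ : Fˣ) : F) • w =
          comb e f ![1, (b : F), ((t * b⁻¹ : Fˣ) : F)] 0 := by
        rw [comb_vec hF, he0, he1, he2, one_smul]
      rw [h1]
      refine ⟨comb_ne hF hf _ ?_, iso_comb hF hf _⟩
      intro h0
      have := congrFun h0 0
      simp at this
  obtain ⟨β, hβ⟩ := plane_rigid hF hL hf hτ1 hτ1e (by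
    intro t
    rw [he0, he1, he2, prod_conj, hprod _ (hiso t) (hoZ t)]
    rw [← (hcl c1 hc1 _ (hoZ t)).eq, mul_inv_cancel_right]) hinj
  obtain ⟨B, hB0, hB1, hB2⟩ := exists_diag hF h β
  have hBcomb : ∀ x : Fin 3 → F, act B (comb e f x 0) =
      comb e f ![x 0, β * x 1, (β⁻¹ : Fˣ) * x 2] 0 := by
    intro x
    have h1 : x = ![x 0, x 1, x 2] := by
      funext k; fin_cases k <;> rfl
    conv_lhs => rw [h1]
    rw [comb_vec hF, comb_vec hF, he0, he1, he2, act_add, act_add, act_smul, act_smul, act_smul,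
      hB0, hB1, hB2, smul_smul, smul_smul, mul_comm (x 1), mul_comm (x 2)]
  obtain ⟨c2, hc2, hc2v⟩ := realize hF hL B⁻¹
  have hτ2 := hτ1.conj hL hc2v
  have hne : ∀ (x : SU 6 F 2) (v : Fin 6 → F), v ≠ 0 → act x v ≠ 0 := by
    intro x v hv h
    exact hv (act_injective x (by rw [h, act_zero]))
  -- step 3: Lemma U
  set W : Submodule F (Fin 6 → F) := Submodule.span F (Set.range e) with hW
  have hWk : Module.finrank F W = 3 := by
    rw [hW, finrank_span_eq_card (linearIndependent_of_fr3 h), Fintype.card_fin]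
  have hWmem : ∀ x ∈ W, ∃ a : Fin 3 → F, x = comb e f a 0 := by
    intro x hx
    obtain ⟨a, ha⟩ := (Submodule.mem_span_range_iff_exists_fun F).1 hx
    exact ⟨a, by rw [comb_zero_right hF, ha]⟩
  obtain ⟨g3, hg3, hg3v⟩ := HermRigid.exists_conj hF hL hWk (by
    intro x hx y hy
    obtain ⟨a, rfl⟩ := hWmem x hx
    obtain ⟨b, rfl⟩ := hWmem y hy
    rw [herm_comb hF hf]
    simp) _ hτ2.mem hτ2.comm (by
    intro x hx hx0
    obtain ⟨a, rfl⟩ := hWmem x hx
    have ha : a ≠ 0 := by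
      rintro rfl
      apply hx0
      rw [comb_zero_right hF]
      simp
    change c2 * (c1 * τ (comb e f a 0) * c1⁻¹) * c2⁻¹ = lab (comb e f a 0)
    have h1 := hβ a ha
    change c1 * τ (comb e f a 0) * c1⁻¹ = _ at h1
    rw [h1, ← hBcomb, hc2v _ (hne B _ hx0) (by rw [herm_act]; exact iso_comb hF hf a),
      act_inv_act])
  have hg3' : g3 ∈ Subgroup.closure S := by
    refine (Subgroup.closure_le _).2 ?_ hg3
    rintro _ ⟨x, ⟨hx, hx0⟩, rfl⟩
    obtain ⟨a, rfl⟩ := hWmem x hx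
    exact Subgroup.subset_closure (hL.mem _ hx0 (iso_comb hF hf a))
  refine ⟨c1⁻¹ * c2⁻¹ * g3, mul_mem (mul_mem (inv_mem hc1) (inv_mem hc2)) hg3', ?_⟩
  intro x hx0 hx
  have h1 := hg3v x hx0 hx
  change c2 * (c1 * τ x * c1⁻¹) * c2⁻¹ = g3 * lab x * g3⁻¹ at h1
  calc τ x = c1⁻¹ * c2⁻¹ * (c2 * (c1 * τ x * c1⁻¹) * c2⁻¹) * c2 * c1 := by group
    _ = c1⁻¹ * c2⁻¹ * (g3 * lab x * g3⁻¹) * c2 * c1 := by rw [h1]
    _ = _ := by group

end Full

end Cfsg.Agent.R01.HermPlane
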