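import Cfsg.Agent.R01.Loc
import Cfsg.Agent.R01.Closing2
import Cfsg.Agent.S0280
import Cfsg.Agent.S0215
import Cfsg.Prelude.Def_Spor_Fi22

/-!
Assembly of S1713.
-/

set_option autoImplicit false

namespace Cfsg.Agent.R01.Assembly

open Cfsg Cfsg.Agent.R01.Lifts Cfsg.Agent.R01.PSUSix Cfsg.Agent.R01.Label Cfsg.Agent.R01.Start
open Cfsg.Agent.R01.Loc Cfsg.Agent.R01.Closing

universe u v

theorem card_PSU {F : Type*} [Field F] [Fintype F] (hF : Fintype.card F = 2 ^ 2) :
    Nat.card (PSU 6 F 2) = 9196830720 := by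
  have h := Cfsg.Agent.S0280.result hF 6 (by norm_num)
  have e1 : (∏ i ∈ Finset.range 6, (if Even i then 2 ^ (i + 1) + 1 else 2 ^ (i + 1) - 1) : ℕ) =
      2525985 := by decide
  rw [e1] at h
  norm_num at h
  omega

theorem card_ext {C U : Type*} [Group C] [Group U] {π : C →* U} {z : C}
    (h : Ext π z) : Nat.card C = Nat.card U * 2 := by
  have h1 : Nat.card π.ker = 2 := by
    have : (π.ker : Set C) = {1, z} := by
      ext c
      rw [SetLike.mem_coe, MonoidHom.mem_ker, h.ker]
      rfl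
    have h2 : Nat.card π.ker = (π.ker : Set C).ncard := rfl
    rw [h2, this, Set.ncard_pair h.zne.symm]
  rw [Subgroup.card_eq_card_quotient_mul_card_subgroup π.ker, h1,
    Nat.card_congr (QuotientGroup.quotientKerEquivOfSurjective π h.surj).toEquiv]

theorem card_centralizer {C : Type*} [Group C] {F : Type*} [Field F] [Fintype F]
    (hF : Fintype.card F = 2 ^ 2) {π : C →* PSU 6 F 2} {z : C} (h : Ext π z) :
    Nat.card C = 18393661440 := by
  rw [card_ext h, card_PSU hF]

/-- Output of step (2), fusion. -/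
def FusionSt.{w, w'} : Prop := ∀ (G : Type w) [Group G] [Finite G] (d : G) (F : Type w') [Field F]
  [Fintype F] (hF : Fintype.card F = 2 ^ 2)
  (π : Subgroup.centralizer ({d} : Set G) →* PSU 6 F 2)
  (lift : (Fin 6 → F) → Subgroup.centralizer ({d} : Set G)),
  Lab hF π (zel d) (zel d) lift →
  (∃ g : G, g * d * g⁻¹ ∈ Subgroup.centralizer ({d} : Set G) ∧ g * d * g⁻¹ ≠ d) →
  ∀ x : Subgroup.centralizer ({d} : Set G), (x : G) ∈ conjugatesOf d ↔ x = zel d ∨ x ∈ Dset lift

/-- Output of step (3), component. -/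
def ComponentSt.{w, w'} : Prop := ∀ (G : Type w) [Group G] [Finite G] (d : G) (F : Type w') [Field F]
  [Fintype F] (hF : Fintype.card F = 2 ^ 2), Loc hF (conjugatesOf d) →
  (∀ a ∈ conjugatesOf d, ∀ b ∈ conjugatesOf d, Conn (conjugatesOf d) a b →
    a * b = b * a ∨ (a * b) ^ 3 = 1) ∧
  (∀ a ∈ conjugatesOf d, Nat.card {b : G // Conn (conjugatesOf d) a b} = 3510)

/-- The bridge to the closing theorem. -/
def BridgeSt.{w, w'} : Prop := ∀ (G : Type w) [Group G] [Finite G] (d : G) (F : Type w') [Field F]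
  [Fintype F] (hF : Fintype.card F = 2 ^ 2), Loc hF (conjugatesOf d) →
  (∀ a ∈ conjugatesOf d, ∀ b ∈ conjugatesOf d, Conn (conjugatesOf d) a b →
    a * b = b * a ∨ (a * b) ^ 3 = 1) →
  (∀ a ∈ conjugatesOf d, Nat.card {b : G // Conn (conjugatesOf d) a b} = 3510) →
  Closing2.All (conjugatesOf d)

/-- Output of step (5), identification. -/
def IdentSt.{w, w'} : Prop := ∀ (G : Type w) [Group G] [Finite G] (d : G) (F : Type w') [Field F]
  [Fintype F] (hF : Fintype.card F = 2 ^ 2), Loc hF (conjugatesOf d) →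
  (∀ a ∈ conjugatesOf d, ∀ b ∈ conjugatesOf d, a * b = b * a ∨ (a * b) ^ 3 = 1) →
  (conjugatesOf d).ncard = 3510 → Nat.card G = 64561751654400 → Spor.IsoFi22 G

theorem zstar : ZStar.{u} := by
  intro K _ _ P x hx hxP hiso
  exact Cfsg.Agent.S0215.result P x hx hxP hiso

/-- The assembly. -/
theorem assemble (fusion : FusionSt.{u, v}) (component : ComponentSt.{u, v})
    (bridge : BridgeSt.{u, v}) (ident : IdentSt.{u, v}) {G : Type u} [Group G] [Finite G] (d : G)
    (hd : orderOf d = 2) (hq : IsQuasisimple (Subgroup.centralizer ({d} : Set G)))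
    [((Subgroup.zpowers d).subgroupOf (Subgroup.centralizer ({d} : Set G))).Normal]
    (K : Type v) [Field K] [Fintype K] (hK : Fintype.card K = 4)
    (e : (Subgroup.centralizer ({d} : Set G)) ⧸
      (Subgroup.zpowers d).subgroupOf (Subgroup.centralizer ({d} : Set G)) ≃* PSU 6 K 2)
    (hnwc : ∃ g : G, g * d * g⁻¹ ∈ Subgroup.centralizer ({d} : Set G) ∧ g * d * g⁻¹ ≠ d) :
    Spor.IsoFi22 G := by
  have hF : Fintype.card K = 2 ^ 2 := hK
  obtain ⟨lift, L⟩ := exists_lab d hd hq K hF e (ε := zel d) (Or.inr rfl)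
  have hloc : LocAt hF (conjugatesOf d) d :=
    ⟨proj d e, lift, L, fusion G d K hF (proj d e) lift L hnwc⟩
  have hLoc : Loc hF (conjugatesOf d) := loc_of_locAt hloc
  obtain ⟨h3, hcard⟩ := component G d K hF hLoc
  have hall := bridge G d K hF hLoc h3 hcard
  have hdD : d ∈ conjugatesOf d := mem_conjugatesOf_self
  have hconn : ∀ b : G, Conn (conjugatesOf d) d b ↔ b ∈ conjugatesOf d := fun b =>
    ⟨fun h => h.mem hdD, fun h => hall.conn zstar hdD h⟩
  have hD : (conjugatesOf d).ncard = 3510 := by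
    rw [← hcard d hdD]
    exact Nat.card_congr (Equiv.subtypeEquivRight fun b => (hconn b).symm)
  have hG : Nat.card G = 64561751654400 := by
    rw [hall.card_eq zstar hdD, card_centralizer hF L.ext, Nat.card_coe_set_eq, hD]
  exact ident G d K hF hLoc (fun a ha b hb => hall.isThreeTrans zstar ha hb) hD hG

end Cfsg.Agent.R01.Assembly
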