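import Cfsg.Agent.R01.Fusion
import Cfsg.Agent.R01.BaerSplit

/-!
Fusion in a group with a transposition centraliser `2.U_6(2)`: the final statements.
-/

set_option autoImplicit false
set_option linter.unusedSectionVars false

namespace Cfsg.Agent.R01.FusionMain

open Cfsg Cfsg.Agent.LieClassical.HermBasic
open Cfsg.Agent.R01.Lam Cfsg.Agent.R01.Frames Cfsg.Agent.R01.Label Cfsg.Agent.R01.InvForm
open Cfsg.Agent.R01.Squares (Baer)
open Cfsg.Agent.R01.Fusion (lamOf lamSys_z)
open Cfsg.Agent.R01.Start (zel)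
open Cfsg.Agent.R01.Loc (LocAt Loc loc_of_locAt)

section Local

universe u₁ u₂
variable {F : Type u₁} [Field F] [Fintype F] {hF : Fintype.card F = 2 ^ 2}
variable {C : Type u₂} [Group C] [Finite C] {π : C →* PSU 6 F 2} {z : C} {lift : (Fin 6 → F) → C}
variable (L : Lab hF π z z lift)
include L

/-- A Baer subplane with nontrivial product. -/
theorem exists_baer : ∃ u v w, Baer z (lamOf (fun v => lift v * z)) u v w := by
  obtain ⟨u, v, w, h1, h2, h3, h4, h5, h6, h7, h8⟩ :=
    BaerSplit.exists_baer (lamSys_z L) L.perf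
  exact ⟨u, v, w, ⟨h1, h2, h3, h4, h5, h6, h7⟩, h8⟩

/-- `z L(u) L(v)` is a square. -/
theorem sq_two_z {p q : Fin 6 → F} (h : Fr2 p q) : ∃ s : C, s * s = z * (lift p * lift q) := by
  obtain ⟨u, v, w, B⟩ := exists_baer L
  exact Fusion.sq_two_z L B h

/-- The two lifts of an element of rank three are conjugate. -/
theorem conj_three {u v w : Fin 6 → F} (h : Fr3 u v w) :
    ∃ c : C, c * (lift u * lift v * lift w) * c⁻¹ = z * (lift u * lift v * lift w) := by
  obtain ⟨a, b, e, B⟩ := exists_baer L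
  exact Fusion.conj_three L B h

/-- Seven commuting lifts with product one. -/
theorem exists_seven : ∃ u v w, Fr3 u v w ∧
    lift u * lift v * lift w * lift (u + v) * lift (u + w) * lift (v + w) * lift (u + v + w) = 1 := by
  obtain ⟨u, v, w, B⟩ := exists_baer L
  have hf := Fusion.ti3_fr3 B.ti
  refine ⟨u, v, w, hf, ?_⟩
  have hp := B.prod
  have hne : ∀ a b c : F, (a ≠ 0 ∨ b ≠ 0 ∨ c ≠ 0) → a • u + b • v + c • w ≠ 0 := by
    intro a b c h h0
    obtain ⟨h1, h2, h3⟩ := hf.ind a b c h0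
    rcases h with h | h | h
    · exact h h1
    · exact h h2
    · exact h h3
  have e1 : u + v ≠ 0 := by
    have := hne 1 1 0 (Or.inl one_ne_zero)
    rwa [one_smul, one_smul, zero_smul, add_zero] at this
  have e2 : u + w ≠ 0 := by
    have := hne 1 0 1 (Or.inl one_ne_zero)
    rwa [one_smul, one_smul, zero_smul, add_zero] at this
  have e3 : v + w ≠ 0 := by
    have := hne 0 1 1 (Or.inr (Or.inl one_ne_zero))
    rwa [one_smul, one_smul, zero_smul, zero_add] at this
  have e4 : u + v + w ≠ 0 := by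
    have := hne 1 1 1 (Or.inl one_ne_zero)
    rwa [one_smul, one_smul, one_smul] at this
  rw [Fusion.lamOf_ne hf.u_ne, Fusion.lamOf_ne hf.v_ne, Fusion.lamOf_ne hf.w_ne,
    Fusion.lamOf_ne e1, Fusion.lamOf_ne e2, Fusion.lamOf_ne e3, Fusion.lamOf_ne e4] at hp
  have hz := L.ext.comm
  have hzz := L.ext.zz
  have key : ∀ a b : C, a * z * (b * z) = a * b := by
    intro a b
    calc a * z * (b * z) = a * (z * b) * z := by group
      _ = a * (b * z) * z := by rw [← hz b]
      _ = a * b * (z * z) := by group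
      _ = a * b := by rw [hzz, mul_one]
  have key2 : ∀ a b : C, a * (b * z) = a * b * z := fun a b => (mul_assoc a b z).symm
  have h7 : ∀ a₁ a₂ a₃ a₄ a₅ a₆ a₇ : C, a₁ * z * (a₂ * z) * (a₃ * z) * (a₄ * z) * (a₅ * z) *
      (a₆ * z) * (a₇ * z) = a₁ * a₂ * a₃ * a₄ * a₅ * a₆ * a₇ * z := by
    intro a₁ a₂ a₃ a₄ a₅ a₆ a₇
    rw [key a₁ a₂, key2 (a₁ * a₂) a₃, key (a₁ * a₂ * a₃) a₄, key2 _ a₅, key _ a₆, key2 _ a₇]
  rw [h7] at hp
  exact mul_right_cancel (hp.trans (one_mul z).symm)

end Local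

section Main

universe u v

variable {G : Type u} [Group G] [Finite G] {d : G} {F : Type v} [Field F] [Fintype F]
variable {hF : Fintype.card F = 2 ^ 2}
variable {π : Subgroup.centralizer ({d} : Set G) →* PSU 6 F 2}
variable {lift : (Fin 6 → F) → Subgroup.centralizer ({d} : Set G)}

/-- **Fusion** in a group with a transposition centraliser `2.U_6(2)`: the conjugates of `d`
commuting with `d` are `d` and the elements of the labelled class. -/
theorem fusion (L : Lab hF π (zel d) (zel d) lift)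
    (hnwc : ∃ g : G, g * d * g⁻¹ ∈ Subgroup.centralizer ({d} : Set G) ∧ g * d * g⁻¹ ≠ d)
    (x : Subgroup.centralizer ({d} : Set G)) :
    (x : G) ∈ conjugatesOf d ↔ x = zel d ∨ x ∈ Dset lift := by
  obtain ⟨a, b, c, B⟩ := exists_baer L
  obtain ⟨g, hg, hne⟩ := hnwc
  refine Fusion.mem_iff L B ⟨⟨g * d * g⁻¹, hg⟩, isConj_iff.2 ⟨g, rfl⟩, ?_⟩ x
  intro h
  exact hne (congrArg Subtype.val h)

/-- The local hypothesis at `d`. -/
theorem locAt (L : Lab hF π (zel d) (zel d) lift)
    (hnwc : ∃ g : G, g * d * g⁻¹ ∈ Subgroup.centralizer ({d} : Set G) ∧ g * d * g⁻¹ ≠ d) :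
    LocAt hF (conjugatesOf d) d :=
  ⟨π, lift, L, fusion L hnwc⟩

/-- The local hypothesis at all conjugates of `d`. -/
theorem loc (L : Lab hF π (zel d) (zel d) lift)
    (hnwc : ∃ g : G, g * d * g⁻¹ ∈ Subgroup.centralizer ({d} : Set G) ∧ g * d * g⁻¹ ≠ d) :
    Loc hF (conjugatesOf d) :=
  loc_of_locAt (locAt L hnwc)

end Main

end Cfsg.Agent.R01.FusionMain
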