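import Cfsg.Agent.R01.FiHexad

/-!
The fusion step for S1714: assembly.
-/

set_option autoImplicit false

namespace Cfsg.Agent.R01.FiMain

open Cfsg Cfsg.Spor Cfsg.Agent.R01.Lifts Cfsg.Agent.R01.Start Cfsg.Agent.R01.FiFusion
  Cfsg.Agent.R01.FiFacts Cfsg.Agent.R01.FiHexad

variable {C Φ : Type*} [Group C] [Group Φ] {π : C →* Φ} {z : C} {T : Set Φ} {D₀ : Set C}

theorem lkey (L : Lifted π z T D₀) (hT : TFacts T)
    (hfix : ∀ f : Φ, f * f = 1 → ∃ t ∈ T, f * t = t * f) (c : C) (hc : c * c = 1 ∨ c * c = z) :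
    ∃ c₀ : C, (c₀ = 1 ∨ c₀ = z) ∧ (c = c₀ ∨ (∃ x ∈ D₀, c = c₀ * x) ∨
    (∃ x ∈ D₀, ∃ y ∈ D₀, x ≠ y ∧ x * y = y * x ∧ c = c₀ * (x * y)) ∨
    (∃ x y w : C, Tri D₀ x y w ∧ c = c₀ * (x * y * w))) := by
  have hff : π c * π c = 1 := by
    rw [← map_mul]
    rcases hc with h | h
    · rw [h, map_one]
    · rw [h, L.ext.mapz]
  have main : ∀ b : C, π c = π b → ∃ c₀ : C, (c₀ = 1 ∨ c₀ = z) ∧ c = c₀ * b := by
    intro b hb
    rcases L.ext.map_eq.1 hb with h | h
    · exact ⟨1, Or.inl rfl, by rw [one_mul]; exact h⟩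
    · exact ⟨z, Or.inr rfl, by rw [← L.ext.comm]; exact h⟩
  rcases hT.inv (π c) hff (hfix _ hff) with h | h | ⟨a, ha, b, hb, hab, hcc, h⟩ | ⟨a, b, d, ht, h⟩
  · obtain ⟨c₀, h0, h1⟩ := main 1 (by rw [h, map_one])
    exact ⟨c₀, h0, Or.inl (by rw [h1, mul_one])⟩
  · obtain ⟨x, hx, hx'⟩ := L.surj _ h
    obtain ⟨c₀, h0, h1⟩ := main x hx'.symm
    exact ⟨c₀, h0, Or.inr (Or.inl ⟨x, hx, h1⟩)⟩
  · obtain ⟨x, hx, rfl⟩ := L.surj _ ha
    obtain ⟨y, hy, rfl⟩ := L.surj _ hb
    obtain ⟨c₀, h0, h1⟩ := main (x * y) (by rw [h, map_mul])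
    exact ⟨c₀, h0, Or.inr (Or.inr (Or.inl ⟨x, hx, y, hy, fun h => hab (by rw [h]),
      L.comm _ hx _ hy hcc, h1⟩))⟩
  · obtain ⟨x, hx, rfl⟩ := L.surj _ ht.mx
    obtain ⟨y, hy, rfl⟩ := L.surj _ ht.my
    obtain ⟨w, hw, rfl⟩ := L.surj _ ht.mw
    obtain ⟨c₀, h0, h1⟩ := main (x * y * w) (by rw [h, map_mul, map_mul])
    exact ⟨c₀, h0, Or.inr (Or.inr (Or.inr ⟨x, y, w, ⟨hx, hy, hw, fun h => ht.xy (by rw [h]),
      fun h => ht.xw (by rw [h]), fun h => ht.yw (by rw [h]), L.comm _ hx _ hy ht.cxy,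
      L.comm _ hx _ hw ht.cxw, L.comm _ hy _ hw ht.cyw⟩, h1⟩))⟩

theorem tri_map (L : Lifted π z T D₀) {x y w : C} (h : Tri D₀ x y w) :
    Tri T (π x) (π y) (π w) :=
  ⟨L.map _ h.mx, L.map _ h.my, L.map _ h.mw, fun e => h.xy (L.inj _ h.mx _ h.my e),
    fun e => h.xw (L.inj _ h.mx _ h.mw e), fun e => h.yw (L.inj _ h.my _ h.mw e),
    by rw [← map_mul, ← map_mul, h.cxy], by rw [← map_mul, ← map_mul, h.cxw],
    by rw [← map_mul, ← map_mul, h.cyw]⟩

theorem tri_lift (L : Lifted π z T D₀) {x y w : C} (mx : x ∈ D₀) (my : y ∈ D₀)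
    (mw : w ∈ D₀) (h : Tri T (π x) (π y) (π w)) : Tri D₀ x y w :=
  ⟨mx, my, mw, fun e => h.xy (by rw [e]), fun e => h.xw (by rw [e]), fun e => h.yw (by rw [e]),
    L.comm _ mx _ my h.cxy, L.comm _ mx _ mw h.cxw, L.comm _ my _ mw h.cyw⟩

theorem conj_eq (L : Lifted π z T D₀) {k x y : C} (hx : x ∈ D₀) (hy : y ∈ D₀)
    (h : π k * π x * (π k)⁻¹ = π y) : k * x * k⁻¹ = y := by
  apply L.inj _ (L.conj k x hx) _ hy
  rw [map_mul, map_mul, map_inv, h]

/-- The products of triples are conjugate. -/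
theorem tri_conj (L : Lifted π z T D₀) (hT : TFacts T) {x y w x' y' w' : C}
    (h : Tri D₀ x y w) (h' : Tri D₀ x' y' w') : ∃ c : C, c * (x * y * w) * c⁻¹ = x' * y' * w' := by
  obtain ⟨g, g1, g2, g3⟩ := hT.tri _ _ _ _ _ _ (tri_map L h) (tri_map L h')
  obtain ⟨k, rfl⟩ := L.ext.surj g
  refine ⟨k, ?_⟩
  rw [← conj_eq L h.mx h'.mx g1, ← conj_eq L h.my h'.my g2, ← conj_eq L h.mw h'.mw g3]
  group

/-- A product of three commuting involutions is an involution. -/
theorem prod3_sq {C : Type*} [Group C] {x y w : C} (hx : x * x = 1) (hy : y * y = 1)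
    (hw : w * w = 1) (cxy : x * y = y * x) (cxw : x * w = w * x) (cyw : y * w = w * y) :
    x * y * w * (x * y * w) = 1 := by
  calc x * y * w * (x * y * w) = x * y * (w * x) * y * w := by group
    _ = x * y * (x * w) * y * w := by rw [cxw]
    _ = x * (y * x) * w * y * w := by group
    _ = x * (x * y) * w * y * w := by rw [cxy]
    _ = (x * x) * y * (w * y) * w := by group
    _ = (x * x) * y * (y * w) * w := by rw [cyw]
    _ = (x * x) * (y * y) * (w * w) := by group
    _ = 1 := by rw [hx, hy, hw, mul_one, mul_one]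

/-- **The facts on `D₀`.** -/
theorem cFacts (L : Lifted π z T D₀) (hT : TFacts T)
    (hfix : ∀ f : Φ, f * f = 1 → ∃ t ∈ T, f * t = t * f)
    (hsign : ∀ a ∈ D₀, ∀ b ∈ D₀, ∀ c ∈ D₀, ∀ a' ∈ D₀, ∀ b' ∈ D₀, ∀ c' ∈ D₀,
      Hex T (π a) (π b) (π c) (π a') (π b') (π c') → a * b * c * (a' * b' * c') = z) :
    CFacts z D₀ where
  zc := L.ext.comm
  zz := L.ext.zz
  sq := L.sq
  nez := by
    rintro x hx rfl
    exact hT.ne _ (L.map _ hx) L.ext.mapz
  ne := by
    rintro x hx rfl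
    exact hT.ne _ (L.map _ hx) (map_one π)
  conj := L.conj
  trans := by
    intro x hx y hy
    obtain ⟨g, hg⟩ := hT.trans _ (L.map _ hx) _ (L.map _ hy)
    obtain ⟨k, rfl⟩ := L.ext.surj g
    exact ⟨k, conj_eq L hx hy hg⟩
  key := lkey L hT hfix
  two := by
    intro x hx y hy hne hxy
    have h := hT.two _ (L.map _ hx) _ (L.map _ hy) (fun e => hne (L.inj _ hx _ hy e))
      (by rw [← map_mul, ← map_mul, hxy])
    constructor
    · intro h1
      apply h
      rw [← map_mul]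
      exact L.map _ h1
    · intro h1
      apply h
      have := L.map _ h1
      rwa [map_mul, map_mul, L.ext.mapz, mul_one] at this
  square := by
    intro x hx y hy hne hxy
    have sx := L.sq x hx
    have sy := L.sq y hy
    have hneT : π x ≠ π y := fun e => hne (L.inj _ hx _ hy e)
    have hcT : π x * π y = π y * π x := by rw [← map_mul, ← map_mul, hxy]
    constructor
    · obtain ⟨t, ht, h1, h2⟩ := hT.link _ (L.map _ hx) _ (L.map _ hy) hneT hcT
      obtain ⟨w, hw, rfl⟩ := L.surj t ht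
      have sw := L.sq w hw
      have n1 : x * w ≠ w * x := fun e => h1 (by rw [← map_mul, ← map_mul, e])
      have n2 : y * w ≠ w * y := fun e => h2 (by rw [← map_mul, ← map_mul, e])
      have b1 := (L.three x hx w hw).resolve_left n1
      have b2 := (L.three y hy w hw).resolve_left n2
      have br : ∀ u : C, u * u = 1 → (u * w) ^ 3 = 1 → u * w * u = w * u * w := by
        intro u hu h3
        have h4 : u * w * u * (w * u * w) = 1 := by
          rw [← h3, pow_succ, pow_two]; group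
        have h5 := eq_inv_of_mul_eq_one_left h4
        rw [h5, mul_inv_rev, mul_inv_rev, inv_eq_of_mul_eq_one_left sw,
          inv_eq_of_mul_eq_one_left hu, mul_assoc]
      have r1 := br x sx b1
      have r2 := br y sy b2
      refine ⟨w * (x * w * y) * w, ?_⟩
      calc w * (x * w * y) * w * (w * (x * w * y) * w)
          = w * x * w * y * (w * w) * x * w * y * w := by group
        _ = w * x * w * (y * x) * w * y * w := by rw [sw]; group
        _ = w * x * w * (x * y) * w * y * w := by rw [hxy]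
        _ = w * (x * w * x) * (y * w * y) * w := by group
        _ = w * (w * x * w) * (w * y * w) * w := by rw [r1, r2]
        _ = (w * w) * x * (w * w) * y * (w * w) := by group
        _ = x * y := by rw [sw, one_mul, mul_one, mul_one]
    · obtain ⟨t1, t2, t3, t4, y1, y2, hH, hy1, hy2, hy12, e1, e2⟩ :=
        hT.elat _ (L.map _ hx) _ (L.map _ hy) hneT hcT
      obtain ⟨a1, ha1, rfl⟩ := L.surj _ hH.t.mw
      obtain ⟨a2, ha2, rfl⟩ := L.surj _ hH.t'.mx
      obtain ⟨a3, ha3, rfl⟩ := L.surj _ hH.t'.my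
      obtain ⟨a4, ha4, rfl⟩ := L.surj _ hH.t'.mw
      obtain ⟨b1, hb1, rfl⟩ := L.surj _ hy1
      obtain ⟨b2, hb2, rfl⟩ := L.surj _ hy2
      have hs := hsign x hx y hy a1 ha1 a2 ha2 a3 ha3 a4 ha4 hH
      have hb12 : b1 * b2 = b2 * b1 := L.comm _ hb1 _ hb2 hy12
      have f1 : b1 * b2 * a1 * (b1 * b2)⁻¹ = a3 := conj_eq L ha1 ha3 (by rw [map_mul]; exact e1)
      have f2 : b1 * b2 * a2 * (b1 * b2)⁻¹ = a4 := conj_eq L ha2 ha4 (by rw [map_mul]; exact e2)
      have sb : b1 * b2 * (b1 * b2) = 1 := by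
        calc b1 * b2 * (b1 * b2) = b1 * (b2 * b1) * b2 := by group
          _ = b1 * (b1 * b2) * b2 := by rw [hb12]
          _ = (b1 * b1) * (b2 * b2) := by group
          _ = 1 := by rw [L.sq _ hb1, L.sq _ hb2, one_mul]
      have ib : (b1 * b2)⁻¹ = b1 * b2 := inv_eq_of_mul_eq_one_left sb
      refine ⟨a1 * a2 * (b1 * b2), ?_⟩
      have e3 : a1 * a2 * (b1 * b2) * (a1 * a2 * (b1 * b2)) = a1 * (a2 * a3 * a4) := by
        calc a1 * a2 * (b1 * b2) * (a1 * a2 * (b1 * b2))
            = a1 * a2 * ((b1 * b2) * a1 * (b1 * b2)⁻¹) * ((b1 * b2) * a2 * (b1 * b2)) := by group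
          _ = a1 * a2 * a3 * ((b1 * b2) * a2 * (b1 * b2)⁻¹) := by rw [f1, ib]
          _ = a1 * a2 * a3 * a4 := by rw [f2]
          _ = a1 * (a2 * a3 * a4) := by group
      rw [e3]
      have sxy : x * y * (x * y) = 1 := by
        calc x * y * (x * y) = x * (y * x) * y := by group
          _ = x * (x * y) * y := by rw [hxy]
          _ = (x * x) * (y * y) := by group
          _ = 1 := by rw [sx, sy, one_mul]
      calc a1 * (a2 * a3 * a4) = (x * y * (x * y)) * a1 * (a2 * a3 * a4) := by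
            rw [sxy, one_mul]
        _ = x * y * (x * y * a1 * (a2 * a3 * a4)) := by group
        _ = x * y * z := by rw [hs]
  tri := by
    intro x y w x' y' w' h h'
    refine ⟨tri_conj L hT h h', ?_⟩
    obtain ⟨a, b, c, hH⟩ := hT.hex _ _ _ (tri_map L h')
    obtain ⟨a, ha, rfl⟩ := L.surj _ hH.t'.mx
    obtain ⟨b, hb, rfl⟩ := L.surj _ hH.t'.my
    obtain ⟨c, hc, rfl⟩ := L.surj _ hH.t'.mw
    have hs := hsign _ h'.mx _ h'.my _ h'.mw _ ha _ hb _ hc hH
    have ht := tri_lift L ha hb hc hH.t'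
    obtain ⟨k, hk⟩ := tri_conj L hT h ht
    refine ⟨k, ?_⟩
    rw [hk]
    have h1 := prod3_sq (L.sq _ h'.mx) (L.sq _ h'.my) (L.sq _ h'.mw) h'.cxy h'.cxw h'.cyw
    calc a * b * c = (x' * y' * w' * (x' * y' * w')) * (a * b * c) := by rw [h1, one_mul]
      _ = x' * y' * w' * (x' * y' * w' * (a * b * c)) := by group
      _ = x' * y' * w' * z := by rw [hs]
  four := by
    obtain ⟨a, b, c, c', h1, h2, h3, h4⟩ := hT.four
    obtain ⟨a, ha, rfl⟩ := L.surj _ h1.mx
    obtain ⟨b, hb, rfl⟩ := L.surj _ h1.my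
    obtain ⟨c, hc, rfl⟩ := L.surj _ h1.mw
    obtain ⟨c', hc', rfl⟩ := L.surj _ h2.mw
    exact ⟨a, b, c, c', tri_lift L ha hb hc h1, tri_lift L ha hb hc' h2, fun e => h3 (by rw [e]),
      L.comm _ hc _ hc' h4⟩

/-- The output of `lifts_of_loc`. -/
theorem lifted_of (h : Ext π z)
    (hD : IsThreeTranspositionClass D₀) (hbij : Set.BijOn π D₀ T) (hnz : ∀ c ∈ D₀, c * z ∉ D₀)
    (hcomm : ∀ a b, π a ∈ T → π b ∈ T → Commute (π a) (π b) → Commute a b) :
    Lifted π z T D₀ where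
  ext := h
  sq x hx := by
    have := hD.1.1 x hx
    rw [← pow_two, ← this, pow_orderOf_eq_one]
  conj c x hx := by
    obtain ⟨-, ⟨t, -, ht⟩, -⟩ := hD
    rw [ht] at hx ⊢
    exact IsConj.trans hx (isConj_iff.2 ⟨c, rfl⟩)
  map x hx := hbij.1 hx
  inj x hx y hy e := hbij.2.1 hx hy e
  surj t ht := hbij.2.2 ht
  nz := hnz
  comm x hx y hy e := hcomm x y (hbij.1 hx) (hbij.1 hy) e
  three x hx y hy := by
    rcases hD.1.2 x hx y hy with h1 | h1
    · left
      have sx : x⁻¹ = x := inv_eq_of_mul_eq_one_left (by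
        have := hD.1.1 x hx
        rw [← pow_two, ← this, pow_orderOf_eq_one])
      have sy : y⁻¹ = y := inv_eq_of_mul_eq_one_left (by
        have := hD.1.1 y hy
        rw [← pow_two, ← this, pow_orderOf_eq_one])
      have h2 : (x * y)⁻¹ = x * y := inv_eq_of_mul_eq_one_left (by rw [← pow_two, h1])
      rw [mul_inv_rev, sx, sy] at h2
      exact h2.symm
    · right; exact h1

universe u

/-- **Fusion for S1714.** -/
theorem fusion {G : Type u} [Group G] {z : G} {π : Subgroup.centralizer ({z} : Set G) →* Spor.Fi22}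
    {T : Set Spor.Fi22} {D₀ : Set (Subgroup.centralizer ({z} : Set G))}
    (L : Lifted π (zel z) T D₀) (hT : TFacts T)
    (hperf : commutator (Subgroup.centralizer ({z} : Set G)) = ⊤)
    (hfix : ∀ f : Spor.Fi22, f * f = 1 → ∃ t ∈ T, f * t = t * f)
    (hgen : ∀ p, (PresentedGroup.of p : Spor.Fi22) ∈ T)
    (hnwc : ∃ g : G, g * z * g⁻¹ ∈ Subgroup.centralizer ({z} : Set G) ∧ g * z * g⁻¹ ≠ z) :
    ∃ D₁ : Set (Subgroup.centralizer ({z} : Set G)),
      Lifted π (zel z) T D₁ ∧ CFacts (zel z) D₁ ∧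
      (∀ a ∈ D₁, ∀ b ∈ D₁, ∀ c ∈ D₁, ∀ a' ∈ D₁, ∀ b' ∈ D₁, ∀ c' ∈ D₁,
        Hex T (π a) (π b) (π c) (π a') (π b') (π c') → a * b * c * (a' * b' * c') = zel z) ∧
      (∀ x : Subgroup.centralizer ({z} : Set G), (x : G) ∈ conjugatesOf z ↔ x = zel z ∨ x ∈ D₁) := by
  have zne : z ≠ 1 := fun h => L.ext.zne (Subtype.ext h)
  have key := lkey L hT hfix
  have hns : ∀ c : Subgroup.centralizer ({z} : Set G), c * c ≠ zel z := by
    intro c hc
    obtain ⟨c₀, h0, hcc⟩ := key c (Or.inr hc)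
    have hsq : ∀ b, c = c₀ * b → b * b = 1 → False := by
      intro b hb hbb
      have hcb : c₀ * b = b * c₀ := by
        rcases h0 with rfl | rfl
        · group
        · exact (L.ext.comm b).symm
      have h00 : c₀ * c₀ = 1 := by
        rcases h0 with rfl | rfl
        · group
        · exact L.ext.zz
      apply L.ext.zne
      rw [← hc, hb]
      calc c₀ * b * (c₀ * b) = c₀ * (b * c₀) * b := by group
        _ = c₀ * (c₀ * b) * b := by rw [hcb]
        _ = (c₀ * c₀) * (b * b) := by group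
        _ = 1 := by rw [h00, hbb, one_mul]
    rcases hcc with hcc | ⟨x, hx, hcc⟩ | ⟨x, hx, y, hy, -, hxy, hcc⟩ | ⟨x, y, w, ht, hcc⟩
    · exact hsq 1 (by rw [mul_one, hcc]) (one_mul 1)
    · exact hsq x hcc (L.sq x hx)
    · refine hsq (x * y) hcc ?_
      calc x * y * (x * y) = x * (y * x) * y := by group
        _ = x * (x * y) * y := by rw [hxy]
        _ = (x * x) * (y * y) := by group
        _ = 1 := by rw [L.sq x hx, L.sq y hy, one_mul]
    · exact hsq (x * y * w) hcc (prod3_sq (L.sq x ht.mx) (L.sq y ht.my) (L.sq w ht.mw) ht.cxy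
        ht.cxw ht.cyw)
  have hsign : ∀ a ∈ D₀, ∀ b ∈ D₀, ∀ c ∈ D₀, ∀ a' ∈ D₀, ∀ b' ∈ D₀, ∀ c' ∈ D₀,
      Hex T (π a) (π b) (π c) (π a') (π b') (π c') → a * b * c * (a' * b' * c') = zel z :=
    fun a ha b hb c hc a' ha' b' hb' c' hc' hH =>
      L.hexad_sign hT hperf hns hgen ha hb hc ha' hb' hc' hH
  have hcf := cFacts L hT hfix hsign
  rcases FiFusion.fusion hcf zne hnwc with h | h
  · exact ⟨D₀, L, hcf, hsign, h⟩
  · -- the other class
    have hz2 : ∀ a : Subgroup.centralizer ({z} : Set G), a * zel z * zel z = a := fun a => by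
      rw [mul_assoc, L.ext.zz, mul_one]
    have hzc' : ∀ a b : Subgroup.centralizer ({z} : Set G), a * zel z * (b * zel z) = a * b := by
      intro a b
      calc a * zel z * (b * zel z) = a * (zel z * b) * zel z := by group
        _ = a * (b * zel z) * zel z := by rw [L.ext.comm b]
        _ = a * b * (zel z * zel z) := by group
        _ = a * b := by rw [L.ext.zz, mul_one]
    have L' : Lifted π (zel z) T {x | x * zel z ∈ D₀} := by
      refine ⟨L.ext, ?_, ?_, ?_, ?_, ?_, ?_, ?_, ?_⟩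
      · intro x hx
        rw [← hzc' x x]
        exact L.sq _ hx
      · intro c x hx
        show c * x * c⁻¹ * zel z ∈ D₀
        have : c * x * c⁻¹ * zel z = c * (x * zel z) * c⁻¹ := by
          calc c * x * c⁻¹ * zel z = c * x * (c⁻¹ * zel z) := by group
            _ = c * x * (zel z * c⁻¹) := by rw [L.ext.comm c⁻¹]
            _ = c * (x * zel z) * c⁻¹ := by group
        rw [this]
        exact L.conj c _ hx
      · intro x hx
        have := L.map _ hx
        rwa [map_mul, L.ext.mapz, mul_one] at this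
      · intro x hx y hy e
        have := L.inj _ hx _ hy (by rw [map_mul, map_mul, L.ext.mapz, mul_one, mul_one, e])
        exact mul_right_cancel this
      · intro t ht
        obtain ⟨x, hx, rfl⟩ := L.surj t ht
        refine ⟨x * zel z, ?_, by rw [map_mul, L.ext.mapz, mul_one]⟩
        show x * zel z * zel z ∈ D₀
        rw [hz2]; exact hx
      · intro x hx hx'
        apply L.nz _ hx'
        show x * zel z * zel z * zel z ∈ D₀
        rw [hz2]; exact hx
      · intro x hx y hy e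
        have := L.comm _ hx _ hy (by
          rw [map_mul, map_mul, L.ext.mapz, mul_one, mul_one, e])
        rwa [hzc', hzc'] at this
      · intro x hx y hy
        have := L.three _ hx _ hy
        rwa [hzc', hzc'] at this
    refine ⟨_, L', hcf.twist, ?_, h⟩
    intro a ha b hb c hc a' ha' b' hb' c' hc' hH
    have hm : ∀ x, π (x * zel z) = π x := fun x => by rw [map_mul, L.ext.mapz, mul_one]
    have := hsign _ ha _ hb _ hc _ ha' _ hb' _ hc' (by rw [hm, hm, hm, hm, hm, hm]; exact hH)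
    have p3 : ∀ x y w : Subgroup.centralizer ({z} : Set G),
        x * zel z * (y * zel z) * (w * zel z) = x * y * w * zel z := by
      intro x y w
      rw [hzc']; group
    rwa [p3, p3, hzc'] at this

end Cfsg.Agent.R01.FiMain
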