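import Cfsg.Agent.R01.Assembly23
import Cfsg.Agent.R01.GlueAbs

/-!
The gluing step of S1714: `GlueSt`.
-/

set_option autoImplicit false

namespace Cfsg.Agent.R01.GlueFi23

open Cfsg Cfsg.Spor Cfsg.Agent.Fischer
open Cfsg.Agent.R01.Lifts Cfsg.Agent.R01.Start Cfsg.Agent.R01.AlphaGeneric
open Cfsg.Agent.R01.AlphaFi23 Cfsg.Agent.R01.FiHexad Cfsg.Agent.R01.FiFacts Cfsg.Agent.R01.Fi22Facts
open Cfsg.Agent.R01.Assembly23 Cfsg.Agent.R01.GlueAbs
open Cfsg.Agent.Fischer.Fi23Class (K)
open Cfsg.Agent.Fischer.Fi23Z (z0)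
open Cfsg.Agent.Fischer.Fi23Hom (gen)

universe u

/-- `K` is the centraliser of `z0`. -/
theorem mem_K_iff (g : Spor.Fi23) : g ∈ K ↔ g * z0 = z0 * g := by
  haveI := finite_fi23
  constructor
  · exact Fi23Class.comm_z0 card_fi23.le g
  · intro h
    obtain ⟨R, hR, hR0⟩ := Fi23Class.exists_rank3 card_fi23.le
    have h1 : g • R.x0 = R.x0 := by
      rw [R.smul_eq_iff_comm, hR]; exact h
    rw [hR0] at h1
    have h2 : ((g * 1 : Spor.Fi23) : Spor.Fi23 ⧸ K) = ((1 : Spor.Fi23) : Spor.Fi23 ⧸ K) := h1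
    rw [mul_one] at h2
    have h3 := QuotientGroup.eq.1 h2.symm
    simpa using h3

theorem K_eq : (K : Subgroup Spor.Fi23) = Subgroup.centralizer ({z0} : Set Spor.Fi23) := by
  ext g
  rw [mem_K_iff, Subgroup.mem_centralizer_singleton_iff]

theorem gen_mem_conj (x : Fi23.Gen) : gen x ∈ conjugatesOf z0 := by
  haveI := finite_fi23
  exact Fi23Class.isConj_gen card_fi23.le x

theorem gen_a_ne : (gen .a : Spor.Fi23) ≠ z0 := by
  intro h
  apply Fi23Class.z0_ncomm
  rw [← h]
  exact Fi23Class.gen_comm .a .j (by decide)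

/-- The transpositions in `K`. -/
theorem fus_K {x : Spor.Fi23} (hx : x ∈ conjugatesOf z0) (hxc : x * z0 = z0 * x) (hne : x ≠ z0) :
    ∃ k : Spor.Fi23, k * z0 = z0 * k ∧ k * gen .a * k⁻¹ = x := by
  haveI := finite_fi23
  obtain ⟨R, hR, -⟩ := Fi23Class.exists_rank3 card_fi23.le
  have key : ∀ x : Spor.Fi23, x ∈ conjugatesOf z0 → x * z0 = z0 * x → x ≠ z0 →
      ∃ h : Spor.Fi23, h * z0 = z0 * h ∧ h * R.t R.c * h⁻¹ = x := by
    intro x hx hxc hne
    obtain ⟨g, hg⟩ := isConj_iff.1 (show IsConj z0 x from hx)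
    have h1 : R.t (g • R.x0) = x := by rw [R.map_smul, hR, hg]
    have h2 : R.Com R.x0 (g • R.x0) := by
      unfold Abstract.Rank3.Com
      rw [h1, hR]; exact hxc.symm
    rcases R.com_x0_iff.1 h2 with h3 | ⟨h, h3, h4⟩
    · exfalso
      apply hne
      rw [← h1, h3, hR]
    · refine ⟨h, ?_, ?_⟩
      · have := R.smul_comm_of_fix h3
        rwa [hR] at this
      · rw [← R.map_smul, h4, h1]
  obtain ⟨h, h1, h2⟩ := key x hx hxc hne
  obtain ⟨h', h1', h2'⟩ := key (gen .a) (gen_mem_conj .a)
    (Fi23Class.comm_z0 card_fi23.le _ (Fi23Class.gen_mem_K .a (by decide))) gen_a_ne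
  refine ⟨h * h'⁻¹, ?_, ?_⟩
  · have h3 : Commute h z0 := h1
    have h4 : Commute h' z0 := h1'
    exact (h3.mul_left h4.inv_left).eq
  · rw [← h2', ← h2]; group

/-- **The gluing step.** -/
theorem glue : GlueSt.{u} := by
  intro G _ _ d π D₀ hF α s hs htop hR h1 h2 h3
  haveI := finite_fi23
  set eK : K ≃* Subgroup.centralizer ({z0} : Set Spor.Fi23) := MulEquiv.subgroupCongr K_eq with heK
  set e : Subgroup.centralizer ({d} : Set G) ≃* Subgroup.centralizer ({z0} : Set Spor.Fi23) :=
    α.trans eK with he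
  have hcoe : ∀ x, (e x : Spor.Fi23) = (α x : Spor.Fi23) := fun x => rfl
  have hez : e (zel d) = zel z0 := Subtype.ext h2
  have hT1 : (1 : Spor.Fi22) ∉ T := by
    intro h
    have := isThreeTranspositionClass_T.1.1 _ h
    rw [orderOf_one] at this
    exact absurd this (by norm_num)
  have hcl : ∀ x ∈ D₀, ∀ y ∈ D₀, ∃ c : Subgroup.centralizer ({d} : Set G), c * x * c⁻¹ = y := by
    intro x hx y hy
    obtain ⟨t0, ht0, hD⟩ := hF.cls.2.1
    rw [hD] at hx hy
    exact isConj_iff.1 (IsConj.trans (IsConj.symm hx) hy)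
  have hmem' : ∀ x : Subgroup.centralizer ({z0} : Set Spor.Fi23),
      (x : Spor.Fi23) ∈ conjugatesOf z0 ↔ x = zel z0 ∨ e.symm x ∈ D₀ := by
    intro x
    have hxc : (x : Spor.Fi23) * z0 = z0 * x := Subgroup.mem_centralizer_singleton_iff.1 x.2
    have hxe : (α (e.symm x) : Spor.Fi23) = x := by
      rw [← hcoe, e.apply_symm_apply]
    rw [h3]
    constructor
    · intro hx
      by_cases hne : (x : Spor.Fi23) = z0
      · left; exact Subtype.ext hne
      · right
        obtain ⟨k, hk1, hk2⟩ := fus_K hx hxc hne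
        refine isConj_iff.2 ⟨⟨k, (mem_K_iff k).2 hk1⟩, ?_⟩
        apply Subtype.ext
        rw [hxe, ← hk2]
        rfl
    · rintro (hx | hx)
      · rw [hx]; exact mem_conjugatesOf_self
      · obtain ⟨k, hk⟩ := isConj_iff.1 hx
        have h4 := congrArg Subtype.val hk
        rw [hxe] at h4
        rw [← h4]
        exact IsConj.trans (gen_mem_conj .a) (isConj_iff.2 ⟨(k : Spor.Fi23), rfl⟩)
  have hsc : ∀ x y : Fi22.Gen, coxLabel Fi22.edges x y = 2 → s x * s y = s y * s x :=
    fun x y h => hR.comm h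
  have hes : ∀ x, (e (s x) : Spor.Fi23) = gen (emb x) := fun x => h1 x
  have hgc : ∀ x y : Fi23.Gen, coxLabel Fi23.edges x y = 2 → (gen x : Spor.Fi23) * gen y = gen y * gen x :=
    fun x y h => Fi23Class.gen_comm x y h
  obtain ⟨j, hjD, hj, hbj⟩ := exists_j (hF := Unit22.hF) tFacts hT1 loc hF.lifted hF.sign hF.mem_iff hcl e hez
    hmem' (a := s .a) (b := s .b) (i := s .i) (hs .a) (hs .i)
    (by
      intro h
      have h4 : (gen .a : Spor.Fi23) = gen .i := by
        have := hes .a
        rw [h, hes .i] at this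
        exact this.symm
      apply CompFi23.not_comm_ab
      rw [h4]
      exact hgc .i .b (by decide))
    (hsc .i .a (by decide)) (hsc .b .i (by decide)) (j' := gen .j) (gen_mem_conj .j)
    (by rw [hes]; exact hgc .j .a (by decide)) (by rw [hes]; exact hgc .j .i (by decide))
    (by rw [hes]; exact hgc .b .j (by decide))
  -- the relations
  set f : Fi23.Gen → G := fun x => match x with
    | .a => s .a
    | .b => s .b
    | .c => s .c
    | .d => s .d
    | .e => s .e
    | .f => s .f
    | .g => s .g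
    | .h => s .h
    | .i => s .i
    | .j => j with hf
  have hfe : ∀ x, f (emb x) = (s x : G) := by intro x; cases x <;> rfl
  have hdd : d * d = 1 := congrArg Subtype.val hF.lifted.ext.zz
  have hsq : j * j = 1 := by
    obtain ⟨g, hg⟩ := isConj_iff.1 (show IsConj d j from hjD)
    rw [← hg]
    calc g * d * g⁻¹ * (g * d * g⁻¹) = g * (d * d) * g⁻¹ := by group
      _ = 1 := by rw [hdd]; group
  have hxj : ∀ x : Fi22.Gen, ((s x : G) * j) ^ coxLabel Fi23.edges (emb x) .j = 1 := by
    intro x
    by_cases hxb : x = .b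
    · subst hxb
      have hl : coxLabel Fi23.edges (emb .b) .j = 2 := by decide
      have hbb : (s .b : G) * s .b = 1 := congrArg Subtype.val (hR.sq .b)
      rw [hl, pow_two]
      calc (s .b : G) * j * (s .b * j) = (s .b : G) * (j * s .b) * j := by group
        _ = (s .b : G) * (s .b * j) * j := by rw [hbj]
        _ = ((s .b : G) * s .b) * (j * j) := by group
        _ = 1 := by rw [hbb, hsq, one_mul]
    · have hxa : s x * s .a = s .a * s x := by
        by_cases hxa : x = .a
        · rw [hxa]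
        · apply hsc
          revert hxa hxb
          cases x <;> decide
      rw [hj (s x) hxa, hes]
      exact Fi23Final.gen_rel _ _
  have hcox : ∀ x y, (f x * f y) ^ coxLabel Fi23.edges x y = 1 := by
    intro x y
    by_cases hx : x = .j
    · by_cases hy : y = .j
      · subst hx; subst hy
        have hl : coxLabel Fi23.edges .j .j = 1 := by decide
        rw [hl, pow_one]
        exact hsq
      · subst hx
        obtain ⟨y, rfl⟩ := exists_emb hy
        have hl : coxLabel Fi23.edges .j (emb y) = coxLabel Fi23.edges (emb y) .j := by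
          cases y <;> decide
        rw [hfe, hl]
        show (j * (s y : G)) ^ _ = 1
        have h4 : j * (s y : G) = j * ((s y : G) * j) * j⁻¹ := by group
        rw [h4, conj_pow, hxj, mul_one, mul_inv_cancel]
    · obtain ⟨x, rfl⟩ := exists_emb hx
      by_cases hy : y = .j
      · subst hy
        rw [hfe]
        exact hxj x
      · obtain ⟨y, rfl⟩ := exists_emb hy
        rw [hfe, hfe, lab_emb]
        exact congrArg Subtype.val (hR.cox x y)
  have hrel : ∀ r ∈ coxRelators Fi23.edges ∪ {r | r ∈ Fi23.extra}, FreeGroup.lift f r = 1 := by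
    rintro r (⟨x, _, y, _, rfl⟩ | hr)
    · rw [map_pow, map_mul, FreeGroup.lift_apply_of, FreeGroup.lift_apply_of]
      exact hcox x y
    · simp only [Fi23.extra, Set.mem_ofPred_eq, List.mem_cons, List.not_mem_nil, or_false] at hr
      rcases hr with rfl | rfl
      · simp only [map_pow, map_mul, FreeGroup.lift_apply_of]
        exact congrArg Subtype.val hR.spider
      · simp only [map_pow, map_mul, FreeGroup.lift_apply_of]
        exact congrArg Subtype.val hR.e7a
  refine ⟨PresentedGroup.toGroup hrel, ?_⟩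
  have hhom : (PresentedGroup.toGroup hrel).comp (K.subtype.comp α.toMonoidHom) =
      (Subgroup.centralizer ({d} : Set G)).subtype := by
    apply MonoidHom.eq_of_eqOn_dense htop
    rintro _ ⟨x, rfl⟩
    show PresentedGroup.toGroup hrel (α (s x) : Spor.Fi23) = (s x : G)
    rw [h1, ← hfe]
    exact PresentedGroup.toGroup.of hrel
  exact fun x => DFunLike.congr_fun hhom x

end Cfsg.Agent.R01.GlueFi23
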