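import Cfsg.Agent.R01.AlphaIso
import Cfsg.Agent.Fischer.Fi23H

/-!
The centraliser `K = ⟨a, …, i⟩` of `z0 = (bcdefgh)^9` in the presented group `Fi23` satisfies the relations of
`AlphaGeneric.ZRels` and has order `2·|Fi22|`; every perfect double cover of `Fi22` of the kind considered in
`AlphaIso` is isomorphic to it.
-/

set_option autoImplicit false

namespace Cfsg.Agent.R01.AlphaFi23

open Cfsg Cfsg.Spor Cfsg.Agent.Fischer
open Cfsg.Agent.R01.AlphaGeneric Cfsg.Agent.R01.Lifts
open Cfsg.Agent.Fischer.Fi23Hom (gen)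
open Cfsg.Agent.Fischer.Fi23Class (K)
open Cfsg.Agent.Fischer.Fi23Z (z0 z63 c7)

/-- The generators of `Fi22` as generators of `Fi23`. -/
def emb : Fi22.Gen → Fi23.Gen
  | .a => .a
  | .b => .b
  | .c => .c
  | .d => .d
  | .e => .e
  | .f => .f
  | .g => .g
  | .h => .h
  | .i => .i

theorem lab_emb : ∀ x y : Fi22.Gen, coxLabel Fi23.edges (emb x) (emb y) = coxLabel Fi22.edges x y := by
  intro x y
  cases x <;> cases y <;> decide

theorem emb_ne (x : Fi22.Gen) : emb x ≠ .j := by cases x <;> decide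

theorem exists_emb {y : Fi23.Gen} (hy : y ≠ .j) : ∃ x, emb x = y := by
  cases y
  case j => exact absurd rfl hy
  case a => exact ⟨.a, rfl⟩
  case b => exact ⟨.b, rfl⟩
  case c => exact ⟨.c, rfl⟩
  case d => exact ⟨.d, rfl⟩
  case e => exact ⟨.e, rfl⟩
  case f => exact ⟨.f, rfl⟩
  case g => exact ⟨.g, rfl⟩
  case h => exact ⟨.h, rfl⟩
  case i => exact ⟨.i, rfl⟩

/-- The generators as elements of `K`. -/
def t (x : Fi22.Gen) : K := ⟨gen (emb x), Fi23Class.gen_mem_K _ (emb_ne x)⟩

theorem t_coe (x : Fi22.Gen) : (t x : Fi23) = gen (emb x) := rfl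

theorem closure_t : Subgroup.closure (Set.range t) = ⊤ := by
  have h1 : Subgroup.map K.subtype (Subgroup.closure (Set.range t)) = Subgroup.map K.subtype ⊤ := by
    rw [MonoidHom.map_closure, ← Set.range_comp, ← MonoidHom.range_eq_map, Subgroup.range_subtype]
    show _ = Subgroup.closure _
    congr 1
    ext y
    constructor
    · rintro ⟨x, rfl⟩
      exact ⟨emb x, emb_ne x, rfl⟩
    · rintro ⟨y, hy, rfl⟩
      obtain ⟨x, rfl⟩ := exists_emb hy
      exact ⟨x, rfl⟩
  exact Subgroup.map_injective (Subgroup.subtype_injective _) h1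

theorem z0_eq : z0 = (gen .b * gen .c * gen .d * gen .e * gen .f * gen .g * gen .h) ^ 9 := by
  have hw : ∀ l m : List Fi23.Gen, Fi23Orb.word (l ++ m) = Fi23Orb.word l * Fi23Orb.word m := by
    intro l m
    rw [Fi23Orb.word, Fi23Orb.word, Fi23Orb.word, List.map_append, List.prod_append]
  have h7 : Fi23Orb.word c7 = gen .b * gen .c * gen .d * gen .e * gen .f * gen .g * gen .h := by
    simp only [Fi23Orb.word, c7, List.map_cons, List.map_nil, List.prod_cons, List.prod_nil, mul_one, mul_assoc]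
  rw [z0, z63]
  simp only [hw]
  rw [h7]
  simp only [pow_succ', pow_zero, mul_one]

theorem z0_mem : z0 ∈ K := by
  rw [z0_eq]
  refine Subgroup.pow_mem _ ?_ _
  have hm : ∀ x, x ≠ Fi23.Gen.j → gen x ∈ K := Fi23Class.gen_mem_K
  exact Subgroup.mul_mem _ (Subgroup.mul_mem _ (Subgroup.mul_mem _ (Subgroup.mul_mem _ (Subgroup.mul_mem _
    (Subgroup.mul_mem _ (hm _ (by decide)) (hm _ (by decide))) (hm _ (by decide))) (hm _ (by decide)))
      (hm _ (by decide))) (hm _ (by decide))) (hm _ (by decide))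

/-- The relations in `K`. -/
theorem zrels : ZRels t ⟨z0, z0_mem⟩ := by
  refine ⟨fun x y => ?_, ?_, ?_, ?_⟩
  · apply Subtype.ext
    show (gen (emb x) * gen (emb y)) ^ _ = 1
    rw [← lab_emb]
    exact Fi23Final.gen_rel _ _
  · apply Subtype.ext
    have h : (Fi23.d * Fi23.c * Fi23.b * Fi23.d * Fi23.e * Fi23.f * Fi23.d * Fi23.h * Fi23.i) ^ 10 ∈
        coxRelators Fi23.edges ∪ {r | r ∈ Fi23.extra} := by
      right
      show _ ∈ Fi23.extra
      unfold Fi23.extra
      simp
    have h1 := PresentedGroup.one_of_mem h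
    simp only [map_pow, map_mul] at h1
    exact h1
  · apply Subtype.ext
    have h : (Fi23.a * Fi23.b * Fi23.c * Fi23.d * Fi23.e * Fi23.f * Fi23.h) ^ 9 ∈
        coxRelators Fi23.edges ∪ {r | r ∈ Fi23.extra} := by
      right
      show _ ∈ Fi23.extra
      unfold Fi23.extra
      simp
    have h1 := PresentedGroup.one_of_mem h
    simp only [map_pow, map_mul] at h1
    exact h1
  · apply Subtype.ext
    exact z0_eq.symm

theorem index_K : (K : Subgroup Fi23).index = 31671 := Cfsg.Agent.SporRec.Fi23Index.index_H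

theorem finite_fi23 : Finite Fi23 := by
  have h1 : Finite K := (card_le zrels closure_t).1
  have h2 : Nat.card Fi23 = Nat.card K * 31671 := by rw [← index_K, Subgroup.card_mul_index]
  exact Nat.finite_of_card_ne_zero (by
    rw [h2]; exact Nat.mul_ne_zero Nat.card_pos.ne' (by norm_num))

theorem card_fi23_le : Nat.card Fi23 ≤ 4089470473293004800 := by
  have h2 : Nat.card Fi23 = Nat.card K * 31671 := by rw [← index_K, Subgroup.card_mul_index]
  rw [h2]
  calc Nat.card K * 31671 ≤ 2 * 64561751654400 * 31671 := Nat.mul_le_mul_right _ (card_le zrels closure_t).2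
    _ = 4089470473293004800 := by norm_num

theorem card_fi23 : Nat.card Fi23 = 4089470473293004800 :=
  haveI := finite_fi23
  Fi23Final.card_eq card_fi23_le

theorem card_K : Nat.card K = 2 * 64561751654400 := by
  have h2 : Nat.card K * 31671 = 4089470473293004800 := by
    rw [← card_fi23, ← index_K, Subgroup.card_mul_index]
  have h3 : (4089470473293004800 : ℕ) = 2 * 64561751654400 * 31671 := by norm_num
  rw [h3] at h2
  exact Nat.eq_of_mul_eq_mul_right (by norm_num) h2

section

variable {C : Type*} [Group C] {π : C →* Spor.Fi22} {z : C}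

/-- **The isomorphism with the centraliser of a transposition of `Fi23`.** -/
theorem exists_alpha (hE : Ext π z) (hperf : commutator C = ⊤) {D : Set C} (hD : IsThreeTranspositionSet D)
    (hb : Set.BijOn π D (conjugatesOf (Fi22PtsRep.gen .a))) (hkey : ∀ c : C, c * c ≠ z) :
    ∃ (α : C ≃* K) (s : Fi22.Gen → C), (∀ x, s x ∈ D) ∧ Subgroup.closure (Set.range s) = ⊤ ∧ ZRels s z ∧
      (∀ x, (α (s x) : Fi23) = gen (emb x)) ∧ (α z : Fi23) = z0 := by
  obtain ⟨s, hs, htop, hR⟩ := AlphaIso.exists_gens hE hperf hD hb hkey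
  obtain ⟨α, h1, h2⟩ := exists_mulEquiv hR zrels htop closure_t (AlphaIso.card_of_ext hE) card_K
  refine ⟨α, s, hs, htop, hR, fun x => ?_, ?_⟩
  · rw [h1]; rfl
  · rw [h2]

/-- The same, with the class `D` mapped to the class of `a` in `K`. -/
theorem exists_alpha_class (hE : Ext π z) (hperf : commutator C = ⊤) {D : Set C}
    (hD : IsThreeTranspositionClass D) (hb : Set.BijOn π D (conjugatesOf (Fi22PtsRep.gen .a)))
    (hkey : ∀ c : C, c * c ≠ z) :
    ∃ (α : C ≃* K) (s : Fi22.Gen → C), (∀ x, s x ∈ D) ∧ Subgroup.closure (Set.range s) = ⊤ ∧ ZRels s z ∧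
      (∀ x, (α (s x) : Fi23) = gen (emb x)) ∧ (α z : Fi23) = z0 ∧ ∀ c, c ∈ D ↔ IsConj (t .a) (α c) := by
  obtain ⟨α, s, hs, htop, hR, h1, h2⟩ := exists_alpha hE hperf hD.1 hb hkey
  refine ⟨α, s, hs, htop, hR, h1, h2, fun c => ?_⟩
  obtain ⟨d, hd, hDd⟩ := hD.2.1
  have ha : α (s .a) = t .a := Subtype.ext (h1 .a)
  have hsa : IsConj d (s .a) := by
    have := hs .a
    rw [hDd] at this
    exact this
  have key : c ∈ D ↔ IsConj (s .a) c := by
    rw [hDd]
    exact ⟨fun h => hsa.symm.trans h, fun h => hsa.trans h⟩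
  rw [key, ← ha]
  constructor
  · intro h
    exact α.toMonoidHom.map_isConj h
  · intro h
    have := α.symm.toMonoidHom.map_isConj h
    simpa using this

end

end Cfsg.Agent.R01.AlphaFi23
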