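import Cfsg.Agent.Fischer.ZCentral
import Cfsg.Agent.Fischer.Fi22Order

/-!
Double covers of the presented group `Fi22` with generators satisfying the relations of `Fi22` except that
`(bcdefgh)^9 = z`: any two such groups of order `2·|Fi22|` are isomorphic, compatibly with the generators.
-/

set_option autoImplicit false

namespace Cfsg.Agent.R01.AlphaGeneric

open Cfsg.Spor Cfsg.Spor.Fi22 Cfsg.Agent.Fischer.Fi22PtsRep Cfsg.Agent.Fischer

/-- The relations of `Fi22` with the last one replaced by `(bcdefgh)^9 = z`. -/
structure ZRels {C : Type*} [Group C] (s : Gen → C) (z : C) : Prop where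
  cox : ∀ x y, (s x * s y) ^ coxLabel edges x y = 1
  spider : (s .d * s .c * s .b * s .d * s .e * s .f * s .d * s .h * s .i) ^ 10 = 1
  e7a : (s .a * s .b * s .c * s .d * s .e * s .f * s .h) ^ 9 = 1
  e7b : (s .b * s .c * s .d * s .e * s .f * s .g * s .h) ^ 9 = z

section

variable {C : Type*} [Group C] {s : Gen → C} {z : C}

theorem rels_of (h : ZRels s 1) : ∀ r ∈ coxRelators edges ∪ {r | r ∈ extra}, FreeGroup.lift s r = 1 := by
  rintro r (⟨x, _, y, _, rfl⟩ | hr)
  · rw [map_pow, map_mul, FreeGroup.lift_apply_of, FreeGroup.lift_apply_of]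
    exact h.cox x y
  · simp only [extra, Set.mem_setOf_eq, List.mem_cons, List.not_mem_nil, or_false] at hr
    rcases hr with rfl | rfl | rfl
    · simpa only [map_pow, map_mul, FreeGroup.lift_apply_of] using h.spider
    · simpa only [map_pow, map_mul, FreeGroup.lift_apply_of] using h.e7a
    · simpa only [map_pow, map_mul, FreeGroup.lift_apply_of] using h.e7b

/-- The homomorphism from the presented group. -/
noncomputable def toHom (h : ZRels s 1) : Spor.Fi22 →* C := PresentedGroup.toGroup (rels_of h)

theorem toHom_gen (h : ZRels s 1) (x : Gen) : toHom h (gen x) = s x := PresentedGroup.toGroup.of (rels_of h)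

theorem ZRels.sq (h : ZRels s z) (x : Gen) : s x * s x = 1 := by
  have h1 := h.cox x x
  have hl : coxLabel edges x x = 1 := by cases x <;> decide
  rwa [hl, pow_one] at h1

theorem ZRels.comm (h : ZRels s z) {x y : Gen} (hl : coxLabel edges x y = 2) : s x * s y = s y * s x := by
  have h1 := h.cox x y
  rw [hl, pow_two] at h1
  have e1 : (s x)⁻¹ = s x := inv_eq_of_mul_eq_one_left (h.sq x)
  have e2 : (s y)⁻¹ = s y := inv_eq_of_mul_eq_one_left (h.sq y)
  have := eq_inv_of_mul_eq_one_left h1
  rw [mul_inv_rev, e1, e2] at this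
  exact this

/-- The nodes `b, …, i` in the numbering of the file `Derived`. -/
def nd : Fin 8 → Gen := ![.b, .c, .d, .e, .f, .g, .h, .i]

theorem lab_nd : ∀ i j : Fin 8, Derived.lab i j = coxLabel edges (nd i) (nd j) := by decide

theorem liftable_of (hcox : ∀ x y, (s x * s y) ^ coxLabel edges x y = 1) :
    Derived.M8.IsLiftable (fun k => s (nd k)) := by
  intro i j
  show (s (nd i) * s (nd j)) ^ Derived.lab i j = 1
  rw [lab_nd]
  exact hcox _ _

theorem ev_spider (s : Gen → C) : Derived.ev (fun k => s (nd k)) Derived.spider =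
    s .d * s .c * s .b * s .d * s .e * s .f * s .d * s .h * s .i := by
  simp only [Derived.ev, Derived.spider, List.map_cons, List.map_nil, List.prod_cons, List.prod_nil, mul_one,
    mul_assoc]
  rfl

theorem ev_wz (s : Gen → C) : Derived.ev (fun k => s (nd k)) ZCentral.wz =
    s .b * s .c * s .d * s .e * s .f * s .g * s .h := by
  simp only [Derived.ev, ZCentral.wz, List.map_cons, List.map_nil, List.prod_cons, List.prod_nil, mul_one,
    mul_assoc]
  rfl

theorem ZRels.lift (h : ZRels s z) : Derived.M8.IsLiftable (fun k => s (nd k)) := liftable_of h.cox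

theorem ZRels.spider' (h : ZRels s z) : Derived.ev (fun k => s (nd k)) Derived.spider ^ 10 = 1 := by
  rw [ev_spider]; exact h.spider

theorem ZRels.z_eq (h : ZRels s z) : Derived.ev (fun k => s (nd k)) ZCentral.wz ^ 9 = z := by
  rw [ev_wz]; exact h.e7b

theorem ZRels.zz (h : ZRels s z) : z * z = 1 := by
  have := ZCentral.z_sq h.lift
  rwa [h.z_eq] at this

theorem ZRels.z_comm (h : ZRels s z) (x : Gen) : z * s x = s x * z := by
  by_cases hx : x = .a
  · subst hx
    have h1 := ZCentral.z_comm_of h.lift h.spider' (a := s .a) (fun i hi => by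
      apply h.comm
      revert hi
      revert i
      decide)
    rwa [h.z_eq] at h1
  · have hk : ∃ k : Fin 8, nd k = x := by
      revert hx
      cases x
      · intro hx; exact absurd rfl hx
      · intro _; exact ⟨0, rfl⟩
      · intro _; exact ⟨1, rfl⟩
      · intro _; exact ⟨2, rfl⟩
      · intro _; exact ⟨3, rfl⟩
      · intro _; exact ⟨4, rfl⟩
      · intro _; exact ⟨5, rfl⟩
      · intro _; exact ⟨6, rfl⟩
      · intro _; exact ⟨7, rfl⟩
    obtain ⟨k, rfl⟩ := hk
    have h1 := ZCentral.z_comm h.lift h.spider' k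
    rwa [h.z_eq] at h1

theorem ZRels.z_central (h : ZRels s z) (htop : Subgroup.closure (Set.range s) = ⊤) (g : C) : z * g = g * z := by
  have hg : g ∈ Subgroup.closure (Set.range s) := htop ▸ Subgroup.mem_top g
  induction hg using Subgroup.closure_induction with
  | mem y hy => obtain ⟨k, rfl⟩ := hy; exact h.z_comm k
  | one => simp
  | mul a b _ _ ha hb => rw [← mul_assoc, ha, mul_assoc, hb, mul_assoc]
  | inv a _ ha =>
    calc z * a⁻¹ = a⁻¹ * (a * z) * a⁻¹ := by group
      _ = a⁻¹ * (z * a) * a⁻¹ := by rw [ha]
      _ = a⁻¹ * z := by group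

theorem ZRels.map {C' : Type*} [Group C'] (h : ZRels s z) (f : C →* C') : ZRels (fun x => f (s x)) (f z) where
  cox x y := by rw [← map_mul, ← map_pow, h.cox, map_one]
  spider := by
    have := congrArg f h.spider
    simpa only [map_pow, map_mul, map_one] using this
  e7a := by
    have := congrArg f h.e7a
    simpa only [map_pow, map_mul, map_one] using this
  e7b := by
    have := congrArg f h.e7b
    simpa only [map_pow, map_mul, map_one] using this

/-- The order of a group satisfying the relations divides / is at most `2·|Fi22|`. -/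
theorem card_le (h : ZRels s z) (htop : Subgroup.closure (Set.range s) = ⊤) :
    Finite C ∧ Nat.card C ≤ 2 * 64561751654400 := by
  have hcen : z ∈ Subgroup.center C := by
    rw [Subgroup.mem_center_iff]
    intro g; exact (h.z_central htop g).symm
  have hnorm : (Subgroup.zpowers z).Normal := by
    refine ⟨fun n hn g => ?_⟩
    have hn' : n ∈ Subgroup.center C := (Subgroup.zpowers_le.2 hcen) hn
    rw [Subgroup.mem_center_iff] at hn'
    rw [hn' g, mul_assoc, mul_inv_cancel, mul_one]
    exact hn
  let π := QuotientGroup.mk' (Subgroup.zpowers z)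
  have hπz : π z = 1 := (QuotientGroup.eq_one_iff _).2 (Subgroup.mem_zpowers z)
  have hq : ZRels (fun x => π (s x)) 1 := by
    have := h.map π
    rwa [hπz] at this
  have hsurj : Function.Surjective (toHom hq) := by
    rw [← MonoidHom.range_eq_top, eq_top_iff]
    have h1 : (⊤ : Subgroup (C ⧸ Subgroup.zpowers z)) = Subgroup.closure (Set.range fun x => π (s x)) := by
      have h2 : Set.range (fun x => π (s x)) = π '' Set.range s := by
        rw [← Set.range_comp]; rfl
      rw [h2, ← MonoidHom.map_closure, htop, ← MonoidHom.range_eq_map, eq_comm, MonoidHom.range_eq_top]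
      exact QuotientGroup.mk'_surjective _
    rw [h1, Subgroup.closure_le]
    rintro _ ⟨x, rfl⟩
    exact ⟨gen x, toHom_gen hq x⟩
  have hF : Finite Spor.Fi22 := Fi22Order.upper.1
  have hfin : Finite (C ⧸ Subgroup.zpowers z) := Finite.of_surjective _ hsurj
  have hcard : Nat.card (C ⧸ Subgroup.zpowers z) ≤ 64561751654400 :=
    (Nat.card_le_card_of_surjective _ hsurj).trans Fi22Order.upper.2
  have hzz : z ^ 2 = 1 := by rw [pow_two]; exact h.zz
  have hzf : IsOfFinOrder z := isOfFinOrder_iff_pow_eq_one.2 ⟨2, by norm_num, hzz⟩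
  have hfz : Finite (Subgroup.zpowers z) := hzf.finite_zpowers
  have hcz : Nat.card (Subgroup.zpowers z) ≤ 2 := by
    rw [Nat.card_zpowers]
    exact Nat.le_of_dvd (by norm_num) (orderOf_dvd_of_pow_eq_one hzz)
  have hK : Finite C := Finite.of_equiv _ (Subgroup.groupEquivQuotientProdSubgroup (s := Subgroup.zpowers z)).symm
  refine ⟨hK, ?_⟩
  rw [Subgroup.card_eq_card_quotient_mul_card_subgroup (Subgroup.zpowers z), mul_comm]
  exact Nat.mul_le_mul hcz hcard

end

/-- **Uniqueness of the double cover**: two groups generated by elements satisfying the relations, both of order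
`2·|Fi22|`, are isomorphic. -/
theorem exists_mulEquiv {C C' : Type*} [Group C] [Group C'] {s : Gen → C} {s' : Gen → C'} {z : C} {z' : C'}
    (h : ZRels s z) (h' : ZRels s' z') (htop : Subgroup.closure (Set.range s) = ⊤)
    (htop' : Subgroup.closure (Set.range s') = ⊤) (hcard : Nat.card C = 2 * 64561751654400)
    (hcard' : Nat.card C' = 2 * 64561751654400) :
    ∃ α : C ≃* C', (∀ x, α (s x) = s' x) ∧ α z = z' := by
  have hfC : Finite C := (card_le h htop).1
  have hfC' : Finite C' := (card_le h' htop').1
  -- the diagonal subgroup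
  let S : Set (C × C') := Set.range fun x => (s x, s' x)
  let H : Subgroup (C × C') := Subgroup.closure S
  let t : Gen → H := fun x => ⟨(s x, s' x), Subgroup.subset_closure ⟨x, rfl⟩⟩
  have hzH : (z, z') ∈ H := by
    have e : (z, z') = (((t .b * t .c * t .d * t .e * t .f * t .g * t .h) ^ 9 : H) : C × C') := by
      refine Prod.ext ?_ ?_
      · exact h.e7b.symm
      · exact h'.e7b.symm
    rw [e]
    exact Subtype.property _
  have ht : ZRels t (⟨(z, z'), hzH⟩ : H) := by
    refine ⟨fun x y => ?_, ?_, ?_, ?_⟩
    · apply Subtype.ext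
      refine Prod.ext ?_ ?_
      · exact h.cox x y
      · exact h'.cox x y
    · apply Subtype.ext
      refine Prod.ext ?_ ?_
      · exact h.spider
      · exact h'.spider
    · apply Subtype.ext
      refine Prod.ext ?_ ?_
      · exact h.e7a
      · exact h'.e7a
    · apply Subtype.ext
      refine Prod.ext ?_ ?_
      · exact h.e7b
      · exact h'.e7b
  have httop : Subgroup.closure (Set.range t) = ⊤ := by
    have h1 : Subgroup.map H.subtype (Subgroup.closure (Set.range t)) = Subgroup.map H.subtype ⊤ := by
      rw [MonoidHom.map_closure, ← Set.range_comp, ← MonoidHom.range_eq_map, Subgroup.range_subtype]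
      rfl
    exact Subgroup.map_injective (Subgroup.subtype_injective _) h1
  obtain ⟨hfH, hcH⟩ := card_le ht httop
  let p : H →* C := (MonoidHom.fst C C').comp H.subtype
  let p' : H →* C' := (MonoidHom.snd C C').comp H.subtype
  have hp : Function.Surjective p := by
    rw [← MonoidHom.range_eq_top, eq_top_iff, ← htop, Subgroup.closure_le]
    rintro _ ⟨x, rfl⟩
    exact ⟨t x, rfl⟩
  have hp' : Function.Surjective p' := by
    rw [← MonoidHom.range_eq_top, eq_top_iff, ← htop', Subgroup.closure_le]
    rintro _ ⟨x, rfl⟩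
    exact ⟨t x, rfl⟩
  have hge : Nat.card C ≤ Nat.card H := Nat.card_le_card_of_surjective _ hp
  have heq : Nat.card H = Nat.card C := le_antisymm (by rw [hcard]; exact hcH) hge
  have heq' : Nat.card H = Nat.card C' := by rw [heq, hcard, hcard']
  have hb : Function.Bijective p := (Nat.bijective_iff_surjective_and_card _).2 ⟨hp, heq⟩
  have hb' : Function.Bijective p' := (Nat.bijective_iff_surjective_and_card _).2 ⟨hp', heq'⟩
  let e := MulEquiv.ofBijective p hb
  let e' := MulEquiv.ofBijective p' hb'
  refine ⟨e.symm.trans e', fun x => ?_, ?_⟩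
  · have : e.symm (s x) = t x := by
      rw [MulEquiv.symm_apply_eq]; rfl
    rw [MulEquiv.trans_apply, this]; rfl
  · have : e.symm z = ⟨(z, z'), hzH⟩ := by
      rw [MulEquiv.symm_apply_eq]; rfl
    rw [MulEquiv.trans_apply, this]; rfl

end Cfsg.Agent.R01.AlphaGeneric
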