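import Cfsg.Agent.R01.AlphaGeneric
import Cfsg.Agent.R01.Lifts
import Cfsg.Agent.Fischer.Fi23Class

/-!
A perfect double cover `C` of the presented group `Fi22` whose transpositions lift to a class `D` of
3-transpositions and in which the central involution is not a square is isomorphic to the centraliser
`⟨a, …, i⟩` of `z0` in the presented group `Fi23`.
-/

set_option autoImplicit false

namespace Cfsg.Agent.R01.AlphaIso

open Cfsg Cfsg.Spor Cfsg.Spor.Fi22 Cfsg.Agent.Fischer.Fi22PtsRep Cfsg.Agent.Fischer
open Cfsg.Agent.R01.AlphaGeneric Cfsg.Agent.R01.Lifts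
open scoped commutatorElement

/-! ### The flip of the diagram -/

/-- The diagram automorphism exchanging the two long arms. -/
def flip : Gen → Gen
  | .a => .g
  | .b => .f
  | .c => .e
  | .d => .d
  | .e => .c
  | .f => .b
  | .g => .a
  | .h => .h
  | .i => .i

theorem lab_flip : ∀ x y : Gen, coxLabel edges (flip x) (flip y) = coxLabel edges x y := by
  intro x y
  cases x <;> cases y <;> decide

theorem flip_flip : ∀ x : Gen, flip (flip x) = x := by
  intro x; cases x <;> rfl

/-- The spider word with two arms exchanged. -/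
def spf : List (Fin 8) := [2, 3, 4, 2, 1, 0, 2, 6, 7]

/-- A conjugating word. -/
def wf : List (Fin 8) := [6, 7, 6, 4, 0]

theorem chk_flip : Derived.chk (Derived.rep 10 spf) (wf ++ Derived.rep 10 Derived.spider.reverse ++ wf.reverse) = true := by
  decide +kernel

section

variable {C : Type*} [Group C] {s : Gen → C}

theorem spider_flip (hcox : ∀ x y, (s x * s y) ^ coxLabel edges x y = 1)
    (hsp : (s .d * s .c * s .b * s .d * s .e * s .f * s .d * s .h * s .i) ^ 10 = 1) :
    (s .d * s .e * s .f * s .d * s .c * s .b * s .d * s .h * s .i) ^ 10 = 1 := by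
  have hl := liftable_of hcox
  have h := Derived.ev_eq_ev hl chk_flip
  have hsp' : Derived.ev (fun k => s (nd k)) Derived.spider ^ 10 = 1 := by rw [ev_spider]; exact hsp
  rw [Derived.ev_append, Derived.ev_append, Derived.ev_rep, Derived.ev_rep, Derived.ev_reverse hl,
    Derived.ev_reverse hl, inv_pow, hsp', inv_one, mul_one, mul_inv_cancel] at h
  rw [← h]
  congr 1
  simp only [Derived.ev, spf, List.map_cons, List.map_nil, List.prod_cons, List.prod_nil, mul_one,
    mul_assoc]
  rfl

theorem pow_flip {P h : C} (hh : h * h = 1) {z : C} (hz : ∀ g : C, z * g = g * z) (hzz : z * z = 1) {n : ℕ}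
    (hp : (P * h) ^ n = z) : (P⁻¹ * h) ^ n = z := by
  have hi : h⁻¹ = h := inv_eq_of_mul_eq_one_left hh
  have e : P⁻¹ * h = h * (P * h)⁻¹ * h⁻¹ := by
    rw [mul_inv_rev, hi]
    calc P⁻¹ * h = (h * h) * P⁻¹ * h := by rw [hh, one_mul]
      _ = h * (h * P⁻¹) * h := by group
  have hzi : z⁻¹ = z := inv_eq_of_mul_eq_one_left hzz
  rw [e, conj_pow, inv_pow, hp, hzi, ← hz, mul_assoc, mul_inv_cancel, mul_one]

theorem six_inv {u v w x y t : C} (hu : u * u = 1) (hv : v * v = 1) (hw : w * w = 1) (hx : x * x = 1)
    (hy : y * y = 1) (ht : t * t = 1) : (u * v * w * x * y * t)⁻¹ = t * y * x * w * v * u := by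
  simp only [mul_inv_rev, inv_eq_of_mul_eq_one_left hu, inv_eq_of_mul_eq_one_left hv,
    inv_eq_of_mul_eq_one_left hw, inv_eq_of_mul_eq_one_left hx, inv_eq_of_mul_eq_one_left hy,
    inv_eq_of_mul_eq_one_left ht]
  group

theorem sq_of_cox (hcox : ∀ x y, (s x * s y) ^ coxLabel edges x y = 1) (x : Gen) : s x * s x = 1 := by
  have h1 := hcox x x
  have hl : coxLabel edges x x = 1 := by cases x <;> decide
  rwa [hl, pow_one] at h1

/-- The flipped generators satisfy the flipped relations. -/
theorem e7_flip (hcox : ∀ x y, (s x * s y) ^ coxLabel edges x y = 1) {z : C} (hz : ∀ g : C, z * g = g * z)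
    (hzz : z * z = 1) {u v w x y t : Gen}
    (h : (s u * s v * s w * s x * s y * s t * s .h) ^ 9 = z) :
    (s t * s y * s x * s w * s v * s u * s .h) ^ 9 = z := by
  have hs := sq_of_cox hcox
  have := pow_flip (P := s u * s v * s w * s x * s y * s t) (hs .h) hz hzz h
  rwa [six_inv (hs u) (hs v) (hs w) (hs x) (hs y) (hs t)] at this

end

/-! ### Lifting the generators -/

/-- All generators are conjugate. -/
theorem isConj_gen (x : Gen) : gen x ∈ conjugatesOf (gen .a) :=
  isConj_iff.2 ⟨wd (Fi22Order.cw x), (Fi22Order.gen_cw x).symm⟩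

section

variable {C : Type*} [Group C] {π : C →* Spor.Fi22} {z : C}

theorem no_section (hE : Ext π z) (hperf : commutator C = ⊤) {s : Gen → C} (hs : ∀ x, π (s x) = gen x)
    (h : ZRels s 1) : False := by
  let ψ := toHom h
  have hψ : ∀ f, π (ψ f) = f := by
    intro f
    have : (π.comp ψ) = MonoidHom.id _ := by
      apply PresentedGroup.ext
      intro x
      show π (ψ (gen x)) = gen x
      rw [toHom_gen, hs]
    exact DFunLike.congr_fun this f
  have hidx : ∀ c : C, c ∈ ψ.range ∨ c * z ∈ ψ.range := by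
    intro c
    rcases (hE.map_eq (a := ψ (π c)) (b := c)).1 (hψ _) with h1 | h1
    · left; exact ⟨_, h1⟩
    · right; exact ⟨_, h1⟩
  have hnorm : ψ.range.Normal := by
    refine ⟨fun n hn g => ?_⟩
    rcases hidx g with hg | hg
    · exact ψ.range.mul_mem (ψ.range.mul_mem hg hn) (ψ.range.inv_mem hg)
    · have e : g * n * g⁻¹ = (g * z) * n * (g * z)⁻¹ := by
        rw [mul_inv_rev, mul_assoc g z n, ← hE.comm n]; group
      rw [e]
      exact ψ.range.mul_mem (ψ.range.mul_mem hg hn) (ψ.range.inv_mem hg)
  have hle : commutator C ≤ ψ.range := by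
    rw [commutator_def, Subgroup.commutator_le]
    intro x _ y _
    have key : ∀ x y : C, x ∈ ψ.range → ⁅x, y⁆ ∈ ψ.range := by
      intro x y hx
      rw [commutatorElement_def, mul_assoc, mul_assoc]
      refine ψ.range.mul_mem hx ?_
      rw [← mul_assoc]
      exact hnorm.conj_mem _ (ψ.range.inv_mem hx) y
    rcases hidx x with hx | hx
    · exact key x y hx
    · have e : ⁅x, y⁆ = ⁅x * z, y⁆ := by
        have hzi : z⁻¹ = z := inv_eq_of_mul_eq_one_left hE.zz
        rw [commutatorElement_def, commutatorElement_def, mul_inv_rev, hzi]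
        calc x * y * x⁻¹ * y⁻¹ = x * y * (z * z) * x⁻¹ * y⁻¹ := by rw [hE.zz, mul_one]
          _ = x * (y * z) * z * x⁻¹ * y⁻¹ := by group
          _ = x * (z * y) * z * x⁻¹ * y⁻¹ := by rw [hE.comm y]
          _ = x * z * y * (z * x⁻¹) * y⁻¹ := by group
      rw [e]
      exact key _ y hx
  rw [hperf, top_le_iff] at hle
  have hz : z ∈ ψ.range := hle ▸ Subgroup.mem_top z
  obtain ⟨f, hf⟩ := hz
  have h1 : f = 1 := by rw [← hψ f, hf, hE.mapz]
  apply hE.zne
  rw [← hf, h1, map_one]

theorem list_mul_z {z : C} (hz : ∀ g : C, g * z = z * g) (s : Gen → C) (l : List Gen) :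
    (l.map (fun x => s x * z)).prod = (l.map s).prod * z ^ l.length := by
  induction l with
  | nil => simp
  | cons x l ih =>
    rw [List.map_cons, List.prod_cons, ih, List.map_cons, List.prod_cons, List.length_cons, pow_succ']
    calc s x * z * ((l.map s).prod * z ^ l.length) = s x * (z * (l.map s).prod) * z ^ l.length := by group
      _ = s x * ((l.map s).prod * z) * z ^ l.length := by rw [hz]
      _ = _ := by group

/-- The lifts of the generators in the class `D` satisfy all relations, up to the choice of the central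
involution in the two `E₇` relations. -/
theorem exists_gens (hE : Ext π z) (hperf : commutator C = ⊤) {D : Set C} (hD : IsThreeTranspositionSet D)
    (hb : Set.BijOn π D (conjugatesOf (gen .a))) (hkey : ∀ c : C, c * c ≠ z) :
    ∃ s : Gen → C, (∀ x, s x ∈ D) ∧ Subgroup.closure (Set.range s) = ⊤ ∧ ZRels s z := by
  have hlift : ∀ x : Gen, ∃ c ∈ D, π c = gen x := fun x => hb.surjOn (isConj_gen x)
  choose s hsD hπ using hlift
  have hcox : ∀ x y, (s x * s y) ^ coxLabel edges x y = 1 := by
    intro x y
    have hπ1 : (gen x * gen y) ^ coxLabel edges x y = 1 := gen_cox x y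
    have h0 : s x * s x = 1 := by
      have := pow_orderOf_eq_one (s x)
      rw [hD.1 _ (hsD x), pow_two] at this
      exact this
    have hlab : coxLabel edges x y = 1 ∨ coxLabel edges x y = 2 ∨ coxLabel edges x y = 3 := by
      revert x y; intro x y; intros; cases x <;> cases y <;> decide
    have hcase : ∀ (m : ℕ), (s x * s y) ^ m = 1 → (gen x * gen y) ^ m = 1 := by
      intro m hm
      rw [← hπ, ← hπ, ← map_mul, ← map_pow, hm, map_one]
    have heq : gen x * gen y = 1 → s x * s y = 1 := by
      intro h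
      have h1 : gen x = gen y := by rw [← gen_inv y]; exact eq_inv_of_mul_eq_one_left h
      have h2 : s x = s y := hb.injOn (hsD x) (hsD y) (by rw [hπ, hπ, h1])
      rw [← h2, h0]
    rcases hlab with hl | hl | hl
    · rw [hl, pow_one] at hπ1 ⊢
      exact heq hπ1
    · rw [hl] at hπ1 ⊢
      rcases hD.2 _ (hsD x) _ (hsD y) with h | h
      · exact h
      · have h3 := hcase 3 h
        have h1 : gen x * gen y = 1 := by
          rw [pow_succ, hπ1, one_mul] at h3; exact h3
        rw [heq h1, one_pow]
    · rw [hl] at hπ1 ⊢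
      rcases hD.2 _ (hsD x) _ (hsD y) with h | h
      · have h2 := hcase 2 h
        have h1 : gen x * gen y = 1 := by
          rw [pow_succ, h2, one_mul] at hπ1; exact hπ1
        rw [heq h1, one_pow]
      · exact h
  have hsp : (s .d * s .c * s .b * s .d * s .e * s .f * s .d * s .h * s .i) ^ 10 = 1 := by
    have h1 : π ((s .d * s .c * s .b * s .d * s .e * s .f * s .d * s .h * s .i) ^ 10) = 1 := by
      simp only [map_pow, map_mul, hπ]
      exact gen_spider
    rcases (hE.ker _).1 h1 with h | h
    · exact h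
    · exfalso
      apply hkey ((s .d * s .c * s .b * s .d * s .e * s .f * s .d * s .h * s .i) ^ 5)
      rw [← pow_add]; exact h
  have ha : (s .a * s .b * s .c * s .d * s .e * s .f * s .h) ^ 9 = 1 ∨
      (s .a * s .b * s .c * s .d * s .e * s .f * s .h) ^ 9 = z := by
    apply (hE.ker _).1
    simp only [map_pow, map_mul, hπ]
    exact gen_e7a
  have hbb : (s .b * s .c * s .d * s .e * s .f * s .g * s .h) ^ 9 = 1 ∨
      (s .b * s .c * s .d * s .e * s .f * s .g * s .h) ^ 9 = z := by
    apply (hE.ker _).1
    simp only [map_pow, map_mul, hπ]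
    exact gen_e7b
  have htop : ∀ t : Gen → C, (∃ σ : Gen → Gen, Function.Surjective σ ∧ ∀ x, t x = s (σ x)) →
      z ∈ Subgroup.closure (Set.range t) → Subgroup.closure (Set.range t) = ⊤ := by
    rintro t ⟨σ, hσ, ht⟩ hz
    rw [eq_top_iff]
    intro c _
    have h1 : π c ∈ Subgroup.map π (Subgroup.closure (Set.range t)) := by
      rw [MonoidHom.map_closure]
      have : Set.range gen ⊆ π '' Set.range t := by
        rintro _ ⟨x, rfl⟩
        obtain ⟨y, rfl⟩ := hσ x
        exact ⟨t y, ⟨y, rfl⟩, by rw [ht, hπ]⟩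
      exact Subgroup.closure_mono this (closure_gen ▸ Subgroup.mem_top _)
    obtain ⟨c', hc', hcc⟩ := h1
    rcases hE.map_eq.1 hcc with h2 | h2
    · rw [← h2]; exact hc'
    · have e : c = c' * z := by rw [h2, hE.mul_z_mul_z]
      rw [e]
      exact Subgroup.mul_mem _ hc' hz
  have hodd : ∀ {u v w x y t : Gen}, (s u * z * (s v * z) * (s w * z) * (s x * z) * (s y * z) * (s t * z) * (s .h * z)) ^ 9 =
      (s u * s v * s w * s x * s y * s t * s .h) ^ 9 * z := by
    intro u v w x y t
    have e : s u * z * (s v * z) * (s w * z) * (s x * z) * (s y * z) * (s t * z) * (s .h * z) =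
        (s u * s v * s w * s x * s y * s t * s .h) * z := by
      have h := list_mul_z hE.comm s [u, v, w, x, y, t, .h]
      have h7 : z ^ [u, v, w, x, y, t, Gen.h].length = z := Lifts.pow_odd_of_sq hE.zz (by simp; decide)
      rw [h7] at h
      simpa only [List.map_cons, List.map_nil, List.prod_cons, List.prod_nil, mul_one, ← mul_assoc] using h
    rw [e]
    have hcom : Commute (s u * s v * s w * s x * s y * s t * s .h) z := hE.comm _
    rw [hcom.mul_pow, Lifts.pow_odd_of_sq hE.zz (by decide)]
  rcases ha with ha | ha <;> rcases hbb with hbb | hbb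
  · exact (no_section hE hperf hπ ⟨hcox, hsp, ha, hbb⟩).elim
  · refine ⟨s, hsD, htop s ⟨id, Function.surjective_id, fun _ => rfl⟩ ?_, ⟨hcox, hsp, ha, hbb⟩⟩
    rw [← hbb]
    refine Subgroup.pow_mem _ ?_ _
    have hm : ∀ x, s x ∈ Subgroup.closure (Set.range s) := fun x => Subgroup.subset_closure ⟨x, rfl⟩
    exact Subgroup.mul_mem _ (Subgroup.mul_mem _ (Subgroup.mul_mem _ (Subgroup.mul_mem _ (Subgroup.mul_mem _
      (Subgroup.mul_mem _ (hm _) (hm _)) (hm _)) (hm _)) (hm _)) (hm _)) (hm _)
  · have hz : ∀ g : C, z * g = g * z := fun g => (hE.comm g).symm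
    have ha' := e7_flip hcox hz hE.zz ha
    have hb' := e7_flip (z := 1) hcox (by simp) (by simp) hbb
    have hR : ZRels (fun x => s (flip x)) z := by
      refine ⟨fun x y => ?_, ?_, ?_, ?_⟩
      · show (s (flip x) * s (flip y)) ^ _ = 1
        rw [← lab_flip]; exact hcox _ _
      · exact spider_flip hcox hsp
      · exact hb'
      · exact ha'
    refine ⟨fun x => s (flip x), fun x => hsD _, htop _ ⟨flip, fun x => ⟨flip x, flip_flip x⟩, fun _ => rfl⟩ ?_, hR⟩
    rw [← hR.e7b]
    refine Subgroup.pow_mem _ ?_ _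
    have hm : ∀ x, s (flip x) ∈ Subgroup.closure (Set.range fun x => s (flip x)) :=
      fun x => Subgroup.subset_closure ⟨x, rfl⟩
    exact Subgroup.mul_mem _ (Subgroup.mul_mem _ (Subgroup.mul_mem _ (Subgroup.mul_mem _ (Subgroup.mul_mem _
      (Subgroup.mul_mem _ (hm _) (hm _)) (hm _)) (hm _)) (hm _)) (hm _)) (hm _)
  · -- replace every lift by the other one
    exfalso
    have hc : ∀ a b : C, a * z * (b * z) = a * b := by
      intro a b
      rw [mul_assoc a z, ← mul_assoc z b, ← hE.comm b, mul_assoc b z z, hE.zz, mul_one]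
    refine no_section hE hperf (s := fun x => s x * z) (fun x => by rw [map_mul, hE.mapz, mul_one, hπ])
      ⟨fun x y => ?_, ?_, ?_, ?_⟩
    · show (s x * z * (s y * z)) ^ _ = 1
      rw [hc]; exact hcox x y
    · show (s .d * z * (s .c * z) * (s .b * z) * (s .d * z) * (s .e * z) * (s .f * z) * (s .d * z) * (s .h * z) *
        (s .i * z)) ^ 10 = 1
      have h9 : s .d * z * (s .c * z) * (s .b * z) * (s .d * z) * (s .e * z) * (s .f * z) * (s .d * z) * (s .h * z) *
          (s .i * z) = s .d * s .c * s .b * s .d * s .e * s .f * s .d * s .h * s .i * z := by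
        have h := list_mul_z hE.comm s [.d, .c, .b, .d, .e, .f, .d, .h, .i]
        have h7 : z ^ [Gen.d, .c, .b, .d, .e, .f, .d, .h, .i].length = z :=
          Lifts.pow_odd_of_sq hE.zz (by simp; decide)
        rw [h7] at h
        simpa only [List.map_cons, List.map_nil, List.prod_cons, List.prod_nil, mul_one, ← mul_assoc] using h
      rw [h9]
      have hcom : Commute (s .d * s .c * s .b * s .d * s .e * s .f * s .d * s .h * s .i) z := hE.comm _
      rw [hcom.mul_pow, hsp, one_mul]
      have : z ^ 10 = (z * z) ^ 5 := by rw [← pow_two, ← pow_mul]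
      rw [this, hE.zz, one_pow]
    · show (s .a * z * (s .b * z) * (s .c * z) * (s .d * z) * (s .e * z) * (s .f * z) * (s .h * z)) ^ 9 = 1
      rw [hodd, ha, hE.zz]
    · show (s .b * z * (s .c * z) * (s .d * z) * (s .e * z) * (s .f * z) * (s .g * z) * (s .h * z)) ^ 9 = 1
      rw [hodd, hbb, hE.zz]

theorem card_of_ext (hE : Ext π z) : Nat.card C = 2 * 64561751654400 := by
  have hF : Finite Spor.Fi22 := Fi22Order.upper.1
  have h1 : Nat.card C = Nat.card (C ⧸ π.ker) * Nat.card π.ker := Subgroup.card_eq_card_quotient_mul_card_subgroup _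
  have h2 : Nat.card (C ⧸ π.ker) = 64561751654400 := by
    rw [Nat.card_congr (QuotientGroup.quotientKerEquivOfSurjective π hE.surj).toEquiv, Fi22Order.card_fi22]
  have h3 : Nat.card π.ker = 2 := by
    have : (π.ker : Set C) = {1, z} := by
      ext c
      exact hE.ker c
    have h4 : Nat.card π.ker = (π.ker : Set C).ncard := rfl
    rw [h4, this, Set.ncard_pair (Ne.symm hE.zne)]
  rw [h1, h2, h3, mul_comm]

end

end Cfsg.Agent.R01.AlphaIso
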