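import Cfsg.Agent.R01.GeoOfFacts
import Cfsg.Agent.R01.FiMain

/-!
The bridge of S1714: from the output of the fusion step to the hypotheses of the closing theorem.
-/

set_option autoImplicit false

namespace Cfsg.Agent.R01.Bridge23

open Cfsg Cfsg.Agent.R01.Lifts Cfsg.Agent.R01.Start Cfsg.Agent.R01.Closing
open Cfsg.Agent.R01.Loc23 Cfsg.Agent.R01.FiFacts Cfsg.Agent.R01.FiHexad

universe u v w

variable {Φ : Type v} [Group Φ] {T : Set Φ}

theorem hex_of_hexad {x : Fin 6 → Φ} (h : Hexad T x) :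
    Hex T (x 0) (x 1) (x 2) (x 3) (x 4) (x 5) := by
  have ne : ∀ i j : Fin 6, i ≠ j → x i ≠ x j := fun i j hij h5 => hij (h.inj h5)
  have hm := h.mem
  have hc := h.comm
  refine ⟨⟨hm 0, hm 1, hm 2, ne 0 1 (by decide), ne 0 2 (by decide), ne 1 2 (by decide), hc 0 1,
      hc 0 2, hc 1 2⟩,
    ⟨hm 3, hm 4, hm 5, ne 3 4 (by decide), ne 3 5 (by decide), ne 4 5 (by decide), hc 3 4,
      hc 3 5, hc 4 5⟩, ne 0 3 (by decide), ne 0 4 (by decide), ne 0 5 (by decide),
    ne 1 3 (by decide), ne 1 4 (by decide), ne 1 5 (by decide), ne 2 3 (by decide),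
    ne 2 4 (by decide), ne 2 5 (by decide), hc 0 3, hc 0 4, hc 0 5, hc 1 3, hc 1 4, hc 1 5,
    hc 2 3, hc 2 4, hc 2 5, ?_⟩
  have := h.prod
  rw [← this]
  group

variable {G : Type u} [Group G]

/-- The chart at `z` from the output of the fusion step. -/
theorem chart_of_lifted {z : G} {π : Subgroup.centralizer ({z} : Set G) →* Φ}
    {D₀ : Set (Subgroup.centralizer ({z} : Set G))} (L : Lifted π (zel z) T D₀)
    (hperf : commutator (Subgroup.centralizer ({z} : Set G)) = ⊤)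
    (hsign : ∀ a ∈ D₀, ∀ b ∈ D₀, ∀ c ∈ D₀, ∀ a' ∈ D₀, ∀ b' ∈ D₀, ∀ c' ∈ D₀,
      Hex T (π a) (π b) (π c) (π a') (π b') (π c') → a * b * c * (a' * b' * c') = zel z)
    (hmem : ∀ x : Subgroup.centralizer ({z} : Set G),
      (x : G) ∈ conjugatesOf z ↔ x = zel z ∨ x ∈ D₀) :
    Chart T (conjugatesOf z) z π D₀ where
  ext := L.ext
  perf := hperf
  bij := ⟨fun x hx => L.map x hx, fun x hx y hy h => L.inj x hx y hy h, fun t ht => L.surj t ht⟩
  sq0 := L.sq
  comm := L.comm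
  hexad := by
    intro x hx hH
    have h1 := hsign _ (hx 0) _ (hx 1) _ (hx 2) _ (hx 3) _ (hx 4) _ (hx 5) (hex_of_hexad hH)
    rw [← h1]
    group
  mem := hmem

/-- **The bridge** from the output of the fusion step. -/
theorem all_of_lifted {F : Type w} [Field F] [Fintype F] {hF : Fintype.card F = 2 ^ 2} {z : G}
    {π : Subgroup.centralizer ({z} : Set G) →* Φ}
    {D₀ : Set (Subgroup.centralizer ({z} : Set G))} (hT : TFacts T) (hL : Loc.Loc hF T)
    (hfix : ∀ f : Φ, f * f = 1 → ∃ t ∈ T, f * t = t * f) (L : Lifted π (zel z) T D₀)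
    (hperf : commutator (Subgroup.centralizer ({z} : Set G)) = ⊤)
    (hsign : ∀ a ∈ D₀, ∀ b ∈ D₀, ∀ c ∈ D₀, ∀ a' ∈ D₀, ∀ b' ∈ D₀, ∀ c' ∈ D₀,
      Hex T (π a) (π b) (π c) (π a') (π b') (π c') → a * b * c * (a' * b' * c') = zel z)
    (hmem : ∀ x : Subgroup.centralizer ({z} : Set G),
      (x : G) ∈ conjugatesOf z ↔ x = zel z ∨ x ∈ D₀)
    (hthree : ∀ a ∈ conjugatesOf z, ∀ b ∈ conjugatesOf z, Conn (conjugatesOf z) a b →
      a * b = b * a ∨ (a * b) ^ 3 = 1)
    (hcard : ∀ a ∈ conjugatesOf z, Odd (Nat.card {b : G // Conn (conjugatesOf z) a b}) ∨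
      Nat.card {b : G // Conn (conjugatesOf z) a b} % 4 = 2) :
    Closing2.All (conjugatesOf z) := by
  have hg := geo_of_facts hT hL
  exact all_of_chart hg (allInv_of_facts hT (fun s hs _ => hfix s hs) hg)
    (chart_of_lifted L hperf hsign hmem) hthree hcard

end Cfsg.Agent.R01.Bridge23
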