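import Cfsg.Agent.R01.CompRank3
import Cfsg.Agent.R01.Closing2
import Cfsg.Agent.Fischer.Fi23Class
import Cfsg.Agent.Fischer.Fi23Simple

/-!
# The component of the transposition, when its component group is `Fi23`

`φ : Fi23 → G` is injective, `z = φ z0` (`z0 = (bcdefgh)^9`), the centraliser of `z` in `G` lies in the image, and
every conjugate of `z` commuting with `z` is `z` or conjugate to `φ a` under the centraliser of `z`.
Then the fields `three`, `card`, `link` of `Closing2.All` hold for `D = conjugatesOf z`, the component of `z` has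
31671 members, its stabiliser is the image of `Fi23`, and if the commuting graph on `D` is connected, `G ≅ Fi23`.
-/

set_option autoImplicit false
set_option maxRecDepth 100000

namespace Cfsg.Agent.R01.CompFi23

open Cfsg Cfsg.Agent.R01.Closing Cfsg.Agent.Fischer.Abstract Cfsg.Agent.R01.CompRank3
open Cfsg.Spor Cfsg.Spor.Fi23
open Cfsg.Agent.Fischer.Fi23Z (z0)
open Cfsg.Agent.Fischer.Fi23Hom (gen)
open Cfsg.Agent.Fischer.Fi23Class (K isConj_gen comm_z0 gen_mem_K gen_comm)
open Cfsg.Agent.Fischer.Fi23Simple (card_Fi23)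

universe u

variable {G : Type u} [Group G]

theorem conj_mem_conjugatesOf {z : G} : ∀ g : G, ∀ a ∈ conjugatesOf z, g * a * g⁻¹ ∈ conjugatesOf z := by
  intro g a ha
  have ha' : IsConj z a := ha
  exact (show IsConj z (g * a * g⁻¹) from ha'.trans (isConj_iff.2 ⟨g, rfl⟩))

/-- The two generators `a`, `b` do not commute: otherwise all the generators on the arm `a, …, j` are equal, but
`z0` commutes with `g` and not with `j`. -/
theorem not_comm_ab : (gen .a : Fi23) * gen .b ≠ gen .b * gen .a := by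
  intro h
  have heq : ∀ x y : Gen, coxLabel edges x y = 3 → (gen x : Fi23) * gen y = gen y * gen x →
      (gen x : Fi23) = gen y := by
    intro x y hl hxy
    have h1 := Cfsg.Agent.Fischer.Fi23Final.gen_rel x y
    rw [hl] at h1
    have hx := Cfsg.Agent.Fischer.Fi23Final.gen_sq x
    have hy := Cfsg.Agent.Fischer.Fi23Final.gen_sq y
    have h2 : (gen x : Fi23) * gen y * (gen x * gen y) = 1 := by
      calc (gen x : Fi23) * gen y * (gen x * gen y) = gen x * gen y * (gen y * gen x) := by rw [hxy]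
        _ = gen x * (gen y * gen y) * gen x := by simp only [mul_assoc]
        _ = 1 := by rw [hy, mul_one, hx]
    have h3 : (gen x : Fi23) * gen y = 1 := by
      calc (gen x : Fi23) * gen y = (gen x * gen y * (gen x * gen y)) * (gen x * gen y) := by
            rw [h2, one_mul]
        _ = (gen x * gen y) ^ 3 := by simp only [pow_succ, pow_zero, one_mul, mul_assoc]
        _ = 1 := h1
    calc (gen x : Fi23) = gen x * gen y * gen y := by rw [mul_assoc, hy, mul_one]
      _ = gen y := by rw [h3, one_mul]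
  have step : ∀ x y w : Gen, coxLabel edges x y = 3 → coxLabel edges y w = 3 → coxLabel edges x w = 2 →
      (gen x : Fi23) = gen y → (gen y : Fi23) = gen w := by
    intro x y w _ hyw hxw hxy
    refine heq y w hyw ?_
    rw [← hxy]
    exact gen_comm x w hxw
  have hab := heq .a .b (by decide) h
  have hbc := step .a .b .c (by decide) (by decide) (by decide) hab
  have hcd := step .b .c .d (by decide) (by decide) (by decide) hbc
  have hde := step .c .d .e (by decide) (by decide) (by decide) hcd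
  have hef := step .d .e .f (by decide) (by decide) (by decide) hde
  have hfg := step .e .f .g (by decide) (by decide) (by decide) hef
  have hgj := step .f .g .j (by decide) (by decide) (by decide) hfg
  apply Cfsg.Agent.Fischer.Fi23Class.z0_ncomm
  rw [← hgj]
  exact (comm_z0 card_Fi23.le _ (gen_mem_K .g (by decide))).symm

/-- The hypotheses on `φ`. -/
structure Hyp (z : G) (φ : Fi23 →* G) : Prop where
  inj : Function.Injective φ
  hz : φ z0 = z
  cent : ∀ g : G, g * z = z * g → ∃ k, φ k = g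
  fus : ∀ x ∈ conjugatesOf z, x * z = z * x → x = z ∨ ∃ c, c * z = z * c ∧ c * φ (gen .a) * c⁻¹ = x

theorem exists_emb {z : G} {φ : Fi23 →* G} (h : Hyp z φ) :
    ∃ R : Rank3 Fi23 (Fi23 ⧸ K), R.t R.x0 = z0 ∧ Emb R φ (conjugatesOf z) := by
  obtain ⟨R, hR, -⟩ := Cfsg.Agent.Fischer.Fi23Class.exists_rank3 card_Fi23.le
  -- every conjugate of `z0` is some `R.t x`
  have hgen : ∀ a : Fi23, IsConj z0 a → ∃ x, R.t x = a := by
    intro a ha
    obtain ⟨g, hg⟩ := isConj_iff.1 ha
    refine ⟨g • R.x0, ?_⟩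
    rw [R.map_smul, hR, hg]
  refine ⟨R, hR, ?_⟩
  have hz0 : φ (R.t R.x0) = z := by rw [hR, h.hz]
  refine ⟨h.inj, conj_mem_conjugatesOf, ?_, ?_, ?_, ?_, ?_⟩
  · rw [hz0]; exact mem_conjugatesOf_self
  · intro a ha
    rw [hz0]
    exact isConj_iff.1 (show IsConj z a from ha)
  · intro g hg
    rw [hz0] at hg
    exact h.cent g hg
  · intro a ha hac
    rw [hz0] at hac
    rcases h.fus a ha hac with rfl | ⟨c, hc, rfl⟩
    · exact ⟨R.x0, hz0⟩
    · obtain ⟨k, rfl⟩ := h.cent c hc
      obtain ⟨y, hy⟩ := hgen (gen .a) (isConj_gen card_Fi23.le .a)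
      refine ⟨k • y, ?_⟩
      rw [R.map_smul, hy, map_mul, map_mul, map_inv]
  · obtain ⟨x, hx⟩ := hgen (gen .a) (isConj_gen card_Fi23.le .a)
    obtain ⟨y, hy⟩ := hgen (gen .b) (isConj_gen card_Fi23.le .b)
    refine ⟨x, y, ?_, ?_, ?_⟩
    · unfold Rank3.Com
      rw [hR, hx]
      exact (comm_z0 card_Fi23.le _ (gen_mem_K .a (by decide))).symm
    · unfold Rank3.Com
      rw [hR, hy]
      exact (comm_z0 card_Fi23.le _ (gen_mem_K .b (by decide))).symm
    · unfold Rank3.Com
      rw [hx, hy]
      exact not_comm_ab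

theorem Hyp.three {z : G} {φ : Fi23 →* G} (h : Hyp z φ) : ∀ a ∈ conjugatesOf z, ∀ b ∈ conjugatesOf z,
    Conn (conjugatesOf z) a b → a * b = b * a ∨ (a * b) ^ 3 = 1 := by
  obtain ⟨R, -, hE⟩ := exists_emb h
  exact hE.three

theorem Hyp.link {z : G} {φ : Fi23 →* G} (h : Hyp z φ) : ∀ a ∈ conjugatesOf z, ∀ b ∈ conjugatesOf z,
    a ≠ b → a * b = b * a → ∃ c ∈ conjugatesOf z, Conn (conjugatesOf z) a c ∧ c * a ≠ a * c ∧ c * b ≠ b * c := by
  obtain ⟨R, -, hE⟩ := exists_emb h
  exact hE.link

theorem Hyp.card_eq {z : G} {φ : Fi23 →* G} (h : Hyp z φ) {a : G} (ha : a ∈ conjugatesOf z) :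
    Nat.card {b : G // Conn (conjugatesOf z) a b} = 31671 := by
  obtain ⟨R, -, hE⟩ := exists_emb h
  rw [hE.card ha]
  exact Cfsg.Agent.SporRec.Fi23Index.index_H

theorem Hyp.card {z : G} {φ : Fi23 →* G} (h : Hyp z φ) : ∀ d ∈ conjugatesOf z,
    Odd (Nat.card {b : G // Conn (conjugatesOf z) d b}) ∨
      Nat.card {b : G // Conn (conjugatesOf z) d b} % 4 = 2 := by
  intro d hd
  left
  rw [h.card_eq hd]
  decide

/-- The stabiliser of the component of `z` is the image of `Fi23`. -/
theorem Hyp.M_eq {z : G} {φ : Fi23 →* G} (h : Hyp z φ) :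
    M (conjugatesOf z) conj_mem_conjugatesOf z = φ.range := by
  obtain ⟨R, hR, hE⟩ := exists_emb h
  have h1 := hE.M_eq
  rw [hR, h.hz] at h1
  exact h1

/-- If the commuting graph on the class of `z` is connected, then `G` is `Fi23`. -/
theorem Hyp.iso {z : G} {φ : Fi23 →* G} (h : Hyp z φ)
    (hc : ∀ b ∈ conjugatesOf z, Conn (conjugatesOf z) z b) : Cfsg.Spor.IsoFi23 G := by
  have h1 : M (conjugatesOf z) conj_mem_conjugatesOf z = ⊤ := by
    rw [eq_top_iff]
    intro g _
    rw [mem_M]
    exact hc _ (conj_mem_conjugatesOf g z mem_conjugatesOf_self)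
  rw [h.M_eq] at h1
  have h2 : Function.Surjective φ := MonoidHom.range_eq_top.1 h1
  exact ⟨(MulEquiv.ofBijective φ ⟨h.inj, h2⟩).symm⟩

end Cfsg.Agent.R01.CompFi23
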