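import Cfsg.Agent.R01.AlphaFi23
import Cfsg.Agent.R01.CompFi23
import Cfsg.Agent.R01.Bridge23
import Cfsg.Agent.R01.KeyFi22All
import Cfsg.Agent.R01.LiftsLoc2
import Cfsg.Agent.R01.Fi22Facts
import Cfsg.Agent.R01.FiLocal
import Cfsg.Agent.S0215
import Cfsg.Agent.S1697
import Cfsg.Prelude.Def_CaseTheorems

/-!
Assembly of S1714: the recognition of `Fi23` from its transposition centraliser.
-/

set_option autoImplicit false

namespace Cfsg.Agent.R01.Assembly23

open Cfsg Cfsg.Spor Cfsg.Agent.Fischer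
open Cfsg.Agent.R01.Lifts Cfsg.Agent.R01.Start Cfsg.Agent.R01.Closing Cfsg.Agent.R01.AlphaGeneric
open Cfsg.Agent.R01.AlphaFi23 Cfsg.Agent.R01.FiHexad Cfsg.Agent.R01.FiFacts Cfsg.Agent.R01.Fi22Facts
open Cfsg.Agent.Fischer.Fi23Class (K)
open scoped commutatorElement
open Cfsg.Agent.Fischer.Fi23Z (z0)

universe u

/-- The facts on the class of transpositions of `Fi22`. -/
theorem tFacts : TFacts T := FiLocal.tFacts_of_loc isThreeTranspositionClass_T loc

theorem geo : Loc23.Geo T := Loc23.geo_of_facts tFacts loc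

theorem perf : commutator Spor.Fi22 = ⊤ := by
  rcases Fi22Facts.isSimple.eq_bot_or_eq_top_of_normal (commutator Spor.Fi22) inferInstance with
    h | h
  · exfalso
    rw [commutator_eq_bot_iff_center_eq_top] at h
    obtain ⟨a, ha⟩ := geo.nonempty
    obtain ⟨b, c, ht⟩ := geo.exists_tri ha
    obtain ⟨e, he, f, hf, h0, -⟩ := geo.noncomm a b c ht
    apply h0
    have h2 : e ∈ Subgroup.center Spor.Fi22 := by rw [h]; trivial
    exact (Subgroup.mem_center_iff.1 h2 f).symm
  · exact h

theorem base : KeyFi22.Base Spor.Fi22 Unit22.hF T where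
  conj := tFacts.conj
  perf := perf
  card := by
    left
    rw [Nat.card_coe_set_eq, Fi22Facts.ncard_T]
  loc := Fi22Facts.loc

theorem exists_commute {s : Spor.Fi22} (hs : s * s = 1) : ∃ t ∈ T, s * t = t * s :=
  base.exists_commute hs

/-- The class of lifts is a class of 3-transpositions. -/
theorem class_of_lifted {C P : Type*} [Group C] [Group P] {π : C →* P} {z : C} {S : Set P}
    {D₀ : Set C} (hS : IsThreeTranspositionClass S) (L : Lifted π z S D₀)
    (hperf : commutator C = ⊤) : IsThreeTranspositionClass D₀ := by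
  have hne : ∀ x ∈ D₀, x ≠ 1 := by
    rintro x hx rfl
    have h1 := hS.1.1 _ (L.map _ hx)
    rw [map_one, orderOf_one] at h1
    exact absurd h1 (by norm_num)
  refine ⟨⟨fun x hx => ?_, fun x hx y hy => ?_⟩, ?_, ?_⟩
  · exact orderOf_eq_prime (by rw [pow_two]; exact L.sq x hx) (hne x hx)
  · rcases L.three x hx y hy with h | h
    · left
      rw [pow_two]
      calc x * y * (x * y) = x * (y * x) * y := by group
        _ = x * (x * y) * y := by rw [h]
        _ = (x * x) * (y * y) := by group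
        _ = 1 := by rw [L.sq x hx, L.sq y hy, one_mul]
    · right; exact h
  · obtain ⟨t, ht, hSt⟩ := hS.2.1
    obtain ⟨x, hx, rfl⟩ := L.surj t ht
    refine ⟨x, hx, ?_⟩
    ext y
    constructor
    · intro hy
      have h1 : π y ∈ conjugatesOf (π x) := by rw [← hSt]; exact L.map y hy
      obtain ⟨g, hg⟩ := isConj_iff.1 h1
      obtain ⟨c, rfl⟩ := L.ext.surj g
      refine isConj_iff.2 ⟨c, L.inj _ (L.conj c x hx) _ hy ?_⟩
      rw [map_mul, map_mul, map_inv, hg]
    · intro hy
      obtain ⟨c, rfl⟩ := isConj_iff.1 hy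
      exact L.conj c x hx
  · have h1 : ∀ c : C, c ∈ Subgroup.closure D₀ ∨ c * z ∈ Subgroup.closure D₀ := by
      intro c
      have h2 : (Subgroup.closure D₀).map π = ⊤ := by
        rw [MonoidHom.map_closure, ← hS.2.2]
        congr 1
        ext y
        constructor
        · rintro ⟨x, hx, rfl⟩; exact L.map x hx
        · intro hy
          obtain ⟨x, hx, rfl⟩ := L.surj y hy
          exact ⟨x, hx, rfl⟩
      have h3 : π c ∈ (Subgroup.closure D₀).map π := by rw [h2]; trivial
      obtain ⟨k, hk, hkc⟩ := h3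
      rcases (L.ext.map_eq).1 hkc with h | h
      · left; rw [← h]; exact hk
      · right; rw [← h]; exact hk
    rw [eq_top_iff, ← hperf, commutator_def, Subgroup.commutator_le]
    intro a _ b _
    have hz : ∀ c, c * z = z * c := L.ext.comm
    have hzz := L.ext.zz
    have hzi : z⁻¹ = z := inv_eq_of_mul_eq_one_left hzz
    have key : ∀ a b : C, ⁅a * z, b⁆ = ⁅a, b⁆ := by
      intro a b
      rw [commutatorElement_def, commutatorElement_def, mul_inv_rev, hzi]
      calc a * z * b * (z * a⁻¹) * b⁻¹ = a * (z * b) * (z * a⁻¹) * b⁻¹ := by group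
        _ = a * (b * z) * (z * a⁻¹) * b⁻¹ := by rw [hz b]
        _ = a * b * (z * z) * a⁻¹ * b⁻¹ := by group
        _ = a * b * a⁻¹ * b⁻¹ := by rw [hzz, mul_one]
    have key' : ∀ a b : C, ⁅a, b * z⁆ = ⁅a, b⁆ := by
      intro a b
      rw [← commutatorElement_inv, key b a, commutatorElement_inv]
    have hmem : ∀ a b : C, a ∈ Subgroup.closure D₀ → b ∈ Subgroup.closure D₀ →
        ⁅a, b⁆ ∈ Subgroup.closure D₀ := by
      intro a b ha hb
      rw [commutatorElement_def]
      exact Subgroup.mul_mem _ (Subgroup.mul_mem _ (Subgroup.mul_mem _ ha hb)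
        (Subgroup.inv_mem _ ha)) (Subgroup.inv_mem _ hb)
    rcases h1 a with ha | ha <;> rcases h1 b with hb | hb
    · exact hmem a b ha hb
    · rw [← key' a b]; exact hmem _ _ ha hb
    · rw [← key a b]; exact hmem _ _ ha hb
    · rw [← key a b, ← key' (a * z) b]; exact hmem _ _ ha hb

/-- The situation after fusion: `D ∩ C(d) = {d} ∪ D₀` for the class `D` of `d`. -/
structure Fus {G : Type*} [Group G] (d : G) (π : Subgroup.centralizer ({d} : Set G) →* Spor.Fi22)
    (D₀ : Set (Subgroup.centralizer ({d} : Set G))) : Prop where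
  lifted : Lifted π (zel d) T D₀
  perf : commutator (Subgroup.centralizer ({d} : Set G)) = ⊤
  cls : IsThreeTranspositionClass D₀
  key : ∀ c : Subgroup.centralizer ({d} : Set G), c * c ≠ zel d
  sign : ∀ a ∈ D₀, ∀ b ∈ D₀, ∀ c ∈ D₀, ∀ a' ∈ D₀, ∀ b' ∈ D₀, ∀ c' ∈ D₀,
    Hex T (π a) (π b) (π c) (π a') (π b') (π c') → a * b * c * (a' * b' * c') = zel d
  mem_iff : ∀ x : Subgroup.centralizer ({d} : Set G),
    (x : G) ∈ conjugatesOf d ↔ x = zel d ∨ x ∈ D₀

theorem exists_fus {G : Type*} [Group G] [Finite G] {d : G}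
    {π : Subgroup.centralizer ({d} : Set G) →* Spor.Fi22} (hE : Ext π (zel d))
    (hperf : commutator (Subgroup.centralizer ({d} : Set G)) = ⊤)
    (hnwc : ∃ g : G, g * d * g⁻¹ ∈ Subgroup.centralizer ({d} : Set G) ∧ g * d * g⁻¹ ≠ d) :
    ∃ D₀, Fus d π D₀ := by
  obtain ⟨D, h1, h2, -, h4, h5, h6, -⟩ := LiftsLoc2.lifts hE hperf isThreeTranspositionClass_T loc
  have L := FiMain.lifted_of hE h1 h2 h4 h5
  obtain ⟨D₀, hL, -, hs, hm⟩ := FiMain.fusion L tFacts hperf (fun f hf => exists_commute hf)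
    gen_mem hnwc
  have hcov : KeyFi22.Cover π (zel d) T D₀ :=
    ⟨hE, ⟨fun x hx => hL.map x hx, fun x hx y hy h => hL.inj x hx y hy h,
      fun t ht => hL.surj t ht⟩, hL.sq, fun a ha b hb hab => hL.comm a ha b hb hab⟩
  exact ⟨D₀, hL, hperf, class_of_lifted isThreeTranspositionClass_T hL hperf,
    hcov.not_sq base, hs, hm⟩

/-- T5: gluing. -/
def GlueSt.{w} : Prop := ∀ (G : Type w) [Group G] [Finite G] (d : G)
  (π : Subgroup.centralizer ({d} : Set G) →* Spor.Fi22)
  (D₀ : Set (Subgroup.centralizer ({d} : Set G))), Fus d π D₀ →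
  ∀ (α : Subgroup.centralizer ({d} : Set G) ≃* K) (s : Fi22.Gen → Subgroup.centralizer ({d} : Set G)),
  (∀ x, s x ∈ D₀) → Subgroup.closure (Set.range s) = ⊤ → ZRels s (zel d) →
  (∀ x, (α (s x) : Spor.Fi23) = Fi23Hom.gen (emb x)) → (α (zel d) : Spor.Fi23) = z0 →
  (∀ c, c ∈ D₀ ↔ IsConj (t .a) (α c)) →
  ∃ θ : Spor.Fi23 →* G, ∀ x : Subgroup.centralizer ({d} : Set G), θ (α x) = x

theorem zstar : ZStar.{u} := by
  intro K _ _ P x hx hxP hiso
  exact Cfsg.Agent.S0215.result P x hx hxP hiso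

/-- **The assembly.** -/
theorem assemble (glue : GlueSt.{u}) {G : Type u} [Group G] [Finite G] (d : G)
    (hd : orderOf d = 2) (hq : Cfsg.IsQuasisimple (Subgroup.centralizer ({d} : Set G)))
    [((Subgroup.zpowers d).subgroupOf (Subgroup.centralizer ({d} : Set G))).Normal]
    (e : Cfsg.Spor.IsoFi22 ((Subgroup.centralizer ({d} : Set G)) ⧸
      (Subgroup.zpowers d).subgroupOf (Subgroup.centralizer ({d} : Set G))))
    (hnwc : ∃ g : G, g * d * g⁻¹ ∈ Subgroup.centralizer ({d} : Set G) ∧ g * d * g⁻¹ ≠ d) :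
    Cfsg.Spor.IsoFi23 G := by
  obtain ⟨e⟩ := e
  have hE : Ext (proj d e) (zel d) := ext_proj d hd e
  have hperf : commutator (Subgroup.centralizer ({d} : Set G)) = ⊤ := commutator_eq_top hq
  obtain ⟨D₀, hF⟩ := exists_fus hE hperf hnwc
  have hbij : Set.BijOn (proj d e) D₀ (conjugatesOf (Fi22PtsRep.gen .a)) :=
    ⟨fun x hx => hF.lifted.map x hx, fun x hx y hy h => hF.lifted.inj x hx y hy h,
      fun t ht => hF.lifted.surj t ht⟩
  obtain ⟨α, s, hs, htop, hR, h1, h2, h3⟩ :=
    exists_alpha_class hE hperf hF.cls hbij hF.key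
  obtain ⟨θ, hθ⟩ := glue G d (proj d e) D₀ hF α s hs htop hR h1 h2 h3
  haveI : Finite Spor.Fi23 := finite_fi23
  haveI : IsSimpleGroup Spor.Fi23 := Cfsg.Agent.S1697.result.1
  have hθz : θ z0 = d := by
    have := hθ (zel d)
    rwa [h2] at this
  have hθinj : Function.Injective θ := by
    rw [← MonoidHom.ker_eq_bot_iff]
    rcases (inferInstance : IsSimpleGroup Spor.Fi23).eq_bot_or_eq_top_of_normal θ.ker
      inferInstance with h | h
    · exact h
    · exfalso
      have : z0 ∈ θ.ker := by rw [h]; trivial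
      rw [MonoidHom.mem_ker, hθz] at this
      rw [this, orderOf_one] at hd
      exact absurd hd (by norm_num)
  have hC : CompFi23.Hyp d θ := by
    refine ⟨hθinj, hθz, ?_, ?_⟩
    · intro g hg
      exact ⟨α ⟨g, Subgroup.mem_centralizer_singleton_iff.2 hg⟩, hθ ⟨g, _⟩⟩
    · intro x hx hxd
      have hxc : x ∈ Subgroup.centralizer ({d} : Set G) :=
        Subgroup.mem_centralizer_singleton_iff.2 hxd
      rcases (hF.mem_iff ⟨x, hxc⟩).1 hx with h | h
      · left
        exact congrArg Subtype.val h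
      · right
        obtain ⟨k, hk⟩ := isConj_iff.1 ((h3 _).1 h)
        refine ⟨(α.symm k : Subgroup.centralizer ({d} : Set G)),
          Subgroup.mem_centralizer_singleton_iff.1 (α.symm k).2, ?_⟩
        have h4 : ((k * t .a * k⁻¹ : K) : Spor.Fi23) = α ⟨x, hxc⟩ := by rw [hk]
        have h5 := congrArg θ h4
        rw [hθ, Subgroup.coe_mul, Subgroup.coe_mul, Subgroup.coe_inv, map_mul, map_mul, map_inv,
          t_coe] at h5
        have h6 := hθ (α.symm k)
        rw [α.apply_symm_apply] at h6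
        rw [h6] at h5
        exact h5
  have hall := Bridge23.all_of_lifted tFacts loc (fun f hf => exists_commute hf) hF.lifted hperf
    hF.sign hF.mem_iff hC.three hC.card
  exact hC.iso fun b hb => hall.conn zstar mem_conjugatesOf_self hb

end Cfsg.Agent.R01.Assembly23
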