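import Cfsg.Agent.R01.LamSys
import Cfsg.Agent.S0280

/-!
Group theory used for the sign of the Baer subplanes: products of subgroups and the transfer
argument for a complement of a central involution.
-/

set_option autoImplicit false
set_option linter.unusedSectionVars false

namespace Cfsg.Agent.R01.BaerGrp

open Cfsg

variable {C : Type*} [Group C]

/-- The product of a subgroup `A` with a subgroup `E` normalising it and meeting it trivially. -/
theorem exists_prod (A E : Subgroup C) (hn : ∀ e ∈ E, ∀ a ∈ A, e * a * e⁻¹ ∈ A)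
    (hd : ∀ a ∈ A, ∀ e ∈ E, a * e = 1 → e = 1) :
    ∃ B : Subgroup C, (∀ x, x ∈ B ↔ ∃ a ∈ A, ∃ e ∈ E, x = a * e) ∧
      Nat.card B = Nat.card A * Nat.card E := by
  let B : Subgroup C :=
    { carrier := {x | ∃ a ∈ A, ∃ e ∈ E, x = a * e}
      mul_mem' := by
        rintro _ _ ⟨a, ha, e, he, rfl⟩ ⟨a', ha', e', he', rfl⟩
        exact ⟨a * (e * a' * e⁻¹), mul_mem ha (hn e he a' ha'), e * e', mul_mem he he', by group⟩
      one_mem' := ⟨1, one_mem _, 1, one_mem _, by rw [mul_one]⟩
      inv_mem' := by
        rintro _ ⟨a, ha, e, he, rfl⟩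
        refine ⟨e⁻¹ * a⁻¹ * e⁻¹⁻¹, hn _ (inv_mem he) _ (inv_mem ha), e⁻¹, inv_mem he, by group⟩ }
  refine ⟨B, fun x => Iff.rfl, ?_⟩
  rw [← Nat.card_prod]
  symm
  refine Nat.card_congr (Equiv.ofBijective (fun p : A × E => (⟨p.1 * p.2, p.1, p.1.2, p.2, p.2.2,
    rfl⟩ : B)) ⟨?_, ?_⟩)
  · rintro ⟨⟨a, ha⟩, ⟨e, he⟩⟩ ⟨⟨a', ha'⟩, ⟨e', he'⟩⟩ h
    have h1 : a * e = a' * e' := congrArg Subtype.val h
    have h2 : a'⁻¹ * a * (e * e'⁻¹) = 1 := by
      calc a'⁻¹ * a * (e * e'⁻¹) = a'⁻¹ * (a * e) * e'⁻¹ := by group
        _ = 1 := by rw [h1]; group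
    have h3 := hd _ (mul_mem (inv_mem ha') ha) _ (mul_mem he (inv_mem he')) h2
    rw [h3, mul_one] at h2
    have h4 : e = e' := mul_inv_eq_one.1 h3
    have h5 : a = a' := (inv_mul_eq_one.1 h2).symm
    subst h4 h5
    rfl
  · rintro ⟨x, a, ha, e, he, rfl⟩
    exact ⟨(⟨a, ha⟩, ⟨e, he⟩), rfl⟩

/-- A perfect group with a central involution has no subgroup of twice odd index avoiding the
involution. -/
theorem split_false [Finite C] (hperf : commutator C = ⊤) {z : C} (hzz : z * z = 1)
    (hzc : ∀ c : C, c * z = z * c) {B : Subgroup C} (hzB : z ∉ B) {m : ℕ} (hm : Odd m)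
    (hcard : Nat.card C = 2 * Nat.card B * m) : False := by
  classical
  have hzi : z⁻¹ = z := inv_eq_of_mul_eq_one_left hzz
  let E : Subgroup C :=
    { carrier := {x | x = 1 ∨ x = z}
      mul_mem' := by
        rintro _ _ (rfl | rfl) (rfl | rfl)
        · left; rw [mul_one]
        · right; rw [one_mul]
        · right; rw [mul_one]
        · left; exact hzz
      one_mem' := Or.inl rfl
      inv_mem' := by
        rintro _ (rfl | rfl)
        · left; exact inv_one
        · right; exact hzi }
  have hz1 : z ≠ 1 := by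
    rintro rfl
    exact hzB (one_mem _)
  have hEmem : ∀ x, x ∈ E ↔ x = 1 ∨ x = z := fun x => Iff.rfl
  have hEcard : Nat.card E = 2 := by
    have : (E : Set C) = {1, z} := by
      ext x
      simp [hEmem]
    rw [← SetLike.coe_sort_coe, this, Nat.card_coe_set_eq, Set.ncard_pair hz1.symm]
  obtain ⟨S, hS, hScard⟩ := exists_prod B E (by
    rintro e he a ha
    rcases (hEmem e).1 he with rfl | rfl
    · simpa using ha
    · rw [← hzc, mul_inv_cancel_right]; exact ha) (by
    rintro a ha e he h
    rcases (hEmem e).1 he with rfl | rfl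
    · rfl
    · exfalso
      apply hzB
      have : e = a⁻¹ := (inv_eq_of_mul_eq_one_right h).symm
      rw [this]; exact inv_mem ha)
  have hzS : z ∈ S := (hS z).2 ⟨1, one_mem _, z, Or.inr rfl, by rw [one_mul]⟩
  have hidx : S.index = m := by
    have h1 := Subgroup.card_mul_index S
    rw [hScard, hEcard, hcard, mul_comm (Nat.card B) 2] at h1
    have hpos : 0 < 2 * Nat.card B := by
      have : 0 < Nat.card B := Nat.card_pos
      omega
    exact Nat.eq_of_mul_eq_mul_left hpos h1
  -- the homomorphism
  have hcase : ∀ x ∈ S, x ∈ B ∨ x * z ∈ B := by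
    intro x hx
    obtain ⟨a, ha, e, he, rfl⟩ := (hS x).1 hx
    rcases (hEmem e).1 he with rfl | rfl
    · left; rwa [mul_one]
    · right; rwa [mul_assoc, hzz, mul_one]
  have hmem : ∀ x ∈ B, x * z ∉ B := by
    intro x hx h
    apply hzB
    have := mul_mem (inv_mem hx) h
    rwa [inv_mul_cancel_left] at this
  let χ : S →* ℤˣ := MonoidHom.mk' (fun x => if (x : C) ∈ B then 1 else -1) (by
    rintro ⟨x, hx⟩ ⟨y, hy⟩
    show (if x * y ∈ B then (1 : ℤˣ) else -1) = (if x ∈ B then 1 else -1) * (if y ∈ B then 1 else -1)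
    by_cases h1 : x ∈ B
    · by_cases h2 : y ∈ B
      · rw [if_pos (mul_mem h1 h2), if_pos h1, if_pos h2, one_mul]
      · have h3 : x * y ∉ B := by
          intro h
          apply h2
          have := mul_mem (inv_mem h1) h
          rwa [inv_mul_cancel_left] at this
        rw [if_neg h3, if_pos h1, if_neg h2, one_mul]
    · by_cases h2 : y ∈ B
      · have h3 : x * y ∉ B := by
          intro h
          apply h1
          have := mul_mem h (inv_mem h2)
          rwa [mul_inv_cancel_right] at this
        rw [if_neg h3, if_neg h1, if_pos h2, mul_one]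
      · have h3 : x * y ∈ B := by
          have e1 := (hcase x hx).resolve_left h1
          have e2 := (hcase y hy).resolve_left h2
          have := mul_mem e1 e2
          have e3 : x * z * (y * z) = x * y := by
            calc x * z * (y * z) = x * (z * y) * z := by group
              _ = x * (y * z) * z := by rw [← hzc y]
              _ = x * y * (z * z) := by group
              _ = x * y := by rw [hzz, mul_one]
          rwa [e3] at this
        rw [if_pos h3, if_neg h1, if_neg h2]
        rfl)
  have htr : MonoidHom.transfer χ = 1 := by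
    have h1 : commutator C ≤ (MonoidHom.transfer χ).ker := Abelianization.commutator_subset_ker _
    rw [hperf, top_le_iff] at h1
    ext x
    have : x ∈ (MonoidHom.transfer χ).ker := by rw [h1]; trivial
    rw [MonoidHom.mem_ker] at this
    rw [this]
    rfl
  have h2 := MonoidHom.transfer_eq_pow χ z (by
    intro k g _
    have : Commute g (z ^ k) := Commute.pow_right (hzc g) k
    rw [mul_assoc, ← this.eq, inv_mul_cancel_left])
  rw [htr, MonoidHom.one_apply] at h2
  have h3 : z ^ S.index = z := by
    rw [hidx]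
    exact Cfsg.Agent.R01.Lifts.pow_odd_of_sq hzz hm
  have h4 : χ ⟨z, hzS⟩ = -1 := by
    show (if z ∈ B then (1 : ℤˣ) else -1) = -1
    rw [if_neg hzB]
  have h5 : (⟨z ^ S.index, MonoidHom.transfer_eq_pow_aux z (by
    intro k g _
    have : Commute g (z ^ k) := Commute.pow_right (hzc g) k
    rw [mul_assoc, ← this.eq, inv_mul_cancel_left])⟩ : S) = ⟨z, hzS⟩ := Subtype.ext h3
  rw [h5, h4] at h2
  exact absurd h2 (by decide)

end Cfsg.Agent.R01.BaerGrp
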