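import Cfsg.Agent.R01.AllOfLab
import Cfsg.Agent.R01.Fusion
import Cfsg.Agent.R01.Assembly

/-!
# The bridge from the labelling to the closing theorem, in the form used by the assembly
-/

set_option autoImplicit false

namespace Cfsg.Agent.R01.Bridge

open Cfsg Cfsg.Agent.LieClassical.HermBasic
open Cfsg.Agent.R01.PSUSix Cfsg.Agent.R01.Lifts Cfsg.Agent.R01.Label Cfsg.Agent.R01.InvForm
open Cfsg.Agent.R01.Squares (Baer)
open Cfsg.Agent.R01.Start (zel)
open Cfsg.Agent.R01.AllOfLab (HasBaer)
open Cfsg.Agent.R01.Fusion (lamOf lamOf_ne ti3_fr3)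
open Cfsg.Agent.R01.Closing (Conn)

universe u v

section

variable {F : Type*} [Field F] [Fintype F] {hF : Fintype.card F = 2 ^ 2}
variable {C : Type*} [Group C] {π : C →* PSU 6 F 2} {z : C} {lift : (Fin 6 → F) → C}

/-- The Baer relation for the lifts with line product `z`. -/
theorem hasBaer (L : Lab hF π z z lift) {a b c : Fin 6 → F}
    (B : Baer z (lamOf (fun v => lift v * z)) a b c) : HasBaer lift := by
  have hfr := ti3_fr3 B.ti
  refine ⟨a, b, c, hfr, ?_⟩
  have hp := B.prod
  have h0 := AllOfLab.seven_ne_zero hfr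
  rw [lamOf_ne (h0 a (by simp [AllOfLab.seven])), lamOf_ne (h0 b (by simp [AllOfLab.seven])),
    lamOf_ne (h0 c (by simp [AllOfLab.seven])), lamOf_ne (h0 (a + b) (by simp [AllOfLab.seven])),
    lamOf_ne (h0 (a + c) (by simp [AllOfLab.seven])),
    lamOf_ne (h0 (b + c) (by simp [AllOfLab.seven])),
    lamOf_ne (h0 (a + b + c) (by simp [AllOfLab.seven]))] at hp
  have hz : ∀ x : C, z * x = x * z := fun x => (L.ext.comm x).symm
  have hzz : z * z = 1 := L.ext.zz
  have e2 : ∀ p x y : C, p * (x * z) * (y * z) = p * x * y := by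
    intro p x y
    calc p * (x * z) * (y * z) = p * x * (z * y) * z := by group
      _ = p * x * (y * z) * z := by rw [hz]
      _ = p * x * y * (z * z) := by group
      _ = p * x * y := by rw [hzz, mul_one]
  have e1 : ∀ x y : C, x * z * (y * z) = x * y := by
    intro x y
    have := e2 1 x y
    simpa using this
  have e3 : ∀ p x : C, p * (x * z) = p * x * z := fun p x => by group
  rw [e1, e2, e2, e3] at hp
  have h1 : z * (lift a * lift b * lift c * lift (a + b) * lift (a + c) * lift (b + c) *
      lift (a + b + c)) = z := by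
    calc z * (lift a * lift b * lift c * lift (a + b) * lift (a + c) * lift (b + c) *
          lift (a + b + c)) = z * (lift a * lift b * lift c) * lift (a + b) * lift (a + c) *
            lift (b + c) * lift (a + b + c) := by group
      _ = z := by rw [hz (lift a * lift b * lift c)]; exact hp
  exact mul_eq_left.mp h1

/-- Step (K): some product of seven over a Baer subplane is `z`. -/
def BaerSt.{w, w'} : Prop := ∀ (C : Type w) [Group C] [Finite C] (F : Type w') [Field F]
  [Fintype F] (hF : Fintype.card F = 2 ^ 2) (π : C →* PSU 6 F 2) (z : C)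
  (lift : (Fin 6 → F) → C), Lab hF π z z lift →
  ∃ a b c : Fin 6 → F, Baer z (lamOf (fun v => lift v * z)) a b c

end

theorem bridge (hK : BaerSt.{u, v}) : Assembly.BridgeSt.{u, v} := by
  intro G _ _ d F _ _ hF hloc h3 hcard
  have hd : d ∈ conjugatesOf d := mem_conjugatesOf_self
  have key : ∀ a ∈ conjugatesOf d, a * a = 1 ∧ a ≠ 1 := by
    intro a ha
    obtain ⟨π, lift, L, _⟩ := hloc a ha
    refine ⟨congrArg Subtype.val L.ext.zz, fun h => L.ext.zne (Subtype.ext h)⟩
  have H : AllOfLab.Loc F hF (conjugatesOf d) :=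
    { sq := fun a ha => (key a ha).1
      ne := fun a ha => (key a ha).2
      conj := by
        intro g a ha
        exact IsConj.trans ha (isConj_iff.mpr ⟨g, rfl⟩)
      nonempty := ⟨d, hd⟩
      lab := hloc
      baer := by
        intro a ha π lift L
        obtain ⟨x, y, t, B⟩ := hK _ F hF π _ lift L
        exact hasBaer L B }
  refine H.all h3 ?_
  intro a ha
  right
  rw [hcard a ha]

end Cfsg.Agent.R01.Bridge
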