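import Cfsg.Agent.R01.Closing
import Cfsg.Agent.Fischer.Abstract

/-!
# The component of a rank three class of 3-transpositions in the commuting graph

`K` is a group with a rank three class of 3-transpositions `R.t : X → K`, embedded by `φ` in a group `G` which
contains the whole centraliser of `z = φ (R.t R.x0)`; `D` is the `G`-class of `z`, and every member of `D` commuting
with `z` lies in `φ (range R.t)`.  Then `φ (range R.t)` is the component of `z` in the commuting graph on `D`.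
-/

set_option autoImplicit false

namespace Cfsg.Agent.R01.CompRank3

open Cfsg Cfsg.Agent.R01.Closing Cfsg.Agent.Fischer.Abstract

universe u v w

section connX

variable {K : Type v} {X : Type w} [Group K] [MulAction K X] (R : Rank3 K X)

/-- `x`, `y` are joined in the commuting graph on `X`. -/
def CX (x y : X) : Prop := Relation.ReflTransGen R.Com x y

theorem CX.refl (x : X) : CX R x x := Relation.ReflTransGen.refl

theorem CX.of_com {x y : X} (h : R.Com x y) : CX R x y := Relation.ReflTransGen.single h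

theorem CX.symm {x y : X} (h : CX R x y) : CX R y x := by
  induction h with
  | refl => exact Relation.ReflTransGen.refl
  | tail _ hbc ih => exact Relation.ReflTransGen.head (R.com_symm hbc) ih

theorem CX.trans {x y z : X} (h : CX R x y) (h' : CX R y z) : CX R x z :=
  Relation.ReflTransGen.trans h h'

theorem CX.smul {x y : X} (h : CX R x y) (g : K) : CX R (g • x) (g • y) := by
  induction h with
  | refl => exact Relation.ReflTransGen.refl
  | tail _ hbc ih => exact Relation.ReflTransGen.tail ih ((R.com_smul g _ _).2 hbc)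

/-- The commuting graph of a rank three class is connected as soon as commuting is not transitive. -/
theorem cx_all (nc : ∃ x y, R.Com R.x0 x ∧ R.Com R.x0 y ∧ ¬ R.Com x y) (x y : X) : CX R x y := by
  have h0 : ∀ y, CX R R.x0 y := by
    obtain ⟨p, q, hp, hq, hpq⟩ := nc
    -- a point of the component not commuting with `x0`
    obtain ⟨b, hb, hbc⟩ : ∃ b, CX R R.x0 b ∧ ¬ R.Com R.x0 b := by
      by_contra hcon
      push Not at hcon
      obtain ⟨g, hg⟩ := R.trans p
      have h1 : CX R p q := ((CX.of_com R hp).symm).trans R (CX.of_com R hq)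
      have h2 : CX R (g⁻¹ • p) (g⁻¹ • q) := h1.smul R g⁻¹
      have h3 : g⁻¹ • p = R.x0 := by rw [← hg, inv_smul_smul]
      rw [h3] at h2
      have h4 := hcon _ h2
      have h5 := (R.com_smul g _ _).2 h4
      rw [hg, smul_inv_smul] at h5
      exact hpq h5
    obtain ⟨h, hh, hhb⟩ := R.not_com_x0_iff.1 hbc
    intro y
    by_cases hy : R.Com R.x0 y
    · exact CX.of_com R hy
    · obtain ⟨k, hk, hkb⟩ := R.not_com_x0_iff.1 hy
      have h1 := hb.smul R (k * h⁻¹)
      have e1 : (k * h⁻¹) • R.x0 = R.x0 := by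
        have : h⁻¹ • R.x0 = R.x0 := by
          nth_rewrite 1 [← hh]
          rw [inv_smul_smul]
        rw [mul_smul, this, hk]
      have e2 : (k * h⁻¹) • b = y := by
        rw [mul_smul, ← hhb, inv_smul_smul, hkb]
      rw [e1, e2] at h1
      exact h1
  exact ((h0 x).symm).trans R (h0 y)

/-- Two commuting points have a common non-neighbour, as soon as there are two different commuting points. -/
theorem exists_link {x y : X} (hxy : R.Com x y) (hne : x ≠ y) :
    ∃ w, ¬ R.Com x w ∧ ¬ R.Com y w := by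
  -- reduce to `x = x0`
  obtain ⟨g, hg⟩ := R.trans x
  by_contra hcon
  push Not at hcon
  -- `(H0)` : a point not commuting with `x0` commutes with all points commuting with `x0` and different from it
  have H0 : ∀ w, ¬ R.Com R.x0 w → ∀ p, R.Com R.x0 p → p ≠ R.x0 → R.Com p w := by
    intro w hw p hp hp0
    have hy' : R.Com R.x0 (g⁻¹ • y) := by
      have := (R.com_smul g⁻¹ x y).2 hxy
      rwa [← hg, inv_smul_smul] at this
    have hy0 : g⁻¹ • y ≠ R.x0 := by
      intro h
      apply hne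
      rw [← hg, ← h, smul_inv_smul]
    rcases R.com_x0_iff.1 hp with h1 | ⟨h, hh, hhc⟩
    · exact absurd h1 hp0
    rcases R.com_x0_iff.1 hy' with h1 | ⟨k, hk, hkc⟩
    · exact absurd h1 hy0
    -- `u` fixes `x0` and maps `g⁻¹ y` to `p`
    have e1 : (h * k⁻¹) • R.x0 = R.x0 := by
      have : k⁻¹ • R.x0 = R.x0 := by
        nth_rewrite 1 [← hk]
        rw [inv_smul_smul]
      rw [mul_smul, this, hh]
    have e2 : (h * k⁻¹) • (g⁻¹ • y) = p := by
      rw [mul_smul, ← hkc, inv_smul_smul, hhc]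
    have hw1 : ¬ R.Com x ((g * (h * k⁻¹)⁻¹) • w) := by
      intro h1
      apply hw
      have h2 := (R.com_smul ((h * k⁻¹) * g⁻¹) _ _).2 h1
      have e3 : ((h * k⁻¹) * g⁻¹) • x = R.x0 := by
        rw [mul_smul, ← hg, inv_smul_smul, e1]
      have e4 : ((h * k⁻¹) * g⁻¹) • ((g * (h * k⁻¹)⁻¹) • w) = w := by
        rw [← mul_smul]
        have : (h * k⁻¹) * g⁻¹ * (g * (h * k⁻¹)⁻¹) = 1 := by group
        rw [this, one_smul]
      rwa [e3, e4] at h2
    have h3 := hcon _ hw1
    have h4 := (R.com_smul ((h * k⁻¹) * g⁻¹) _ _).2 h3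
    have e4 : ((h * k⁻¹) * g⁻¹) • ((g * (h * k⁻¹)⁻¹) • w) = w := by
      rw [← mul_smul]
      have : (h * k⁻¹) * g⁻¹ * (g * (h * k⁻¹)⁻¹) = 1 := by group
      rw [this, one_smul]
    have e5 : ((h * k⁻¹) * g⁻¹) • y = p := by
      rw [mul_smul, e2]
    rwa [e4, e5] at h4
  have H : ∀ x w, ¬ R.Com x w → ∀ p, R.Com x p → p ≠ x → R.Com p w := by
    intro x w hw p hp hpx
    obtain ⟨g, hg⟩ := R.trans x
    have e : g⁻¹ • x = R.x0 := by rw [← hg, inv_smul_smul]
    have h1 : ¬ R.Com R.x0 (g⁻¹ • w) := by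
      rw [← e, R.com_smul]; exact hw
    have h2 : R.Com R.x0 (g⁻¹ • p) := by
      rw [← e, R.com_smul]; exact hp
    have h3 : g⁻¹ • p ≠ R.x0 := by
      rw [← e]
      intro h
      exact hpx (smul_left_cancel _ h)
    exact (R.com_smul g⁻¹ _ _).1 (H0 _ h1 _ h2 h3)
  -- the set of points commuting with all neighbours of `x0`
  let E : Set X := {w | ∀ p, R.Com R.x0 p → p ≠ R.x0 → (R.Com p w ∧ p ≠ w)}
  have hE0 : R.x0 ∈ E := fun p hp hp0 => ⟨R.com_symm hp, hp0⟩
  -- `E` is stable under adding non-neighbours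
  have hE1 : ∀ w ∈ E, ∀ w', ¬ R.Com w w' → w' ∈ E := by
    intro w hw w' hww' p hp hp0
    obtain ⟨h1, h2⟩ := hw p hp hp0
    refine ⟨H w w' hww' p (R.com_symm h1) h2, ?_⟩
    intro h3
    rw [h3] at h1
    exact hww' (R.com_symm h1)
  -- so it is stable under the generators
  have hE2 : ∀ w ∈ E, ∀ d, R.t d • w ∈ E := by
    intro w hw d
    by_cases hdw : R.Com d w
    · have := (R.t_smul_eq_iff d w).2 hdw
      rw [this]; exact hw
    · apply hE1 w hw
      intro h1
      -- `t_w` commutes with `t_d t_w t_d`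
      apply hdw
      rcases R.com_or_braid d w with h2 | h2
      · exact h2
      · have e1 : R.t (R.t d • w) = R.t d * R.t w * R.t d := by
          rw [R.map_smul, R.t_inv]
        unfold Rank3.Com at h1 ⊢
        rw [e1] at h1
        -- t_w t_d t_w t_d = t_d t_w t_d t_w, and t_d t_w t_d = t_w t_d t_w
        have h3 : R.t w * (R.t w * R.t d * R.t w) = (R.t w * R.t d * R.t w) * R.t w := by
          rw [← h2]; exact h1
        calc R.t d * R.t w = (R.t w * R.t w) * R.t d * R.t w := by rw [R.sq', one_mul]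
          _ = R.t w * (R.t w * R.t d * R.t w) := by simp only [mul_assoc]
          _ = (R.t w * R.t d * R.t w) * R.t w := h3
          _ = R.t w * R.t d * (R.t w * R.t w) := by simp only [mul_assoc]
          _ = R.t w * R.t d := by rw [R.sq', mul_one]
  have hE3 : ∀ k : K, ∀ w ∈ E, k • w ∈ E := by
    intro k
    have hk : k ∈ Subgroup.closure (Set.range R.t) := by rw [R.gen]; trivial
    have hboth : ∀ k ∈ Subgroup.closure (Set.range R.t), (∀ w ∈ E, k • w ∈ E) ∧ (∀ w ∈ E, k⁻¹ • w ∈ E) := by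
      intro k hk
      induction hk using Subgroup.closure_induction with
      | mem x hx =>
        obtain ⟨d, rfl⟩ := hx
        refine ⟨fun w hw => hE2 w hw d, fun w hw => ?_⟩
        rw [R.t_inv]; exact hE2 w hw d
      | one => simp
      | mul x y _ _ hx hy =>
        refine ⟨fun w hw => ?_, fun w hw => ?_⟩
        · rw [mul_smul]; exact hx.1 _ (hy.1 _ hw)
        · rw [mul_inv_rev, mul_smul]; exact hy.2 _ (hx.2 _ hw)
      | inv x _ hx => exact ⟨hx.2, by rw [inv_inv]; exact hx.1⟩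
    exact (hboth k hk).1
  obtain ⟨k, hk⟩ := R.trans R.c
  have hc := hE3 k _ hE0
  rw [hk] at hc
  exact (hc R.c R.com_x0_c R.c_ne_x0).2 rfl

end connX

/-- The hypotheses: `φ` embeds `K`, the centraliser of `z = φ (R.t R.x0)` lies in the image and the members of `D`
commuting with `z` are in the image of the class. -/
structure Emb {K : Type v} {X : Type w} {G : Type u} [Group K] [MulAction K X] [Group G]
    (R : Rank3 K X) (φ : K →* G) (D : Set G) : Prop where
  inj : Function.Injective φ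
  conj : ∀ g : G, ∀ a ∈ D, g * a * g⁻¹ ∈ D
  mem : φ (R.t R.x0) ∈ D
  trans : ∀ a ∈ D, ∃ g : G, g * φ (R.t R.x0) * g⁻¹ = a
  cent : ∀ g : G, g * φ (R.t R.x0) = φ (R.t R.x0) * g → ∃ k, φ k = g
  nbr : ∀ a ∈ D, a * φ (R.t R.x0) = φ (R.t R.x0) * a → ∃ x, φ (R.t x) = a
  nc : ∃ x y, R.Com R.x0 x ∧ R.Com R.x0 y ∧ ¬ R.Com x y

section main

variable {K : Type v} {X : Type w} {G : Type u} [Group K] [MulAction K X] [Group G]
  {R : Rank3 K X} {φ : K →* G} {D : Set G}

theorem Emb.memX (h : Emb R φ D) (x : X) : φ (R.t x) ∈ D := by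
  obtain ⟨g, rfl⟩ := R.trans x
  rw [R.map_smul, map_mul, map_mul, map_inv]
  exact h.conj _ _ h.mem

theorem Emb.comm_iff (h : Emb R φ D) {x y : X} :
    φ (R.t x) * φ (R.t y) = φ (R.t y) * φ (R.t x) ↔ R.Com x y := by
  rw [← map_mul, ← map_mul]
  exact h.inj.eq_iff

theorem Emb.conn_x (h : Emb R φ D) (x y : X) : Conn D (φ (R.t x)) (φ (R.t y)) := by
  have h1 := cx_all R h.nc x y
  induction h1 with
  | refl => exact Conn.refl D _
  | tail _ hbc ih =>
    exact ih.trans (Conn.of_comm (h.memX _) (h.memX _) (h.comm_iff.2 hbc))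

/-- The component of `z`. -/
theorem Emb.conn_iff (h : Emb R φ D) {a : G} :
    Conn D (φ (R.t R.x0)) a ↔ ∃ x, φ (R.t x) = a := by
  constructor
  · intro h1
    induction h1 with
    | refl => exact ⟨_, rfl⟩
    | tail _ hbc ih =>
      rename_i b c _
      obtain ⟨x, hx⟩ := ih
      obtain ⟨k, hk⟩ := R.trans x
      have hb : b = φ k * φ (R.t R.x0) * (φ k)⁻¹ := by
        rw [← hx, ← hk, R.map_smul, map_mul, map_mul, map_inv]
      have hc := h.conj (φ k)⁻¹ c hbc.2.1
      obtain ⟨y, hy⟩ := h.nbr _ hc (by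
        have h2 := hbc.2.2
        rw [hb] at h2
        rw [inv_inv]
        calc (φ k)⁻¹ * c * φ k * φ (R.t R.x0)
            = (φ k)⁻¹ * (c * (φ k * φ (R.t R.x0) * (φ k)⁻¹)) * φ k := by group
          _ = (φ k)⁻¹ * ((φ k * φ (R.t R.x0) * (φ k)⁻¹) * c) * φ k := by rw [h2]
          _ = φ (R.t R.x0) * ((φ k)⁻¹ * c * φ k) := by group)
      refine ⟨k • y, ?_⟩
      rw [R.map_smul, map_mul, map_mul, map_inv, hy]
      group
  · rintro ⟨x, rfl⟩
    exact h.conn_x _ _

theorem Emb.exists_conj_of_conn (h : Emb R φ D) {a b : G} (ha : a ∈ D) (hab : Conn D a b) :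
    ∃ g : G, ∃ x : X, g * φ (R.t R.x0) * g⁻¹ = a ∧ g * φ (R.t x) * g⁻¹ = b := by
  obtain ⟨g, hg⟩ := h.trans a ha
  have h1 := hab.conj h.conj g⁻¹
  have e : g⁻¹ * a * g⁻¹⁻¹ = φ (R.t R.x0) := by rw [← hg]; group
  rw [e] at h1
  obtain ⟨x, hx⟩ := h.conn_iff.1 h1
  refine ⟨g, x, hg, ?_⟩
  rw [hx]; group

theorem Emb.three (h : Emb R φ D) : ∀ a ∈ D, ∀ b ∈ D, Conn D a b → a * b = b * a ∨ (a * b) ^ 3 = 1 := by
  intro a ha b _ hab
  obtain ⟨g, x, rfl, rfl⟩ := h.exists_conj_of_conn ha hab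
  have e : ∀ p q : G, g * p * g⁻¹ * (g * q * g⁻¹) = g * (p * q) * g⁻¹ := fun p q => by group
  rcases R.com_or_braid R.x0 x with h1 | h1
  · left
    rw [e, e, h.comm_iff.2 h1]
  · right
    rw [e]
    have h2 : (R.t R.x0 * R.t x) ^ 3 = 1 := by
      calc (R.t R.x0 * R.t x) ^ 3 = (R.t R.x0 * R.t x * R.t R.x0) * (R.t x * R.t R.x0 * R.t x) := by
            simp only [pow_succ, pow_zero, one_mul, mul_assoc]
        _ = (R.t R.x0 * R.t x * R.t R.x0) * (R.t R.x0 * R.t x * R.t R.x0) := by rw [← h1]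
        _ = R.t R.x0 * R.t x * (R.t R.x0 * R.t R.x0) * R.t x * R.t R.x0 := by group
        _ = R.t R.x0 * (R.t x * R.t x) * R.t R.x0 := by rw [R.sq']; group
        _ = 1 := by rw [R.sq', mul_one, R.sq']
    rw [← map_mul, conj_pow, ← map_pow, h2, map_one]
    group

theorem Emb.conn_transport (h : Emb R φ D) {a b g : G} (hg : g * φ (R.t R.x0) * g⁻¹ = a) (hab : Conn D a b) :
    Conn D (φ (R.t R.x0)) (g⁻¹ * b * g) := by
  have h1 := hab.conj h.conj g⁻¹
  have e : g⁻¹ * a * g⁻¹⁻¹ = φ (R.t R.x0) := by rw [← hg]; group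
  rw [e, inv_inv] at h1
  exact h1

theorem Emb.card (h : Emb R φ D) {a : G} (ha : a ∈ D) :
    Nat.card {b : G // Conn D a b} = Nat.card X := by
  obtain ⟨g, hg⟩ := h.trans a ha
  have hx : ∀ x : X, Conn D a (g * φ (R.t x) * g⁻¹) := by
    intro x
    have h1 := (h.conn_x R.x0 x).conj h.conj g
    rw [hg] at h1
    exact h1
  symm
  refine Nat.card_congr (Equiv.ofBijective
    (fun x : X => (⟨g * φ (R.t x) * g⁻¹, hx x⟩ : {b : G // Conn D a b})) ⟨?_, ?_⟩)
  · intro x y hxy
    have h1 := congrArg Subtype.val hxy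
    exact R.t_injective (h.inj (mul_left_cancel (mul_right_cancel h1)))
  · rintro ⟨b, hb⟩
    obtain ⟨x, hx'⟩ := h.conn_iff.1 (h.conn_transport hg hb)
    refine ⟨x, Subtype.ext ?_⟩
    change g * φ (R.t x) * g⁻¹ = b
    rw [hx']; group

/-- The stabiliser of the component of `z` is the image of `K`. -/
theorem Emb.M_eq (h : Emb R φ D) : M D h.conj (φ (R.t R.x0)) = φ.range := by
  ext g
  rw [mem_M, h.conn_iff]
  constructor
  · rintro ⟨x, hx⟩
    obtain ⟨k, rfl⟩ := R.trans x
    rw [R.map_smul, map_mul, map_mul, map_inv] at hx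
    obtain ⟨l, hl⟩ := h.cent ((φ k)⁻¹ * g) (by
      calc (φ k)⁻¹ * g * φ (R.t R.x0) = (φ k)⁻¹ * (g * φ (R.t R.x0) * g⁻¹) * g := by group
        _ = (φ k)⁻¹ * (φ k * φ (R.t R.x0) * (φ k)⁻¹) * g := by rw [hx]
        _ = φ (R.t R.x0) * ((φ k)⁻¹ * g) := by group)
    refine ⟨k * l, ?_⟩
    rw [map_mul, hl]; group
  · rintro ⟨k, rfl⟩
    refine ⟨k • R.x0, ?_⟩
    rw [R.map_smul, map_mul, map_mul, map_inv]

theorem Emb.link (h : Emb R φ D) : ∀ a ∈ D, ∀ b ∈ D, a ≠ b → a * b = b * a →
    ∃ c ∈ D, Conn D a c ∧ c * a ≠ a * c ∧ c * b ≠ b * c := by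
  intro a ha b hb hne hab
  obtain ⟨g, x, rfl, rfl⟩ := h.exists_conj_of_conn ha (Conn.of_comm ha hb hab)
  have e : ∀ p q : G, g * p * g⁻¹ * (g * q * g⁻¹) = g * (p * q) * g⁻¹ := fun p q => by group
  have hx : R.Com R.x0 x := by
    rw [← h.comm_iff]
    rw [e, e] at hab
    exact mul_left_cancel (mul_right_cancel hab)
  have hne' : R.x0 ≠ x := by
    intro h1
    apply hne
    rw [h1]
  obtain ⟨y, hy1, hy2⟩ := exists_link R hx hne'
  refine ⟨g * φ (R.t y) * g⁻¹, h.conj _ _ (h.memX y), (h.conn_x R.x0 y).conj h.conj g, ?_, ?_⟩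
  · intro h1
    rw [e, e] at h1
    exact hy1 (h.comm_iff.1 (mul_left_cancel (mul_right_cancel h1)).symm)
  · intro h1
    rw [e, e] at h1
    exact hy2 (h.comm_iff.1 (mul_left_cancel (mul_right_cancel h1)).symm)

end main

end Cfsg.Agent.R01.CompRank3
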