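import Cfsg.Agent.R01.Loc
import Cfsg.Agent.S0283
import Cfsg.Agent.Fischer.Order22

/-!
# The local hypothesis for the group Fi22 on 3510 points

The transpositions of `Fischer.Group22.G` satisfy the local hypothesis `Loc`.
-/

set_option autoImplicit false

namespace Cfsg.Agent.R01.Fi22Loc

open Cfsg Cfsg.Agent.Fischer Cfsg.Agent.Fischer.Cert Cfsg.Agent.Fischer.Abstract
  Cfsg.Agent.Fischer.Centralizer Cfsg.Agent.Fischer.Group22 Cfsg.Agent.Fischer.Rank22
  Cfsg.Agent.Fischer.Vec22 Cfsg.Agent.Fischer.Unit22
open Cfsg.Agent.SporRec.GF4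
open Cfsg.Agent.ClassicalGeometry.UnitTransv
open Cfsg.Agent.ClassicalGeometry.UnitAutBasic (tau pr pr_surjective)
open Cfsg.Agent.SporadicStructure.UnitTwo (T act_T conj_T T_smul)
open Cfsg.Agent.LieClassical.HermBasic
open Cfsg.Agent.R01.Lifts Cfsg.Agent.R01.PSUSix Cfsg.Agent.R01.Label Cfsg.Agent.R01.Start
  Cfsg.Agent.R01.Loc

/-! ### The projection -/

/-- the representation of `PSU 6 F4 2` on the link -/
noncomputable def β : PSU 6 F4 2 →* Equiv.Perm (Link R) := UnitAct.prep P hF (by decide)

theorem β_injective : Function.Injective β := UnitAct.prep_injective P hF (by decide)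

theorem range_β : β.range = α.range := by
  rw [β, UnitAct.prep_range, ← range_eq]

theorem β_pr (A : SU 6 F4 2) : β (pr 6 F4 2 A) = UnitAct.rep P A := rfl

theorem exists_β (k : C R) : ∃ x, β x = α k := by
  have : α k ∈ β.range := by rw [range_β]; exact ⟨k, rfl⟩
  exact this

/-- the projection of the centraliser -/
noncomputable def π : C R →* PSU 6 F4 2 where
  toFun k := (exists_β k).choose
  map_one' := β_injective (by rw [(exists_β 1).choose_spec, map_one, map_one])
  map_mul' x y := β_injective (by
    have h1 := (exists_β x).choose_spec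
    have h2 := (exists_β y).choose_spec
    have h3 := (exists_β (x * y)).choose_spec
    rw [map_mul β, h3, map_mul]
    exact (congrArg₂ (· * ·) h1 h2).symm)

theorem β_π (k : C R) : β (π k) = α k := (exists_β k).choose_spec

theorem π_gc : π (gC .c rfl) = tau hF (P.vec (lg .c rfl (by decide))) := by
  apply β_injective
  rw [β_π, α_gC .c rfl (by decide), tau_eq_pr hF (P.iso _), β_pr]

theorem τ_lg_c : τ (lg .c rfl (by decide)) = gC .c rfl := Subtype.ext (t_pg .c)

theorem exists_k (y : Link R) : ∃ k : C R, α k (lg .c rfl (by decide)) = y := by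
  obtain ⟨k, hk, hk'⟩ := orbit_high (y.1 : X).1 (link_lt y) (link_ge y)
  have hkC : k ∈ C R := by rw [C_eq_H1]; exact hk
  exact ⟨⟨k, hkC⟩, Subtype.ext hk'⟩

theorem vec_ne (y : Link R) : P.vec y ≠ 0 := P.ne y

theorem π_τ (y : Link R) : π (τ y) = tau hF (P.vec y) := by
  obtain ⟨k, rfl⟩ := exists_k y
  obtain ⟨A, hA⟩ := pr_surjective (π k)
  rw [τ_smul, map_mul, map_mul, map_inv, τ_lg_c, π_gc, ← hA,
    PSUSix.conj_tau hF A (P.iso (lg .c rfl (by decide)))]
  have h1 : UnitAct.rep P A = α k := by rw [← β_pr, hA, β_π]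
  obtain ⟨c, hc⟩ := UnitAct.rep_spec P A (lg .c rfl (by decide))
  have hc0 := UnitAct.scalar_ne_zero P hc
  rw [hc, tau_smul hF (P.iso _) hc0, h1]

/-! ### The extension -/

theorem a_eq_zel : a R = zel (R.t R.x0) := rfl

theorem ext : Ext π (zel (R.t R.x0)) where
  surj x := by
    have : β x ∈ α.range := by rw [← range_β]; exact ⟨x, rfl⟩
    obtain ⟨k, hk⟩ := this
    exact ⟨k, β_injective (by rw [β_π, hk])⟩
  zz := Subtype.ext R.sq
  zne := a_ne_one R
  ker c := by
    have := Even22.faithful
    have h1 : c = 1 ∨ c = zel (R.t R.x0) ↔ c ∈ Subgroup.center (C R) :=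
      (mem_center_C_iff R R_sep c).symm
    rw [h1, ← ker_eq_center R R_genC, MonoidHom.mem_ker,
      ← map_eq_one_iff β β_injective, β_π]
    rfl
  comm c := by
    apply Subtype.ext
    exact Subgroup.mem_centralizer_singleton_iff.1 c.2

/-- a member of the link -/
def mkL (x : X) (h : R.Com R.x0 x ∧ x ≠ R.x0) : Link R := ⟨x, h⟩

/-- the six members of the link with product the central involution -/
noncomputable def sixL : List (Link R) := Even22.six.pmap mkL Even22.com_six

theorem prod_sixL : (sixL.map τ).prod = zel (R.t R.x0) := by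
  apply Subtype.ext
  show ((sixL.map τ).prod : C R).1 = R.t R.x0
  rw [Even22.prod_six, ← Subgroup.coe_subtype, map_list_prod, List.map_map, sixL, List.map_pmap]
  congr 1

theorem length_sixL : sixL.length = 6 := by rw [sixL, List.length_pmap]; rfl

theorem perf : commutator (C R) = ⊤ := by
  have hsimple : IsSimpleGroup (PSU 6 F4 2) :=
    Cfsg.Agent.S0283.result (q := 2) hF 6 (by norm_num) (by norm_num)
  have hU : commutator (PSU 6 F4 2) = ⊤ := by
    rcases hsimple.eq_bot_or_eq_top_of_normal (commutator (PSU 6 F4 2)) inferInstance with h | h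
    · exfalso
      rw [commutator_eq_bot_iff_center_eq_top] at h
      have h1 : Commute (π (τ (lg .c rfl (by decide)))) (π (τ (lg .d rfl (by decide)))) := by
        have h2 : π (τ (lg .c rfl (by decide))) ∈ Subgroup.center (PSU 6 F4 2) := by
          rw [h]; trivial
        exact (Subgroup.mem_center_iff.1 h2 _).symm
      rw [π_τ, π_τ, tau_commute_iff hF (by norm_num) (P.iso _) (P.iso _) (P.ne _)] at h1
      have h2 : hermForm 6 F4 2 (P.vec (lg .c rfl (by decide))) (P.vec (lg .d rfl (by decide))) =
          herm (vx 2817) (vx 2819) := herm_eq _ _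
      rw [h2] at h1
      have h3 : isZ (herm (vx 2817) (vx 2819)) = false := by decide +kernel
      rw [(isZ_iff _).2 h1] at h3
      exact absurd h3 (by decide)
    · exact h
  let f : C R →* Abelianization (C R) := Abelianization.of
  have hfker : f.ker = commutator (C R) := Abelianization.ker_of _
  have hz : zel (R.t R.x0) ∈ commutator (C R) := by
    rw [← hfker, MonoidHom.mem_ker, ← prod_sixL, map_list_prod, List.map_map]
    have h1 : ∀ y, f (τ y) = f (gC .c rfl) := by
      intro y
      obtain ⟨k, rfl⟩ := exists_k y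
      rw [τ_smul, map_mul, map_mul, map_inv, mul_comm (f k), mul_assoc, mul_inv_cancel, mul_one,
        τ_lg_c]
    have h2 : List.map (f ∘ τ) sixL = List.replicate 6 (f (gC .c rfl)) := by
      rw [← length_sixL, List.eq_replicate_iff]
      refine ⟨by rw [List.length_map], ?_⟩
      intro b hb
      obtain ⟨y, _, rfl⟩ := List.mem_map.1 hb
      exact h1 y
    rw [h2, List.prod_replicate]
    have h3 : f (gC .c rfl) ^ 2 = 1 := by
      rw [← map_pow, pow_two]
      have : gC .c rfl * gC .c rfl = 1 := Subtype.ext (g_sq .c)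
      rw [this, map_one]
    calc f (gC .c rfl) ^ 6 = (f (gC .c rfl) ^ 2) ^ 3 := by rw [← pow_mul]
      _ = 1 := by rw [h3, one_pow]
  have hmap : (commutator (C R)).map π = ⊤ := by
    rw [commutator_def, Subgroup.map_commutator, ← MonoidHom.range_eq_map,
      MonoidHom.range_eq_top.2 ext.surj, ← commutator_def, hU]
  rw [eq_top_iff]
  intro c _
  have hc : π c ∈ (commutator (C R)).map π := by rw [hmap]; trivial
  obtain ⟨c', hc', h⟩ := hc
  rcases ext.map_eq.1 h with h5 | h5
  · rw [← h5]; exact hc'
  · have h6 : c = c' * zel (R.t R.x0) := by rw [h5, ext.mul_z_mul_z]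
    rw [h6]
    exact mul_mem hc' hz

/-! ### The hexad -/

/-- conjugates of transpositions by words -/
theorem t_word (w : List Data22.Gen) (s : Data22.Gen) :
    t ((w.map g).prod • pg s) = ((w ++ (s :: w.reverse)).map g).prod := by
  rw [t_smul, t_pg, List.map_append, List.map_cons, List.prod_append, List.prod_cons, mul_assoc]
  congr 2
  induction w with
  | nil => rw [List.map_nil, List.prod_nil, inv_one]; rfl
  | cons s w ih =>
    rw [List.map_cons, List.prod_cons, mul_inv_rev, ih, g_inv, List.reverse_cons, List.map_append,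
      List.prod_append, List.map_singleton, List.prod_singleton]

open Data22.Gen in
/-- a word moving the point of `c` to `3490` -/
def u1 : List Data22.Gen := [d, h, i, l, e, d, h, i, f, e, d, h, g, f, e, d]

open Data22.Gen in
/-- a word moving the point of `d` to `3485` -/
def u2 : List Data22.Gen := [d, h, i, l, c, d, h, i, f, e, d, h, g, f, e, d]

theorem val_word (w : List Data22.Gen) (x : X) :
    (((w.map g).prod • x : X) : ℕ) = walk Data22.nx w.reverse x := by
  have h := prod_apply w.reverse x
  rw [List.reverse_reverse] at h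
  rw [← h]
  show ((((w.map g).prod : G) : Equiv.Perm X) x : ℕ) = _
  rw [← Subgroup.coe_subtype, map_list_prod, List.map_map]
  rfl

theorem chk1 : Nat.beq (walk Data22.nx u1.reverse 2817) 3490 = true := by decide +kernel
theorem chk2 : Nat.beq (walk Data22.nx u2.reverse 2817) 3485 = true := by decide +kernel

theorem val1 : (((u1.map g).prod • pg .c : X) : ℕ) = 3490 := by
  rw [val_word]; exact Nat.eq_of_beq_eq_true chk1
theorem val2 : (((u2.map g).prod • pg .c : X) : ℕ) = 3485 := by
  rw [val_word]; exact Nat.eq_of_beq_eq_true chk2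

/-- the transposition of `3490` as a word -/
def w1 : List Data22.Gen := u1 ++ (.c :: u1.reverse)
/-- the transposition of `3485` as a word -/
def w2 : List Data22.Gen := u2 ++ (.c :: u2.reverse)

/-- the hexad relation -/
def hexadRel : List Data22.Gen := [.c, .e, .g] ++ (w1 ++ (w2 ++ [.a]))

theorem hexad_ok : relCheck Data22.nx (nat_lit 54) (nat_lit 65) hexadRel = true := by
  decide +kernel

theorem isRel_hexad : IsRel g hexadRel := by
  have h := isRel_perm_of_check hexad_ok
  rw [isRel_def] at h ⊢
  apply Subtype.ext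
  rw [← Subgroup.coe_subtype, map_list_prod, List.map_map]
  exact h

/-- the two further points of the line -/
def q1 : Link R := mkLink 3490 (by decide) (by decide)
/-- the two further points of the line -/
def q2 : Link R := mkLink 3485 (by decide) (by decide)

theorem q1_eq : (q1.1 : X) = (u1.map g).prod • pg .c := Fin.ext val1.symm
theorem q2_eq : (q2.1 : X) = (u2.map g).prod • pg .c := Fin.ext val2.symm

theorem t_q1 : t (q1.1 : X) = (w1.map g).prod := by rw [q1_eq, t_word]; rfl
theorem t_q2 : t (q2.1 : X) = (w2.map g).prod := by rw [q2_eq, t_word]; rfl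

theorem prod_line : τ (lg .c rfl (by decide)) * τ (lg .e rfl (by decide)) *
    τ (lg .g rfl (by decide)) * τ q1 * τ q2 = zel (R.t R.x0) := by
  have h := isRel_hexad
  rw [isRel_def, hexadRel, List.map_append, List.map_append, List.map_append, List.prod_append,
    List.prod_append, List.prod_append, ← t_q1, ← t_q2] at h
  simp only [List.map_cons, List.map_nil, List.prod_cons, List.prod_nil, mul_one] at h
  apply Subtype.ext
  show t (pg .c) * t (pg .e) * t (pg .g) * t (q1.1 : X) * t (q2.1 : X) = t x0
  rw [t_pg, t_pg, t_pg, t_x0]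
  have h2 := eq_inv_of_mul_eq_one_left (show g .c * g .e * g .g * t (q1.1 : X) * t (q2.1 : X) *
    g .a = 1 by simpa [mul_assoc] using h)
  rw [h2, g_inv]

/-- a primitive cube root of unity -/
def om : F4 := .w

theorem om_spec : om ^ 2 + om + 1 = 0 := by decide

theorem vec_g : P.vec (lg .g rfl (by decide)) = P.vec (lg .c rfl (by decide)) +
    P.vec (lg .e rfl (by decide)) := by
  funext i
  fin_cases i <;> decide +kernel

theorem vec_q1 : P.vec q1 = (om ^ 2) • (om • P.vec (lg .c rfl (by decide)) +
    P.vec (lg .e rfl (by decide))) := by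
  funext i
  fin_cases i <;> decide +kernel

theorem vec_q2 : P.vec q2 = om • (om ^ 2 • P.vec (lg .c rfl (by decide)) +
    P.vec (lg .e rfl (by decide))) := by
  funext i
  fin_cases i <;> decide +kernel

theorem herm_ce : hermForm 6 F4 2 (P.vec (lg .c rfl (by decide)))
    (P.vec (lg .e rfl (by decide))) = 0 := by
  have h2 : hermForm 6 F4 2 (P.vec (lg .c rfl (by decide))) (P.vec (lg .e rfl (by decide))) =
    herm (vx 2817) (vx 2827) := herm_eq _ _
  rw [h2, ← isZ_iff]
  decide +kernel

theorem ne_ce : ¬ ∃ c : F4, P.vec (lg .e rfl (by decide)) = c • P.vec (lg .c rfl (by decide)) := by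
  rintro ⟨c, hc⟩
  have h := P.uniq _ _ c hc
  have h2 := congrArg (fun y : Link R => (y.1 : X).1) h
  exact absurd h2 (by decide)

/-- The labelling at the base transposition. -/
theorem exists_lift : ∃ lift : (Fin 6 → F4) → C R,
    Lab hF π (zel (R.t R.x0)) (zel (R.t R.x0)) lift ∧ ∀ y, lift (P.vec y) = τ y := by
  obtain ⟨lift, L⟩ := Label.exists_lab hF ext perf (Or.inr rfl)
  set z := zel (R.t R.x0) with hz
  -- all transpositions lie in the same class
  have hcase : ∀ y, lift (P.vec y) = τ y ∨ lift (P.vec y) = τ y * z := by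
    intro y
    have h1 : π (lift (P.vec y)) = π (τ y) := by rw [L.map _ (P.ne y) (P.iso y), π_τ]
    exact ext.map_eq.1 h1
  have hprop : ∀ y y' : Link R, lift (P.vec y) = τ y → lift (P.vec y') = τ y' := by
    intro y y' h
    obtain ⟨k, hk⟩ := exists_k y
    obtain ⟨k', hk'⟩ := exists_k y'
    have hkk : y' = α (k' * k⁻¹) y := by
      rw [map_mul, map_inv, ← hk, ← hk']
      simp
    rcases hcase y' with h1 | h1
    · exact h1
    · exfalso
      have h2 : (k' * k⁻¹) * lift (P.vec y) * (k' * k⁻¹)⁻¹ = τ y' := by rw [h, hkk, τ_smul]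
      have h3 := L.conj_mem (Lab.mem_D (P.ne y) (P.iso y)) (k' * k⁻¹)
      rw [h2] at h3
      have h4 := L.mul_z_notMem h3
      rw [← h1] at h4
      exact h4 (Lab.mem_D (P.ne y') (P.iso y'))
  by_cases hc : lift (P.vec (lg .c rfl (by decide))) = τ (lg .c rfl (by decide))
  · exact ⟨lift, L, fun y => hprop _ _ hc⟩
  · exfalso
    have hall : ∀ y, lift (P.vec y) * z = τ y := by
      intro y
      rcases hcase y with h | h
      · exact absurd (hprop _ _ h) hc
      · rw [h, ext.mul_z_mul_z]
    have hline := L.twist.line _ _ (P.ne (lg .c rfl (by decide))) (P.ne (lg .e rfl (by decide)))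
      (P.iso _) (P.iso _) herm_ce ne_ce om om_spec
    have e1 : lift (om • P.vec (lg .c rfl (by decide)) + P.vec (lg .e rfl (by decide))) =
        lift (P.vec q1) := by
      rw [vec_q1]
      refine (L.smul _ _ ?_ (by decide)).symm
      have h1 := P.iso q1
      rw [vec_q1, herm_smul_left, herm_smul_right] at h1
      rcases mul_eq_zero.1 h1 with h | h
      · exact absurd h (by decide)
      · rcases mul_eq_zero.1 h with h | h
        · exact absurd h (by decide)
        · exact h
    have e2 : lift (om ^ 2 • P.vec (lg .c rfl (by decide)) + P.vec (lg .e rfl (by decide))) =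
        lift (P.vec q2) := by
      rw [vec_q2]
      refine (L.smul _ _ ?_ (by decide)).symm
      have h1 := P.iso q2
      rw [vec_q2, herm_smul_left, herm_smul_right] at h1
      rcases mul_eq_zero.1 h1 with h | h
      · exact absurd h (by decide)
      · rcases mul_eq_zero.1 h with h | h
        · exact absurd h (by decide)
        · exact h
    rw [← vec_g, e1, e2, hall, hall, hall, hall, hall, prod_line, ← hz, L.ext.zz] at hline
    exact L.ext.zne hline

theorem Dset_eq {lift : (Fin 6 → F4) → C R}
    (L : Lab hF π (zel (R.t R.x0)) (zel (R.t R.x0)) lift) (h : ∀ y, lift (P.vec y) = τ y) :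
    Dset lift = Set.range τ := by
  ext x
  constructor
  · rintro ⟨v, h0, hv, rfl⟩
    obtain ⟨y, c, hc⟩ := P.cover v h0 hv
    have hc0 : c ≠ 0 := by
      rintro rfl
      rw [zero_smul] at hc
      exact h0 hc
    exact ⟨y, by rw [hc, L.smul _ _ (P.iso y) hc0, h]⟩
  · rintro ⟨y, rfl⟩
    rw [← h]
    exact Lab.mem_D (P.ne y) (P.iso y)

/-- the class of transpositions -/
def D : Set G := Set.range R.t

theorem mem_D_iff (x : C R) : (x : G) ∈ D ↔ x = zel (R.t R.x0) ∨ x ∈ Set.range τ := by
  constructor
  · rintro ⟨y, hy⟩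
    by_cases h : y = R.x0
    · left
      apply Subtype.ext
      rw [← hy, h]
      rfl
    · right
      have hc : R.Com R.x0 y := by rw [← t_mem_C_iff, hy]; exact x.2
      exact ⟨⟨y, hc, h⟩, Subtype.ext hy⟩
  · rintro (rfl | ⟨y, rfl⟩)
    · exact ⟨R.x0, rfl⟩
    · exact ⟨y.1, rfl⟩

theorem D_eq : D = conjugatesOf (R.t R.x0) := by
  ext x
  constructor
  · rintro ⟨y, rfl⟩
    obtain ⟨k, rfl⟩ := R.trans y
    exact isConj_iff.2 ⟨k, (R.map_smul k R.x0).symm⟩
  · intro h
    obtain ⟨k, rfl⟩ := isConj_iff.1 (show IsConj (R.t R.x0) x from h)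
    exact ⟨k • R.x0, R.map_smul k R.x0⟩

theorem locAt : LocAt hF D (R.t R.x0) := by
  obtain ⟨lift, L, hL⟩ := exists_lift
  exact ⟨π, lift, L, fun x => by rw [Dset_eq L hL]; exact mem_D_iff x⟩

theorem loc : Loc hF D := by
  rw [D_eq]
  apply loc_of_locAt
  rw [← D_eq]
  exact locAt

end Cfsg.Agent.R01.Fi22Loc
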