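import Cfsg.Agent.R01.Start

/-!
The fusion step for S1714 (and similar situations), abstract part: `z` is an involution of `G`, `C` its centraliser,
`D₀` a class of involutions of `C` such that every element of `C` with square in `{1, z}` is up to `z` a product of at
most three commuting members of `D₀`, all products `x y`, `x y z` with `x ≠ y` commuting in `D₀` are squares, and all
elements `x y w`, `x y w z` are conjugate. Then the conjugates of `z` in `C` are `z` and either the members of `D₀`, or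
the elements `x z`, `x ∈ D₀`.
-/

set_option autoImplicit false

namespace Cfsg.Agent.R01.FiFusion

open Cfsg Cfsg.Agent.R01.Lifts Cfsg.Agent.R01.Start

universe u

/-- Three different commuting members. -/
structure Tri {C : Type*} [Group C] (D : Set C) (x y w : C) : Prop where
  mx : x ∈ D
  my : y ∈ D
  mw : w ∈ D
  xy : x ≠ y
  xw : x ≠ w
  yw : y ≠ w
  cxy : x * y = y * x
  cxw : x * w = w * x
  cyw : y * w = w * y

/-- The facts on the class `D₀` of `C` which are used. -/
structure CFacts {C : Type*} [Group C] (z : C) (D₀ : Set C) : Prop where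
  zc : ∀ c : C, c * z = z * c
  zz : z * z = 1
  sq : ∀ x ∈ D₀, x * x = 1
  nez : ∀ x ∈ D₀, x ≠ z
  ne : ∀ x ∈ D₀, x ≠ 1
  conj : ∀ c : C, ∀ x ∈ D₀, c * x * c⁻¹ ∈ D₀
  trans : ∀ x ∈ D₀, ∀ y ∈ D₀, ∃ c : C, c * x * c⁻¹ = y
  key : ∀ c : C, c * c = 1 ∨ c * c = z → ∃ c₀ : C, (c₀ = 1 ∨ c₀ = z) ∧ (c = c₀ ∨
    (∃ x ∈ D₀, c = c₀ * x) ∨
    (∃ x ∈ D₀, ∃ y ∈ D₀, x ≠ y ∧ x * y = y * x ∧ c = c₀ * (x * y)) ∨
    (∃ x y w : C, Tri D₀ x y w ∧ c = c₀ * (x * y * w)))
  two : ∀ x ∈ D₀, ∀ y ∈ D₀, x ≠ y → x * y = y * x → x * y ∉ D₀ ∧ x * y * z ∉ D₀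
  square : ∀ x ∈ D₀, ∀ y ∈ D₀, x ≠ y → x * y = y * x → (∃ s : C, s * s = x * y) ∧
    ∃ s : C, s * s = x * y * z
  tri : ∀ x y w x' y' w' : C, Tri D₀ x y w → Tri D₀ x' y' w' →
    (∃ c : C, c * (x * y * w) * c⁻¹ = x' * y' * w') ∧
      ∃ c : C, c * (x * y * w) * c⁻¹ = x' * y' * w' * z
  four : ∃ x y w w' : C, Tri D₀ x y w ∧ Tri D₀ x y w' ∧ w ≠ w' ∧ w * w' = w' * w

section abstr

variable {C : Type*} [Group C] {z : C} {D₀ : Set C}

/-- `z` is not a square. -/
theorem CFacts.not_square (h : CFacts z D₀) (zne : z ≠ 1) (s : C) : s * s ≠ z := by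
  intro hs
  obtain ⟨c₀, h0, hc⟩ := h.key s (Or.inr hs)
  have key : ∀ b : C, s = c₀ * b → b * b = 1 → False := by
    intro b hb hbb
    have hcb : c₀ * b = b * c₀ := by
      rcases h0 with rfl | rfl
      · group
      · exact (h.zc b).symm
    have h00 : c₀ * c₀ = 1 := by
      rcases h0 with rfl | rfl
      · group
      · exact h.zz
    apply zne
    rw [← hs, hb]
    calc c₀ * b * (c₀ * b) = c₀ * (b * c₀) * b := by group
      _ = c₀ * (c₀ * b) * b := by rw [hcb]
      _ = (c₀ * c₀) * (b * b) := by group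
      _ = 1 := by rw [h00, hbb, one_mul]
  have p2 : ∀ x y : C, x * x = 1 → y * y = 1 → x * y = y * x → (x * y) * (x * y) = 1 := by
    intro x y hx hy hxy
    calc (x * y) * (x * y) = x * (y * x) * y := by group
      _ = x * (x * y) * y := by rw [hxy]
      _ = (x * x) * (y * y) := by group
      _ = 1 := by rw [hx, hy, one_mul]
  rcases hc with hc | ⟨x, hx, hc⟩ | ⟨x, hx, y, hy, -, hxy, hc⟩ | ⟨x, y, w, ht, hc⟩
  · exact key 1 (by rw [mul_one, hc]) (one_mul 1)
  · exact key x hc (h.sq x hx)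
  · exact key (x * y) hc (p2 x y (h.sq x hx) (h.sq y hy) hxy)
  · refine key (x * y * w) hc (p2 _ _ (p2 x y (h.sq x ht.mx) (h.sq y ht.my) ht.cxy) (h.sq w ht.mw) ?_)
    rw [mul_assoc, ht.cyw, ← mul_assoc, ht.cxw, mul_assoc]

/-- Passing from `D₀` to `z D₀`. -/
theorem CFacts.twist (h : CFacts z D₀) : CFacts z {x | x * z ∈ D₀} := by
  have hz2 : ∀ a : C, a * z * z = a := fun a => by rw [mul_assoc, h.zz, mul_one]
  have hzc' : ∀ a b : C, a * z * (b * z) = a * b := by
    intro a b
    calc a * z * (b * z) = a * (z * b) * z := by group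
      _ = a * (b * z) * z := by rw [h.zc b]
      _ = a * b * (z * z) := by group
      _ = a * b := by rw [h.zz, mul_one]
  have inj : ∀ a b : C, a ≠ b → a * z ≠ b * z := fun a b hab hc => hab (mul_right_cancel hc)
  have cm : ∀ a b : C, a * b = b * a → a * z * (b * z) = b * z * (a * z) := by
    intro a b hab
    rw [hzc', hzc', hab]
  have tri_to : ∀ x y w : C, Tri {x | x * z ∈ D₀} x y w → Tri D₀ (x * z) (y * z) (w * z) :=
    fun x y w t => ⟨t.mx, t.my, t.mw, inj _ _ t.xy, inj _ _ t.xw, inj _ _ t.yw, cm _ _ t.cxy,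
      cm _ _ t.cxw, cm _ _ t.cyw⟩
  have tri_of : ∀ x y w : C, Tri D₀ x y w → Tri {x | x * z ∈ D₀} (x * z) (y * z) (w * z) :=
    fun x y w t => ⟨by show x * z * z ∈ D₀; rw [hz2]; exact t.mx,
      by show y * z * z ∈ D₀; rw [hz2]; exact t.my, by show w * z * z ∈ D₀; rw [hz2]; exact t.mw,
      inj _ _ t.xy, inj _ _ t.xw, inj _ _ t.yw, cm _ _ t.cxy, cm _ _ t.cxw, cm _ _ t.cyw⟩
  have p3 : ∀ x y w : C, x * z * (y * z) * (w * z) = x * y * w * z := by
    intro x y w
    rw [hzc']; group
  have conjz : ∀ c a : C, c * (a * z) * c⁻¹ = c * a * c⁻¹ * z := by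
    intro c a
    calc c * (a * z) * c⁻¹ = c * a * (z * c⁻¹) := by group
      _ = c * a * (c⁻¹ * z) := by rw [h.zc c⁻¹]
      _ = c * a * c⁻¹ * z := by group
  refine ⟨h.zc, h.zz, ?_, ?_, ?_, ?_, ?_, ?_, ?_, ?_, ?_, ?_⟩
  · intro x hx
    rw [← hzc' x x]
    exact h.sq _ hx
  · rintro x hx rfl
    exact h.ne _ hx h.zz
  · rintro x hx rfl
    exact h.nez _ hx (one_mul z)
  · intro c x hx
    show c * x * c⁻¹ * z ∈ D₀
    rw [← conjz]
    exact h.conj c _ hx
  · intro x hx y hy
    obtain ⟨c, hc⟩ := h.trans _ hx _ hy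
    refine ⟨c, ?_⟩
    rw [conjz] at hc
    exact mul_right_cancel hc
  · intro c hc
    have cz : ∀ c₀ b : C, c₀ * (b * z) = c₀ * z * b := by
      intro c₀ b
      rw [h.zc b, mul_assoc]
    have hc0 : ∀ c₀ : C, (c₀ = 1 ∨ c₀ = z) → (c₀ * z = 1 ∨ c₀ * z = z) := by
      rintro c₀ (rfl | rfl)
      · right; rw [one_mul]
      · left; exact h.zz
    obtain ⟨c₀, h0, hc⟩ := h.key c hc
    rcases hc with hc | ⟨x, hx, hc⟩ | ⟨x, hx, y, hy, hne, hxy, hc⟩ | ⟨x, y, w, ht, hc⟩
    · exact ⟨c₀, h0, Or.inl hc⟩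
    · refine ⟨c₀ * z, hc0 _ h0, Or.inr (Or.inl ⟨x * z, ?_, ?_⟩)⟩
      · show x * z * z ∈ D₀
        rwa [hz2]
      · rw [hc, cz, hz2]
    · refine ⟨c₀, h0, Or.inr (Or.inr (Or.inl ⟨x * z, ?_, y * z, ?_, inj _ _ hne, cm _ _ hxy, ?_⟩))⟩
      · show x * z * z ∈ D₀
        rwa [hz2]
      · show y * z * z ∈ D₀
        rwa [hz2]
      · rw [hzc']; exact hc
    · refine ⟨c₀ * z, hc0 _ h0, Or.inr (Or.inr (Or.inr ⟨x * z, y * z, w * z, tri_of _ _ _ ht, ?_⟩))⟩
      rw [p3, cz, hz2]; exact hc
  · intro x hx y hy hne hxy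
    have h1 := h.two _ hx _ hy (inj _ _ hne) (cm _ _ hxy)
    rw [hzc'] at h1
    refine ⟨h1.2, ?_⟩
    show ¬ x * y * z * z ∈ D₀
    rw [hz2]
    exact h1.1
  · intro x hx y hy hne hxy
    have h1 := h.square _ hx _ hy (inj _ _ hne) (cm _ _ hxy)
    rwa [hzc'] at h1
  · intro x y w x' y' w' ht ht'
    obtain ⟨⟨c, hc⟩, ⟨c', hc'⟩⟩ := h.tri _ _ _ _ _ _ (tri_to _ _ _ ht) (tri_to _ _ _ ht')
    rw [p3, p3, conjz] at hc hc'
    exact ⟨⟨c, mul_right_cancel hc⟩, ⟨c', mul_right_cancel hc'⟩⟩
  · obtain ⟨x, y, w, w', h1, h2, h3, h4⟩ := h.four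
    exact ⟨_, _, _, _, tri_of _ _ _ h1, tri_of _ _ _ h2, inj _ _ h3, cm _ _ h4⟩

end abstr

section main

variable {G : Type u} [Group G] {z : G} {D₀ : Set (Subgroup.centralizer ({z} : Set G))}

theorem mem_cof_iff {x : G} : x ∈ conjugatesOf z ↔ ∃ g : G, g * z * g⁻¹ = x :=
  isConj_iff

theorem conj_mem_cof {x : G} (hx : x ∈ conjugatesOf z) (g : G) : g * x * g⁻¹ ∈ conjugatesOf z := by
  rw [mem_cof_iff] at hx ⊢
  obtain ⟨k, rfl⟩ := hx
  exact ⟨g * k, by group⟩

theorem conj_mem_cof_iff {x : G} (g : G) : g * x * g⁻¹ ∈ conjugatesOf z ↔ x ∈ conjugatesOf z := by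
  constructor
  · intro h
    have := conj_mem_cof h g⁻¹
    have e : g⁻¹ * (g * x * g⁻¹) * g⁻¹⁻¹ = x := by group
    rwa [e] at this
  · intro h; exact conj_mem_cof h g

/-- No member of the class is a square. -/
theorem not_sq (h : CFacts (zel z) D₀) (zne : z ≠ 1) {x : G} (hx : x ∈ conjugatesOf z) (s : G) :
    s * s ≠ x := by
  intro hs
  obtain ⟨g, rfl⟩ := mem_cof_iff.1 hx
  have h1 : (g⁻¹ * s * g) * (g⁻¹ * s * g) = z := by
    calc (g⁻¹ * s * g) * (g⁻¹ * s * g) = g⁻¹ * (s * s) * g := by group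
      _ = z := by rw [hs]; group
  have hmem : g⁻¹ * s * g ∈ Subgroup.centralizer ({z} : Set G) := by
    rw [Subgroup.mem_centralizer_singleton_iff]
    rw [← h1]; group
  exact h.not_square (fun hz => zne (congrArg Subtype.val hz)) ⟨_, hmem⟩ (Subtype.ext h1)

/-- Products of two commuting members of `D₀` are not in the class. -/
theorem rank_two (h : CFacts (zel z) D₀) (zne : z ≠ 1)
    {x y : Subgroup.centralizer ({z} : Set G)} (hx : x ∈ D₀) (hy : y ∈ D₀) (hne : x ≠ y)
    (hxy : x * y = y * x) : (x : G) * y ∉ conjugatesOf z ∧ (x : G) * y * z ∉ conjugatesOf z := by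
  obtain ⟨⟨s, hs⟩, ⟨s', hs'⟩⟩ := h.square x hx y hy hne hxy
  constructor
  · intro hc
    exact not_sq h zne hc s (congrArg Subtype.val hs)
  · intro hc
    exact not_sq h zne hc s' (congrArg Subtype.val hs')

/-- The classes of the elements of `C` in the class of `z`. -/
theorem cases_mem (h : CFacts (zel z) D₀) (zne : z ≠ 1)
    {x : Subgroup.centralizer ({z} : Set G)} (hx : (x : G) ∈ conjugatesOf z) (hxz : x ≠ zel z) :
    (x ∈ D₀ ∨ x * zel z ∈ D₀) ∨ ∃ a b c : Subgroup.centralizer ({z} : Set G), Tri D₀ a b c ∧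
      (x = a * b * c ∨ x = zel z * (a * b * c)) := by
  have hzz : z * z = 1 := congrArg Subtype.val h.zz
  have hxx : x * x = 1 := by
    obtain ⟨g, hg⟩ := mem_cof_iff.1 hx
    apply Subtype.ext
    show (x : G) * x = 1
    rw [← hg]
    calc g * z * g⁻¹ * (g * z * g⁻¹) = g * (z * z) * g⁻¹ := by group
      _ = 1 := by rw [hzz]; group
  have hx1 : x ≠ 1 := by
    rintro rfl
    obtain ⟨g, hg⟩ := mem_cof_iff.1 hx
    apply zne
    have : z = g⁻¹ * (g * z * g⁻¹) * g := by group
    rw [this, hg]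
    show g⁻¹ * (1 : G) * g = 1
    group
  obtain ⟨c₀, h0, hc⟩ := h.key x (Or.inl hxx)
  rcases hc with hc | ⟨a, ha, hc⟩ | ⟨a, ha, b, hb, hne, hab, hc⟩ | ⟨a, b, c, ht, hc⟩
  · rcases h0 with h0 | h0
    · exact absurd (hc.trans h0) hx1
    · exact absurd (hc.trans h0) hxz
  · left
    rcases h0 with h0 | h0
    · left; rw [hc, h0, one_mul]; exact ha
    · right
      rw [hc, h0, ← h.zc a, mul_assoc, h.zz, mul_one]; exact ha
  · exfalso
    have h1 := rank_two h zne ha hb hne hab
    rcases h0 with h0 | h0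
    · apply h1.1
      rw [hc, h0, one_mul] at hx
      exact hx
    · apply h1.2
      rw [hc, h0, ← h.zc (a * b)] at hx
      exact hx
  · right
    refine ⟨a, b, c, ht, ?_⟩
    rcases h0 with h0 | h0
    · left; rw [hc, h0, one_mul]
    · right; rw [hc, h0]

/-- All products of three commuting members of `D₀`, up to `z`, are in the class if one of them is. -/
theorem rank_three (h : CFacts (zel z) D₀) {a b c : Subgroup.centralizer ({z} : Set G)}
    (ht : Tri D₀ a b c)
    (hx : ((a * b * c : Subgroup.centralizer ({z} : Set G)) : G) ∈ conjugatesOf z ∨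
      ((zel z * (a * b * c) : Subgroup.centralizer ({z} : Set G)) : G) ∈ conjugatesOf z)
    {a' b' c' : Subgroup.centralizer ({z} : Set G)} (ht' : Tri D₀ a' b' c') :
    ((a' * b' * c' : Subgroup.centralizer ({z} : Set G)) : G) ∈ conjugatesOf z ∧
      ((a' * b' * c' * zel z : Subgroup.centralizer ({z} : Set G)) : G) ∈ conjugatesOf z := by
  obtain ⟨⟨k, hk⟩, ⟨k', hk'⟩⟩ := h.tri a b c a' b' c' ht ht'
  have conjz : ∀ c a : Subgroup.centralizer ({z} : Set G),
      c * (zel z * a) * c⁻¹ = c * a * c⁻¹ * zel z := by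
    intro c a
    calc c * (zel z * a) * c⁻¹ = c * (a * zel z) * c⁻¹ := by rw [h.zc a]
      _ = c * a * (zel z * c⁻¹) := by group
      _ = c * a * (c⁻¹ * zel z) := by rw [h.zc c⁻¹]
      _ = c * a * c⁻¹ * zel z := by group
  rcases hx with hx | hx
  · constructor
    · rw [← hk]
      exact conj_mem_cof hx (k : G)
    · rw [← hk']
      exact conj_mem_cof hx (k' : G)
  · constructor
    · have e : a' * b' * c' = k' * (zel z * (a * b * c)) * k'⁻¹ := by
        rw [conjz, hk', mul_assoc (a' * b' * c') (zel z) (zel z), h.zz, mul_one]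
      rw [e]
      exact conj_mem_cof hx (k' : G)
    · have e : a' * b' * c' * zel z = k * (zel z * (a * b * c)) * k⁻¹ := by
        rw [conjz, hk]
      rw [e]
      exact conj_mem_cof hx (k : G)

/-- The relation `x` has rank one with respect to `y`. -/
def R1 (D₀ : Set (Subgroup.centralizer ({z} : Set G))) (y x : G) : Prop :=
  ∃ (g : G) (a : Subgroup.centralizer ({z} : Set G)), (a ∈ D₀ ∨ a * zel z ∈ D₀) ∧
    y = g * z * g⁻¹ ∧ x = g * a * g⁻¹

theorem R1.fix (h : CFacts (zel z) D₀) {y x g : G} (hr : R1 D₀ y x) (hg : y = g * z * g⁻¹) :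
    ∃ a : Subgroup.centralizer ({z} : Set G), (a ∈ D₀ ∨ a * zel z ∈ D₀) ∧ x = g * a * g⁻¹ := by
  obtain ⟨g', a, ha, hy, hx⟩ := hr
  have hmem : g⁻¹ * g' ∈ Subgroup.centralizer ({z} : Set G) := by
    rw [Subgroup.mem_centralizer_singleton_iff]
    have e : g * z * g⁻¹ = g' * z * g'⁻¹ := hg.symm.trans hy
    calc g⁻¹ * g' * z = g⁻¹ * (g' * z * g'⁻¹) * g' := by group
      _ = g⁻¹ * (g * z * g⁻¹) * g' := by rw [e]
      _ = z * (g⁻¹ * g') := by group
  set k : Subgroup.centralizer ({z} : Set G) := ⟨g⁻¹ * g', hmem⟩ with hk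
  refine ⟨k * a * k⁻¹, ?_, ?_⟩
  · rcases ha with ha | ha
    · left; exact h.conj k a ha
    · right
      have : k * a * k⁻¹ * zel z = k * (a * zel z) * k⁻¹ := by
        calc k * a * k⁻¹ * zel z = k * a * (k⁻¹ * zel z) := by group
          _ = k * a * (zel z * k⁻¹) := by rw [h.zc k⁻¹]
          _ = k * (a * zel z) * k⁻¹ := by group
      rw [this]
      exact h.conj k _ ha
  · rw [hx]
    show g' * (a : G) * g'⁻¹ = g * (g⁻¹ * g' * (a : G) * (g⁻¹ * g')⁻¹) * g⁻¹
    group

/-- Two different commuting members `x, y` of the class: `x` has rank one with respect to `y`, or `x y` is in the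
class. -/
theorem rank_or (h : CFacts (zel z) D₀) (zne : z ≠ 1) {x y : G} (hx : x ∈ conjugatesOf z)
    (hy : y ∈ conjugatesOf z) (hne : x ≠ y) (hxy : x * y = y * x) :
    R1 D₀ y x ∨ x * y ∈ conjugatesOf z := by
  obtain ⟨g, hg⟩ := mem_cof_iff.1 hy
  set x₀ : G := g⁻¹ * x * g with hx₀
  have hx₀D : x₀ ∈ conjugatesOf z := by
    have := conj_mem_cof hx g⁻¹
    rwa [inv_inv] at this
  have hmem : x₀ ∈ Subgroup.centralizer ({z} : Set G) := by
    rw [Subgroup.mem_centralizer_singleton_iff, hx₀]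
    calc g⁻¹ * x * g * z = g⁻¹ * (x * (g * z * g⁻¹)) * g := by group
      _ = g⁻¹ * (x * y) * g := by rw [hg]
      _ = g⁻¹ * (y * x) * g := by rw [hxy]
      _ = z * (g⁻¹ * x * g) := by rw [← hg]; group
  have hne' : (⟨x₀, hmem⟩ : Subgroup.centralizer ({z} : Set G)) ≠ zel z := by
    intro he
    have he' : x₀ = z := congrArg Subtype.val he
    apply hne
    rw [← hg, ← he', hx₀]; group
  have hxg : x = g * x₀ * g⁻¹ := by rw [hx₀]; group
  rcases cases_mem h zne (x := ⟨x₀, hmem⟩) hx₀D hne' with h1 | ⟨a, b, c, ht, h1⟩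
  · left
    exact ⟨g, ⟨x₀, hmem⟩, h1, hg.symm, hxg⟩
  · right
    have h2 := rank_three h ht (by
      rcases h1 with h1 | h1
      · left; rw [← h1]; exact hx₀D
      · right; rw [← h1]; exact hx₀D) ht
    have h3 : x₀ * z ∈ conjugatesOf z := by
      rcases h1 with h1 | h1
      · have e : x₀ * z = ((a * b * c * zel z : Subgroup.centralizer ({z} : Set G)) : G) := by
          rw [← h1]; rfl
        rw [e]; exact h2.2
      · have e : x₀ * z = ((a * b * c : Subgroup.centralizer ({z} : Set G)) : G) := by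
          have e1 : (⟨x₀, hmem⟩ : Subgroup.centralizer ({z} : Set G)) * zel z = a * b * c := by
            rw [h1, h.zc, ← mul_assoc, h.zz, one_mul]
          rw [← e1]; rfl
        rw [e]; exact h2.1
    have e : x * y = g * (x₀ * z) * g⁻¹ := by rw [hx₀, ← hg]; group
    rw [e]
    exact conj_mem_cof h3 g

/-- The product of three commuting elements of rank one with respect to `y` is not `y`. -/
theorem R1.prod_ne (h : CFacts (zel z) D₀) {y x₁ x₂ x₃ : G} (h1 : R1 D₀ y x₁) (h2 : R1 D₀ y x₂)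
    (h3 : R1 D₀ y x₃) (h12 : x₁ * x₂ = x₂ * x₁) : x₁ * x₂ * x₃ ≠ y := by
  intro hp
  obtain ⟨g, a₁, ha₁, hy, hx₁⟩ := h1
  obtain ⟨a₂, ha₂, hx₂⟩ := h2.fix h hy
  obtain ⟨a₃, ha₃, hx₃⟩ := h3.fix h hy
  have e1 : a₁ * a₂ * a₃ = zel z := by
    apply Subtype.ext
    show (a₁ : G) * a₂ * a₃ = z
    have : g * ((a₁ : G) * a₂ * a₃) * g⁻¹ = g * z * g⁻¹ := by
      rw [← hy, ← hp, hx₁, hx₂, hx₃]; group
    exact mul_left_cancel (mul_right_cancel this)
  have e2 : a₁ * a₂ = a₂ * a₁ := by
    apply Subtype.ext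
    show (a₁ : G) * a₂ = a₂ * a₁
    have : g * ((a₁ : G) * a₂) * g⁻¹ = g * ((a₂ : G) * a₁) * g⁻¹ := by
      calc g * ((a₁ : G) * a₂) * g⁻¹ = (g * a₁ * g⁻¹) * (g * a₂ * g⁻¹) := by group
        _ = (g * a₂ * g⁻¹) * (g * a₁ * g⁻¹) := by rw [← hx₁, ← hx₂, h12]
        _ = g * ((a₂ : G) * a₁) * g⁻¹ := by group
    exact mul_left_cancel (mul_right_cancel this)
  have hz2 : ∀ a : Subgroup.centralizer ({z} : Set G), a * zel z * zel z = a := fun a => by
    rw [mul_assoc, h.zz, mul_one]
  -- representatives in `D₀`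
  have rep : ∀ a : Subgroup.centralizer ({z} : Set G), (a ∈ D₀ ∨ a * zel z ∈ D₀) →
      ∃ b ∈ D₀, a = b ∨ a = b * zel z := by
    rintro a (ha | ha)
    · exact ⟨a, ha, Or.inl rfl⟩
    · exact ⟨a * zel z, ha, Or.inr (hz2 a).symm⟩
  obtain ⟨b₁, hb₁, e₁⟩ := rep a₁ ha₁
  obtain ⟨b₂, hb₂, e₂⟩ := rep a₂ ha₂
  obtain ⟨b₃, hb₃, e₃⟩ := rep a₃ ha₃
  have hzm : ∀ a b : Subgroup.centralizer ({z} : Set G), a * zel z * b = a * b * zel z := by
    intro a b
    rw [mul_assoc, ← h.zc b, ← mul_assoc]
  have e4 : b₁ * b₂ * b₃ = 1 ∨ b₁ * b₂ * b₃ = zel z := by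
    rcases e₁ with e₁ | e₁ <;> rcases e₂ with e₂ | e₂ <;> rcases e₃ with e₃ | e₃ <;>
      rw [e₁, e₂, e₃] at e1
    · right; exact e1
    · left
      rw [← mul_assoc] at e1
      have := congrArg (· * zel z) e1
      simp only [hz2, h.zz] at this
      exact this
    · left
      rw [← mul_assoc, hzm] at e1
      have := congrArg (· * zel z) e1
      simp only [hz2, h.zz] at this
      exact this
    · right
      rw [← mul_assoc b₁, hzm, ← mul_assoc, hz2] at e1
      exact e1
    · left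
      rw [hzm, hzm] at e1
      have := congrArg (· * zel z) e1
      simp only [hz2, h.zz] at this
      exact this
    · right
      rw [hzm, hzm, ← mul_assoc, hz2] at e1
      exact e1
    · right
      rw [hzm, ← mul_assoc b₁, hz2] at e1
      exact e1
    · left
      rw [hzm, ← mul_assoc b₁, hz2, ← mul_assoc] at e1
      have := congrArg (· * zel z) e1
      simp only [hz2, h.zz] at this
      exact this
  have e5 : b₁ * b₂ = b₂ * b₁ := by
    have hl : ∀ a b : Subgroup.centralizer ({z} : Set G), a * (b * zel z) = a * b * zel z := by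
      intro a b; rw [mul_assoc]
    rcases e₁ with e₁ | e₁ <;> rcases e₂ with e₂ | e₂ <;> rw [e₁, e₂] at e2
    · exact e2
    · rw [hl, hzm] at e2; exact mul_right_cancel e2
    · rw [hl, hzm] at e2; exact mul_right_cancel e2
    · rw [hl, hl, hzm b₁ b₂, hzm b₂ b₁] at e2; exact mul_right_cancel (mul_right_cancel e2)
  have s3 := h.sq b₃ hb₃
  have e6 : b₁ * b₂ = b₃ ∨ b₁ * b₂ * zel z = b₃ := by
    rcases e4 with e4 | e4
    · left
      calc b₁ * b₂ = b₁ * b₂ * (b₃ * b₃) := by rw [s3, mul_one]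
        _ = (b₁ * b₂ * b₃) * b₃ := by group
        _ = b₃ := by rw [e4, one_mul]
    · right
      calc b₁ * b₂ * zel z = b₁ * b₂ * (b₃ * b₃) * zel z := by rw [s3, mul_one]
        _ = (b₁ * b₂ * b₃) * b₃ * zel z := by group
        _ = zel z * b₃ * zel z := by rw [e4]
        _ = b₃ := by rw [← h.zc b₃, hz2]
  by_cases hbb : b₁ = b₂
  · rw [hbb, h.sq b₂ hb₂, one_mul] at e6
    rcases e6 with e6 | e6
    · exact h.ne b₃ hb₃ e6.symm
    · exact h.nez b₃ hb₃ e6.symm
  · have h5 := h.two b₁ hb₁ b₂ hb₂ hbb e5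
    rcases e6 with e6 | e6
    · exact h5.1 (by rw [e6]; exact hb₃)
    · exact h5.2 (by rw [e6]; exact hb₃)

/-- Step A: if `D₀` is in the class then no product of three is. -/
theorem no_rank_three_A (h : CFacts (zel z) D₀) (zne : z ≠ 1)
    (hD : ∀ a ∈ D₀, (a : G) ∈ conjugatesOf z) {a b c : Subgroup.centralizer ({z} : Set G)}
    (ht : Tri D₀ a b c) :
    ¬ (((a * b * c : Subgroup.centralizer ({z} : Set G)) : G) ∈ conjugatesOf z ∨
      ((zel z * (a * b * c) : Subgroup.centralizer ({z} : Set G)) : G) ∈ conjugatesOf z) := by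
  intro hx
  have hy : (a : G) * b * c ∈ conjugatesOf z := (rank_three h ht hx ht).1
  have haa : (a : G) * a = 1 := congrArg Subtype.val (h.sq a ht.mx)
  have hbb : (b : G) * b = 1 := congrArg Subtype.val (h.sq b ht.my)
  have hcc : (c : G) * c = 1 := congrArg Subtype.val (h.sq c ht.mw)
  have hab : (a : G) * b = b * a := congrArg Subtype.val ht.cxy
  have hac : (a : G) * c = c * a := congrArg Subtype.val ht.cxw
  have hbc : (b : G) * c = c * b := congrArg Subtype.val ht.cyw
  have nab := (rank_two h zne ht.mx ht.my ht.xy ht.cxy).1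
  have nac := (rank_two h zne ht.mx ht.mw ht.xw ht.cxw).1
  have nbc := (rank_two h zne ht.my ht.mw ht.yw ht.cyw).1
  have ea : (a : G) * (a * b * c) = b * c := by
    calc (a : G) * (a * b * c) = (a * a) * b * c := by group
      _ = b * c := by rw [haa, one_mul]
  have eb : (b : G) * (a * b * c) = a * c := by
    calc (b : G) * (a * b * c) = (b * a) * b * c := by group
      _ = a * (b * b) * c := by rw [← hab]; group
      _ = a * c := by rw [hbb, mul_one]
  have ec : (c : G) * (a * b * c) = a * b := by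
    calc (c : G) * (a * b * c) = (c * a) * b * c := by group
      _ = a * (c * b) * c := by rw [← hac]; group
      _ = a * b * (c * c) := by rw [← hbc]; group
      _ = a * b := by rw [hcc, mul_one]
  have ca : (a : G) * (a * b * c) = a * b * c * a := by
    rw [ea]
    calc (b : G) * c = (a * a) * (b * c) := by rw [haa, one_mul]
      _ = a * (a * b) * c := by group
      _ = a * (b * a) * c := by rw [hab]
      _ = a * b * (a * c) := by group
      _ = a * b * c * a := by rw [hac]; group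
  have cb : (b : G) * (a * b * c) = a * b * c * b := by
    rw [eb]
    calc (a : G) * c = a * (b * b) * c := by rw [hbb, mul_one]
      _ = a * b * (b * c) := by group
      _ = a * b * c * b := by rw [hbc]; group
  have cc : (c : G) * (a * b * c) = a * b * c * c := by
    rw [ec, mul_assoc ((a : G) * b) (c : G) c, hcc, mul_one]
  have key : ∀ x : G, x ∈ conjugatesOf z → x * (a * b * c) = a * b * c * x →
      x * (a * b * c) ∉ conjugatesOf z → x ≠ a * b * c → R1 D₀ ((a : G) * b * c) x := by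
    intro x hx1 hx2 hx3 hx4
    rcases rank_or h zne hx1 hy hx4 hx2 with h5 | h5
    · exact h5
    · exact absurd h5 hx3
  have inj : ∀ {x y : Subgroup.centralizer ({z} : Set G)}, (x : G) = y → x = y :=
    fun h => Subtype.ext h
  have ra : R1 D₀ ((a : G) * b * c) a := key a (hD a ht.mx) ca (by rw [ea]; exact nbc) (by
    intro he
    have h6 : (b : G) * c = 1 := by
      rw [mul_assoc] at he
      exact mul_eq_left.1 he.symm
    apply ht.yw
    apply inj
    calc (b : G) = b * c * c := by rw [mul_assoc, hcc, mul_one]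
      _ = c := by rw [h6, one_mul])
  have rb : R1 D₀ ((a : G) * b * c) b := key b (hD b ht.my) cb (by rw [eb]; exact nac) (by
    intro he
    have h6 : (a : G) * c = 1 := by
      have h7 : (b : G) * (a * b * c) = 1 := by rw [← he, hbb]
      rw [eb] at h7
      exact h7
    apply ht.xw
    apply inj
    calc (a : G) = a * c * c := by rw [mul_assoc, hcc, mul_one]
      _ = c := by rw [h6, one_mul])
  have rc : R1 D₀ ((a : G) * b * c) c := key c (hD c ht.mw) cc (by rw [ec]; exact nab) (by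
    intro he
    have h6 : (a : G) * b = 1 := by
      have h7 : (c : G) * (a * b * c) = 1 := by rw [← he, hcc]
      rw [ec] at h7
      exact h7
    apply ht.xy
    apply inj
    calc (a : G) = a * b * b := by rw [mul_assoc, hbb, mul_one]
      _ = b := by rw [h6, one_mul])
  exact ra.prod_ne h rb rc hab rfl

/-- Step B: if neither `D₀` nor `z D₀` meets the class then no product of three is in the class. -/
theorem no_rank_three_B (h : CFacts (zel z) D₀) (zne : z ≠ 1)
    (hD : ∀ a : Subgroup.centralizer ({z} : Set G), (a ∈ D₀ ∨ a * zel z ∈ D₀) →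
      (a : G) ∉ conjugatesOf z)
    {a b c : Subgroup.centralizer ({z} : Set G)} (ht : Tri D₀ a b c) :
    ¬ (((a * b * c : Subgroup.centralizer ({z} : Set G)) : G) ∈ conjugatesOf z ∨
      ((zel z * (a * b * c) : Subgroup.centralizer ({z} : Set G)) : G) ∈ conjugatesOf z) := by
  intro hx
  obtain ⟨x, y, w, w', t, t', hww, hcww⟩ := h.four
  have hy : (x : G) * y * w ∈ conjugatesOf z := (rank_three h ht hx t).1
  have hy' : (x : G) * y * w' ∈ conjugatesOf z := (rank_three h ht hx t').1
  have hxx : (x : G) * x = 1 := congrArg Subtype.val (h.sq x t.mx)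
  have hyy : (y : G) * y = 1 := congrArg Subtype.val (h.sq y t.my)
  have cxy : (x : G) * y = y * x := congrArg Subtype.val t.cxy
  have cxw : (x : G) * w = w * x := congrArg Subtype.val t.cxw
  have cyw : (y : G) * w = w * y := congrArg Subtype.val t.cyw
  have cxw' : (x : G) * w' = w' * x := congrArg Subtype.val t'.cxw
  have cyw' : (y : G) * w' = w' * y := congrArg Subtype.val t'.cyw
  have cww : (w : G) * w' = w' * w := congrArg Subtype.val hcww
  have hs : ((x : G) * y) * (x * y) = 1 := by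
    calc ((x : G) * y) * (x * y) = x * (y * x) * y := by group
      _ = (x * x) * (y * y) := by rw [← cxy]; group
      _ = 1 := by rw [hxx, hyy, one_mul]
  have e1 : (x : G) * y * w' = w' * (x * y) := by
    rw [mul_assoc, cyw', ← mul_assoc, cxw', mul_assoc]
  have e2 : (x : G) * y * w = w * (x * y) := by
    rw [mul_assoc, cyw, ← mul_assoc, cxw, mul_assoc]
  have ep : ((x : G) * y * w') * (x * y * w) = w' * w := by
    rw [e1]
    calc (w' : G) * (x * y) * (x * y * w) = w' * ((x * y) * (x * y)) * w := by group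
      _ = w' * w := by rw [hs, mul_one]
  have ep' : ((x : G) * y * w) * (x * y * w') = w * w' := by
    rw [e2]
    calc (w : G) * (x * y) * (x * y * w') = w * ((x * y) * (x * y)) * w' := by group
      _ = w * w' := by rw [hs, mul_one]
  have hne : (x : G) * y * w' ≠ x * y * w := by
    intro he
    exact hww (Subtype.ext (mul_left_cancel he)).symm
  have hn := (rank_two h zne t'.mw t.mw (Ne.symm hww) hcww.symm).1
  rcases rank_or h zne hy' hy hne (by rw [ep, ep', cww]) with h5 | h5
  · obtain ⟨g, a', ha', -, hxa⟩ := h5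
    apply hD a' ha'
    rw [← conj_mem_cof_iff g, ← hxa]
    exact hy'
  · rw [ep] at h5
    exact hn h5

/-- **Fusion.** -/
theorem fusion (h : CFacts (zel z) D₀) (zne : z ≠ 1)
    (hnwc : ∃ g : G, g * z * g⁻¹ ∈ Subgroup.centralizer ({z} : Set G) ∧ g * z * g⁻¹ ≠ z) :
    (∀ x : Subgroup.centralizer ({z} : Set G), (x : G) ∈ conjugatesOf z ↔ x = zel z ∨ x ∈ D₀) ∨
    (∀ x : Subgroup.centralizer ({z} : Set G),
      (x : G) ∈ conjugatesOf z ↔ x = zel z ∨ x * zel z ∈ D₀) := by
  have hz2 : ∀ a : Subgroup.centralizer ({z} : Set G), a * zel z * zel z = a := fun a => by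
    rw [mul_assoc, h.zz, mul_one]
  -- a class which meets is contained
  have all1 : ∀ a ∈ D₀, (a : G) ∈ conjugatesOf z → ∀ b ∈ D₀, (b : G) ∈ conjugatesOf z := by
    intro a ha hac b hb
    obtain ⟨c, hc⟩ := h.trans a ha b hb
    rw [← hc]
    exact conj_mem_cof hac (c : G)
  have all2 : ∀ a, a * zel z ∈ D₀ → (a : G) ∈ conjugatesOf z → ∀ b, b * zel z ∈ D₀ →
      (b : G) ∈ conjugatesOf z := by
    intro a ha hac b hb
    obtain ⟨c, hc⟩ := h.twist.trans a ha b hb
    rw [← hc]
    exact conj_mem_cof hac (c : G)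
  -- no rank three
  have no3 : ∀ a b c : Subgroup.centralizer ({z} : Set G), Tri D₀ a b c →
      ¬ (((a * b * c : Subgroup.centralizer ({z} : Set G)) : G) ∈ conjugatesOf z ∨
      ((zel z * (a * b * c) : Subgroup.centralizer ({z} : Set G)) : G) ∈ conjugatesOf z) := by
    intro a b c ht
    by_cases h1 : ∃ a ∈ D₀, (a : G) ∈ conjugatesOf z
    · obtain ⟨a₀, ha₀, hac⟩ := h1
      exact no_rank_three_A h zne (all1 a₀ ha₀ hac) ht
    · by_cases h2 : ∃ a, a * zel z ∈ D₀ ∧ (a : G) ∈ conjugatesOf z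
      · obtain ⟨a₀, ha₀, hac⟩ := h2
        intro hx
        have ht' : Tri {x | x * zel z ∈ D₀} (a * zel z) (b * zel z) (c * zel z) := by
          have hzc' : ∀ a b : Subgroup.centralizer ({z} : Set G),
              a * zel z * (b * zel z) = a * b := by
            intro a b
            calc a * zel z * (b * zel z) = a * (zel z * b) * zel z := by group
              _ = a * (b * zel z) * zel z := by rw [h.zc b]
              _ = a * b * (zel z * zel z) := by group
              _ = a * b := by rw [h.zz, mul_one]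
          have inj : ∀ a b : Subgroup.centralizer ({z} : Set G), a ≠ b → a * zel z ≠ b * zel z :=
            fun a b hab hc => hab (mul_right_cancel hc)
          refine ⟨?_, ?_, ?_, inj _ _ ht.xy, inj _ _ ht.xw, inj _ _ ht.yw, ?_, ?_, ?_⟩
          · show a * zel z * zel z ∈ D₀
            rw [hz2]; exact ht.mx
          · show b * zel z * zel z ∈ D₀
            rw [hz2]; exact ht.my
          · show c * zel z * zel z ∈ D₀
            rw [hz2]; exact ht.mw
          · rw [hzc', hzc', ht.cxy]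
          · rw [hzc', hzc', ht.cxw]
          · rw [hzc', hzc', ht.cyw]
        apply no_rank_three_A h.twist zne (all2 a₀ ha₀ hac) ht'
        have e : a * zel z * (b * zel z) * (c * zel z) = zel z * (a * b * c) := by
          calc a * zel z * (b * zel z) * (c * zel z)
              = a * (zel z * b) * (zel z * c) * zel z := by group
            _ = a * (b * zel z) * (c * zel z) * zel z := by rw [h.zc b, h.zc c]
            _ = a * b * (zel z * c) * (zel z * zel z) := by group
            _ = a * b * (c * zel z) := by rw [h.zc c, h.zz, mul_one]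
            _ = (a * b * c) * zel z := by group
            _ = zel z * (a * b * c) := h.zc _
        have e' : zel z * (a * zel z * (b * zel z) * (c * zel z)) = a * b * c := by
          rw [e, ← mul_assoc, h.zz, one_mul]
        rw [e', e]
        exact hx.symm
      · apply no_rank_three_B h zne _ ht
        rintro a (ha | ha) hac
        · exact h1 ⟨a, ha, hac⟩
        · exact h2 ⟨a, ha, hac⟩
  -- classification
  have cls : ∀ x : Subgroup.centralizer ({z} : Set G), (x : G) ∈ conjugatesOf z → x ≠ zel z →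
      x ∈ D₀ ∨ x * zel z ∈ D₀ := by
    intro x hx hxz
    rcases cases_mem h zne hx hxz with h1 | ⟨a, b, c, ht, h1⟩
    · exact h1
    · exfalso
      apply no3 a b c ht
      rcases h1 with h1 | h1
      · left; rw [← h1]; exact hx
      · right; rw [← h1]; exact hx
  have hzmem : z ∈ conjugatesOf z := mem_cof_iff.2 ⟨1, by group⟩
  -- not both
  have notboth : ¬ ((∀ a ∈ D₀, (a : G) ∈ conjugatesOf z) ∧
      (∀ a, a * zel z ∈ D₀ → (a : G) ∈ conjugatesOf z)) := by
    rintro ⟨hA, hB⟩
    obtain ⟨x, y, w, w', t, -⟩ := h.four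
    have n2 := (rank_two h zne t.mx t.my t.xy t.cxy).1
    obtain ⟨g, hg⟩ := mem_cof_iff.1 (hA y t.my)
    set x₀ : G := g⁻¹ * x * g with hx₀
    have hx₀D : x₀ ∈ conjugatesOf z := by
      have := conj_mem_cof (hA x t.mx) g⁻¹
      rwa [inv_inv] at this
    have cxy : (x : G) * y = y * x := congrArg Subtype.val t.cxy
    have hmem : x₀ ∈ Subgroup.centralizer ({z} : Set G) := by
      rw [Subgroup.mem_centralizer_singleton_iff, hx₀]
      calc g⁻¹ * x * g * z = g⁻¹ * (x * (g * z * g⁻¹)) * g := by group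
        _ = g⁻¹ * (x * y) * g := by rw [hg]
        _ = g⁻¹ * (y * x) * g := by rw [cxy]
        _ = z * (g⁻¹ * x * g) := by rw [← hg]; group
    have hne' : (⟨x₀, hmem⟩ : Subgroup.centralizer ({z} : Set G)) ≠ zel z := by
      intro he
      have he' : x₀ = z := congrArg Subtype.val he
      apply t.xy
      apply Subtype.ext
      calc (x : G) = g * x₀ * g⁻¹ := by rw [hx₀]; group
        _ = g * z * g⁻¹ := congrArg (fun t => g * t * g⁻¹) he'
        _ = y := hg
    have h3 : x₀ * z ∈ conjugatesOf z := by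
      rcases cls ⟨x₀, hmem⟩ hx₀D hne' with h1 | h1
      · exact hB (⟨x₀, hmem⟩ * zel z) (by rw [hz2]; exact h1)
      · exact hA (⟨x₀, hmem⟩ * zel z) h1
    apply n2
    have e : (x : G) * y = g * (x₀ * z) * g⁻¹ := by rw [hx₀, ← hg]; group
    rw [e]
    exact conj_mem_cof h3 g
  obtain ⟨g, hg1, hg2⟩ := hnwc
  have hgD : g * z * g⁻¹ ∈ conjugatesOf z := mem_cof_iff.2 ⟨g, rfl⟩
  rcases cls ⟨g * z * g⁻¹, hg1⟩ hgD (fun he => hg2 (congrArg Subtype.val he)) with h1 | h1
  · left
    have hA := all1 _ h1 hgD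
    intro x
    constructor
    · intro hx
      by_cases hxz : x = zel z
      · left; exact hxz
      · right
        rcases cls x hx hxz with h2 | h2
        · exact h2
        · exact absurd ⟨hA, all2 x h2 hx⟩ notboth
    · rintro (rfl | hx)
      · exact hzmem
      · exact hA x hx
  · right
    have hB := all2 _ h1 hgD
    intro x
    constructor
    · intro hx
      by_cases hxz : x = zel z
      · left; exact hxz
      · right
        rcases cls x hx hxz with h2 | h2
        · exact absurd ⟨all1 x h2 hx, hB⟩ notboth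
        · exact h2
    · rintro (rfl | hx)
      · exact hzmem
      · exact hB x hx

end main

end Cfsg.Agent.R01.FiFusion
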