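import Cfsg.Agent.R01.HermRigid

/-!
Gluing of two centraliser isomorphisms. `CIso z z' α`: `α` restricts to an isomorphism `C(z) → C(z')`.
-/

set_option autoImplicit false
set_option linter.unusedSectionVars false

namespace Cfsg.Agent.R01.Glue

open Cfsg Cfsg.Agent.LieClassical.HermBasic Cfsg.Agent.R01.HermRigid

variable {G H : Type*} [Group G] [Group H]

/-- `α` restricts to an isomorphism from the centraliser of `z` onto the centraliser of `z'`. -/
structure CIso (z : G) (z' : H) (α : G → H) : Prop where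
  map : ∀ x, Commute x z → Commute (α x) z'
  mul : ∀ x y, Commute x z → Commute y z → α (x * y) = α x * α y
  inj : ∀ x y, Commute x z → Commute y z → α x = α y → x = y
  surj : ∀ y, Commute y z' → ∃ x, Commute x z ∧ α x = y

namespace CIso

variable {z : G} {z' : H} {α : G → H} (hα : CIso z z' α)
include hα

theorem one : α 1 = 1 := by
  have h := hα.mul 1 1 (Commute.one_left z) (Commute.one_left z)
  rw [mul_one] at h
  exact (left_eq_mul.1 h)

theorem inv (x : G) (hx : Commute x z) : α x⁻¹ = (α x)⁻¹ := by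
  have h := hα.mul x⁻¹ x hx.inv_left hx
  rw [inv_mul_cancel, hα.one] at h
  exact eq_inv_of_mul_eq_one_left h.symm

theorem pow (x : G) (hx : Commute x z) (n : ℕ) : α (x ^ n) = α x ^ n := by
  induction n with
  | zero => rw [pow_zero, pow_zero, hα.one]
  | succ n ih => rw [pow_succ, pow_succ, hα.mul _ _ (hx.pow_left n) hx, ih]

theorem commute_iff (x y : G) (hx : Commute x z) (hy : Commute y z) :
    Commute (α x) (α y) ↔ Commute x y := by
  constructor
  · intro h
    refine hα.inj _ _ (hx.mul_left hy) (hy.mul_left hx) ?_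
    rw [hα.mul _ _ hx hy, hα.mul _ _ hy hx]
    exact h
  · intro h
    have : α (x * y) = α (y * x) := by rw [h.eq]
    rwa [hα.mul _ _ hx hy, hα.mul _ _ hy hx] at this

theorem eq_one_iff (x : G) (hx : Commute x z) : α x = 1 ↔ x = 1 := by
  constructor
  · intro h
    exact hα.inj _ _ hx (Commute.one_left z) (by rw [h, hα.one])
  · rintro rfl
    exact hα.one

theorem conj_mul (k x : G) (hk : Commute k z) (hx : Commute x z) :
    α (k * x * k⁻¹) = α k * α x * (α k)⁻¹ := by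
  rw [hα.mul _ _ (hk.mul_left hx) hk.inv_left, hα.mul _ _ hk hx, hα.inv _ hk]

theorem inv_conj_mul (k x : G) (hk : Commute k z) (hx : Commute x z) :
    α (k⁻¹ * x * k) = (α k)⁻¹ * α x * α k := by
  rw [hα.mul _ _ (hk.inv_left.mul_left hx) hk, hα.mul _ _ hk.inv_left hx, hα.inv _ hk]

/-- Transport by conjugations. -/
theorem conj {a n : G} {a' n' : H} (hn : n * z * n⁻¹ = a) (hn' : n' * z' * n'⁻¹ = a') :
    CIso a a' (fun x => n' * α (n⁻¹ * x * n) * n'⁻¹) := by
  have h1 : ∀ x, Commute x a → Commute (n⁻¹ * x * n) z := by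
    intro x hx
    have h2 := hx.map (MulAut.conj n⁻¹)
    rw [MulAut.conj_apply, MulAut.conj_apply, inv_inv, ← hn] at h2
    have h3 : n⁻¹ * (n * z * n⁻¹) * n = z := by group
    rwa [h3] at h2
  have h1' : ∀ x, Commute x z → Commute (n * x * n⁻¹) a := by
    intro x hx
    have h2 := hx.map (MulAut.conj n)
    rwa [MulAut.conj_apply, MulAut.conj_apply, hn] at h2
  have h4 : ∀ y, Commute y z' → Commute (n' * y * n'⁻¹) a' := by
    intro y hy
    have h2 := hy.map (MulAut.conj n')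
    rwa [MulAut.conj_apply, MulAut.conj_apply, hn'] at h2
  have h5 : ∀ y, Commute y a' → Commute (n'⁻¹ * y * n') z' := by
    intro y hy
    have h2 := hy.map (MulAut.conj n'⁻¹)
    rw [MulAut.conj_apply, MulAut.conj_apply, inv_inv, ← hn'] at h2
    have h3 : n'⁻¹ * (n' * z' * n'⁻¹) * n' = z' := by group
    rwa [h3] at h2
  refine ⟨fun x hx => h4 _ (hα.map _ (h1 x hx)), ?_, ?_, ?_⟩
  · intro x y hx hy
    have h6 : n⁻¹ * (x * y) * n = (n⁻¹ * x * n) * (n⁻¹ * y * n) := by group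
    change n' * α (n⁻¹ * (x * y) * n) * n'⁻¹ = _
    rw [h6, hα.mul _ _ (h1 x hx) (h1 y hy)]
    group
  · intro x y hx hy hxy
    have h7 : α (n⁻¹ * x * n) = α (n⁻¹ * y * n) := mul_left_cancel (mul_right_cancel hxy)
    have h8 := hα.inj _ _ (h1 x hx) (h1 y hy) h7
    exact mul_left_cancel (mul_right_cancel h8)
  · intro y hy
    obtain ⟨x, hx, hxy⟩ := hα.surj _ (h5 y hy)
    refine ⟨n * x * n⁻¹, h1' x hx, ?_⟩
    have h9 : n⁻¹ * (n * x * n⁻¹) * n = x := by group
    rw [h9, hxy]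
    group

/-- An isomorphism of centralisers as a `CIso`. -/
theorem of_mulEquiv {z : G} {z' : H}
    (e : Subgroup.centralizer ({z} : Set G) ≃* Subgroup.centralizer ({z'} : Set H)) :
    ∃ α : G → H, CIso z z' α ∧
      ∀ x : Subgroup.centralizer ({z} : Set G), α (x : G) = (e x : H) := by
  classical
  refine ⟨fun x => if h : x ∈ Subgroup.centralizer ({z} : Set G) then (e ⟨x, h⟩ : H) else 1,
    ⟨?_, ?_, ?_, ?_⟩, ?_⟩
  · intro x hx
    have hxc : x ∈ Subgroup.centralizer ({z} : Set G) := Subgroup.mem_centralizer_singleton_iff.2 hx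
    change Commute (dite _ _ _) z'
    rw [dif_pos hxc]
    exact Subgroup.mem_centralizer_singleton_iff.1 (e ⟨x, hxc⟩).2
  · intro x y hx hy
    have hxc : x ∈ Subgroup.centralizer ({z} : Set G) := Subgroup.mem_centralizer_singleton_iff.2 hx
    have hyc : y ∈ Subgroup.centralizer ({z} : Set G) := Subgroup.mem_centralizer_singleton_iff.2 hy
    change (dite _ _ _ : H) = (dite _ _ _ : H) * (dite _ _ _ : H)
    rw [dif_pos hxc, dif_pos hyc, dif_pos (mul_mem hxc hyc), ← Subgroup.coe_mul, ← map_mul]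
    rfl
  · intro x y hx hy hxy
    have hxc : x ∈ Subgroup.centralizer ({z} : Set G) := Subgroup.mem_centralizer_singleton_iff.2 hx
    have hyc : y ∈ Subgroup.centralizer ({z} : Set G) := Subgroup.mem_centralizer_singleton_iff.2 hy
    change (dite _ _ _ : H) = (dite _ _ _ : H) at hxy
    rw [dif_pos hxc, dif_pos hyc] at hxy
    have := e.injective (Subtype.ext hxy)
    exact congrArg (fun t : Subgroup.centralizer ({z} : Set G) => (t : G)) this
  · intro y hy
    have hyc : y ∈ Subgroup.centralizer ({z'} : Set H) :=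
      Subgroup.mem_centralizer_singleton_iff.2 hy
    obtain ⟨x, hx⟩ := e.surjective ⟨y, hyc⟩
    refine ⟨x, Subgroup.mem_centralizer_singleton_iff.1 x.2, ?_⟩
    rw [dif_pos x.2]
    rw [Subtype.coe_eta, hx]
  · intro x
    change (dite _ _ _ : H) = _
    rw [dif_pos x.2]

end CIso

/-- (B2), GLUING: after a correction by an element of `A'` the swaps `n`, `n'` of `z, a` and `z', a'` are
compatible with `α` on `C(z) ∩ C(a)`. -/
theorem exists_gp {F : Type*} [Field F] [Fintype F] (hF : Fintype.card F = 2 ^ 2)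
    {z a n : G} {z' a' n' : H} {α : G → H} (hα : CIso z z' α)
    {D : Set G} {D' : Set H}
    (hDc : ∀ g : G, ∀ x ∈ D, g * x * g⁻¹ ∈ D) (hDc' : ∀ g : H, ∀ x ∈ D', g * x * g⁻¹ ∈ D')
    (hαD : ∀ x, Commute x z → (x ∈ D ↔ α x ∈ D'))
    (hza : Commute a z) (hαz : α z = z') (hαa : α a = a')
    (hn1 : n * z * n⁻¹ = a) (hn2 : n * a * n⁻¹ = z)
    (hn1' : n' * z' * n'⁻¹ = a') (hn2' : n' * a' * n'⁻¹ = z')
    {X : Set G} (hX : ∀ x ∈ X, n⁻¹ * x * n ∈ X) (hXz : ∀ x ∈ X, Commute x z)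
    (hXn : ∀ x ∈ X, α (n * x * n⁻¹) = n' * α x * n'⁻¹)
    {lab : (Fin 6 → F) → H}
    (hL : Labels {y | y ∈ D' ∧ Commute y z' ∧ Commute y a' ∧ y ≠ z' ∧ y ≠ a'} 6 F lab)
    {W : Submodule F (Fin 6 → F)} (hWk : Module.finrank F W = 3)
    (hW : ∀ u ∈ W, ∀ v ∈ W, hermForm 6 F 2 u v = 0)
    (hWX : ∀ w ∈ W, w ≠ 0 → ∃ x ∈ X, α x = lab w)
    (hgen : ∀ x, Commute x z → Commute x a →
      x ∈ Subgroup.closure {d | d ∈ D ∧ Commute d z ∧ Commute d a}) :
    ∃ n1 : H, n1 * z' * n1⁻¹ = a' ∧ n1 * a' * n1⁻¹ = z' ∧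
      (∃ g ∈ Subgroup.closure (lab '' {w : Fin 6 → F | w ∈ W ∧ w ≠ 0}), n1 = g * n') ∧
      ∀ x, Commute x z → Commute x a → α (n⁻¹ * x * n) = n1⁻¹ * α x * n1 := by
  classical
  -- the transported isomorphism
  set γ : G → H := fun x => n' * α (n⁻¹ * x * n) * n'⁻¹ with hγ
  have hγI : CIso a a' γ := hα.conj hn1 hn1'
  have hn1i : n⁻¹ * a * n = z := by rw [← hn1]; group
  have hn2i : n⁻¹ * z * n = a := by rw [← hn2]; group
  have hn1i' : n'⁻¹ * a' * n' = z' := by rw [← hn1']; group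
  have hn2i' : n'⁻¹ * z' * n' = a' := by rw [← hn2']; group
  have hLn : ∀ x, Commute x z → Commute x a →
      Commute (n⁻¹ * x * n) z ∧ Commute (n⁻¹ * x * n) a := by
    intro x hxz hxa
    have h1 := hxz.map (MulAut.conj n⁻¹)
    have h2 := hxa.map (MulAut.conj n⁻¹)
    rw [MulAut.conj_apply, MulAut.conj_apply, inv_inv, hn2i] at h1
    rw [MulAut.conj_apply, MulAut.conj_apply, inv_inv, hn1i] at h2
    exact ⟨h2, h1⟩
  have hinv : ∀ y : H, ∃ x : G, Commute y z' → (Commute x z ∧ α x = y) := by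
    intro y
    by_cases hy : Commute y z'
    · obtain ⟨x, hx⟩ := hα.surj y hy
      exact ⟨x, fun _ => hx⟩
    · exact ⟨1, fun h => absurd h hy⟩
  choose β hβ using hinv
  have hβα : ∀ x, Commute x z → β (α x) = x := by
    intro x hx
    obtain ⟨h1, h2⟩ := hβ (α x) (hα.map x hx)
    exact hα.inj _ _ h1 hx h2
  have hβa : ∀ y, Commute y z' → Commute y a' → Commute (β y) a := by
    intro y hy hya
    obtain ⟨h1, h2⟩ := hβ y hy
    rw [← hα.commute_iff _ _ h1 hza, h2, hαa]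
    exact hya
  have hγz : γ z = z' := by
    change n' * α (n⁻¹ * z * n) * n'⁻¹ = z'
    rw [hn2i, hαa, hn2']
  have hγa : γ a = a' := by
    change n' * α (n⁻¹ * a * n) * n'⁻¹ = a'
    rw [hn1i, hαz, hn1']
  have hγD : ∀ x, x ∈ D → Commute x z → Commute x a → γ x ∈ D' := by
    intro x hxD hxz hxa
    obtain ⟨h1, h2⟩ := hLn x hxz hxa
    refine hDc' _ _ ((hαD _ h1).1 ?_)
    have := hDc n⁻¹ x hxD
    rwa [inv_inv] at this
  -- Lemma U
  obtain ⟨g, hg, hgv⟩ := HermRigid.exists_conj hF hL hWk hW (fun v => γ (β (lab v))) (by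
    intro v hv0 hv
    obtain ⟨hyD, hyz, hya, hyz', hya'⟩ := hL.mem v hv0 hv
    obtain ⟨h1, h2⟩ := hβ (lab v) hyz
    have h3 := hβa _ hyz hya
    have hxD : β (lab v) ∈ D := (hαD _ h1).2 (by rw [h2]; exact hyD)
    refine ⟨hγD _ hxD h1 h3, ?_, hγI.map _ h3, ?_, ?_⟩
    · have h4 := (hγI.commute_iff _ _ h3 hza.symm).2 h1
      rwa [hγz] at h4
    · intro h5
      change γ (β (lab v)) = z' at h5
      rw [← hγz] at h5
      have h6 := hγI.inj _ _ h3 hza.symm h5
      apply hyz'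
      rw [← h2, h6, hαz]
    · intro h5
      change γ (β (lab v)) = a' at h5
      rw [← hγa] at h5
      have h6 := hγI.inj _ _ h3 (Commute.refl a) h5
      apply hya'
      rw [← h2, h6, hαa]) (by
    intro v w hv0 hw0 hv hw
    obtain ⟨hyD, hyz, hya, hyz', hya'⟩ := hL.mem v hv0 hv
    obtain ⟨hyD2, hyz2, hya2, hyz2', hya2'⟩ := hL.mem w hw0 hw
    obtain ⟨h1, h2⟩ := hβ (lab v) hyz
    obtain ⟨h1', h2'⟩ := hβ (lab w) hyz2
    rw [← hL.comm v w hv0 hw0 hv hw]
    rw [hγI.commute_iff _ _ (hβa _ hyz hya) (hβa _ hyz2 hya2), ← hα.commute_iff _ _ h1 h1', h2,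
      h2']) (by
    intro w hwW hw0
    obtain ⟨x, hxX, hxw⟩ := hWX w hwW hw0
    change γ (β (lab w)) = lab w
    rw [← hxw, hβα x (hXz x hxX)]
    change n' * α (n⁻¹ * x * n) * n'⁻¹ = α x
    rw [← hXn _ (hX x hxX)]
    congr 1
    group)
  have hgz : Commute g z' ∧ Commute g a' := by
    have h1 : Subgroup.closure (lab '' {w : Fin 6 → F | w ∈ W ∧ w ≠ 0}) ≤
        Subgroup.centralizer ({z'} : Set H) ⊓ Subgroup.centralizer ({a'} : Set H) := by
      rw [Subgroup.closure_le]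
      rintro _ ⟨w, ⟨hwW, hw0⟩, rfl⟩
      obtain ⟨-, h2, h3, -, -⟩ := hL.mem w hw0 (hW w hwW w hwW)
      exact ⟨Subgroup.mem_centralizer_singleton_iff.2 h2,
        Subgroup.mem_centralizer_singleton_iff.2 h3⟩
    obtain ⟨h2, h3⟩ := h1 hg
    exact ⟨Subgroup.mem_centralizer_singleton_iff.1 h2, Subgroup.mem_centralizer_singleton_iff.1 h3⟩
  have hgz' : g * z' * g⁻¹ = z' := by rw [hgz.1.eq, mul_inv_cancel_right]
  have hga' : g * a' * g⁻¹ = a' := by rw [hgz.2.eq, mul_inv_cancel_right]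
  have hall : ∀ x, Commute x z → Commute x a → γ x = g * α x * g⁻¹ := by
    intro x hxz hxa
    have hmem := hgen x hxz hxa
    have hP : ∀ y, y ∈ Subgroup.closure {d | d ∈ D ∧ Commute d z ∧ Commute d a} →
        Commute y z ∧ Commute y a := by
      intro y hy
      have h1 : Subgroup.closure {d | d ∈ D ∧ Commute d z ∧ Commute d a} ≤
          Subgroup.centralizer ({z} : Set G) ⊓ Subgroup.centralizer ({a} : Set G) := by
        rw [Subgroup.closure_le]
        rintro d ⟨-, h2, h3⟩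
        exact ⟨Subgroup.mem_centralizer_singleton_iff.2 h2,
          Subgroup.mem_centralizer_singleton_iff.2 h3⟩
      obtain ⟨h2, h3⟩ := h1 hy
      exact ⟨Subgroup.mem_centralizer_singleton_iff.1 h2,
        Subgroup.mem_centralizer_singleton_iff.1 h3⟩
    clear hxz hxa
    induction hmem using Subgroup.closure_induction with
    | mem d hd =>
      obtain ⟨hdD, hdz, hda⟩ := hd
      by_cases h1 : d = z
      · rw [h1, hγz, hαz, hgz']
      by_cases h2 : d = a
      · rw [h2, hγa, hαa, hga']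
      have h3 : α d ∈ {y | y ∈ D' ∧ Commute y z' ∧ Commute y a' ∧ y ≠ z' ∧ y ≠ a'} := by
        refine ⟨(hαD d hdz).1 hdD, hα.map d hdz, ?_, ?_, ?_⟩
        · rw [← hαa, hα.commute_iff _ _ hdz hza]
          exact hda
        · intro h4
          rw [← hαz] at h4
          exact h1 (hα.inj _ _ hdz (Commute.refl z) h4)
        · intro h4
          rw [← hαa] at h4
          exact h2 (hα.inj _ _ hdz hza h4)
      obtain ⟨v, hv0, hv, hvd⟩ := hL.surj _ h3
      have h4 := hgv v hv0 hv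
      rw [← hvd] at h4
      change γ (β (α d)) = _ at h4
      rwa [hβα d hdz] at h4
    | one => rw [hγI.one, hα.one, mul_one, mul_inv_cancel]
    | mul x y hx hy ihx ihy =>
      obtain ⟨h1, h2⟩ := hP x hx
      obtain ⟨h3, h4⟩ := hP y hy
      rw [hγI.mul _ _ h2 h4, hα.mul _ _ h1 h3, ihx, ihy]
      group
    | inv x hx ihx =>
      obtain ⟨h1, h2⟩ := hP x hx
      rw [hγI.inv _ h2, hα.inv _ h1, ihx]
      group
  refine ⟨g⁻¹ * n', ?_, ?_, ⟨g⁻¹, inv_mem hg, rfl⟩, ?_⟩
  · calc g⁻¹ * n' * z' * (g⁻¹ * n')⁻¹ = g⁻¹ * (n' * z' * n'⁻¹) * g := by group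
      _ = g⁻¹ * (g * a' * g⁻¹) * g := by rw [hn1', hga']
      _ = a' := by group
  · calc g⁻¹ * n' * a' * (g⁻¹ * n')⁻¹ = g⁻¹ * (n' * a' * n'⁻¹) * g := by group
      _ = g⁻¹ * (g * z' * g⁻¹) * g := by rw [hn2', hgz']
      _ = z' := by group
  · intro x hxz hxa
    have h1 := hall x hxz hxa
    calc α (n⁻¹ * x * n) = n'⁻¹ * (n' * α (n⁻¹ * x * n) * n'⁻¹) * n' := by group
      _ = n'⁻¹ * (g * α x * g⁻¹) * n' := by rw [← h1]
      _ = (g⁻¹ * n')⁻¹ * α x * (g⁻¹ * n') := by group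

/-- Compatible isomorphisms agree on the common centraliser. -/
theorem agree {z a n : G} {z' a' n1 : H} {α : G → H}
    (hgp : ∀ x, Commute x z → Commute x a → α (n⁻¹ * x * n) = n1⁻¹ * α x * n1) (x : G)
    (hxz : Commute x z) (hxa : Commute x a) : n1 * α (n⁻¹ * x * n) * n1⁻¹ = α x := by
  rw [hgp x hxz hxa]
  group

/-- (B3): two elements of `D` in `C(a)` and `C(z)` commute if their images do. -/
theorem commute_of_commute {F : Type*} [Field F] [Fintype F] (hF : Fintype.card F = 2 ^ 2)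
    {z a i k : G} {z' a' i' : H} {α β : G → H} (hα : CIso z z' α) (hβ : CIso a a' β)
    {D : Set G} {D' : Set H}
    (hDc : ∀ g : G, ∀ x ∈ D, g * x * g⁻¹ ∈ D) (hDc' : ∀ g : H, ∀ x ∈ D', g * x * g⁻¹ ∈ D')
    (hαD : ∀ x, Commute x z → (x ∈ D ↔ α x ∈ D'))
    (hβD : ∀ x, Commute x a → (x ∈ D ↔ β x ∈ D'))
    (hαβ : ∀ x, Commute x z → Commute x a → β x = α x)
    (hzD : z ∈ D) (hza : Commute a z) (hαz : α z = z') (hαa : α a = a')
    (hiz : Commute i z) (hia : Commute i a) (hαi : α i = i') (hzi : z ≠ i) (hza' : z ≠ a)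
    (hkz : Commute k z) (hk : k * a * k⁻¹ = i)
    {lab : (Fin 6 → F) → H}
    (hL : Labels {y | y ∈ D' ∧ Commute y a' ∧ Commute y i' ∧ y ≠ a' ∧ y ≠ i'} 6 F lab)
    {j : G} {j' : H} (hj' : j' ∈ D') (hja : Commute j a) (hjj : β j = j') (hji : Commute j' i')
    {b : G} (hbz : Commute b z) (hbi : Commute b i) (hbj : Commute (α b) j') : Commute b j := by
  classical
  -- the isomorphism at `i`
  set δ : G → H := fun x => α k * β (k⁻¹ * x * k) * (α k)⁻¹ with hδ
  have hαk : α k * a' * (α k)⁻¹ = i' := by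
    rw [← hαa, ← hα.conj_mul k a hkz hza, hk, hαi]
  have hδI : CIso i i' δ := hβ.conj hk hαk
  have hkzi : k⁻¹ * z * k = z := by rw [mul_assoc, ← hkz.eq, inv_mul_cancel_left]
  have hki : k⁻¹ * i * k = a := by rw [← hk]; group
  have hCk : ∀ x, Commute x z → Commute (k⁻¹ * x * k) z := by
    intro x hx
    have h1 := hx.map (MulAut.conj k⁻¹)
    rwa [MulAut.conj_apply, MulAut.conj_apply, inv_inv, hkzi] at h1
  have hCki : ∀ x, Commute x i → Commute (k⁻¹ * x * k) a := by
    intro x hx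
    have h1 := hx.map (MulAut.conj k⁻¹)
    rwa [MulAut.conj_apply, MulAut.conj_apply, inv_inv, hki] at h1
  have hδα : ∀ x, Commute x z → Commute x i → δ x = α x := by
    intro x hxz hxi
    change α k * β (k⁻¹ * x * k) * (α k)⁻¹ = α x
    rw [hαβ _ (hCk x hxz) (hCki x hxi), hα.inv_conj_mul k x hkz hxz]
    group
  have hδD : ∀ x, Commute x i → (x ∈ D ↔ δ x ∈ D') := by
    intro x hxi
    have h1 : x ∈ D ↔ k⁻¹ * x * k ∈ D := by
      constructor
      · intro hx
        have := hDc k⁻¹ x hx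
        rwa [inv_inv] at this
      · intro hx
        have := hDc k _ hx
        have h2 : k * (k⁻¹ * x * k) * k⁻¹ = x := by group
        rwa [h2] at this
    rw [h1, hβD _ (hCki x hxi)]
    constructor
    · intro hx
      exact hDc' _ _ hx
    · intro hx
      have := hDc' (α k)⁻¹ _ hx
      have h2 : (α k)⁻¹ * δ x * (α k)⁻¹⁻¹ = β (k⁻¹ * x * k) := by
        change (α k)⁻¹ * (α k * β (k⁻¹ * x * k) * (α k)⁻¹) * (α k)⁻¹⁻¹ = _
        group
      rwa [h2] at this
  -- basic facts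
  have hβi : β i = i' := by rw [hαβ i hiz hia, hαi]
  have hβz : β z = z' := by rw [hαβ z (Commute.refl z) hza.symm, hαz]
  have hβa : β a = a' := by rw [hαβ a hza (Commute.refl a), hαa]
  have hδz : δ z = z' := by rw [hδα z (Commute.refl z) hiz.symm, hαz]
  have hδa : δ a = a' := by rw [hδα a hza hia.symm, hαa]
  have hδi : δ i = i' := by rw [hδα i hiz (Commute.refl i), hαi]
  have hji0 : Commute j i := by
    rw [← hβ.commute_iff _ _ hja hia, hjj, hβi]
    exact hji
  have hjD : j ∈ D := (hβD j hja).2 (by rw [hjj]; exact hj')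
  have hbz' : Commute (α b) z' := hα.map b hbz
  have hbi' : Commute (α b) i' := by
    rw [← hαi, hα.commute_iff _ _ hbz hiz]
    exact hbi
  have hδb : δ b = α b := hδα b hbz hbi
  -- it is enough that `α b` commutes with `δ j`
  suffices h : Commute (α b) (δ j) by
    rw [← hδI.commute_iff _ _ hbi hji0, hδb]
    exact h
  by_cases hjz : Commute j z
  · -- everything happens in the centraliser of `z`
    rw [hδα j hjz hji0, ← hαβ j hjz hja, hjj]
    exact hbj
  have hj'z : ¬ Commute j' z' := by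
    rw [← hjj, ← hβz, hβ.commute_iff _ _ hja hza.symm]
    exact hjz
  have hja0 : j ≠ a := by
    rintro rfl
    exact hjz hza
  have hji1 : j ≠ i := by
    rintro rfl
    exact hjz hiz
  have hδj : δ j ∈ {y | y ∈ D' ∧ Commute y a' ∧ Commute y i' ∧ y ≠ a' ∧ y ≠ i'} := by
    refine ⟨(hδD j hji0).1 hjD, ?_, hδI.map j hji0, ?_, ?_⟩
    · rw [← hδa, hδI.commute_iff _ _ hji0 hia.symm]
      exact hja
    · intro h1
      rw [← hδa] at h1
      exact hja0 (hδI.inj _ _ hji0 hia.symm h1)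
    · intro h1
      rw [← hδi] at h1
      exact hji1 (hδI.inj _ _ hji0 (Commute.refl i) h1)
  have hj'S : j' ∈ {y | y ∈ D' ∧ Commute y a' ∧ Commute y i' ∧ y ≠ a' ∧ y ≠ i'} := by
    refine ⟨hj', ?_, hji, ?_, ?_⟩
    · rw [← hjj]; exact hβ.map j hja
    · intro h1
      rw [← hjj, ← hβa] at h1
      exact hja0 (hβ.inj _ _ hja (Commute.refl a) h1)
    · intro h1
      rw [← hjj, ← hβi] at h1
      exact hji1 (hβ.inj _ _ hja hia h1)
  have hz'S : z' ∈ {y | y ∈ D' ∧ Commute y a' ∧ Commute y i' ∧ y ≠ a' ∧ y ≠ i'} := by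
    refine ⟨?_, ?_, ?_, ?_, ?_⟩
    · rw [← hαz]; exact (hαD z (Commute.refl z)).1 hzD
    · rw [← hβz]; exact hβ.map z hza.symm
    · rw [← hδz]; exact hδI.map z hiz.symm
    · intro h1
      rw [← hβz, ← hβa] at h1
      exact hza' (hβ.inj _ _ hza.symm (Commute.refl a) h1)
    · intro h1
      rw [← hδz, ← hδi] at h1
      exact hzi (hδI.inj _ _ hiz.symm (Commute.refl i) h1)
  obtain ⟨p, hp0, hp, hpj⟩ := hL.surj _ hj'S
  obtain ⟨q, hq0, hq, hqj⟩ := hL.surj _ hδj
  obtain ⟨w, hw0, hw, hwz⟩ := hL.surj _ hz'S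
  have hδjz : ¬ Commute (δ j) z' := by
    rw [← hδz, hδI.commute_iff _ _ hji0 hiz.symm]
    exact hjz
  have key := HermRigid.eq_or_eq_conj hF hL hw0 hp0 hq0 hw hp hq
    (by
      rw [Ne, ← hL.comm w p hw0 hp0 hw hp, ← hwz, ← hpj]
      exact fun h1 => hj'z h1.symm)
    (by
      rw [Ne, ← hL.comm w q hw0 hq0 hw hq, ← hwz, ← hqj]
      exact fun h1 => hδjz h1.symm)
    (by
      intro x hx0 hx hxw hxp
      obtain ⟨hxD, hxa, hxi, -, -⟩ := hL.mem x hx0 hx
      rw [← hL.comm x w hx0 hw0 hx hw, ← hwz] at hxw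
      rw [← hL.comm x p hx0 hp0 hx hp, ← hpj] at hxp
      rw [← hL.comm x q hx0 hq0 hx hq, ← hqj]
      obtain ⟨y, hyz, hyx⟩ := hα.surj _ hxw
      have hya : Commute y a := by
        rw [← hα.commute_iff _ _ hyz hza, hyx, hαa]
        exact hxa
      have hyi : Commute y i := by
        rw [← hα.commute_iff _ _ hyz hiz, hyx, hαi]
        exact hxi
      have h1 : Commute y j := by
        rw [← hβ.commute_iff _ _ hya hja, hαβ y hyz hya, hyx, hjj]
        exact hxp
      rw [← hyx, ← hδα y hyz hyi, hδI.commute_iff _ _ hyi hji0]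
      exact h1)
  rw [← hpj, ← hwz, ← hqj] at key
  rcases key with h1 | h1
  · rw [h1]; exact hbj
  · rw [h1]
    exact (hbz'.mul_right hbj).mul_right hbz'

end Cfsg.Agent.R01.Glue
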