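import Cfsg.Agent.R01.PairLab

/-!
The gluing theorem: `G` and `H` have charts at `z` and `z'`, `α` is an isomorphism of the centralisers of `z` and `z'`
respecting the classes. Then for a member `a` of the class commuting with `z` there is an isomorphism `β` of the
centralisers of `a` and `α a`, which agrees with `α` on the common centraliser and for which (B3) holds.
-/

set_option autoImplicit false
set_option linter.unusedSectionVars false

namespace Cfsg.Agent.R01.Glue2

open Cfsg Cfsg.Agent.LieClassical.HermBasic Cfsg.Agent.R01.Lifts Cfsg.Agent.R01.Start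
  Cfsg.Agent.R01.FiFusion Cfsg.Agent.R01.FiFacts Cfsg.Agent.R01.FiHexad Cfsg.Agent.R01.Loc
  Cfsg.Agent.R01.HexNe Cfsg.Agent.R01.HermRigid Cfsg.Agent.R01.HermPlane
  Cfsg.Agent.R01.InvForm Cfsg.Agent.R01.GlueFull Cfsg.Agent.R01.LabelsOf
  Cfsg.Agent.R01.PairLab Cfsg.Agent.R01.Glue

universe u u' v w w'

variable {G : Type u} [Group G] {H : Type u'} [Group H] {P : Type w} [Group P] {P' : Type w'}
  [Group P'] {T : Set P} {T' : Set P'} {z : G} {z' : H}
  {π : Subgroup.centralizer ({z} : Set G) →* P} {D0 : Set (Subgroup.centralizer ({z} : Set G))}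
  {π' : Subgroup.centralizer ({z'} : Set H) →* P'}
  {D0' : Set (Subgroup.centralizer ({z'} : Set H))}
  {F : Type v} [Field F] [Fintype F] {hF : Fintype.card F = 2 ^ 2}
  {F' : Type v} [Field F'] [Fintype F'] {hF' : Fintype.card F' = 2 ^ 2}

/-- **GLUING.** -/
theorem glue (hT : TFacts T) (hT' : TFacts T') (hL : Loc hF T) (hL' : Loc hF' T')
    (hG : PairLab.Chart T z π D0) (hH : PairLab.Chart T' z' π' D0') {α : G → H} (hα : CIso z z' α)
    (hαD : ∀ x, Commute x z → (x ∈ conjugatesOf z ↔ α x ∈ conjugatesOf z')) (hαz : α z = z')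
    {a : G} (haD : a ∈ conjugatesOf z) (haz : Commute a z) (hane : a ≠ z) :
    ∃ β : G → H, CIso a (α a) β ∧
      (∀ x, Commute x a → (x ∈ conjugatesOf z ↔ β x ∈ conjugatesOf z')) ∧
      (∀ x, Commute x z → Commute x a → β x = α x) ∧
      ∀ i ∈ conjugatesOf z, Commute i z → Commute i a → i ≠ z → i ≠ a →
        ∀ j, Commute j a → β j ∈ conjugatesOf z' → Commute (β j) (α i) →
        ∀ b, Commute b z → Commute b i → Commute (α b) (β j) → Commute b j := by
  have hT1 : (1 : P) ∉ T := fun h => hT.ne 1 h rfl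
  have hT1' : (1 : P') ∉ T' := fun h => hT'.ne 1 h rfl
  have haD' : α a ∈ conjugatesOf z' := (hαD a haz).1 haD
  have haz' : Commute (α a) z' := hα.map a haz
  have hane' : α a ≠ z' := by
    intro h
    rw [← hαz] at h
    exact hane (hα.inj _ _ haz (Commute.refl z) h)
  obtain ⟨n, hn1, hn2⟩ := hG.swap hT haD haz hane
  obtain ⟨n', hn1', hn2'⟩ := hH.swap hT' haD' haz' hane'
  obtain ⟨lab, hlab⟩ := hH.exists_labAt hT1' hL' mem_conjugatesOf_self haD' haz' hane'
  obtain ⟨u, v, w, hfr, hoZ, hinj⟩ := hH.exists_oval hT' mem_conjugatesOf_self haD' haz' hane' hlab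
  obtain ⟨labG, hlabG⟩ := hG.exists_labAt hT1 hL mem_conjugatesOf_self haD haz hane
  obtain ⟨n1, h1, h2, hgp⟩ := exists_gp hF' hα (PairLab.conj_mem z) (PairLab.conj_mem z') hαD haz
    hαz rfl hn1 hn2 hn1' hn2' hlab.labels hfr hoZ hinj hlabG.gen
  set β : G → H := fun x => n1 * α (n⁻¹ * x * n) * n1⁻¹ with hβ
  have hβI : CIso a (α a) β := hα.conj hn1 h1
  have hagree : ∀ x, Commute x z → Commute x a → β x = α x := fun x hx hxa => by
    change n1 * α (n⁻¹ * x * n) * n1⁻¹ = α x
    exact Glue.agree (z' := z') (a' := α a) hgp x hx hxa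
  have hn1i : n⁻¹ * a * n = z := by rw [← hn1]; group
  have hβD : ∀ x, Commute x a → (x ∈ conjugatesOf z ↔ β x ∈ conjugatesOf z') := by
    intro x hxa
    have h3 : Commute (n⁻¹ * x * n) z := by
      have := commute_conj (g := n⁻¹) hxa
      rwa [inv_inv, hn1i] at this
    have h4 : x ∈ conjugatesOf z ↔ n⁻¹ * x * n ∈ conjugatesOf z := by
      constructor
      · intro hx
        have := PairLab.conj_mem z n⁻¹ x hx
        rwa [inv_inv] at this
      · intro hx
        have := PairLab.conj_mem z n _ hx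
        have e : n * (n⁻¹ * x * n) * n⁻¹ = x := by group
        rwa [e] at this
    rw [h4, hαD _ h3]
    constructor
    · intro hx
      exact PairLab.conj_mem z' n1 _ hx
    · intro hx
      have := PairLab.conj_mem z' n1⁻¹ _ hx
      have e : n1⁻¹ * β x * n1⁻¹⁻¹ = α (n⁻¹ * x * n) := by
        change n1⁻¹ * (n1 * α (n⁻¹ * x * n) * n1⁻¹) * n1⁻¹⁻¹ = _
        group
      rwa [e] at this
  refine ⟨β, hβI, hβD, hagree, ?_⟩
  intro i hiD hiz hia hiz' hia' j hja hjD hji b hbz hbi hbj
  obtain ⟨k, hkz, hk⟩ := hG.trans1 hT haD hiD haz hiz hane hiz'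
  have hiD' : α i ∈ conjugatesOf z' := (hαD i hiz).1 hiD
  have hia2 : Commute (α i) (α a) := (hα.commute_iff _ _ hiz haz).2 hia
  have hia3 : α i ≠ α a := fun e => hia' (hα.inj _ _ hiz haz e)
  obtain ⟨lab2, hlab2⟩ := hH.exists_labAt hT1' hL' haD' hiD' hia2 hia3
  exact commute_of_commute hF' hα hβI (PairLab.conj_mem z) (PairLab.conj_mem z') hαD hβD hagree
    mem_conjugatesOf_self haz hαz rfl hiz hia rfl (Ne.symm hiz') (Ne.symm hane) hkz hk
    (lab := lab2) hlab2.labels hjD hja rfl hji hbz hbi hbj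

end Cfsg.Agent.R01.Glue2
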