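import Cfsg.Agent.R01.Glue
import Cfsg.Agent.R01.HermPlane

/-!
Gluing of two centraliser isomorphisms, general form: the swaps `n`, `n'` of `z, a` and `z', a'` are arbitrary.
-/

set_option autoImplicit false
set_option linter.unusedSectionVars false

namespace Cfsg.Agent.R01.GlueFull

open Cfsg Cfsg.Agent.LieClassical.HermBasic Cfsg.Agent.R01.HermRigid Cfsg.Agent.R01.HermPlane
  Cfsg.Agent.R01.InvForm Cfsg.Agent.R01.Glue

variable {G H : Type*} [Group G] [Group H]

/-- The common centraliser in the class, without the two base points. -/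
def Sset (D : Set H) (z a : H) : Set H := {y | y ∈ D ∧ Commute y z ∧ Commute y a ∧ y ≠ z ∧ y ≠ a}

/-- (B2), GLUING: the swaps `n`, `n'` of `z, a` and `z', a'` become compatible with `α` on `C(z) ∩ C(a)` after
a correction of `n'`. -/
theorem exists_gp {F : Type*} [Field F] [Fintype F] (hF : Fintype.card F = 2 ^ 2)
    {z a n : G} {z' a' n' : H} {α : G → H} (hα : CIso z z' α)
    {D : Set G} {D' : Set H}
    (hDc : ∀ g : G, ∀ x ∈ D, g * x * g⁻¹ ∈ D) (hDc' : ∀ g : H, ∀ x ∈ D', g * x * g⁻¹ ∈ D')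
    (hαD : ∀ x, Commute x z → (x ∈ D ↔ α x ∈ D'))
    (hza : Commute a z) (hαz : α z = z') (hαa : α a = a')
    (hn1 : n * z * n⁻¹ = a) (hn2 : n * a * n⁻¹ = z)
    (hn1' : n' * z' * n'⁻¹ = a') (hn2' : n' * a' * n'⁻¹ = z')
    {lab : (Fin 6 → F) → H} (hL : Labels (Sset D' z' a') 6 F lab)
    {u v w : Fin 6 → F} (hfr : Fr3 u v w)
    (hoZ : ∀ t : Fˣ, ((ovalList u v w t).map lab).prod ∈ Subgroup.closure ({z', a'} : Set H))
    (hinj : ∀ t t' : Fˣ, ((ovalList u v w t).map lab).prod =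
      ((ovalList u v w t').map lab).prod → t = t')
    (hgen : ∀ x, Commute x z → Commute x a →
      x ∈ Subgroup.closure {d | d ∈ D ∧ Commute d z ∧ Commute d a}) :
    ∃ n1 : H, n1 * z' * n1⁻¹ = a' ∧ n1 * a' * n1⁻¹ = z' ∧
      ∀ x, Commute x z → Commute x a → α (n⁻¹ * x * n) = n1⁻¹ * α x * n1 := by
  classical
  -- the transported isomorphism
  set γ : G → H := fun x => n' * α (n⁻¹ * x * n) * n'⁻¹ with hγ
  have hγI : CIso a a' γ := hα.conj hn1 hn1'
  have hn1i : n⁻¹ * a * n = z := by rw [← hn1]; group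
  have hn2i : n⁻¹ * z * n = a := by rw [← hn2]; group
  have hn1i' : n'⁻¹ * a' * n' = z' := by rw [← hn1']; group
  have hn2i' : n'⁻¹ * z' * n' = a' := by rw [← hn2']; group
  have haz' : Commute a' z' := by rw [← hαa]; exact hα.map a hza
  have hLn : ∀ x, Commute x z → Commute x a →
      Commute (n⁻¹ * x * n) z ∧ Commute (n⁻¹ * x * n) a := by
    intro x hxz hxa
    have h1 := hxz.map (MulAut.conj n⁻¹)
    have h2 := hxa.map (MulAut.conj n⁻¹)
    rw [MulAut.conj_apply, MulAut.conj_apply, inv_inv, hn2i] at h1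
    rw [MulAut.conj_apply, MulAut.conj_apply, inv_inv, hn1i] at h2
    exact ⟨h2, h1⟩
  have hinv : ∀ y : H, ∃ x : G, Commute y z' → (Commute x z ∧ α x = y) := by
    intro y
    by_cases hy : Commute y z'
    · obtain ⟨x, hx⟩ := hα.surj y hy
      exact ⟨x, fun _ => hx⟩
    · exact ⟨1, fun h => absurd h hy⟩
  choose β hβ using hinv
  have hβα : ∀ x, Commute x z → β (α x) = x := by
    intro x hx
    obtain ⟨h1, h2⟩ := hβ (α x) (hα.map x hx)
    exact hα.inj _ _ h1 hx h2
  have hβa : ∀ y, Commute y z' → Commute y a' → Commute (β y) a := by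
    intro y hy hya
    obtain ⟨h1, h2⟩ := hβ y hy
    rw [← hα.commute_iff _ _ h1 hza, h2, hαa]
    exact hya
  have hγz : γ z = z' := by
    change n' * α (n⁻¹ * z * n) * n'⁻¹ = z'
    rw [hn2i, hαa, hn2']
  have hγa : γ a = a' := by
    change n' * α (n⁻¹ * a * n) * n'⁻¹ = a'
    rw [hn1i, hαz, hn1']
  have hγD : ∀ x, Commute x z → Commute x a → (x ∈ D ↔ γ x ∈ D') := by
    intro x hxz hxa
    obtain ⟨h1, h2⟩ := hLn x hxz hxa
    constructor
    · intro hxD
      refine hDc' _ _ ((hαD _ h1).1 ?_)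
      have := hDc n⁻¹ x hxD
      rwa [inv_inv] at this
    · intro hxD
      have h3 := hDc' n'⁻¹ _ hxD
      have h4 : n'⁻¹ * γ x * n'⁻¹⁻¹ = α (n⁻¹ * x * n) := by
        change n'⁻¹ * (n' * α (n⁻¹ * x * n) * n'⁻¹) * n'⁻¹⁻¹ = _
        group
      rw [h4, ← hαD _ h1] at h3
      have h5 := hDc n _ h3
      have h6 : n * (n⁻¹ * x * n) * n⁻¹ = x := by group
      rwa [h6] at h5
  have hβmul : ∀ y y', Commute y z' → Commute y' z' → β (y * y') = β y * β y' := by
    intro y y' hy hy'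
    obtain ⟨h1, h2⟩ := hβ y hy
    obtain ⟨h3, h4⟩ := hβ y' hy'
    rw [← h2, ← h4, ← hα.mul _ _ h1 h3, hβα _ (h1.mul_left h3), h2, h4]
  have hβ1 : β 1 = 1 := by
    have := hβα 1 (Commute.one_left z)
    rwa [hα.one] at this
  -- `γ ∘ β` on the common centraliser
  have hφmul : ∀ y y', Commute y z' → Commute y a' → Commute y' z' → Commute y' a' →
      γ (β (y * y')) = γ (β y) * γ (β y') := by
    intro y y' h1 h2 h3 h4
    rw [hβmul y y' h1 h3, hγI.mul _ _ (hβa y h1 h2) (hβa y' h3 h4)]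
  have hφZ : ∀ y ∈ Subgroup.closure ({z', a'} : Set H), (Commute y z' ∧ Commute y a') ∧
      γ (β y) = y := by
    intro y hy
    induction hy using Subgroup.closure_induction with
    | mem y hy =>
      simp only [Set.mem_insert_iff, Set.mem_singleton_iff] at hy
      rcases hy with rfl | rfl
      · refine ⟨⟨Commute.refl _, haz'.symm⟩, ?_⟩
        rw [← hαz, hβα z (Commute.refl z), hγz, hαz]
      · refine ⟨⟨haz', Commute.refl _⟩, ?_⟩
        rw [← hαa, hβα a hza, hγa, hαa]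
    | one => exact ⟨⟨Commute.one_left _, Commute.one_left _⟩, by rw [hβ1, hγI.one]⟩
    | mul x y _ _ ihx ihy =>
      obtain ⟨⟨h1, h2⟩, h3⟩ := ihx
      obtain ⟨⟨h4, h5⟩, h6⟩ := ihy
      exact ⟨⟨h1.mul_left h4, h2.mul_left h5⟩, by rw [hφmul x y h1 h2 h4 h5, h3, h6]⟩
    | inv x _ ih =>
      obtain ⟨⟨h1, h2⟩, h3⟩ := ih
      refine ⟨⟨h1.inv_left, h2.inv_left⟩, ?_⟩
      have h4 := hφmul x⁻¹ x h1.inv_left h2.inv_left h1 h2
      rw [inv_mul_cancel, hβ1, hγI.one, h3] at h4
      exact (inv_eq_of_mul_eq_one_left h4.symm).symm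
  have hauto : Auto (Sset D' z' a') lab (fun v => γ (β (lab v))) := by
    refine ⟨?_, ?_, ?_, ?_⟩
    · intro v hv0 hv
      obtain ⟨hyD, hyz, hya, hyz', hya'⟩ := hL.mem v hv0 hv
      obtain ⟨h1, h2⟩ := hβ (lab v) hyz
      have h3 := hβa _ hyz hya
      have hxD : β (lab v) ∈ D := (hαD _ h1).2 (by rw [h2]; exact hyD)
      refine ⟨(hγD _ h1 h3).1 hxD, ?_, hγI.map _ h3, ?_, ?_⟩
      · have h4 := (hγI.commute_iff _ _ h3 hza.symm).2 h1
        rwa [hγz] at h4
      · intro h5
        rw [← hγz] at h5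
        have h6 := hγI.inj _ _ h3 hza.symm h5
        apply hyz'
        rw [← h2, h6, hαz]
      · intro h5
        rw [← hγa] at h5
        have h6 := hγI.inj _ _ h3 (Commute.refl a) h5
        apply hya'
        rw [← h2, h6, hαa]
    · intro s hs
      obtain ⟨hsD, hsz, hsa, hsz', hsa'⟩ := hs
      obtain ⟨x, hxa, hxs⟩ := hγI.surj s hsa
      have hxz : Commute x z := by
        rw [← hγI.commute_iff _ _ hxa hza.symm, hγz, hxs]
        exact hsz
      have hxS : α x ∈ Sset D' z' a' := by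
        refine ⟨(hαD x hxz).1 ((hγD x hxz hxa).2 (by rw [hxs]; exact hsD)), hα.map x hxz, ?_, ?_, ?_⟩
        · rw [← hαa, hα.commute_iff _ _ hxz hza]
          exact hxa
        · intro h4
          rw [← hαz] at h4
          have h5 := hα.inj _ _ hxz (Commute.refl z) h4
          apply hsz'
          rw [← hxs, h5, hγz]
        · intro h4
          rw [← hαa] at h4
          have h5 := hα.inj _ _ hxz hza h4
          apply hsa'
          rw [← hxs, h5, hγa]
      obtain ⟨v, hv0, hv, hvx⟩ := hL.surj _ hxS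
      refine ⟨v, hv0, hv, ?_⟩
      change γ (β (lab v)) = s
      rw [← hvx, hβα x hxz, hxs]
    · intro v w hv0 hw0 hv hw
      obtain ⟨hyD, hyz, hya, hyz', hya'⟩ := hL.mem v hv0 hv
      obtain ⟨hyD2, hyz2, hya2, hyz2', hya2'⟩ := hL.mem w hw0 hw
      obtain ⟨h1, h2⟩ := hβ (lab v) hyz
      obtain ⟨h1', h2'⟩ := hβ (lab w) hyz2
      rw [← hL.comm v w hv0 hw0 hv hw]
      rw [hγI.commute_iff _ _ (hβa _ hyz hya) (hβa _ hyz2 hya2), ← hα.commute_iff _ _ h1 h1', h2,
        h2']
    · intro v hv0 hv c hc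
      change γ (β (lab (c • v))) = γ (β (lab v))
      rw [hL.smul v hv0 hv c hc]
  have hlist : ∀ l : List (Fin 6 → F), (∀ v ∈ l, v ≠ 0 ∧ hermForm 6 F 2 v v = 0) →
      (Commute ((l.map lab).prod) z' ∧ Commute ((l.map lab).prod) a') ∧
      (l.map (fun v => γ (β (lab v)))).prod = γ (β ((l.map lab).prod)) := by
    intro l
    induction l with
    | nil =>
      intro _
      simp only [List.map_nil, List.prod_nil]
      rw [hβ1, hγI.one]
      exact ⟨⟨Commute.one_left _, Commute.one_left _⟩, rfl⟩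
    | cons x l ih =>
      intro hl
      obtain ⟨⟨h1, h2⟩, h3⟩ := ih fun v hv => hl v (List.mem_cons_of_mem _ hv)
      obtain ⟨hx0, hx⟩ := hl x List.mem_cons_self
      obtain ⟨-, hyz, hya, -, -⟩ := hL.mem x hx0 hx
      rw [List.map_cons, List.prod_cons, List.map_cons, List.prod_cons, h3,
        hφmul _ _ hyz hya h1 h2]
      exact ⟨⟨hyz.mul_left h1, hya.mul_left h2⟩, rfl⟩
  obtain ⟨g, hg, hgv⟩ := HermPlane.exists_conj_full hF hL hauto
    (Z := (Subgroup.closure ({z', a'} : Set H) : Set H)) (by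
      intro y hy s hs
      obtain ⟨-, hsz, hsa, -, -⟩ := hs
      have h1 : Subgroup.closure ({z', a'} : Set H) ≤ Subgroup.centralizer ({s} : Set H) := by
        rw [Subgroup.closure_le]
        rintro x hx
        simp only [Set.mem_insert_iff, Set.mem_singleton_iff] at hx
        rcases hx with rfl | rfl
        · exact Subgroup.mem_centralizer_singleton_iff.2 hsz.symm
        · exact Subgroup.mem_centralizer_singleton_iff.2 hsa.symm
      exact Subgroup.mem_centralizer_singleton_iff.1 (h1 hy)) (by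
      intro l hl hlZ
      obtain ⟨-, h3⟩ := hlist l hl
      rw [h3]
      exact (hφZ _ hlZ).2) hfr hoZ hinj
  have hgz : Commute g z' ∧ Commute g a' := by
    have h1 : Subgroup.closure (Sset D' z' a') ≤
        Subgroup.centralizer ({z'} : Set H) ⊓ Subgroup.centralizer ({a'} : Set H) := by
      rw [Subgroup.closure_le]
      rintro s ⟨-, h2, h3, -, -⟩
      exact ⟨Subgroup.mem_centralizer_singleton_iff.2 h2,
        Subgroup.mem_centralizer_singleton_iff.2 h3⟩
    obtain ⟨h2, h3⟩ := h1 hg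
    exact ⟨Subgroup.mem_centralizer_singleton_iff.1 h2, Subgroup.mem_centralizer_singleton_iff.1 h3⟩
  have hgz' : g * z' * g⁻¹ = z' := by rw [hgz.1.eq, mul_inv_cancel_right]
  have hga' : g * a' * g⁻¹ = a' := by rw [hgz.2.eq, mul_inv_cancel_right]
  have hall : ∀ x, Commute x z → Commute x a → γ x = g * α x * g⁻¹ := by
    intro x hxz hxa
    have hmem := hgen x hxz hxa
    have hP : ∀ y, y ∈ Subgroup.closure {d | d ∈ D ∧ Commute d z ∧ Commute d a} →
        Commute y z ∧ Commute y a := by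
      intro y hy
      have h1 : Subgroup.closure {d | d ∈ D ∧ Commute d z ∧ Commute d a} ≤
          Subgroup.centralizer ({z} : Set G) ⊓ Subgroup.centralizer ({a} : Set G) := by
        rw [Subgroup.closure_le]
        rintro d ⟨-, h2, h3⟩
        exact ⟨Subgroup.mem_centralizer_singleton_iff.2 h2,
          Subgroup.mem_centralizer_singleton_iff.2 h3⟩
      obtain ⟨h2, h3⟩ := h1 hy
      exact ⟨Subgroup.mem_centralizer_singleton_iff.1 h2,
        Subgroup.mem_centralizer_singleton_iff.1 h3⟩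
    clear hxz hxa
    induction hmem using Subgroup.closure_induction with
    | mem d hd =>
      obtain ⟨hdD, hdz, hda⟩ := hd
      by_cases h1 : d = z
      · rw [h1, hγz, hαz, hgz']
      by_cases h2 : d = a
      · rw [h2, hγa, hαa, hga']
      have h3 : α d ∈ Sset D' z' a' := by
        refine ⟨(hαD d hdz).1 hdD, hα.map d hdz, ?_, ?_, ?_⟩
        · rw [← hαa, hα.commute_iff _ _ hdz hza]
          exact hda
        · intro h4
          rw [← hαz] at h4
          exact h1 (hα.inj _ _ hdz (Commute.refl z) h4)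
        · intro h4
          rw [← hαa] at h4
          exact h2 (hα.inj _ _ hdz hza h4)
      obtain ⟨v, hv0, hv, hvd⟩ := hL.surj _ h3
      have h4 := hgv v hv0 hv
      rw [← hvd] at h4
      rwa [hβα d hdz] at h4
    | one => rw [hγI.one, hα.one, mul_one, mul_inv_cancel]
    | mul x y hx hy ihx ihy =>
      obtain ⟨h1, h2⟩ := hP x hx
      obtain ⟨h3, h4⟩ := hP y hy
      rw [hγI.mul _ _ h2 h4, hα.mul _ _ h1 h3, ihx, ihy]
      group
    | inv x hx ihx =>
      obtain ⟨h1, h2⟩ := hP x hx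
      rw [hγI.inv _ h2, hα.inv _ h1, ihx]
      group
  refine ⟨g⁻¹ * n', ?_, ?_, ?_⟩
  · calc g⁻¹ * n' * z' * (g⁻¹ * n')⁻¹ = g⁻¹ * (n' * z' * n'⁻¹) * g := by group
      _ = g⁻¹ * (g * a' * g⁻¹) * g := by rw [hn1', hga']
      _ = a' := by group
  · calc g⁻¹ * n' * a' * (g⁻¹ * n')⁻¹ = g⁻¹ * (n' * a' * n'⁻¹) * g := by group
      _ = g⁻¹ * (g * z' * g⁻¹) * g := by rw [hn2', hgz']
      _ = z' := by group
  · intro x hxz hxa
    have h1 := hall x hxz hxa
    calc α (n⁻¹ * x * n) = n'⁻¹ * (n' * α (n⁻¹ * x * n) * n'⁻¹) * n' := by group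
      _ = n'⁻¹ * (g * α x * g⁻¹) * n' := by rw [← h1]
      _ = (g⁻¹ * n')⁻¹ * α x * (g⁻¹ * n') := by group

end Cfsg.Agent.R01.GlueFull
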