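import Mathlib

/-!
# The polar space `H(5,4)` on codes

A vector of `F₄⁶` is coded by a number below `4096`: the bits `2k+1`, `2k` are the coefficients of
`ω` and `1` of coordinate `k`. Addition is `^^^`. The Hermitian form is the one with
`h(b_i, b_{5-i}) = 1`. We prove that a set of isotropic points which meets every totally isotropic
line in `0` or `2` points, is closed under third points of hyperbolic lines and contains six
particular points is a certain explicit set of `126` points.
-/

set_option autoImplicit false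

namespace Cfsg.Agent.R01.HermCode

/-- Bit test. -/
def tb (m n : ℕ) : Bool := Nat.beq (Nat.land (Nat.shiftRight m n) 1) 1

/-- Parity table of the numbers below `4096`. -/
def PT : ℕ := 0x6996966996696996966969966996966996696996699696696996966996696996966969966996966969969669966969966996966996696996966969966996966996696996699696696996966996696996699696699669699696696996699696696996966996696996966969966996966996696996699696696996966996696996966969966996966969969669966969966996966996696996966969966996966969969669966969969669699669969669966969966996966969969669966969966996966996696996966969966996966996696996699696696996966996696996966969966996966969969669966969966996966996696996966969966996966996696996699696696996966996696996699696699669699696696996699696696996966996696996966969966996966996696996699696696996966996696996699696699669699696696996699696699669699669969669699696699669699696696996699696696996966996696996699696699669699696696996699696696996966996696996966969966996966996696996699696696996966996696996966969966996966969969669966969966996966996696996966969966996966996696996699696696996966996696996699696699669699696696996699696696996966996696996966969966996966996696996699696696996966996696996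

/-- Reversal of the coordinates. -/
def rev (c : ℕ) : ℕ :=
  Nat.lor (Nat.shiftLeft (Nat.land c 3) 10) (Nat.lor (Nat.shiftLeft (Nat.land c 12) 6)
    (Nat.lor (Nat.shiftLeft (Nat.land c 48) 2) (Nat.lor (Nat.land (Nat.shiftRight c 2) 48)
    (Nat.lor (Nat.land (Nat.shiftRight c 6) 12) (Nat.land (Nat.shiftRight c 10) 3)))))

/-- Exchange of the two bits of each coordinate. -/
def swp (y : ℕ) : ℕ :=
  Nat.lor (Nat.land (Nat.shiftRight y 1) 1365) (Nat.land (Nat.shiftLeft y 1) 2730)

/-- Conjugation of each coordinate. -/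
def cnj (y : ℕ) : ℕ := Nat.xor y (Nat.land (Nat.shiftRight y 1) 1365)

/-- Coefficient of `ω` of the form. -/
def hHi (a c : ℕ) : Bool := tb PT (Nat.land a (swp (rev c)))

/-- Coefficient of `1` of the form. -/
def hLo (a c : ℕ) : Bool := tb PT (Nat.land a (cnj (rev c)))

/-- The form vanishes. -/
def orth (a c : ℕ) : Bool := !(hHi a c) && !(hLo a c)

/-- The form is one. -/
def hOne (a c : ℕ) : Bool := !(hHi a c) && hLo a c

/-- Multiplication by `ω`. -/
def w (c : ℕ) : ℕ :=
  Nat.lor (Nat.land (Nat.shiftRight c 1) 1365) (Nat.land (Nat.xor c (Nat.shiftLeft c 1)) 2730)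

/-- Codes of non-zero isotropic vectors. -/
def isPt (c : ℕ) : Bool := Nat.blt c 4096 && !(Nat.beq c 0) && orth c c

/-- `c` is a multiple of `a`. -/
def mult (a c : ℕ) : Bool := Nat.beq c a || Nat.beq c (w a) || Nat.beq c (w (w a))

/-- A set of points meeting every line in `0` or `2` points and closed under third points. -/
structure Hyp (S : ℕ → Prop) : Prop where
  smul : ∀ a, isPt a = true → S a → S (w a)
  third : ∀ a c, isPt a = true → isPt c = true → hOne a c = true → S a → S c → S (a ^^^ c)
  line : ∀ a c, isPt a = true → isPt c = true → orth a c = true → mult a c = false → S a →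
    (S c ∧ ¬ S (a ^^^ c) ∧ ¬ S (a ^^^ w c) ∧ ¬ S (a ^^^ w (w c))) ∨
    (¬ S c ∧ S (a ^^^ c) ∧ ¬ S (a ^^^ w c) ∧ ¬ S (a ^^^ w (w c))) ∨
    (¬ S c ∧ ¬ S (a ^^^ c) ∧ S (a ^^^ w c) ∧ ¬ S (a ^^^ w (w c))) ∨
    (¬ S c ∧ ¬ S (a ^^^ c) ∧ ¬ S (a ^^^ w c) ∧ S (a ^^^ w (w c)))

/-- Deduction steps. -/
inductive Op
  | H (a c : ℕ)
  | HO (a c : ℕ)
  | L2 (a c : ℕ)
  | L1 (a c : ℕ)

/-- Add the multiples of `c` to the mask `m`. -/
def put (m c : ℕ) : ℕ :=
  Nat.lor m (Nat.lor (Nat.shiftLeft 1 c) (Nat.lor (Nat.shiftLeft 1 (w c))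
    (Nat.shiftLeft 1 (w (w c)))))

/-- The code and its multiples are codes of isotropic vectors, and `ω ^ 3 = 1`. -/
def ptOk (c : ℕ) : Bool := isPt c && isPt (w c) && isPt (w (w c)) && Nat.beq (w (w (w c))) c

/-- One step of the check. -/
def step (s : ℕ × ℕ) : Op → ℕ × ℕ
  | .H a c => if tb s.1 a && tb s.1 c && hOne a c && ptOk (Nat.xor a c) then
      (put s.1 (Nat.xor a c), s.2) else s
  | .HO a c => if tb s.1 a && tb s.2 c && hOne a (Nat.xor a c) && ptOk (Nat.xor a c) then
      (s.1, put s.2 (Nat.xor a c)) else s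
  | .L2 a c => if tb s.1 a && tb s.1 c && orth a c && !(mult a c) && ptOk (Nat.xor a c) then
      (s.1, put s.2 (Nat.xor a c)) else s
  | .L1 a c => if tb s.1 a && tb s.2 c && tb s.2 (Nat.xor a c) &&
      tb s.2 (Nat.xor a (w c)) && orth a c && !(mult a c) && ptOk (Nat.xor a (w (w c))) then
      (put s.1 (Nat.xor a (w (w c))), s.2) else s

/-- A contradictory line. -/
def contra (s : ℕ × ℕ) (a c : ℕ) : Bool :=
  tb s.1 a && tb s.2 c && tb s.2 (Nat.xor a c) && tb s.2 (Nat.xor a (w c)) &&
  tb s.2 (Nat.xor a (w (w c))) && orth a c && !(mult a c)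

/-- The part in the perp of the first point. -/
def certN : List Op :=
  [.H 64 16, .H 256 4, .H 21 64, .H 21 256, .L2 1 12, .L2 1 32, .L2 4 48, .L1 21 52, .L2 1 8,
   .L2 1 48, .L2 4 32, .L1 21 49, .H 80 21, .H 260 21, .H 85 256, .H 85 260, .H 277 80,
   .H 30 64, .H 30 768, .H 30 80, .H 30 780, .H 30 85, .H 30 831, .H 27 64, .H 27 512,
   .H 69 260, .L2 260 160, .HO 256 7, .HO 64 18, .L1 341 241, .HO 256 6, .HO 64 19,
   .L2 260 240, .L1 341 83, .H 341 57, .H 341 45, .L2 256 160, .L2 256 3, .L1 337 848,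
   .L2 256 2, .L2 256 240, .L1 337 496, .H 337 57, .H 337 45, .L2 1 42, .HO 80 22, .HO 85 258,
   .L2 256 48, .HO 85 800, .L1 273 410, .L2 1 63, .HO 80 23, .HO 85 259, .L2 256 32,
   .HO 85 560, .L1 273 954, .L2 64 3, .L2 64 8, .HO 256 196, .L1 325 67, .L2 64 2, .L2 64 12,
   .HO 256 132, .L1 325 193, .H 94 554, .H 94 546, .H 94 650, .H 295 255, .H 78 780,
   .H 78 682, .H 78 975, .H 291 1023]

/-- The good case. -/
def cert0 : List Op :=
  [.H 1024 1, .H 1024 21, .H 1024 85, .H 1024 277, .H 1024 57, .H 1024 45, .H 1024 69,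
   .H 1024 273, .H 1024 341, .H 1024 337, .H 1024 325, .H 1024 249, .H 1024 569, .H 1024 201,
   .H 1024 561, .H 1024 141, .H 1024 801, .H 1024 173, .H 1024 813, .H 1024 321, .H 1024 941,
   .H 1024 761, .H 1024 929, .H 1024 753, .H 1024 713, .H 1024 909, .H 1024 705, .H 1024 897,
   .H 1025 21, .H 1025 85, .H 1025 277, .H 1025 57, .H 1025 45, .H 1025 69, .H 1025 273,
   .H 1025 341, .H 1025 337, .H 1025 325, .H 1025 249, .H 1025 569, .H 1025 201, .H 1025 561,
   .H 1025 141, .H 1025 801, .H 1025 173, .H 1025 813, .H 1025 321, .H 1025 941, .H 1025 761,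
   .H 1025 929, .H 1025 753, .H 1025 713, .H 1025 909, .H 1025 705, .H 1025 897, .H 1045 167,
   .H 1045 798, .H 1045 135, .H 1045 786, .H 1045 198, .H 1045 531, .H 1045 246, .H 1045 539,
   .H 1109 39, .H 1109 54, .H 1109 135, .H 1109 198, .H 1301 30, .H 1301 27, .H 1301 786,
   .H 1301 531, .H 1081 138, .H 1081 819, .H 1081 91, .H 1081 310, .H 1069 207, .H 1069 546,
   .H 1069 94, .H 1069 295]

/-- The bad case `1028`. -/
def cert1 : List Op :=
  [.L2 64 1028, .HO 444 2184, .L2 1028 160, .HO 391 3164, .L2 1028 682, .HO 256 3063,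
   .L2 1028 240, .HO 27 1268]

/-- The bad case `3076`. -/
def cert2 : List Op :=
  [.L2 1032 48, .HO 488 2076, .L2 1032 32, .HO 325 1064, .L2 1032 16, .HO 91 2092,
   .L2 295 1032, .HO 256 2613]

/-- The bad case `2052`. -/
def cert3 : List Op :=
  [.L2 1036 929, .HO 325 2550, .L2 1036 498, .HO 408 1534, .L2 1036 80, .HO 27 2212,
   .L2 1036 595, .HO 291 3578]

/-- Pairs of points of the hyperoval whose sums give all other points. -/
def outPairs : List (ℕ × ℕ) :=
  [(1291, 1294), (64, 75), (1729, 1736), (1092, 1109), (4, 39), (1932, 1965), (1345, 1365),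
   (4, 57), (1164, 1202), (472, 492), (1092, 1139), (4, 30), (387, 423), (1802, 1836),
   (1197, 1202), (450, 387), (321, 450), (325, 391), (1224, 1164), (1921, 1802), (1543, 1737),
   (1092, 1224), (1234, 1045), (1344, 1290), (1025, 1225), (64, 198), (4, 75), (1348, 1301),
   (1123, 1170), (1164, 1069), (1196, 1272), (1799, 1964), (325, 492), (360, 412),
   (1543, 1776), (1224, 1170), (1737, 1585), (1, 167), (1, 94), (1108, 1365), (1294, 1551),
   (321, 579), (1802, 1551), (64, 587), (1799, 1294), (1825, 1585), (325, 628), (492, 255),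
   (1093, 1361), (69, 888), (321, 872), (391, 167), (1799, 1044), (1344, 1122), (376, 612),
   (1932, 1171), (1825, 1543), (1164, 1964), (1728, 1234), (454, 740), (450, 246), (260, 798),
   (1798, 1585), (1301, 1109), (1776, 1139), (21, 660), (1296, 1108), (64, 909), (1250, 1836),
   (1092, 1300), (1965, 1294), (1921, 1139), (69, 273), (21, 1000), (1837, 1235), (21, 380),
   (1799, 1234), (1164, 1585), (1364, 1081), (1932, 1109), (1543, 1202), (1345, 1080),
   (75, 724), (1932, 1297), (1068, 1361), (1250, 1803), (291, 713), (321, 897), (1349, 1542),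
   (1165, 1295), (1585, 1273), (380, 249), (64, 454), (450, 91), (391, 872), (69, 819),
   (454, 91), (1921, 1272), (387, 761), (1736, 1080), (391, 724), (1297, 1203), (1728, 1080),
   (1550, 1361), (1291, 1197), (1345, 1272), (325, 255), (387, 862), (488, 85), (1952, 1225),
   (502, 668), (472, 920), (310, 884), (472, 27), (360, 740), (1344, 1802), (260, 650),
   (1, 472), (1799, 1202), (1, 620), (1, 476), (1, 952), (1123, 1542), (1296, 1273),
   (321, 724), (498, 612), (1345, 1196), (472, 54), (1, 628), (1069, 1933), (80, 1011),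
   (1251, 1296), (1024, 1964), (472, 45), (1251, 1300), (64, 1092), (64, 1093), (16, 2076),
   (1273, 240), (1294, 3338), (1836, 801), (1836, 2844), (1348, 341), (16, 3108), (488, 2502),
   (1543, 539), (1025, 3111), (1953, 897), (1164, 173), (1542, 546), (1025, 2078), (16, 1080),
   (16, 1081), (423, 3463), (1123, 3185), (1952, 916), (1139, 2140), (1122, 94), (1224, 2275),
   (1109, 21), (1296, 337), (1024, 2244), (1736, 2575), (488, 3360), (1920, 3846),
   (1196, 2140), (1092, 21), (1291, 3495), (1273, 160), (1543, 603), (1092, 3298),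
   (1092, 3327), (1224, 3185), (1092, 2193), (1933, 3888), (1802, 868), (1297, 3492),
   (1294, 376), (1092, 2218), (325, 3488), (1092, 63), (1164, 3099), (1109, 42), (1092, 3204),
   (4, 2246), (64, 2184), (4, 3147), (1197, 3169), (4, 1165), (1196, 2257), (387, 1300),
   (1737, 595), (1122, 249), (1344, 3495), (1921, 798), (260, 2548), (1164, 45), (1728, 612),
   (1164, 2259), (1251, 75), (1273, 80), (1348, 498), (1092, 2090), (321, 3364), (450, 3492),
   (1139, 3236), (1920, 831), (1123, 2275), (64, 2050), (1349, 3341), (1122, 167),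
   (1296, 476), (1932, 2823), (69, 1171), (1164, 91), (1068, 246), (1164, 3297), (1798, 984),
   (1164, 2102), (488, 1294), (1297, 502), (1045, 255), (1044, 255), (1235, 3236),
   (1234, 3239), (260, 3492), (1251, 3249), (78, 3298), (1025, 3163), (488, 1300),
   (1345, 444), (1802, 3338), (80, 1361), (1836, 3364), (16, 1301), (1068, 310), (1344, 91),
   (1920, 3495), (1348, 91), (1921, 2193), (364, 2910), (1024, 2844), (16, 2602), (1543, 813),
   (1824, 2102), (295, 2832), (1933, 674), (1164, 444), (1776, 3298), (260, 2844),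
   (1799, 2088), (1737, 1011), (1932, 2218), (1921, 2216), (1836, 531), (1234, 408),
   (69, 1294), (1234, 412), (1171, 476), (78, 1300), (1349, 30), (1250, 444), (423, 1272),
   (1349, 39), (1092, 295), (1348, 4095), (1349, 4092), (1799, 2259), (325, 1068),
   (1803, 2259), (1728, 941), (1777, 3170), (295, 1108), (1349, 2728), (1348, 2730),
   (1728, 952), (450, 2908), (1349, 57), (1585, 3239), (1784, 888), (376, 1273), (69, 3849),
   (1344, 2575), (1921, 2244), (423, 1068), (450, 2821), (1044, 2910), (1069, 2908),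
   (78, 3900), (423, 2892), (423, 2894), (1736, 3108), (1224, 337), (1250, 3590), (75, 3888),
   (360, 1224), (80, 2722), (488, 2832), (1250, 3608), (1543, 941), (391, 1068), (423, 2896),
   (1964, 2294), (1348, 246), (1799, 692), (1932, 2273), (1348, 2602), (1921, 569),
   (321, 1272), (1123, 2827), (1025, 444), (325, 2821), (69, 2567), (1093, 3597), (64, 4047),
   (1837, 2216), (1203, 376), (1202, 380), (1344, 3845), (1965, 2076), (1729, 786),
   (75, 2592), (450, 1045), (1736, 3236), (75, 4092), (1952, 636), (1543, 3169), (256, 1250),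
   (1728, 3249), (1348, 3903), (1164, 2834), (1224, 2908), (1348, 173), (1345, 173),
   (1344, 173), (1024, 3664), (80, 4083), (1024, 3672), (1165, 376), (1122, 408), (321, 2844),
   (1965, 595), (454, 1081), (94, 2910), (1592, 57), (80, 2908), (64, 2894), (360, 3160),
   (1542, 3364), (450, 3327), (1584, 39), (16, 3364), (1250, 4044), (1836, 306), (1592, 39),
   (1092, 612), (450, 3281), (1799, 3132), (1344, 2142), (260, 1836), (1345, 872), (1584, 30),
   (1542, 2844), (69, 2910), (1068, 539), (1234, 748), (1585, 3364), (1543, 3463),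
   (1197, 748), (1092, 4047), (1965, 3108), (1952, 488), (64, 3463), (1165, 3850),
   (1164, 3849), (1836, 380), (1344, 2227), (450, 3135), (1290, 2292), (1024, 2548),
   (1802, 3236), (94, 3495), (1965, 498), (502, 3111), (1737, 170), (291, 3327), (488, 1933),
   (1798, 364), (1250, 2356), (1092, 4080), (295, 3324), (454, 3111), (69, 3495),
   (1348, 2216), (1250, 2317), (1837, 3250), (321, 3239), (1952, 476), (1092, 569),
   (488, 2600), (488, 2602), (454, 2573), (1921, 3144), (364, 2720), (64, 1737), (1543, 2894),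
   (1364, 2078), (1296, 2145), (1348, 2102), (1802, 3298), (1737, 3363), (488, 2567),
   (1344, 2102), (1164, 2548), (454, 2592), (364, 3132), (1295, 2140), (325, 3096),
   (94, 1785), (80, 1784), (1932, 3186), (1964, 3163), (387, 1836), (1251, 3888), (325, 3111),
   (1295, 2147), (295, 3144), (1251, 3900), (1348, 1023), (69, 1785), (1777, 3367),
   (1729, 2892), (21, 2908), (64, 2823), (1785, 54), (1921, 3298), (21, 3495), (1785, 45),
   (1301, 2218), (1345, 2292), (260, 3250), (1296, 2216), (1799, 3169), (1932, 3327),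
   (488, 1803), (1092, 3900), (391, 3096), (1164, 4083), (1736, 2910), (21, 1785),
   (1081, 724), (1197, 603), (1171, 612), (1825, 2696), (1965, 2567), (1197, 941),
   (1068, 813), (1953, 173), (1920, 141), (1798, 2358), (1825, 48), (1122, 884), (1802, 2356),
   (1836, 54), (1123, 888), (1728, 476), (376, 2142), (1345, 2908), (1344, 2910), (1952, 138),
   (1921, 170), (1803, 3611), (1543, 310), (1728, 502), (1164, 2722), (450, 1784),
   (1798, 3611), (260, 1592), (1109, 872), (1542, 2246), (1251, 2592), (1920, 198),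
   (64, 1799), (295, 2216), (1360, 539), (1799, 75), (1251, 2600), (1736, 408), (1081, 872),
   (1295, 3236), (1108, 2730), (1092, 798), (454, 3888), (1295, 595), (1798, 91), (391, 2100),
   (1301, 3236), (1784, 412), (1025, 868), (1736, 2076), (295, 4080), (1824, 78), (423, 1736),
   (488, 3849), (1344, 3281), (1296, 612), (1824, 85), (1092, 2720), (1093, 2722),
   (1921, 255), (260, 2193), (1953, 39), (1349, 2827), (1250, 872), (1736, 3845), (1294, 668),
   (1551, 412), (450, 2090), (1345, 724), (1953, 57), (1225, 3367), (1344, 3239),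
   (1345, 3236), (1234, 884), (1824, 135), (1234, 888), (1932, 39), (1776, 2193),
   (1344, 3217), (1736, 380), (1932, 57), (1728, 376), (1025, 952), (1932, 3675), (1953, 30),
   (1251, 3491), (1799, 198), (1776, 310), (64, 2313), (64, 2319), (1920, 75), (1802, 198),
   (1164, 2567), (1837, 255), (1836, 255), (1921, 85), (387, 3900), (1224, 3492),
   (1123, 3341), (325, 4092), (1824, 255), (256, 2163), (325, 2100), (364, 4080), (1836, 201),
   (1736, 2140), (1824, 201), (1348, 682), (1251, 780), (1798, 246), (1543, 502), (1122, 916),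
   (325, 2076), (1799, 3672), (321, 2076), (260, 1784), (1025, 2730)]

/-- The hyperoval, all multiples. -/
def M0mask : ℕ := 0x90090000000090090000000000000000000000000000000090090000000006600000000000000000000000000000000000000000090909090000000009096060000000000000000000000099000000990000000000000000000000990000660090000006000690000006009000060090000600060900090090000090090000090000000000000000000000000000000000000000500550050000000050050aa0000000000000000000000505000005050000000000000000000005050000a0a0005500000000005500000000000000000000000000000000005500000000aa000050000a000a0050000a0500000a0500000a000a5000500000500500500000050000000000000000000030030000300300000000000000000000300300000cc0030300000000030300000000000000000000000000000000030300000000c0c0000000000000000000000000000000000000000000330033000000000033cc000300000c000c0300000c3000000c3000000c000c003000300300300000300003800801100110800801102002011020020110011040044004800820024004100102021010101002021010040410100404101010100808080802020404080801010044110011000044110000881100008811001100002200220044008800220011824100000000824100002481000024810000000048214821824124814821111e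

/-- The hyperoval, one code per point. -/
def M0list : List ℕ :=
  [1, 4, 16, 21, 27, 30, 64, 69, 75, 78, 80, 85, 91, 94, 256, 260, 273, 277, 291, 295, 306,
   310, 321, 325, 337, 341, 360, 364, 376, 380, 387, 391, 408, 412, 419, 423, 440, 444, 450,
   454, 472, 476, 488, 492, 498, 502, 1024, 1025, 1044, 1045, 1068, 1069, 1080, 1081, 1092,
   1093, 1108, 1109, 1122, 1123, 1138, 1139, 1164, 1165, 1170, 1171, 1196, 1197, 1202, 1203,
   1224, 1225, 1234, 1235, 1250, 1251, 1272, 1273, 1290, 1291, 1294, 1295, 1296, 1297, 1300,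
   1301, 1344, 1345, 1348, 1349, 1360, 1361, 1364, 1365, 1542, 1543, 1550, 1551, 1584, 1585,
   1592, 1593, 1728, 1729, 1736, 1737, 1776, 1777, 1784, 1785, 1798, 1799, 1802, 1803, 1824,
   1825, 1836, 1837, 1920, 1921, 1932, 1933, 1952, 1953, 1964, 1965]

/-- The mask after `certN`. -/
def iN : ℕ := 0x800801100110800801102002011020020110011040044004800820024004100102021010101002021010040410100404101010100808080802020404080801010044110011000044110000881100008811001100002200220044008800220011824100000000824100002481000024810000000048214821824124814821111e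

/-- The mask of excluded points after `certN`. -/
def oN : ℕ := 0x6000000000000000040010010000100000200000100110000000000100016006010180000000010000000a000000000000000020010101000001000000010a0a001100008000001000000011040000100000000000c0000000010001000000cc00060000000061160000000a00001a1a00000000000c11cc61161a1a11cc6ac0

/-- The starting mask. -/
def start : ℕ := put (put (put (put (put (put 0 1) 4) 16) 64) 256) 21

theorem certN_eq : certN.foldl step (start, 0) = (iN, oN) := by decide +kernel

theorem cert0_eq : (cert0.foldl step (put iN 1024, oN)).1 = M0mask := by decide +kernel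

theorem cert1_eq : contra (cert1.foldl step (put iN 1028, oN)) 321 1836 = true := by decide +kernel

theorem cert2_eq : contra (cert2.foldl step (put iN 3076, oN)) 387 1964 = true := by decide +kernel

theorem cert3_eq : contra (cert3.foldl step (put iN 2052, oN)) 4 1122 = true := by decide +kernel

/-- The codes of the non-members: sum of two orthogonal members. -/
def outMask : ℕ := outPairs.foldr (fun p m => put m (Nat.xor p.1 p.2)) 0

/-- Validity of a pair. -/
def pairOk (p : ℕ × ℕ) : Bool :=
  tb M0mask p.1 && tb M0mask p.2 && orth p.1 p.2 && !(mult p.1 p.2) && ptOk (Nat.xor p.1 p.2)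

theorem pairs_ok : outPairs.all pairOk = true := by decide +kernel

theorem cover : ∀ x < 64, ∀ y < 64, isPt (64 * x + y) = true →
    (tb M0mask (64 * x + y) || tb outMask (64 * x + y)) = true := by decide +kernel

/-! ### Soundness -/

theorem tb_eq (m n : ℕ) : tb m n = m.testBit n := by
  have h : ∀ k : ℕ, Nat.beq (k &&& 1) 1 = ((1 &&& k) != 0) := by
    intro k
    rw [Nat.and_comm 1 k, Nat.and_one_is_mod]
    rcases Nat.mod_two_eq_zero_or_one k with h | h <;> rw [h] <;> rfl
  exact h (m >>> n)

theorem tb_put (m c x : ℕ) :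
    tb (put m c) x = (tb m x || (decide (x = c) || (decide (x = w c) ||
      decide (x = w (w c))))) := by
  have h : ∀ y : ℕ, (1 <<< y).testBit x = decide (x = y) := by
    intro y
    rw [Nat.one_shiftLeft, Nat.testBit_two_pow]
    exact decide_eq_decide.2 eq_comm
  simp only [tb_eq]
  show (m ||| ((1 <<< c) ||| ((1 <<< w c) ||| (1 <<< w (w c))))).testBit x = _
  simp only [Nat.testBit_or, h]

theorem beq_iff {a c : ℕ} : Nat.beq a c = true ↔ a = c := by
  rw [Nat.beq_eq]

theorem beq_false_iff {a c : ℕ} : Nat.beq a c = false ↔ a ≠ c := by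
  rw [← Bool.not_eq_true, beq_iff]

/-- The invariant of the deduction. -/
structure Inv (S : ℕ → Prop) (s : ℕ × ℕ) : Prop where
  ins : ∀ c, tb s.1 c = true → isPt c = true ∧ S c
  outs : ∀ c, tb s.2 c = true → isPt c = true ∧ ¬ S c

theorem ptOk_spec {c : ℕ} (h : ptOk c = true) :
    isPt c = true ∧ isPt (w c) = true ∧ isPt (w (w c)) = true ∧ w (w (w c)) = c := by
  simp only [ptOk, Bool.and_eq_true, beq_iff, and_assoc] at h
  exact h

variable {S : ℕ → Prop}

theorem Inv.put_in (hS : Hyp S) {s : ℕ × ℕ} (h : Inv S s) {c : ℕ} (hc : ptOk c = true)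
    (hSc : S c) : Inv S (put s.1 c, s.2) := by
  obtain ⟨h1, h2, h3, -⟩ := ptOk_spec hc
  refine ⟨fun x hx => ?_, h.outs⟩
  simp only [tb_put, Bool.or_eq_true, decide_eq_true_eq] at hx
  rcases hx with hx | rfl | rfl | rfl
  · exact h.ins x hx
  · exact ⟨h1, hSc⟩
  · exact ⟨h2, hS.smul _ h1 hSc⟩
  · exact ⟨h3, hS.smul _ h2 (hS.smul _ h1 hSc)⟩

theorem Inv.put_out (hS : Hyp S) {s : ℕ × ℕ} (h : Inv S s) {c : ℕ} (hc : ptOk c = true)
    (hSc : ¬ S c) : Inv S (s.1, put s.2 c) := by
  obtain ⟨h1, h2, h3, h4⟩ := ptOk_spec hc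
  refine ⟨h.ins, fun x hx => ?_⟩
  simp only [tb_put, Bool.or_eq_true, decide_eq_true_eq] at hx
  rcases hx with hx | rfl | rfl | rfl
  · exact h.outs x hx
  · exact ⟨h1, hSc⟩
  · refine ⟨h2, fun h5 => hSc ?_⟩
    have := hS.smul _ h3 (hS.smul _ h2 h5)
    rwa [h4] at this
  · refine ⟨h3, fun h5 => hSc ?_⟩
    have := hS.smul _ h3 h5
    rwa [h4] at this

theorem Inv.step (hS : Hyp S) {s : ℕ × ℕ} (h : Inv S s) (op : Op) : Inv S (step s op) := by
  cases op with
  | H a c =>
    simp only [HermCode.step]
    split_ifs with hc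
    · simp only [Bool.and_eq_true] at hc
      obtain ⟨⟨⟨ha, hc⟩, h1⟩, h2⟩ := hc
      exact h.put_in hS h2 (hS.third a c (h.ins a ha).1 (h.ins c hc).1 h1 (h.ins a ha).2
        (h.ins c hc).2)
    · exact h
  | HO a c =>
    simp only [HermCode.step]
    split_ifs with hc
    · simp only [Bool.and_eq_true] at hc
      obtain ⟨⟨⟨ha, hc⟩, h1⟩, h2⟩ := hc
      refine h.put_out hS h2 fun h3 => (h.outs c hc).2 ?_
      have := hS.third a (a ^^^ c) (h.ins a ha).1 (ptOk_spec h2).1 h1 (h.ins a ha).2 h3
      rwa [Nat.xor_xor_cancel_left] at this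
    · exact h
  | L2 a c =>
    simp only [HermCode.step]
    split_ifs with hc
    · simp only [Bool.and_eq_true, Bool.not_eq_true'] at hc
      obtain ⟨⟨⟨⟨ha, hc⟩, h1⟩, h2⟩, h3⟩ := hc
      refine h.put_out hS h3 ?_
      rcases hS.line a c (h.ins a ha).1 (h.ins c hc).1 h1 h2 (h.ins a ha).2 with h4 | h4 | h4 | h4
      · exact h4.2.1
      · exact absurd (h.ins c hc).2 h4.1
      · exact absurd (h.ins c hc).2 h4.1
      · exact absurd (h.ins c hc).2 h4.1
    · exact h
  | L1 a c =>
    simp only [HermCode.step]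
    split_ifs with hc
    · simp only [Bool.and_eq_true, Bool.not_eq_true'] at hc
      obtain ⟨⟨⟨⟨⟨⟨ha, hc⟩, h5⟩, h6⟩, h1⟩, h2⟩, h3⟩ := hc
      refine h.put_in hS h3 ?_
      rcases hS.line a c (h.ins a ha).1 (h.outs c hc).1 h1 h2 (h.ins a ha).2 with h4 | h4 | h4 | h4
      · exact absurd h4.1 (h.outs c hc).2
      · exact absurd h4.2.1 (h.outs _ h5).2
      · exact absurd h4.2.2.1 (h.outs _ h6).2
      · exact h4.2.2.2
    · exact h

theorem Inv.foldl (hS : Hyp S) (l : List Op) {s : ℕ × ℕ} (h : Inv S s) :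
    Inv S (l.foldl HermCode.step s) := by
  induction l generalizing s with
  | nil => exact h
  | cons op l ih => exact ih (h.step hS op)

theorem Inv.not_contra (hS : Hyp S) {s : ℕ × ℕ} (h : Inv S s) {a c : ℕ}
    (hc : contra s a c = true) : False := by
  simp only [contra, Bool.and_eq_true, Bool.not_eq_true'] at hc
  obtain ⟨⟨⟨⟨⟨⟨ha, hc⟩, h5⟩, h6⟩, h7⟩, h1⟩, h2⟩ := hc
  rcases hS.line a c (h.ins a ha).1 (h.outs c hc).1 h1 h2 (h.ins a ha).2 with h4 | h4 | h4 | h4
  · exact (h.outs c hc).2 h4.1
  · exact (h.outs _ h5).2 h4.2.1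
  · exact (h.outs _ h6).2 h4.2.2.1
  · exact (h.outs _ h7).2 h4.2.2.2

theorem blt_iff {a c : ℕ} : Nat.blt a c = true ↔ a < c := by
  show Nat.ble (a + 1) c = true ↔ _
  rw [Nat.ble_eq]
  exact Iff.rfl

theorem isPt_iff {c : ℕ} : isPt c = true ↔ c < 4096 ∧ c ≠ 0 ∧ orth c c = true := by
  simp only [isPt, Bool.and_eq_true, blt_iff, Bool.not_eq_true', beq_false_iff, and_assoc]

theorem isPt_lt {c : ℕ} (h : isPt c = true) : c < 4096 := (isPt_iff.1 h).1

theorem cover' {c : ℕ} (h : isPt c = true) :
    tb M0mask c = true ∨ tb outMask c = true := by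
  have h1 := isPt_lt h
  have h2 : 64 * (c / 64) + c % 64 = c := Nat.div_add_mod c 64
  have := cover (c / 64) (by omega) (c % 64) (by omega) (by rw [h2]; exact h)
  rw [h2, Bool.or_eq_true] at this
  exact this

theorem mem_outMask (l : List (ℕ × ℕ)) {c : ℕ}
    (h : tb (l.foldr (fun p m => put m (Nat.xor p.1 p.2)) 0) c = true) :
    ∃ p ∈ l, c = p.1 ^^^ p.2 ∨ c = w (p.1 ^^^ p.2) ∨ c = w (w (p.1 ^^^ p.2)) := by
  induction l with
  | nil => rw [tb_eq] at h; simp at h
  | cons q l ih =>
    simp only [List.foldr_cons, tb_put, Bool.or_eq_true, decide_eq_true_eq] at h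
    rcases h with h | h
    · obtain ⟨p, hp, h⟩ := ih h
      exact ⟨p, List.mem_cons_of_mem _ hp, h⟩
    · exact ⟨q, List.mem_cons_self, h⟩

theorem init_inv (hS : Hyp S) (h0 : S 1) (h1 : S 4) (h2 : S 16) (h3 : S 64) (h4 : S 256)
    (h5 : S 21) : Inv S (start, 0) := by
  have e : Inv S (0, 0) := ⟨fun c hc => by rw [tb_eq] at hc; simp at hc,
    fun c hc => by rw [tb_eq] at hc; simp at hc⟩
  have e0 := e.put_in hS (c := 1) (by decide +kernel) h0
  have e1 := e0.put_in hS (c := 4) (by decide +kernel) h1
  have e2 := e1.put_in hS (c := 16) (by decide +kernel) h2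
  have e3 := e2.put_in hS (c := 64) (by decide +kernel) h3
  have e4 := e3.put_in hS (c := 256) (by decide +kernel) h4
  exact e4.put_in hS (c := 21) (by decide +kernel) h5

/-- The hyperovals of `H(5,4)` closed under third points: after normalisation there is just one. -/
theorem unique (hS : Hyp S) (h0 : S 1) (h1 : S 4) (h2 : S 16) (h3 : S 64) (h4 : S 256)
    (h5 : S 21) {c : ℕ} (hc : isPt c = true) : S c ↔ tb M0mask c = true := by
  have hN : Inv S (iN, oN) := by
    rw [← certN_eq]
    exact (init_inv hS h0 h1 h2 h3 h4 h5).foldl hS certN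
  have hfin : ∀ c, tb M0mask c = true → isPt c = true ∧ S c := by
    have e1 : 4 ^^^ 1024 = 1028 := by decide
    have e2 : 4 ^^^ w 1024 = 2052 := by decide
    have e3 : 4 ^^^ w (w 1024) = 3076 := by decide
    have := hS.line 4 1024 (by decide +kernel) (by decide +kernel) (by decide +kernel)
      (by decide +kernel) h1
    rw [e1, e2, e3] at this
    rcases this with h | h | h | h
    · have := (hN.put_in hS (c := 1024) (by decide +kernel) h.1).foldl hS cert0
      rw [← cert0_eq]
      exact this.ins
    · exact ((hN.put_in hS (c := 1028) (by decide +kernel) h.2.1).foldl hS cert1).not_contra hS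
        cert1_eq |>.elim
    · exact ((hN.put_in hS (c := 2052) (by decide +kernel) h.2.2.1).foldl hS cert3).not_contra hS
        cert3_eq |>.elim
    · exact ((hN.put_in hS (c := 3076) (by decide +kernel) h.2.2.2).foldl hS cert2).not_contra hS
        cert2_eq |>.elim
  refine ⟨fun h => ?_, fun h => (hfin c h).2⟩
  by_contra hn
  rcases cover' hc with h6 | h6
  · exact hn h6
  obtain ⟨p, hp, h7⟩ := mem_outMask _ h6
  have hok := List.all_eq_true.1 pairs_ok p hp
  simp only [pairOk, Bool.and_eq_true, Bool.not_eq_true'] at hok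
  obtain ⟨⟨⟨⟨a1, a2⟩, a3⟩, a4⟩, a5⟩ := hok
  obtain ⟨b1, b2, b3, b4⟩ := ptOk_spec a5
  have hns : ¬ S (p.1 ^^^ p.2) := by
    rcases hS.line p.1 p.2 (hfin _ a1).1 (hfin _ a2).1 a3 a4 (hfin _ a1).2 with h8 | h8 | h8 | h8
    · exact h8.2.1
    · exact absurd (hfin _ a2).2 h8.1
    · exact absurd (hfin _ a2).2 h8.1
    · exact absurd (hfin _ a2).2 h8.1
  rcases h7 with rfl | rfl | rfl
  · exact hns h
  · apply hns
    have := hS.smul _ b3 (hS.smul _ b2 h)
    rw [b4] at this
    exact this
  · apply hns
    have := hS.smul _ b3 h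
    rw [b4] at this
    exact this

/-! ### The form in terms of bits -/

theorem PT_spec : ∀ x < 64, ∀ y < 64, tb PT (64 * x + y) =
    ((64 * x + y).testBit 0 ^^ ((64 * x + y).testBit 1 ^^ ((64 * x + y).testBit 2 ^^
    ((64 * x + y).testBit 3 ^^ ((64 * x + y).testBit 4 ^^ ((64 * x + y).testBit 5 ^^
    ((64 * x + y).testBit 6 ^^ ((64 * x + y).testBit 7 ^^ ((64 * x + y).testBit 8 ^^
    ((64 * x + y).testBit 9 ^^ ((64 * x + y).testBit 10 ^^
    (64 * x + y).testBit 11))))))))))) := by decide +kernel

theorem PT_spec' {n : ℕ} (hn : n < 4096) : tb PT n =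
    (n.testBit 0 ^^ (n.testBit 1 ^^ (n.testBit 2 ^^ (n.testBit 3 ^^ (n.testBit 4 ^^
    (n.testBit 5 ^^ (n.testBit 6 ^^ (n.testBit 7 ^^ (n.testBit 8 ^^ (n.testBit 9 ^^
    (n.testBit 10 ^^ n.testBit 11))))))))))) := by
  have h2 : 64 * (n / 64) + n % 64 = n := Nat.div_add_mod n 64
  have := PT_spec (n / 64) (by omega) (n % 64) (by omega)
  rwa [h2] at this

theorem k3 : ∀ i < 24, Nat.testBit 3 i = (i == 0 || i == 1) := by decide
theorem k12 : ∀ i < 24, Nat.testBit 12 i = (i == 2 || i == 3) := by decide
theorem k48 : ∀ i < 24, Nat.testBit 48 i = (i == 4 || i == 5) := by decide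
theorem k1365 : ∀ i < 24, Nat.testBit 1365 i = (i % 2 == 0 && decide (i < 12)) := by decide
theorem k2730 : ∀ i < 24, Nat.testBit 2730 i = (i % 2 == 1 && decide (i < 12)) := by decide

theorem testBit_rev (c : ℕ) : ∀ i < 12, (rev c).testBit i =
    c.testBit (if i % 2 = 0 then 10 - i else 12 - i) := by
  intro i hi
  have : (rev c) = ((c &&& 3) <<< 10 ||| ((c &&& 12) <<< 6 ||| ((c &&& 48) <<< 2 |||
    ((c >>> 2) &&& 48 ||| ((c >>> 6) &&& 12 ||| (c >>> 10) &&& 3))))) := rfl
  rw [this]
  simp only [Nat.testBit_shiftLeft, Nat.testBit_shiftRight, Nat.testBit_and,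
    Nat.testBit_or]
  interval_cases i <;> simp [k3, k12, k48]

theorem testBit_swp (c : ℕ) : ∀ i < 12, (swp c).testBit i =
    c.testBit (if i % 2 = 0 then i + 1 else i - 1) := by
  intro i hi
  have : (swp c) = (((c >>> 1) &&& 1365) ||| ((c <<< 1) &&& 2730)) := rfl
  rw [this]
  simp only [Nat.testBit_shiftLeft, Nat.testBit_shiftRight, Nat.testBit_and,
    Nat.testBit_or]
  interval_cases i <;> simp [k1365, k2730]

theorem testBit_cnj (c : ℕ) : ∀ i < 12, (cnj c).testBit i =
    (c.testBit i ^^ (i % 2 == 0 && c.testBit (i + 1))) := by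
  intro i hi
  have : (cnj c) = (c ^^^ ((c >>> 1) &&& 1365)) := rfl
  rw [this]
  simp only [Nat.testBit_shiftRight, Nat.testBit_and, Nat.testBit_xor]
  interval_cases i <;> simp [k1365]

theorem testBit_w (c : ℕ) : ∀ i < 12, (w c).testBit i =
    (c.testBit (if i % 2 = 0 then i + 1 else i) ^^ (i % 2 == 1 && c.testBit (i - 1))) := by
  intro i hi
  have : (w c) = (((c >>> 1) &&& 1365) ||| ((c ^^^ (c <<< 1)) &&& 2730)) := rfl
  rw [this]
  simp only [Nat.testBit_shiftRight, Nat.testBit_shiftLeft, Nat.testBit_and, Nat.testBit_or,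
    Nat.testBit_xor]
  interval_cases i <;> simp [k1365, k2730]

theorem w_lt (c : ℕ) : w c < 4096 := by
  have h1 : (c >>> 1) &&& 1365 ≤ 1365 := Nat.and_le_right
  have h2 : (c ^^^ (c <<< 1)) &&& 2730 ≤ 2730 := Nat.and_le_right
  have h3 := Nat.or_lt_two_pow (x := (c >>> 1) &&& 1365) (y := (c ^^^ (c <<< 1)) &&& 2730)
    (n := 12) (by omega) (by omega)
  exact h3

theorem hHi_spec {a : ℕ} (ha : a < 4096) (c : ℕ) : hHi a c =
    ((a.testBit 0 && c.testBit 11) ^^ ((a.testBit 1 && c.testBit 10) ^^
    ((a.testBit 2 && c.testBit 9) ^^ ((a.testBit 3 && c.testBit 8) ^^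
    ((a.testBit 4 && c.testBit 7) ^^ ((a.testBit 5 && c.testBit 6) ^^
    ((a.testBit 6 && c.testBit 5) ^^ ((a.testBit 7 && c.testBit 4) ^^
    ((a.testBit 8 && c.testBit 3) ^^ ((a.testBit 9 && c.testBit 2) ^^
    ((a.testBit 10 && c.testBit 1) ^^ (a.testBit 11 && c.testBit 0)))))))))))) := by
  have h : hHi a c = tb PT (a &&& swp (rev c)) := rfl
  rw [h, PT_spec' (lt_of_le_of_lt Nat.and_le_left ha)]
  simp [Nat.testBit_and, testBit_swp, testBit_rev, -Nat.testBit_zero]

theorem hLo_spec {a : ℕ} (ha : a < 4096) (c : ℕ) : hLo a c =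
    ((a.testBit 0 && (c.testBit 10 ^^ c.testBit 11)) ^^ ((a.testBit 1 && c.testBit 11) ^^
    ((a.testBit 2 && (c.testBit 8 ^^ c.testBit 9)) ^^ ((a.testBit 3 && c.testBit 9) ^^
    ((a.testBit 4 && (c.testBit 6 ^^ c.testBit 7)) ^^ ((a.testBit 5 && c.testBit 7) ^^
    ((a.testBit 6 && (c.testBit 4 ^^ c.testBit 5)) ^^ ((a.testBit 7 && c.testBit 5) ^^
    ((a.testBit 8 && (c.testBit 2 ^^ c.testBit 3)) ^^ ((a.testBit 9 && c.testBit 3) ^^
    ((a.testBit 10 && (c.testBit 0 ^^ c.testBit 1)) ^^
    (a.testBit 11 && c.testBit 1)))))))))))) := by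
  have h : hLo a c = tb PT (a &&& cnj (rev c)) := rfl
  rw [h, PT_spec' (lt_of_le_of_lt Nat.and_le_left ha)]
  simp [Nat.testBit_and, testBit_cnj, testBit_rev, -Nat.testBit_zero]

/-! ### Counting -/

/-- The smallest multiple. -/
def canon (c : ℕ) : Bool := Nat.ble c (w c) && Nat.ble c (w (w c))

/-- The codes, one for each point. -/
def pts : List ℕ :=
  [1, 4, 5, 6, 7, 16, 17, 18, 19, 20, 21, 22, 23, 24, 25, 26, 27, 28, 29, 30, 31, 64, 65, 66,
   67, 68, 69, 70, 71, 72, 73, 74, 75, 76, 77, 78, 79, 80, 81, 82, 83, 84, 85, 86, 87, 88, 89,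
   90, 91, 92, 93, 94, 95, 256, 257, 258, 259, 260, 261, 262, 263, 272, 273, 274, 275, 276, 277,
   278, 279, 288, 289, 290, 291, 292, 293, 294, 295, 304, 305, 306, 307, 308, 309, 310, 311,
   320, 321, 322, 323, 324, 325, 326, 327, 336, 337, 338, 339, 340, 341, 342, 343, 360, 361,
   362, 363, 364, 365, 366, 367, 376, 377, 378, 379, 380, 381, 382, 383, 384, 385, 386, 387,
   388, 389, 390, 391, 408, 409, 410, 411, 412, 413, 414, 415, 416, 417, 418, 419, 420, 421,
   422, 423, 440, 441, 442, 443, 444, 445, 446, 447, 448, 449, 450, 451, 452, 453, 454, 455,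
   472, 473, 474, 475, 476, 477, 478, 479, 488, 489, 490, 491, 492, 493, 494, 495, 496, 497,
   498, 499, 500, 501, 502, 503, 1024, 1025, 1028, 1029, 1032, 1033, 1036, 1037, 1040, 1041,
   1044, 1045, 1048, 1049, 1052, 1053, 1056, 1057, 1060, 1061, 1064, 1065, 1068, 1069, 1072,
   1073, 1076, 1077, 1080, 1081, 1084, 1085, 1088, 1089, 1092, 1093, 1096, 1097, 1100, 1101,
   1104, 1105, 1108, 1109, 1112, 1113, 1116, 1117, 1122, 1123, 1126, 1127, 1130, 1131, 1134,
   1135, 1138, 1139, 1142, 1143, 1146, 1147, 1150, 1151, 1152, 1153, 1156, 1157, 1160, 1161,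
   1164, 1165, 1170, 1171, 1174, 1175, 1178, 1179, 1182, 1183, 1184, 1185, 1188, 1189, 1192,
   1193, 1196, 1197, 1202, 1203, 1206, 1207, 1210, 1211, 1214, 1215, 1216, 1217, 1220, 1221,
   1224, 1225, 1228, 1229, 1234, 1235, 1238, 1239, 1242, 1243, 1246, 1247, 1250, 1251, 1254,
   1255, 1258, 1259, 1262, 1263, 1264, 1265, 1268, 1269, 1272, 1273, 1276, 1277, 1280, 1281,
   1284, 1285, 1290, 1291, 1294, 1295, 1296, 1297, 1300, 1301, 1306, 1307, 1310, 1311, 1312,
   1313, 1316, 1317, 1322, 1323, 1326, 1327, 1328, 1329, 1332, 1333, 1338, 1339, 1342, 1343,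
   1344, 1345, 1348, 1349, 1354, 1355, 1358, 1359, 1360, 1361, 1364, 1365, 1370, 1371, 1374,
   1375, 1378, 1379, 1382, 1383, 1384, 1385, 1388, 1389, 1394, 1395, 1398, 1399, 1400, 1401,
   1404, 1405, 1408, 1409, 1412, 1413, 1418, 1419, 1422, 1423, 1426, 1427, 1430, 1431, 1432,
   1433, 1436, 1437, 1440, 1441, 1444, 1445, 1450, 1451, 1454, 1455, 1458, 1459, 1462, 1463,
   1464, 1465, 1468, 1469, 1472, 1473, 1476, 1477, 1482, 1483, 1486, 1487, 1490, 1491, 1494,
   1495, 1496, 1497, 1500, 1501, 1506, 1507, 1510, 1511, 1512, 1513, 1516, 1517, 1520, 1521,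
   1524, 1525, 1530, 1531, 1534, 1535, 1536, 1537, 1542, 1543, 1544, 1545, 1550, 1551, 1552,
   1553, 1558, 1559, 1560, 1561, 1566, 1567, 1568, 1569, 1574, 1575, 1576, 1577, 1582, 1583,
   1584, 1585, 1590, 1591, 1592, 1593, 1598, 1599, 1600, 1601, 1606, 1607, 1608, 1609, 1614,
   1615, 1616, 1617, 1622, 1623, 1624, 1625, 1630, 1631, 1634, 1635, 1636, 1637, 1642, 1643,
   1644, 1645, 1650, 1651, 1652, 1653, 1658, 1659, 1660, 1661, 1664, 1665, 1670, 1671, 1672,
   1673, 1678, 1679, 1682, 1683, 1684, 1685, 1690, 1691, 1692, 1693, 1696, 1697, 1702, 1703,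
   1704, 1705, 1710, 1711, 1714, 1715, 1716, 1717, 1722, 1723, 1724, 1725, 1728, 1729, 1734,
   1735, 1736, 1737, 1742, 1743, 1746, 1747, 1748, 1749, 1754, 1755, 1756, 1757, 1762, 1763,
   1764, 1765, 1770, 1771, 1772, 1773, 1776, 1777, 1782, 1783, 1784, 1785, 1790, 1791, 1792,
   1793, 1798, 1799, 1802, 1803, 1804, 1805, 1808, 1809, 1814, 1815, 1818, 1819, 1820, 1821,
   1824, 1825, 1830, 1831, 1834, 1835, 1836, 1837, 1840, 1841, 1846, 1847, 1850, 1851, 1852,
   1853, 1856, 1857, 1862, 1863, 1866, 1867, 1868, 1869, 1872, 1873, 1878, 1879, 1882, 1883,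
   1884, 1885, 1890, 1891, 1892, 1893, 1896, 1897, 1902, 1903, 1906, 1907, 1908, 1909, 1912,
   1913, 1918, 1919, 1920, 1921, 1926, 1927, 1930, 1931, 1932, 1933, 1938, 1939, 1940, 1941,
   1944, 1945, 1950, 1951, 1952, 1953, 1958, 1959, 1962, 1963, 1964, 1965, 1970, 1971, 1972,
   1973, 1976, 1977, 1982, 1983, 1984, 1985, 1990, 1991, 1994, 1995, 1996, 1997, 2002, 2003,
   2004, 2005, 2008, 2009, 2014, 2015, 2018, 2019, 2020, 2021, 2024, 2025, 2030, 2031, 2032,
   2033, 2038, 2039, 2042, 2043, 2044, 2045]

/-- Strictly increasing from a bound. -/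
def incr : ℕ → List ℕ → Bool
  | _, [] => true
  | n, a :: l => Nat.blt n a && incr a l

theorem incr_spec : ∀ (l : List ℕ) (n : ℕ), incr n l = true → (∀ a ∈ l, n < a) ∧ l.Nodup := by
  intro l
  induction l with
  | nil => intro n _; simp
  | cons a l ih =>
    intro n h
    simp only [incr, Bool.and_eq_true, blt_iff] at h
    obtain ⟨h1, h2⟩ := ih a h.2
    refine ⟨fun b hb => ?_, ?_⟩
    · rcases List.mem_cons.1 hb with rfl | hb
      · exact h.1
      · exact h.1.trans (h1 b hb)
    · rw [List.nodup_cons]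
      exact ⟨fun h3 => lt_irrefl _ (h1 a h3), h2⟩

theorem pts_nodup : pts.Nodup := (incr_spec pts 0 (by decide +kernel)).2

theorem pts_length : pts.length = 693 := by decide +kernel

theorem pts_ok : pts.all (fun c => isPt c && canon c) = true := by decide +kernel

/-- The mask of the codes of points. -/
def ptsMask : ℕ := pts.foldr (fun c m => Nat.lor m (Nat.shiftLeft 1 c)) 0

theorem pts_cover : ∀ x < 64, ∀ y < 64, (isPt (64 * x + y) && canon (64 * x + y)) = true →
    tb ptsMask (64 * x + y) = true := by decide +kernel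

theorem mem_pts {c : ℕ} : c ∈ pts ↔ isPt c = true ∧ canon c = true := by
  constructor
  · intro h
    have := List.all_eq_true.1 pts_ok c h
    simpa only [Bool.and_eq_true] using this
  · rintro ⟨h, h'⟩
    have h1 := isPt_lt h
    have h2 : 64 * (c / 64) + c % 64 = c := Nat.div_add_mod c 64
    have h3 := pts_cover (c / 64) (by omega) (c % 64) (by omega)
      (by rw [h2, h, h']; rfl)
    rw [h2, tb_eq] at h3
    have h4 : ∀ l : List ℕ, (l.foldr (fun c m => Nat.lor m (Nat.shiftLeft 1 c)) 0).testBit c = true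
        → c ∈ l := by
      intro l
      induction l with
      | nil => intro h; simp at h
      | cons a l ih =>
        intro h
        rw [List.foldr_cons] at h
        have h5 : (l.foldr (fun c m => Nat.lor m (Nat.shiftLeft 1 c)) 0 ||| (1 <<< a)).testBit c
            = true := h
        rw [Nat.testBit_or, Nat.one_shiftLeft, Nat.testBit_two_pow, Bool.or_eq_true,
          decide_eq_true_eq] at h5
        rcases h5 with h5 | h5
        · exact List.mem_cons_of_mem _ (ih h5)
        · rw [h5]; exact List.mem_cons_self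
    exact h4 pts h3

theorem count_M0 : (pts.filter (fun c => tb M0mask c)).length = 126 := by decide +kernel

theorem count_not_orth : (pts.filter (fun c => !(orth 1 c))).length = 512 := by decide +kernel

theorem near_M0 : pts.all (fun c => M0list.any (fun m => orth c m)) = true := by decide +kernel

theorem M0list_ok : M0list.all (fun m => tb M0mask m && isPt m) = true := by decide +kernel

end Cfsg.Agent.R01.HermCode
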