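import Cfsg.Agent.SporadicStructure.UnitTwo
import Cfsg.Agent.ClassicalGeometry.HermFrame

/-!
Rigidity of the Hermitian polar space `H(5,4)` inside a group: a map commuting with the commuting relation and
trivial on a totally isotropic plane is conjugation by a product of elements of that plane.
-/

set_option autoImplicit false
set_option linter.unusedSectionVars false

namespace Cfsg.Agent.R01.HermRigid

open Cfsg Cfsg.Agent.LieClassical.HermBasic Cfsg.Agent.SporadicStructure.UnitTwo

/-- `lab` labels the set `S` of a group by the isotropic points of the Hermitian space `F ^ n`, `|F| = 4`. -/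
structure Labels {M : Type*} [Group M] (S : Set M) (n : ℕ) (F : Type*) [Field F]
    (lab : (Fin n → F) → M) : Prop where
  mem : ∀ v : Fin n → F, v ≠ 0 → hermForm n F 2 v v = 0 → lab v ∈ S
  surj : ∀ s ∈ S, ∃ v : Fin n → F, v ≠ 0 ∧ hermForm n F 2 v v = 0 ∧ s = lab v
  smul : ∀ v : Fin n → F, v ≠ 0 → hermForm n F 2 v v = 0 → ∀ c : F, c ≠ 0 → lab (c • v) = lab v
  inj : ∀ v w : Fin n → F, v ≠ 0 → w ≠ 0 → hermForm n F 2 v v = 0 → hermForm n F 2 w w = 0 →
    lab v = lab w → ∃ c : F, c ≠ 0 ∧ w = c • v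
  comm : ∀ v w : Fin n → F, v ≠ 0 → w ≠ 0 → hermForm n F 2 v v = 0 → hermForm n F 2 w w = 0 →
    (Commute (lab v) (lab w) ↔ hermForm n F 2 v w = 0)
  sq : ∀ v : Fin n → F, v ≠ 0 → hermForm n F 2 v v = 0 → lab v * lab v = 1
  conj : ∀ v w : Fin n → F, v ≠ 0 → w ≠ 0 → hermForm n F 2 v v = 0 → hermForm n F 2 w w = 0 →
    lab v * lab w * lab v = lab (w + hermForm n F 2 w v • v)

variable {F : Type*} [Field F] [Fintype F] (hF : Fintype.card F = 2 ^ 2)
include hF

/-- Proportionality from equal zero sets. -/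
theorem exists_smul {ι : Type*} [Fintype ι] [DecidableEq ι] {b d : ι → F} (hb : b ≠ 0)
    (h : ∀ c : ι → F, ∑ i, c i * b i = 0 → ∑ i, c i * d i = 0) : ∃ m : F, d = m • b := by
  obtain ⟨k, hk⟩ := Function.ne_iff.1 hb
  have hk : b k ≠ 0 := hk
  refine ⟨d k * (b k)⁻¹, funext fun j => ?_⟩
  by_cases hj : j = k
  · subst hj
    rw [Pi.smul_apply, smul_eq_mul, mul_assoc, inv_mul_cancel₀ hk, mul_one]
  · have h1 := h (fun i => if i = j then b k else if i = k then - b j else 0) ?_
    · have h2 : ∑ i, (if i = j then b k else if i = k then - b j else 0) * d i =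
          b k * d j - b j * d k := by
        have h3 : ∀ i, (if i = j then b k else if i = k then - b j else 0) * d i =
            (if i = j then b k * d j else 0) + (if i = k then - b j * d k else 0) := by
          intro i
          by_cases h4 : i = j
          · subst h4
            rw [if_pos rfl, if_pos rfl, if_neg hj, add_zero]
          · rw [if_neg h4, if_neg h4, zero_add]
            by_cases h5 : i = k
            · subst h5
              rw [if_pos rfl, if_pos rfl]
            · rw [if_neg h5, if_neg h5, zero_mul]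
        rw [Finset.sum_congr rfl (fun i _ => h3 i), Finset.sum_add_distrib,
          Finset.sum_ite_eq', Finset.sum_ite_eq', if_pos (Finset.mem_univ _),
          if_pos (Finset.mem_univ _)]
        ring
      rw [h2] at h1
      rw [Pi.smul_apply, smul_eq_mul]
      field_simp
      linear_combination h1
    · have h3 : ∀ i, (if i = j then b k else if i = k then - b j else 0) * b i =
          (if i = j then b k * b j else 0) + (if i = k then - b j * b k else 0) := by
        intro i
        by_cases h4 : i = j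
        · subst h4
          rw [if_pos rfl, if_pos rfl, if_neg hj, add_zero]
        · rw [if_neg h4, if_neg h4, zero_add]
          by_cases h5 : i = k
          · subst h5
            rw [if_pos rfl, if_pos rfl]
          · rw [if_neg h5, if_neg h5, zero_mul]
      rw [Finset.sum_congr rfl (fun i _ => h3 i), Finset.sum_add_distrib,
        Finset.sum_ite_eq', Finset.sum_ite_eq', if_pos (Finset.mem_univ _),
        if_pos (Finset.mem_univ _)]
      ring

/-- A vector with prescribed values of two independent functionals. -/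
theorem exists_two {ι : Type*} [Fintype ι] [DecidableEq ι] {b d : ι → F} (hb : b ≠ 0)
    (hd : ∀ m : F, d ≠ m • b) : ∃ c : ι → F, ∑ i, c i * b i = 1 ∧ ∑ i, c i * d i = 1 := by
  have h1 : ∃ c : ι → F, ∑ i, c i * b i = 0 ∧ ∑ i, c i * d i ≠ 0 := by
    by_contra hcon
    push Not at hcon
    obtain ⟨m, hm⟩ := exists_smul hF hb hcon
    exact hd m hm
  obtain ⟨c1, h1, h2⟩ := h1
  obtain ⟨k, hk⟩ := Function.ne_iff.1 hb
  have hk : b k ≠ 0 := hk
  set c0 : ι → F := Pi.single k (b k)⁻¹ with hc0
  have h3 : ∑ i, c0 i * b i = 1 := by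
    rw [Finset.sum_eq_single k]
    · rw [hc0, Pi.single_eq_same, inv_mul_cancel₀ hk]
    · intro i _ hi
      rw [hc0, Pi.single_eq_of_ne hi, zero_mul]
    · intro h; exact absurd (Finset.mem_univ _) h
  set t := ∑ i, c0 i * d i with ht
  refine ⟨c0 + ((1 - t) * (∑ i, c1 i * d i)⁻¹) • c1, ?_, ?_⟩
  · have : ∑ i, (c0 + ((1 - t) * (∑ i, c1 i * d i)⁻¹) • c1) i * b i =
        ∑ i, c0 i * b i + ((1 - t) * (∑ i, c1 i * d i)⁻¹) * ∑ i, c1 i * b i := by
      rw [Finset.mul_sum, ← Finset.sum_add_distrib]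
      refine Finset.sum_congr rfl fun i _ => ?_
      rw [Pi.add_apply, Pi.smul_apply, smul_eq_mul]
      ring
    rw [this, h3, h1, mul_zero, add_zero]
  · have : ∑ i, (c0 + ((1 - t) * (∑ i, c1 i * d i)⁻¹) • c1) i * d i =
        ∑ i, c0 i * d i + ((1 - t) * (∑ i, c1 i * d i)⁻¹) * ∑ i, c1 i * d i := by
      rw [Finset.mul_sum, ← Finset.sum_add_distrib]
      refine Finset.sum_congr rfl fun i _ => ?_
      rw [Pi.add_apply, Pi.smul_apply, smul_eq_mul]
      ring
    rw [this, ← ht, mul_assoc, inv_mul_cancel₀ h2, mul_one]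
    ring


/-- A hyperbolic frame of the six-dimensional Hermitian space. -/
structure Frame (e f : Fin 3 → (Fin 6 → F)) : Prop where
  ee : ∀ i j, hermForm 6 F 2 (e i) (e j) = 0
  ef : ∀ i j, hermForm 6 F 2 (e i) (f j) = if i = j then 1 else 0
  ff : ∀ i j, hermForm 6 F 2 (f i) (f j) = 0

omit [Fintype F] hF in
/-- Combination of a frame. -/
def comb (e f : Fin 3 → (Fin 6 → F)) (a b : Fin 3 → F) : Fin 6 → F :=
  ∑ i, a i • e i + ∑ i, b i • f i

section Comb

variable {e f : Fin 3 → (Fin 6 → F)} (h : Frame e f)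
include h

theorem Frame.fe (i j : Fin 3) : hermForm 6 F 2 (f i) (e j) = if i = j then 1 else 0 := by
  rw [herm_swap hF (e j) (f i), h.ef]
  by_cases hij : j = i
  · rw [if_pos hij, if_pos hij.symm, one_pow]
  · rw [if_neg hij, if_neg (Ne.symm hij), zero_pow two_ne_zero]

theorem herm_comb_e (a b : Fin 3 → F) (i : Fin 3) :
    hermForm 6 F 2 (comb e f a b) (e i) = b i := by
  rw [comb, herm_add_left, herm_sum_left, herm_sum_left]
  simp only [herm_smul_left, h.ee, Frame.fe hF h, mul_zero, Finset.sum_const_zero, zero_add,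
    mul_ite, mul_one, Finset.sum_ite_eq', Finset.mem_univ, if_true]

theorem herm_comb_f (a b : Fin 3 → F) (i : Fin 3) :
    hermForm 6 F 2 (comb e f a b) (f i) = a i := by
  rw [comb, herm_add_left, herm_sum_left, herm_sum_left]
  simp only [herm_smul_left, h.ff, h.ef, mul_zero, Finset.sum_const_zero, add_zero,
    mul_ite, mul_one, Finset.sum_ite_eq', Finset.mem_univ, if_true]

theorem herm_comb (a b c d : Fin 3 → F) :
    hermForm 6 F 2 (comb e f a b) (comb e f c d) = ∑ i, a i * d i ^ 2 + ∑ i, b i * c i ^ 2 := by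
  conv_lhs => rw [comb.eq_def e f c d]
  rw [herm_add_right hF, herm_sum_right hF, herm_sum_right hF]
  simp only [herm_smul_right, herm_comb_e hF h, herm_comb_f hF h]
  rw [add_comm]
  congr 1
  · exact Finset.sum_congr rfl fun i _ => mul_comm _ _
  · exact Finset.sum_congr rfl fun i _ => mul_comm _ _

theorem exists_comb (v : Fin 6 → F) : ∃ a b : Fin 3 → F, v = comb e f a b := by
  classical
  set T : (Fin 6 → F) →ₗ[F] (Fin 3 → F) × (Fin 3 → F) :=
    (LinearMap.pi fun i => Cfsg.Agent.ClassicalGeometry.HermFrame.leftFun 2 (f i)).prod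
      (LinearMap.pi fun i => Cfsg.Agent.ClassicalGeometry.HermFrame.leftFun 2 (e i)) with hT
  have hTapp : ∀ v, T v = (fun i => hermForm 6 F 2 v (f i), fun i => hermForm 6 F 2 v (e i)) :=
    fun v => rfl
  have hTsurj : Function.Surjective T := by
    rintro ⟨c, d⟩
    refine ⟨comb e f c d, ?_⟩
    rw [hTapp]
    refine Prod.ext ?_ ?_
    · funext j
      exact herm_comb_f hF h c d j
    · funext j
      exact herm_comb_e hF h c d j
  have hTinj : Function.Injective T := by
    refine (LinearMap.injective_iff_surjective_of_finrank_eq_finrank ?_).2 hTsurj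
    rw [Module.finrank_prod, Module.finrank_fin_fun, Module.finrank_fin_fun]
  refine ⟨fun i => hermForm 6 F 2 v (f i), fun i => hermForm 6 F 2 v (e i), hTinj ?_⟩
  rw [hTapp, hTapp]
  refine Prod.ext ?_ ?_
  · funext j
    exact (herm_comb_f hF h _ _ j).symm
  · funext j
    exact (herm_comb_e hF h _ _ j).symm

theorem comb_eq_zero {a b : Fin 3 → F} (h0 : comb e f a b = 0) : a = 0 ∧ b = 0 := by
  constructor
  · funext i
    rw [← herm_comb_f hF h a b i, h0, herm_zero_left, Pi.zero_apply]
  · funext i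
    rw [← herm_comb_e hF h a b i, h0, herm_zero_left, Pi.zero_apply]

omit [Fintype F] h hF in
theorem smul_comb (c : F) (a b : Fin 3 → F) : c • comb e f a b = comb e f (c • a) (c • b) := by
  simp only [comb, smul_add, Finset.smul_sum, Pi.smul_apply, smul_eq_mul, mul_smul]

omit [Fintype F] h hF in
theorem add_comb (a b c d : Fin 3 → F) :
    comb e f a b + comb e f c d = comb e f (a + c) (b + d) := by
  simp only [comb, Pi.add_apply, add_smul, Finset.sum_add_distrib]
  abel

end Comb

section Rigid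

variable {M : Type*} [Group M] {S : Set M} {n : ℕ} {lab : (Fin n → F) → M}

/-- A transvection preserves isotropy. -/
theorem iso_trans (x w : Fin n → F) (hx : hermForm n F 2 x x = 0) (hw : hermForm n F 2 w w = 0) :
    hermForm n F 2 (x + hermForm n F 2 x w • w) (x + hermForm n F 2 x w • w) = 0 := by
  rw [herm_add_right hF, herm_add_left, herm_add_left, herm_smul_right, herm_smul_right,
    herm_smul_left, herm_smul_left, hx, hw, herm_swap hF x w]
  have h1 := Cfsg.Agent.SporadicStructure.UnitTwo.add_self hF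
    (hermForm n F 2 x w * hermForm n F 2 x w ^ 2)
  linear_combination h1

theorem trans_ne_zero (x w : Fin n → F) (hx0 : x ≠ 0) (hw : hermForm n F 2 w w = 0) :
    x + hermForm n F 2 x w • w ≠ 0 := by
  intro h
  by_cases hxw : hermForm n F 2 x w = 0
  · rw [hxw, zero_smul, add_zero] at h
    exact hx0 h
  · have h1 : hermForm n F 2 (x + hermForm n F 2 x w • w) w = hermForm n F 2 x w := by
      rw [herm_add_left, herm_smul_left, hw, mul_zero, add_zero]
    rw [h, herm_zero_left] at h1
    exact hxw h1.symm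

/-- Conjugation by products of labels of a totally isotropic set. -/
theorem conj_list (hL : Labels S n F lab) {W : Submodule F (Fin n → F)}
    (hW : ∀ u ∈ W, ∀ v ∈ W, hermForm n F 2 u v = 0) (ws : List (Fin n → F))
    (hws : ∀ w ∈ ws, w ∈ W) :
    ∃ g ∈ Subgroup.closure (lab '' {w : Fin n → F | w ∈ W ∧ w ≠ 0}),
      ∀ v : Fin n → F, v ≠ 0 → hermForm n F 2 v v = 0 →
        v + (ws.map (fun w => hermForm n F 2 v w • w)).sum ≠ 0 ∧
        hermForm n F 2 (v + (ws.map (fun w => hermForm n F 2 v w • w)).sum)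
          (v + (ws.map (fun w => hermForm n F 2 v w • w)).sum) = 0 ∧
        g * lab v * g⁻¹ = lab (v + (ws.map (fun w => hermForm n F 2 v w • w)).sum) := by
  classical
  induction ws with
  | nil =>
    refine ⟨1, Subgroup.one_mem _, fun v hv0 hv => ?_⟩
    rw [List.map_nil, List.sum_nil, add_zero, one_mul, inv_one, mul_one]
    exact ⟨hv0, hv, rfl⟩
  | cons w ws ih =>
    obtain ⟨g, hg, hgv⟩ := ih (fun x hx => hws x (List.mem_cons_of_mem _ hx))
    have hwW : w ∈ W := hws w List.mem_cons_self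
    have hsumW : ∀ v : Fin n → F, (ws.map (fun w => hermForm n F 2 v w • w)).sum ∈ W := by
      intro v
      refine list_sum_mem ?_
      intro y hy
      obtain ⟨x, hx, rfl⟩ := List.mem_map.1 hy
      exact W.smul_mem _ (hws x (List.mem_cons_of_mem _ hx))
    by_cases hw0 : w = 0
    · refine ⟨g, hg, fun v hv0 hv => ?_⟩
      have h1 : v + ((w :: ws).map (fun w => hermForm n F 2 v w • w)).sum =
          v + (ws.map (fun w => hermForm n F 2 v w • w)).sum := by
        rw [List.map_cons, List.sum_cons, hw0, smul_zero, zero_add]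
      rw [h1]
      exact hgv v hv0 hv
    · have hww : hermForm n F 2 w w = 0 := hW w hwW w hwW
      refine ⟨lab w * g, Subgroup.mul_mem _ (Subgroup.subset_closure ⟨w, ⟨hwW, hw0⟩, rfl⟩) hg,
        fun v hv0 hv => ?_⟩
      obtain ⟨h1, h2, h3⟩ := hgv v hv0 hv
      set s := v + (ws.map (fun w => hermForm n F 2 v w • w)).sum with hs
      have h4 : hermForm n F 2 s w = hermForm n F 2 v w := by
        rw [hs, herm_add_left, hW _ (hsumW v) w hwW, add_zero]
      have h5 : v + ((w :: ws).map (fun w => hermForm n F 2 v w • w)).sum =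
          s + hermForm n F 2 s w • w := by
        rw [h4, List.map_cons, List.sum_cons, hs]
        abel
      rw [h5]
      refine ⟨trans_ne_zero hF s w h1 hww, iso_trans hF s w h2 hww, ?_⟩
      have h6 : (lab w)⁻¹ = lab w := inv_eq_of_mul_eq_one_left (hL.sq w hw0 hww)
      rw [mul_inv_rev, h6, ← hL.conj w s hw0 h1 hww h2, ← h3]
      group

/-- The same with the inverse. -/
theorem conj_list' (hL : Labels S n F lab) {W : Submodule F (Fin n → F)}
    (hW : ∀ u ∈ W, ∀ v ∈ W, hermForm n F 2 u v = 0) (ws : List (Fin n → F))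
    (hws : ∀ w ∈ ws, w ∈ W) :
    ∃ g ∈ Subgroup.closure (lab '' {w : Fin n → F | w ∈ W ∧ w ≠ 0}),
      ∀ v : Fin n → F, v ≠ 0 → hermForm n F 2 v v = 0 →
        v + (ws.map (fun w => hermForm n F 2 v w • w)).sum ≠ 0 ∧
        hermForm n F 2 (v + (ws.map (fun w => hermForm n F 2 v w • w)).sum)
          (v + (ws.map (fun w => hermForm n F 2 v w • w)).sum) = 0 ∧
        g * lab v * g⁻¹ = lab (v + (ws.map (fun w => hermForm n F 2 v w • w)).sum) ∧
        g⁻¹ * lab v * g = lab (v + (ws.map (fun w => hermForm n F 2 v w • w)).sum) := by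
  obtain ⟨g, hg, hgv⟩ := conj_list hF hL hW ws hws
  refine ⟨g, hg, fun v hv0 hv => ?_⟩
  obtain ⟨h1, h2, h3⟩ := hgv v hv0 hv
  refine ⟨h1, h2, h3, ?_⟩
  obtain ⟨-, -, h4⟩ := hgv _ h1 h2
  have hsumW : (ws.map (fun w => hermForm n F 2 v w • w)).sum ∈ W := by
    refine list_sum_mem ?_
    intro y hy
    obtain ⟨x, hx, rfl⟩ := List.mem_map.1 hy
    exact W.smul_mem _ (hws x hx)
  have h5 : ws.map (fun w => hermForm n F 2
      (v + (ws.map (fun w => hermForm n F 2 v w • w)).sum) w • w) =
      ws.map (fun w => hermForm n F 2 v w • w) := by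
    refine List.map_congr_left fun w hw => ?_
    rw [herm_add_left, hW _ hsumW w (hws w hw), add_zero]
  rw [h5, add_assoc, Cfsg.Agent.SporadicStructure.UnitTwo.vadd_self hF, add_zero, ← h3] at h4
  rw [← h3]
  calc g⁻¹ * lab v * g = g⁻¹ * (g * (g * lab v * g⁻¹) * g⁻¹) * g := by rw [h4]
    _ = g * lab v * g⁻¹ := by group

end Rigid

section Rigid6

variable {M : Type*} [Group M] {S : Set M} {lab : (Fin 6 → F) → M}
variable {e f : Fin 3 → (Fin 6 → F)}

theorem comb_single_f (e f : Fin 3 → (Fin 6 → F)) (i : Fin 3) :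
    comb e f 0 (Pi.single i 1) = f i := by
  rw [comb]
  have h1 : ∑ j, (0 : Fin 3 → F) j • e j = 0 := by
    refine Finset.sum_eq_zero fun j _ => ?_
    rw [Pi.zero_apply, zero_smul]
  rw [h1, zero_add, Finset.sum_eq_single i]
  · rw [Pi.single_eq_same, one_smul]
  · intro j _ hj
    rw [Pi.single_eq_of_ne hj, zero_smul]
  · intro hi
    exact absurd (Finset.mem_univ _) hi

/-- A map respecting commuting and fixing two opposite planes is trivial. -/
theorem rigid (hL : Labels S 6 F lab) (h : Frame e f) (τ : (Fin 6 → F) → M)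
    (h1 : ∀ v : Fin 6 → F, v ≠ 0 → hermForm 6 F 2 v v = 0 → τ v ∈ S)
    (h2 : ∀ v w : Fin 6 → F, v ≠ 0 → w ≠ 0 → hermForm 6 F 2 v v = 0 → hermForm 6 F 2 w w = 0 →
      (Commute (τ v) (τ w) ↔ hermForm 6 F 2 v w = 0))
    (h3 : ∀ a : Fin 3 → F, a ≠ 0 → τ (comb e f a 0) = lab (comb e f a 0))
    (h4 : ∀ i, τ (f i) = lab (f i)) (v : Fin 6 → F) (hv0 : v ≠ 0)
    (hv : hermForm 6 F 2 v v = 0) : τ v = lab v := by
  classical
  have hsq : ∀ x : F, (x ^ 2) ^ 2 = x := fun x => by
    rw [← pow_mul]; exact Cfsg.Agent.SporadicStructure.UnitTwo.pow_four hF x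
  have hsum2 : ∀ g : Fin 3 → F, (∑ i, g i) ^ 2 = ∑ i, g i ^ 2 := fun g =>
    sum_pow_q hF Finset.univ g
  -- first step: compare with a fixed plane
  have hcomm : ∀ u v' : Fin 6 → F, u ≠ 0 → hermForm 6 F 2 u u = 0 → τ u = lab u → v' ≠ 0 →
      hermForm 6 F 2 v' v' = 0 → ∀ x : Fin 6 → F, x ≠ 0 → hermForm 6 F 2 x x = 0 →
      τ x = lab v' → (hermForm 6 F 2 v' u = 0 ↔ hermForm 6 F 2 x u = 0) := by
    intro u v' hu0 hu hτu hv'0 hv' x hx0 hx hτx
    rw [← hL.comm v' u hv'0 hu0 hv' hu, ← h2 x u hx0 hu0 hx hu, hτu, hτx]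
  have hcomb0 : ∀ a b : Fin 3 → F, a ≠ 0 ∨ b ≠ 0 → comb e f a b ≠ 0 := by
    intro a b hab h0
    obtain ⟨ha, hb⟩ := comb_eq_zero hF h h0
    exact hab.elim (fun hh => hh ha) (fun hh => hh hb)
  have hisoE : ∀ a : Fin 3 → F, hermForm 6 F 2 (comb e f a 0) (comb e f a 0) = 0 := by
    intro a
    rw [herm_comb hF h]
    simp
  have hisoF : ∀ b : Fin 3 → F, hermForm 6 F 2 (comb e f 0 b) (comb e f 0 b) = 0 := by
    intro a
    rw [herm_comb hF h]
    simp
  -- generic: normalised image
  have hB : ∀ a b : Fin 3 → F, b ≠ 0 → hermForm 6 F 2 (comb e f a b) (comb e f a b) = 0 →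
      ∃ a' : Fin 3 → F, hermForm 6 F 2 (comb e f a' b) (comb e f a' b) = 0 ∧
        τ (comb e f a b) = lab (comb e f a' b) := by
    intro a b hb hiso
    have hv0 := hcomb0 a b (Or.inr hb)
    obtain ⟨v', hv'0, hv', hτ⟩ := hL.surj _ (h1 _ hv0 hiso)
    obtain ⟨a', b', rfl⟩ := exists_comb hF h v'
    have key : ∀ c : Fin 3 → F, c ≠ 0 → ((∑ i, b' i * c i ^ 2 = 0) ↔ (∑ i, b i * c i ^ 2 = 0)) := by
      intro c hc
      have := hcomm (comb e f c 0) _ (hcomb0 c 0 (Or.inl hc)) (hisoE c) (h3 c hc) hv'0 hv' _ hv0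
        hiso hτ
      rw [herm_comb hF h, herm_comb hF h] at this
      simpa using this
    have key2 : ∀ c : Fin 3 → F, ((∑ i, c i * b' i = 0) ↔ (∑ i, c i * b i = 0)) := by
      intro c
      by_cases hc : c = 0
      · subst hc; simp
      · have h5 := key (fun i => c i ^ 2) (by
          intro h0
          apply hc
          funext i
          have := congrFun h0 i
          exact pow_eq_zero_iff (two_ne_zero) |>.1 this)
        simp only [hsq] at h5
        simp only [mul_comm (c _)]
        exact h5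
    obtain ⟨m, hm⟩ := exists_smul hF hb (fun c => (key2 c).2)
    have hm0 : m ≠ 0 := by
      rintro rfl
      rw [zero_smul] at hm
      subst hm
      apply hb
      obtain ⟨m', hm'⟩ : ∃ m' : F, b = m' • (0 : Fin 3 → F) := by
        by_contra hcon
        obtain ⟨k, hk⟩ := Function.ne_iff.1 hb
        have h6 := (key2 (Pi.single k 1)).1 (by simp)
        rw [Finset.sum_eq_single k] at h6
        · rw [Pi.single_eq_same, one_mul] at h6
          exact hk h6
        · intro i _ hi
          rw [Pi.single_eq_of_ne hi, zero_mul]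
        · intro hh; exact absurd (Finset.mem_univ _) hh
      rw [hm', smul_zero]
    refine ⟨m⁻¹ • a', ?_, ?_⟩
    · have h7 : comb e f (m⁻¹ • a') b = m⁻¹ • comb e f a' b' := by
        rw [smul_comb, hm, smul_smul, inv_mul_cancel₀ hm0, one_smul]
      rw [h7, herm_smul_left, herm_smul_right, hv', mul_zero, mul_zero]
    · have h7 : comb e f (m⁻¹ • a') b = m⁻¹ • comb e f a' b' := by
        rw [smul_comb, hm, smul_smul, inv_mul_cancel₀ hm0, one_smul]
      rw [h7, hL.smul _ hv'0 hv' _ (inv_ne_zero hm0), hτ]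
  -- the second plane is fixed
  have hFfix : ∀ b : Fin 3 → F, b ≠ 0 → τ (comb e f 0 b) = lab (comb e f 0 b) := by
    intro b hb
    obtain ⟨a', ha', hτ⟩ := hB 0 b hb (hisoF b)
    have h8 : a' = 0 := by
      funext i
      have hfi : comb e f 0 (Pi.single i 1) = f i := comb_single_f hF e f i
      have hfi0 : f i ≠ 0 := by
        rw [← hfi]
        refine hcomb0 _ _ (Or.inr ?_)
        intro h0
        have := congrFun h0 i
        rw [Pi.single_eq_same] at this
        exact one_ne_zero this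
      have h9 := (hcomm (f i) _ hfi0 (h.ff i i) (h4 i) (hcomb0 a' b (Or.inr hb)) ha' _
        (hcomb0 0 b (Or.inr hb)) (hisoF b) hτ).2 (by rw [herm_comb_f hF h, Pi.zero_apply])
      rwa [herm_comb_f hF h] at h9
    rw [hτ, h8]
  -- general position: normalised on both sides
  have hAB : ∀ a b : Fin 3 → F, a ≠ 0 → b ≠ 0 →
      hermForm 6 F 2 (comb e f a b) (comb e f a b) = 0 →
      ∃ m : F, m ≠ 0 ∧ hermForm 6 F 2 (comb e f (m • a) b) (comb e f (m • a) b) = 0 ∧
        τ (comb e f a b) = lab (comb e f (m • a) b) := by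
    intro a b ha hb hiso
    obtain ⟨a', ha', hτ⟩ := hB a b hb hiso
    have hv0 := hcomb0 a b (Or.inr hb)
    have hv'0 := hcomb0 a' b (Or.inr hb)
    have key : ∀ c : Fin 3 → F, c ≠ 0 → ((∑ i, a' i * c i ^ 2 = 0) ↔ (∑ i, a i * c i ^ 2 = 0)) := by
      intro c hc
      have := hcomm (comb e f 0 c) _ (hcomb0 0 c (Or.inr hc)) (hisoF c) (hFfix c hc) hv'0 ha' _ hv0
        hiso hτ
      rw [herm_comb hF h, herm_comb hF h] at this
      simpa using this
    have key2 : ∀ c : Fin 3 → F, ((∑ i, c i * a' i = 0) ↔ (∑ i, c i * a i = 0)) := by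
      intro c
      by_cases hc : c = 0
      · subst hc; simp
      · have h5 := key (fun i => c i ^ 2) (by
          intro h0
          apply hc
          funext i
          have := congrFun h0 i
          exact pow_eq_zero_iff (two_ne_zero) |>.1 this)
        simp only [hsq] at h5
        simp only [mul_comm (c _)]
        exact h5
    obtain ⟨m, hm⟩ := exists_smul hF ha (fun c => (key2 c).2)
    refine ⟨m, ?_, ?_, ?_⟩
    · rintro rfl
      rw [zero_smul] at hm
      subst hm
      obtain ⟨k, hk⟩ := Function.ne_iff.1 ha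
      have h6 := (key2 (Pi.single k 1)).1 (by simp)
      rw [Finset.sum_eq_single k] at h6
      · rw [Pi.single_eq_same, one_mul] at h6
        exact hk h6
      · intro i _ hi
        rw [Pi.single_eq_of_ne hi, zero_mul]
      · intro hh; exact absurd (Finset.mem_univ _) hh
    · rw [← hm]; exact ha'
    · rw [← hm]; exact hτ
  have hself : ∀ a b : Fin 3 → F, hermForm 6 F 2 (comb e f a b) (comb e f a b) =
      (∑ i, a i * b i ^ 2) + (∑ i, a i * b i ^ 2) ^ 2 := by
    intro a b
    rw [herm_comb hF h, hsum2]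
    congr 1
    refine Finset.sum_congr rfl fun i _ => ?_
    rw [mul_pow, hsq]
    ring
  -- trace one vectors
  have hone : ∀ a b : Fin 3 → F, a ≠ 0 → b ≠ 0 → ∑ i, a i * b i ^ 2 = 1 →
      τ (comb e f a b) = lab (comb e f a b) := by
    intro a b ha hb hab
    have hiso : hermForm 6 F 2 (comb e f a b) (comb e f a b) = 0 := by
      rw [hself, hab]
      exact Cfsg.Agent.SporadicStructure.UnitTwo.trace_one hF
    obtain ⟨m, hm0, hm, hτ⟩ := hAB a b ha hb hiso
    have h9 : ∑ i, (m • a) i * b i ^ 2 = m := by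
      simp only [Pi.smul_apply, smul_eq_mul, mul_assoc]
      rw [← Finset.mul_sum, hab, mul_one]
    rw [hself, h9] at hm
    have h10 : m ^ 2 = m :=
      (Cfsg.Agent.SporadicStructure.UnitTwo.eq_of_add_eq_zero hF hm).symm
    rcases Cfsg.Agent.SporadicStructure.UnitTwo.zero_or_one_of_fixed hF h10 with h11 | h11
    · exact absurd h11 hm0
    · rw [hτ, h11, one_smul]
  -- all vectors
  obtain ⟨a, b, rfl⟩ := exists_comb hF h v
  by_cases hb : b = 0
  · subst hb
    refine h3 a ?_
    rintro rfl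
    apply hv0
    rw [comb]
    simp
  by_cases ha : a = 0
  · subst ha
    exact hFfix b hb
  rw [hself] at hv
  have h12 : (∑ i, a i * b i ^ 2) ^ 2 = ∑ i, a i * b i ^ 2 :=
    (Cfsg.Agent.SporadicStructure.UnitTwo.eq_of_add_eq_zero hF hv).symm
  rcases Cfsg.Agent.SporadicStructure.UnitTwo.zero_or_one_of_fixed hF h12 with h0 | h0
  swap
  · exact hone a b ha hb h0
  have hiso : hermForm 6 F 2 (comb e f a b) (comb e f a b) = 0 := by
    rw [hself]; exact hv
  obtain ⟨m, hm0, hm, hτ⟩ := hAB a b ha hb hiso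
  -- test vector
  have hb2 : (fun i => b i ^ 2) ≠ (0 : Fin 3 → F) := by
    intro h0
    apply hb
    funext i
    exact pow_eq_zero_iff (two_ne_zero) |>.1 (congrFun h0 i)
  obtain ⟨c, hc⟩ : ∃ c : Fin 3 → F, ∑ i, b i ^ 2 * c i = 1 := by
    obtain ⟨k, hk⟩ := Function.ne_iff.1 hb2
    refine ⟨Pi.single k ((b k ^ 2)⁻¹), ?_⟩
    rw [Finset.sum_eq_single k]
    · rw [Pi.single_eq_same, mul_inv_cancel₀ hk]
    · intro i _ hi
      rw [Pi.single_eq_of_ne hi, mul_zero]
    · intro hh; exact absurd (Finset.mem_univ _) hh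
  obtain ⟨D, hD1, hD2⟩ := exists_two hF (b := a) (d := c) ha (by
    rintro k rfl
    have : ∑ i, b i ^ 2 * (k • a) i = k * ∑ i, a i * b i ^ 2 := by
      rw [Finset.mul_sum]
      refine Finset.sum_congr rfl fun i _ => ?_
      rw [Pi.smul_apply, smul_eq_mul]; ring
    rw [this, h0, mul_zero] at hc
    exact zero_ne_one hc)
  -- u = comb c (D ^ 2)
  have hu1 : ∑ i, c i * ((fun i => D i ^ 2) i) ^ 2 = 1 := by
    simp only [hsq]
    rw [← hD2]
    exact Finset.sum_congr rfl fun i _ => mul_comm _ _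
  have hc0 : c ≠ 0 := by
    rintro rfl
    simp at hc
  have hD0 : (fun i => D i ^ 2) ≠ (0 : Fin 3 → F) := by
    intro h0
    rw [h0] at hu1
    simp at hu1
  have hu := hone c (fun i => D i ^ 2) hc0 hD0 hu1
  have huiso : hermForm 6 F 2 (comb e f c (fun i => D i ^ 2)) (comb e f c (fun i => D i ^ 2)) = 0 := by
    rw [hself, hu1]
    exact Cfsg.Agent.SporadicStructure.UnitTwo.trace_one hF
  have hbc : ∑ i, b i * c i ^ 2 = 1 := by
    have h13 : (∑ i, b i * c i ^ 2) ^ 2 = 1 := by
      rw [hsum2, ← hc]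
      refine Finset.sum_congr rfl fun i _ => ?_
      rw [mul_pow, hsq]
    have h14 := hsq (∑ i, b i * c i ^ 2)
    rw [h13, one_pow] at h14
    exact h14.symm
  have hherm : ∀ m : F, hermForm 6 F 2 (comb e f (m • a) b) (comb e f c (fun i => D i ^ 2)) =
      m + 1 := by
    intro m
    rw [herm_comb hF h, hbc]
    congr 1
    simp only [hsq, Pi.smul_apply, smul_eq_mul, mul_assoc]
    rw [← Finset.mul_sum]
    have : ∑ i, a i * D i = 1 := by
      rw [← hD1]
      exact Finset.sum_congr rfl fun i _ => mul_comm _ _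
    rw [this, mul_one]
  have h15 := (hcomm _ _ (hcomb0 c _ (Or.inl hc0)) huiso hu (hcomb0 _ b (Or.inr hb)) hm _
    (hcomb0 a b (Or.inl ha)) hiso hτ).2 (by
      have := hherm 1
      rw [one_smul] at this
      rw [this]
      exact Cfsg.Agent.SporadicStructure.UnitTwo.add_self hF 1)
  rw [hherm] at h15
  rw [hτ, Cfsg.Agent.SporadicStructure.UnitTwo.eq_of_add_eq_zero hF h15, one_smul]

theorem comb_zero_right (e f : Fin 3 → (Fin 6 → F)) (a : Fin 3 → F) :
    comb e f a 0 = ∑ i, a i • e i := by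
  rw [comb]
  simp

/-- LEMMA U: a map respecting commuting which fixes a totally isotropic plane pointwise is conjugation by a
product of elements of the plane. -/
theorem exists_conj (hL : Labels S 6 F lab) {W : Submodule F (Fin 6 → F)}
    (hWk : Module.finrank F W = 3) (hW : ∀ u ∈ W, ∀ v ∈ W, hermForm 6 F 2 u v = 0)
    (τ : (Fin 6 → F) → M)
    (h1 : ∀ v : Fin 6 → F, v ≠ 0 → hermForm 6 F 2 v v = 0 → τ v ∈ S)
    (h2 : ∀ v w : Fin 6 → F, v ≠ 0 → w ≠ 0 → hermForm 6 F 2 v v = 0 → hermForm 6 F 2 w w = 0 →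
      (Commute (τ v) (τ w) ↔ hermForm 6 F 2 v w = 0))
    (h3 : ∀ w ∈ W, w ≠ 0 → τ w = lab w) :
    ∃ g ∈ Subgroup.closure (lab '' {w : Fin 6 → F | w ∈ W ∧ w ≠ 0}),
      ∀ v : Fin 6 → F, v ≠ 0 → hermForm 6 F 2 v v = 0 → τ v = g * lab v * g⁻¹ := by
  classical
  obtain ⟨e, g0, f, hspan, hee, -, hef, -, -, hff⟩ :=
    Cfsg.Agent.ClassicalGeometry.HermFrame.exists_frame hF (n := 6) (k := 3) (m := 0) rfl hWk hW
  have h : Frame e f := ⟨hee, hef, hff⟩
  have heW : ∀ a : Fin 3 → F, comb e f a 0 ∈ W := by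
    intro a
    rw [comb_zero_right hF, ← hspan]
    exact Submodule.sum_mem _ fun i _ => Submodule.smul_mem _ _ (Submodule.subset_span ⟨i, rfl⟩)
  have hsq : ∀ x : F, (x ^ 2) ^ 2 = x := fun x => by
    rw [← pow_mul]; exact Cfsg.Agent.SporadicStructure.UnitTwo.pow_four hF x
  have hcomb0 : ∀ a b : Fin 3 → F, a ≠ 0 ∨ b ≠ 0 → comb e f a b ≠ 0 := by
    intro a b hab h0
    obtain ⟨ha, hb⟩ := comb_eq_zero hF h h0
    exact hab.elim (fun hh => hh ha) (fun hh => hh hb)
  have hsingle : ∀ i : Fin 3, (Pi.single i 1 : Fin 3 → F) ≠ 0 := by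
    intro i h0
    have := congrFun h0 i
    rw [Pi.single_eq_same] at this
    exact one_ne_zero this
  have hfi : ∀ i, comb e f 0 (Pi.single i 1) = f i := fun i => comb_single_f hF e f i
  have hf0 : ∀ i, f i ≠ 0 := fun i => by
    rw [← hfi]; exact hcomb0 _ _ (Or.inr (hsingle i))
  -- images of the `f i`
  have hq : ∀ i, ∃ H : Fin 3 → F,
      hermForm 6 F 2 (comb e f H (Pi.single i 1)) (comb e f H (Pi.single i 1)) = 0 ∧
      τ (f i) = lab (comb e f H (Pi.single i 1)) := by
    intro i
    obtain ⟨v', hv'0, hv', hτ⟩ := hL.surj _ (h1 _ (hf0 i) (hff i i))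
    obtain ⟨a', b', rfl⟩ := exists_comb hF h v'
    have key : ∀ c : Fin 3 → F, c ≠ 0 → ((∑ j, b' j * c j ^ 2 = 0) ↔ c i ^ 2 = 0) := by
      intro c hc
      have hw := h3 _ (heW c) (hcomb0 c 0 (Or.inl hc))
      have hcc : hermForm 6 F 2 (comb e f c 0) (comb e f c 0) = 0 := hW _ (heW c) _ (heW c)
      have h5 := hL.comm _ _ hv'0 (hcomb0 c 0 (Or.inl hc)) hv' hcc
      have h6 := h2 _ _ (hf0 i) (hcomb0 c 0 (Or.inl hc)) (hff i i) hcc
      rw [hτ, hw, h5] at h6
      have h7 : hermForm 6 F 2 (f i) (comb e f c 0) = c i ^ 2 := by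
        rw [herm_swap hF (comb e f c 0) (f i), herm_comb_f hF h]
      have h8 : hermForm 6 F 2 (comb e f a' b') (comb e f c 0) = ∑ j, b' j * c j ^ 2 := by
        rw [herm_comb hF h]
        simp
      rw [h7, h8] at h6
      exact h6
    have hb'j : ∀ j, j ≠ i → b' j = 0 := by
      intro j hj
      have h5 := (key (Pi.single j 1) (hsingle j)).2 (by
        rw [Pi.single_eq_of_ne (Ne.symm hj)]; exact zero_pow two_ne_zero)
      rw [Finset.sum_eq_single j] at h5
      · rwa [Pi.single_eq_same, one_pow, mul_one] at h5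
      · intro k _ hk
        rw [Pi.single_eq_of_ne hk, zero_pow two_ne_zero, mul_zero]
      · intro hh; exact absurd (Finset.mem_univ _) hh
    have hb'i : b' i ≠ 0 := by
      intro h0
      have h5 := (key (Pi.single i 1) (hsingle i)).1 (by
        refine Finset.sum_eq_zero fun j _ => ?_
        by_cases hj : j = i
        · rw [hj, h0, zero_mul]
        · rw [hb'j j hj, zero_mul])
      rw [Pi.single_eq_same, one_pow] at h5
      exact one_ne_zero h5
    have hb' : b' = b' i • Pi.single i 1 := by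
      funext j
      by_cases hj : j = i
      · subst hj
        rw [Pi.smul_apply, Pi.single_eq_same, smul_eq_mul, mul_one]
      · rw [Pi.smul_apply, Pi.single_eq_of_ne hj, smul_zero, hb'j j hj]
    have h7 : comb e f ((b' i)⁻¹ • a') (Pi.single i 1) = (b' i)⁻¹ • comb e f a' b' := by
      rw [smul_comb]
      congr 1
      conv_rhs => rw [hb']
      rw [smul_smul, Pi.smul_apply, Pi.single_eq_same, smul_eq_mul, mul_one,
        inv_mul_cancel₀ hb'i, one_smul]
    refine ⟨(b' i)⁻¹ • a', ?_, ?_⟩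
    · rw [h7, herm_smul_left, herm_smul_right, hv', mul_zero, mul_zero]
    · rw [h7, hL.smul _ hv'0 hv' _ (inv_ne_zero hb'i), hτ]
  choose H hHiso hH using hq
  have hqq : ∀ i j, hermForm 6 F 2 (comb e f (H i) (Pi.single i 1))
      (comb e f (H j) (Pi.single j 1)) = H i j + H j i ^ 2 := by
    intro i j
    rw [herm_comb hF h]
    congr 1
    · rw [Finset.sum_eq_single j]
      · rw [Pi.single_eq_same, one_pow, mul_one]
      · intro k _ hk
        rw [Pi.single_eq_of_ne hk, zero_pow two_ne_zero, mul_zero]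
      · intro hh; exact absurd (Finset.mem_univ _) hh
    · rw [Finset.sum_eq_single i]
      · rw [Pi.single_eq_same, one_mul]
      · intro k _ hk
        rw [Pi.single_eq_of_ne hk, zero_mul]
      · intro hh; exact absurd (Finset.mem_univ _) hh
  have hHH : ∀ i j, H i j = H j i ^ 2 := by
    intro i j
    apply Cfsg.Agent.SporadicStructure.UnitTwo.eq_of_add_eq_zero hF
    rw [← hqq]
    by_cases hij : i = j
    · subst hij; exact hHiso i
    · have h5 := h2 _ _ (hf0 i) (hf0 j) (hff i i) (hff j j)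
      rw [hH, hH, hL.comm _ _ (hcomb0 _ _ (Or.inr (hsingle i))) (hcomb0 _ _ (Or.inr (hsingle j)))
        (hHiso i) (hHiso j)] at h5
      exact h5.2 (hff i j)
  -- six vectors
  set D1 : F := H 1 1 + H 0 1 ^ 3 + 1 with hD1
  set D2 : F := H 2 2 + H 0 2 ^ 3 + H 1 2 ^ 3 with hD2
  have h01 : ∀ x : F, x ^ 2 = x → x ^ 3 = x := by
    intro x hx
    calc x ^ 3 = x ^ 2 * x := by ring
      _ = x := by rw [hx, ← sq, hx]
  have hx3 : ∀ x : F, (x ^ 3) ^ 2 = x ^ 3 := by
    intro x
    calc (x ^ 3) ^ 2 = x ^ 4 * x ^ 2 := by ring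
      _ = x ^ 3 := by rw [Cfsg.Agent.SporadicStructure.UnitTwo.pow_four hF]; ring
  have hadd2 : ∀ x y : F, (x + y) ^ 2 = x ^ 2 + y ^ 2 := fun x y => add_pow_q hF x y
  have hD1' : D1 ^ 3 = D1 := by
    apply h01
    rw [hD1, hadd2, hadd2, ← hHH, hx3, one_pow]
  have hD2' : D2 ^ 3 = D2 := by
    apply h01
    rw [hD2, hadd2, hadd2, ← hHH, hx3, hx3]
  have hH00 : H 0 0 ^ 3 = H 0 0 := h01 _ (hHH 0 0).symm
  have hchar : ∀ x : F, x + x = 0 := Cfsg.Agent.SporadicStructure.UnitTwo.add_self hF
  set cs : List (Fin 3 → F) := [![1, H 0 1, 0], ![1, 0, H 0 2], ![0, 1, H 1 2], ![H 0 0, 0, 0],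
    ![0, D1, 0], ![0, 0, D2]] with hcs
  obtain ⟨g, hg, hgv⟩ := conj_list' hF hL hW (cs.map (fun c => comb e f c 0)) (by
    intro w hw
    obtain ⟨c, -, rfl⟩ := List.mem_map.1 hw
    exact heW c)
  have hgf : ∀ i, g * lab (f i) * g⁻¹ = lab (comb e f (H i) (Pi.single i 1)) := by
    intro i
    obtain ⟨-, -, h5, -⟩ := hgv (f i) (hf0 i) (hff i i)
    rw [h5]
    congr 1
    have h6 : ∀ c : Fin 3 → F, hermForm 6 F 2 (f i) (comb e f c 0) • comb e f c 0 =
        comb e f (c i ^ 2 • c) 0 := by
      intro c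
      rw [herm_swap hF (comb e f c 0) (f i), herm_comb_f hF h, smul_comb, smul_zero]
    rw [List.map_map]
    have h7 : List.map ((fun w => hermForm 6 F 2 (f i) w • w) ∘ fun c => comb e f c 0) cs =
        List.map (fun c => comb e f (c i ^ 2 • c) 0) cs :=
      List.map_congr_left fun c _ => h6 c
    rw [h7]
    conv_lhs => rw [← hfi i]
    rw [hcs]
    simp only [List.map_cons, List.map_nil, List.sum_cons, List.sum_nil, add_zero, add_comb,
      zero_add]
    congr 1
    funext j
    fin_cases i <;> fin_cases j <;> simp [Matrix.cons_val_zero, Matrix.cons_val_one]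
    · linear_combination hH00 + hchar 1
    · exact (hHH 1 0).symm
    · have h8 : D1 ^ 2 * D1 = D1 := by rw [← pow_succ]; exact hD1'
      have h9 : H 0 1 ^ 2 * H 0 1 = H 0 1 ^ 3 := by ring
      rw [h8, h9, hD1]
      linear_combination hchar 1 + hchar (H 0 1 ^ 3)
    · exact (hHH 2 0).symm
    · exact (hHH 2 1).symm
    · have h8 : D2 ^ 2 * D2 = D2 := by rw [← pow_succ]; exact hD2'
      have h9 : H 0 2 ^ 2 * H 0 2 = H 0 2 ^ 3 := by ring
      have h10 : H 1 2 ^ 2 * H 1 2 = H 1 2 ^ 3 := by ring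
      rw [h8, h9, h10, hD2]
      linear_combination hchar (H 0 2 ^ 3) + hchar (H 1 2 ^ 3)
  have hmain := rigid hF hL h (fun v => g⁻¹ * τ v * g) (by
    intro v hv0 hv
    obtain ⟨v', hv'0, hv', hτ⟩ := hL.surj _ (h1 v hv0 hv)
    obtain ⟨h5, h6, -, h7⟩ := hgv v' hv'0 hv'
    rw [hτ, h7]
    exact hL.mem _ h5 h6) (by
    intro v w hv0 hw0 hv hw
    rw [← h2 v w hv0 hw0 hv hw]
    have : ∀ x : M, g⁻¹ * x * g = MulAut.conj g⁻¹ x := fun x => by
      rw [MulAut.conj_apply, inv_inv]
    rw [this, this]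
    exact ⟨fun hh => Commute.of_map (MulAut.conj g⁻¹).injective hh, fun hh => hh.map _⟩) (by
    intro a ha
    have hw0 := hcomb0 a 0 (Or.inl ha)
    change g⁻¹ * τ _ * g = _
    rw [h3 _ (heW a) hw0]
    obtain ⟨-, -, -, h7⟩ := hgv _ hw0 (hW _ (heW a) _ (heW a))
    rw [h7, List.map_map]
    have h8 : (List.map ((fun w => hermForm 6 F 2 (comb e f a 0) w • w) ∘
        fun c => comb e f c 0) cs) = List.map (fun _ => (0 : Fin 6 → F)) cs := by
      refine List.map_congr_left fun c _ => ?_
      change hermForm 6 F 2 (comb e f a 0) (comb e f c 0) • comb e f c 0 = 0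
      rw [hW _ (heW a) _ (heW c), zero_smul]
    have h9 : (List.map (fun _ => (0 : Fin 6 → F)) cs).sum = 0 := by simp
    rw [h8, h9, add_zero]) (by
    intro i
    rw [hH, ← hgf]
    group)
  refine ⟨g, hg, fun v hv0 hv => ?_⟩
  rw [← hmain v hv0 hv]
  group

/-- An isotropic vector orthogonal to all isotropic vectors of `⟨z, p⟩ ^ ⊥` lies in `⟨z, p⟩`. -/
theorem mem_span_pair {z p q : Fin 6 → F}
    (hz : hermForm 6 F 2 z z = 0) (hp : hermForm 6 F 2 p p = 0) (hzp : hermForm 6 F 2 z p ≠ 0)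
    (hq : ∀ x : Fin 6 → F, x ≠ 0 → hermForm 6 F 2 x x = 0 → hermForm 6 F 2 x z = 0 →
      hermForm 6 F 2 x p = 0 → hermForm 6 F 2 x q = 0) :
    ∃ α β : F, q = α • z + β • p := by
  classical
  have hpz : hermForm 6 F 2 p z ≠ 0 := fun h0 => hzp (herm_eq_zero_swap hF h0)
  set T : (Fin 6 → F) →ₗ[F] F × F :=
    (Cfsg.Agent.ClassicalGeometry.HermFrame.leftFun 2 z).prod
      (Cfsg.Agent.ClassicalGeometry.HermFrame.leftFun 2 p) with hT
  have hTapp : ∀ v, T v = (hermForm 6 F 2 v z, hermForm 6 F 2 v p) := fun v => rfl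
  have hmem : ∀ v, v ∈ LinearMap.ker T ↔ hermForm 6 F 2 v z = 0 ∧ hermForm 6 F 2 v p = 0 := by
    intro v
    rw [LinearMap.mem_ker, hTapp, Prod.ext_iff]
    rfl
  have hTsurj : Function.Surjective T := by
    rintro ⟨c, d⟩
    refine ⟨(c * (hermForm 6 F 2 p z)⁻¹) • p + (d * (hermForm 6 F 2 z p)⁻¹) • z, ?_⟩
    rw [hTapp]
    refine Prod.ext ?_ ?_
    · change hermForm 6 F 2 _ z = c
      rw [herm_add_left, herm_smul_left, herm_smul_left, hz, mul_zero, add_zero, mul_assoc,
        inv_mul_cancel₀ hpz, mul_one]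
    · change hermForm 6 F 2 _ p = d
      rw [herm_add_left, herm_smul_left, herm_smul_left, hp, mul_zero, zero_add, mul_assoc,
        inv_mul_cancel₀ hzp, mul_one]
  have hker : Module.finrank F (LinearMap.ker T) = 4 := by
    have h1 := LinearMap.finrank_range_add_finrank_ker T
    rw [LinearMap.range_eq_top.2 hTsurj, finrank_top, Module.finrank_prod,
      Module.finrank_self, Module.finrank_fin_fun] at h1
    omega
  -- decomposition
  have hdec : ∀ w : Fin 6 → F, ∃ c d : F, w - c • z - d • p ∈ LinearMap.ker T := by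
    intro w
    refine ⟨hermForm 6 F 2 w p * (hermForm 6 F 2 z p)⁻¹,
      hermForm 6 F 2 w z * (hermForm 6 F 2 p z)⁻¹, (hmem _).2 ⟨?_, ?_⟩⟩
    · rw [herm_sub_left, herm_sub_left, herm_smul_left, herm_smul_left, hz, mul_zero, sub_zero,
        mul_assoc, inv_mul_cancel₀ hpz, mul_one, sub_self]
    · rw [herm_sub_left, herm_sub_left, herm_smul_left, herm_smul_left, hp, mul_zero, sub_zero,
        mul_assoc, inv_mul_cancel₀ hzp, mul_one, sub_self]
  have hnd : ∀ u ∈ LinearMap.ker T,
      (∀ v ∈ LinearMap.ker T, hermForm 6 F 2 u v = 0) → u = 0 := by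
    intro u hu hcon
    obtain ⟨huz, hup⟩ := (hmem u).1 hu
    refine herm_nondeg hF fun w => ?_
    obtain ⟨c, d, hcd⟩ := hdec w
    have h2 := hcon _ hcd
    rwa [herm_sub_right hF, herm_sub_right hF, herm_smul_right, herm_smul_right, huz, hup,
      mul_zero, mul_zero, sub_zero, sub_zero] at h2
  obtain ⟨g, hgU, hgg⟩ :=
    Cfsg.Agent.ClassicalGeometry.HermFrame.exists_orthonormal hF 4 _ hker hnd
  obtain ⟨c, d, hcd⟩ := hdec q
  set r := q - c • z - d • p with hr
  obtain ⟨ω, hω⟩ := Cfsg.Agent.SporadicStructure.UnitTwo.exists_omega hF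
  have hω0 : ω ≠ 0 := by
    rintro rfl
    simp at hω
  have hω3 := Cfsg.Agent.SporadicStructure.UnitTwo.pow_three hF hω0
  have hω1 : ω ≠ 1 := by
    rintro rfl
    have h2 := Cfsg.Agent.SporadicStructure.UnitTwo.two_eq_zero hF
    apply one_ne_zero (α := F)
    linear_combination hω - h2
  -- `q` is orthogonal to every `g i`
  have hgi : ∀ i, hermForm 6 F 2 (g i) q = 0 := by
    intro i
    obtain ⟨j, hj⟩ : ∃ j : Fin 4, j ≠ i := ⟨i + 1, by fin_cases i <;> decide⟩
    have h1 : ∀ a : F, a ^ 3 = 1 → hermForm 6 F 2 (g i + a • g j) q = 0 := by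
      intro a ha
      refine hq _ ?_ ?_ ?_ ?_
      · intro h0
        have := hgg i i
        have h2 : hermForm 6 F 2 (g i + a • g j) (g i) = 1 := by
          rw [herm_add_left, herm_smul_left, hgg, hgg, if_pos rfl, if_neg hj, mul_zero, add_zero]
        rw [h0, herm_zero_left] at h2
        exact zero_ne_one h2
      · rw [herm_add_left, herm_add_right hF, herm_add_right hF, herm_smul_left, herm_smul_left,
          herm_smul_right, herm_smul_right, hgg, hgg, hgg, hgg, if_pos rfl, if_pos rfl, if_neg hj,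
          if_neg (Ne.symm hj)]
        have := Cfsg.Agent.SporadicStructure.UnitTwo.add_self hF (1 : F)
        linear_combination this + ha
      · rw [herm_add_left, herm_smul_left, ((hmem _).1 (hgU i)).1, ((hmem _).1 (hgU j)).1,
          mul_zero, add_zero]
      · rw [herm_add_left, herm_smul_left, ((hmem _).1 (hgU i)).2, ((hmem _).1 (hgU j)).2,
          mul_zero, add_zero]
    have h2 := h1 1 (one_pow 3)
    have h3 := h1 ω hω3
    rw [herm_add_left, herm_smul_left] at h2 h3
    have h4 : (ω - 1) * hermForm 6 F 2 (g j) q = 0 := by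
      linear_combination h3 - h2
    have h5 : hermForm 6 F 2 (g j) q = 0 :=
      (mul_eq_zero.1 h4).resolve_left (sub_ne_zero.2 hω1)
    rw [h5, mul_zero, add_zero] at h2
    exact h2
  -- the `g i` span the complement
  have hgspan : ∀ u ∈ LinearMap.ker T, u = ∑ i, hermForm 6 F 2 u (g i) • g i := by
    intro u hu
    have h1 : u - ∑ i, hermForm 6 F 2 u (g i) • g i = 0 := by
      have hli : LinearIndependent F (fun i => (⟨g i, hgU i⟩ : LinearMap.ker T)) := by
        rw [Fintype.linearIndependent_iff]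
        intro a ha i
        have h1 := congrArg (fun x : LinearMap.ker T => hermForm 6 F 2 (x : Fin 6 → F) (g i)) ha
        simp only [Submodule.coe_sum, Submodule.coe_smul, Submodule.coe_zero, herm_zero_left,
          herm_sum_left, herm_smul_left, hgg, mul_ite, mul_one, mul_zero, Finset.sum_ite_eq',
          Finset.mem_univ, if_true] at h1
        exact h1
      have hspan : Submodule.span F (Set.range (fun i => (⟨g i, hgU i⟩ : LinearMap.ker T))) = ⊤ :=
        hli.span_eq_top_of_card_eq_finrank' (by rw [hker]; rfl)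
      set y : Fin 6 → F := u - ∑ i, hermForm 6 F 2 u (g i) • g i with hy
      have hyU : y ∈ LinearMap.ker T :=
        Submodule.sub_mem _ hu (Submodule.sum_mem _ fun i _ => Submodule.smul_mem _ _ (hgU i))
      refine hnd y hyU fun v hv => ?_
      have hyg : ∀ i, hermForm 6 F 2 y (g i) = 0 := by
        intro i
        rw [hy, herm_sub_left, herm_sum_left]
        simp only [herm_smul_left, hgg, mul_ite, mul_one, mul_zero, Finset.sum_ite_eq',
          Finset.mem_univ, if_true, sub_self]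
      have hv' : (⟨v, hv⟩ : LinearMap.ker T) ∈
          Submodule.span F (Set.range (fun i => (⟨g i, hgU i⟩ : LinearMap.ker T))) := by
        rw [hspan]; trivial
      obtain ⟨a, ha⟩ := (Submodule.mem_span_range_iff_exists_fun F).1 hv'
      have h5 : v = ∑ i, a i • g i := by
        have := congrArg (fun x : LinearMap.ker T => (x : Fin 6 → F)) ha
        simp only [Submodule.coe_sum, Submodule.coe_smul] at this
        exact this.symm
      rw [h5, herm_sum_right hF]
      refine Finset.sum_eq_zero fun i _ => ?_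
      rw [herm_smul_right, hyg, mul_zero]
    exact sub_eq_zero.1 h1
  have hr0 : r = 0 := by
    rw [hgspan r hcd]
    refine Finset.sum_eq_zero fun i _ => ?_
    have h1 : hermForm 6 F 2 (g i) r = 0 := by
      rw [hr, herm_sub_right hF, herm_sub_right hF, herm_smul_right, herm_smul_right, hgi,
        ((hmem _).1 (hgU i)).1, ((hmem _).1 (hgU i)).2, mul_zero, mul_zero, sub_zero, sub_zero]
    rw [herm_eq_zero_swap hF h1, zero_smul]
  refine ⟨c, d, ?_⟩
  have : q = r + (c • z + d • p) := by rw [hr]; abel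
  rw [this, hr0, zero_add]

/-- LEMMA HL: two points off `z ^ ⊥` with the same neighbours in `z ^ ⊥` are equal or conjugate under `z`. -/
theorem eq_or_eq_conj (hL : Labels S 6 F lab) {z p q : Fin 6 → F}
    (hz0 : z ≠ 0) (hp0 : p ≠ 0) (hq0 : q ≠ 0)
    (hz : hermForm 6 F 2 z z = 0) (hp : hermForm 6 F 2 p p = 0) (hq : hermForm 6 F 2 q q = 0)
    (hzp : hermForm 6 F 2 z p ≠ 0) (hzq : hermForm 6 F 2 z q ≠ 0)
    (h : ∀ x : Fin 6 → F, x ≠ 0 → hermForm 6 F 2 x x = 0 → hermForm 6 F 2 x z = 0 →
      hermForm 6 F 2 x p = 0 → hermForm 6 F 2 x q = 0) :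
    lab q = lab p ∨ lab q = lab z * lab p * lab z := by
  obtain ⟨α, β, hq'⟩ := mem_span_pair hF hz hp hzp h
  have hβ : β ≠ 0 := by
    rintro rfl
    apply hzq
    rw [hq', zero_smul, add_zero, herm_smul_right, hz, mul_zero]
  have h1 : lab q = lab (p + (β⁻¹ * α) • z) := by
    rw [← hL.smul q hq0 hq _ (inv_ne_zero hβ), hq', smul_add, smul_smul, smul_smul,
      inv_mul_cancel₀ hβ, one_smul, add_comm]
  set γ := β⁻¹ * α with hγ
  have h2 : hermForm 6 F 2 (p + γ • z) (p + γ • z) = 0 := by
    have : p + γ • z = β⁻¹ • q := by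
      rw [hq', smul_add, smul_smul, smul_smul, inv_mul_cancel₀ hβ, one_smul, add_comm]
    rw [this, herm_smul_left, herm_smul_right, hq, mul_zero, mul_zero]
  rw [herm_add_left, herm_add_right hF, herm_add_right hF, herm_smul_left, herm_smul_left,
    herm_smul_right, herm_smul_right, hp, hz, zero_add, mul_zero, mul_zero, add_zero,
    herm_swap hF z p] at h2
  set t := hermForm 6 F 2 z p with ht
  have h3 : (γ * t) ^ 2 = γ * t := by
    rw [mul_pow]
    apply Cfsg.Agent.SporadicStructure.UnitTwo.eq_of_add_eq_zero hF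
    linear_combination h2
  rcases Cfsg.Agent.SporadicStructure.UnitTwo.zero_or_one_of_fixed hF h3 with h4 | h4
  · left
    have h5 : γ = 0 := (mul_eq_zero.1 h4).resolve_right hzp
    rw [h1, h5, zero_smul, add_zero]
  · right
    rw [h1, hL.conj z p hz0 hp0 hz hp, herm_swap hF z p, ← ht]
    have h5 : γ = t ^ 2 := by
      have h6 := Cfsg.Agent.SporadicStructure.UnitTwo.pow_three hF hzp
      calc γ = γ * t ^ 3 := by rw [h6, mul_one]
        _ = (γ * t) * t ^ 2 := by ring
        _ = t ^ 2 := by rw [h4, one_mul]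
    rw [h5]

end Rigid6

end Cfsg.Agent.R01.HermRigid
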