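import Cfsg.Agent.R01.HermCode
import Cfsg.Agent.ClassicalGeometry.HermFrame
import Cfsg.Agent.SporadicStructure.UnitTwo

/-!
# Hyperbolic bases of the Hermitian space `F₄⁶` and codes
-/

set_option autoImplicit false
set_option linter.unusedSectionVars false
set_option linter.unusedSimpArgs false

namespace Cfsg.Agent.R01.HermSix

open Cfsg Cfsg.Agent.LieClassical.HermBasic Cfsg.Agent.R01.HermCode
open Cfsg.Agent.SporadicStructure.UnitTwo (two_eq_zero add_self neg_eq eq_of_add_eq_zero pow_three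
  pow_four exists_omega zero_or_one_of_fixed vadd_self)

section field

variable {F : Type*} [Field F] [Fintype F] (hF : Fintype.card F = 2 ^ 2) {ω : F}
  (hω : ω ^ 2 + ω + 1 = 0)

/-- Zero or one. -/
def bI (F : Type*) [Field F] (p : Bool) : F := bif p then 1 else 0

omit [Fintype F] in
theorem bI_sq (p : Bool) : bI F p ^ 2 = bI F p := by cases p <;> simp [bI]

include hF in
theorem bI_xor (p q : Bool) : bI F (p ^^ q) = bI F p + bI F q := by
  have h2 := two_eq_zero hF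
  cases p <;> cases q <;> simp [bI]
  linear_combination -h2

omit [Fintype F] in
theorem bI_and (p q : Bool) : bI F (p && q) = bI F p * bI F q := by
  cases p <;> cases q <;> simp [bI]

omit [Fintype F] in
theorem bI_inj {p q : Bool} (h : bI F p = bI F q) : p = q := by
  cases p <;> cases q <;> simp_all [bI]

/-- The field element `p ω + q`. -/
def bitF (ω : F) (p q : Bool) : F := bI F p * ω + bI F q

include hF in
theorem bitF_xor (p q r s : Bool) :
    bitF ω (p ^^ r) (q ^^ s) = bitF ω p q + bitF ω r s := by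
  simp only [bitF, bI_xor hF]; ring

include hF hω in
theorem bitF_mul (p q : Bool) : ω * bitF ω p q = bitF ω (p ^^ q) p := by
  have h2 := two_eq_zero hF
  simp only [bitF, bI_xor hF]
  linear_combination bI F p * hω - bI F p * (ω + 1) * h2

include hF hω in
theorem bitF_sq (p q : Bool) : bitF ω p q ^ 2 = bitF ω p (p ^^ q) := by
  have h2 := two_eq_zero hF
  simp only [bitF, bI_xor hF]
  linear_combination ω ^ 2 * bI_sq (F := F) p + bI_sq (F := F) q + bI F p * hω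
    + (bI F p * bI F q * ω - bI F p * ω - bI F p) * h2

include hF hω in
theorem bitF_mul_bitF (p q r s : Bool) : bitF ω p q * bitF ω r s =
    bitF ω ((p && r) ^^ ((p && s) ^^ (q && r))) ((p && r) ^^ (q && s)) := by
  have h2 := two_eq_zero hF
  simp only [bitF, bI_xor hF, bI_and]
  linear_combination bI F p * bI F r * hω - bI F p * bI F r * (ω + 1) * h2

include hF hω in
theorem bitF_herm (p q r s : Bool) : bitF ω p q * bitF ω r s ^ 2 =
    bitF ω ((p && s) ^^ (q && r)) ((p && r) ^^ (q && (r ^^ s))) := by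
  rw [bitF_sq hF hω, bitF_mul_bitF hF hω]
  cases p <;> cases q <;> cases r <;> cases s <;> rfl

include hω in
theorem omega_ne_zero : ω ≠ 0 := by
  rintro rfl
  simp at hω

include hF hω in
theorem bitF_eq_zero {p q : Bool} (h : bitF ω p q = 0) : p = false ∧ q = false := by
  have h2 := two_eq_zero hF
  cases p <;> cases q <;> simp [bitF, bI] at h ⊢
  · exact omega_ne_zero hω h
  · have h3 : ω = -1 := by linear_combination h
    rw [h3] at hω
    have : (1 : F) = 0 := by linear_combination hω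
    exact one_ne_zero this

include hF hω in
theorem bitF_inj {p q r s : Bool} (h : bitF ω p q = bitF ω r s) : p = r ∧ q = s := by
  have h1 : bitF ω (p ^^ r) (q ^^ s) = 0 := by
    rw [bitF_xor hF, h]; exact add_self hF _
  obtain ⟨h2, h3⟩ := bitF_eq_zero hF hω h1
  constructor
  · cases p <;> cases r <;> simp_all
  · cases q <;> cases s <;> simp_all

include hF hω in
/-- Every element of `F` is of the form `p ω + q`. -/
theorem exists_bitF (x : F) : ∃ p q : Bool, x = bitF ω p q := by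
  have hinj : Function.Injective (fun t : Bool × Bool => bitF ω t.1 t.2) := by
    rintro ⟨p, q⟩ ⟨r, s⟩ h
    obtain ⟨h1, h2⟩ := bitF_inj hF hω h
    exact Prod.ext h1 h2
  have hbij : Function.Bijective (fun t : Bool × Bool => bitF ω t.1 t.2) := by
    rw [Fintype.bijective_iff_injective_and_card]
    refine ⟨hinj, ?_⟩
    rw [hF]; rfl
  obtain ⟨⟨p, q⟩, h⟩ := hbij.2 x
  exact ⟨p, q, h.symm⟩

omit [Fintype F] in
theorem bitF_one_zero : bitF ω false false = 0 := by simp [bitF, bI]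

omit [Fintype F] in
theorem bitF_one_one : bitF ω false true = 1 := by simp [bitF, bI]

end field

section basis

variable {F : Type*} [Field F] [Fintype F] (hF : Fintype.card F = 2 ^ 2) {ω : F}
  (hω : ω ^ 2 + ω + 1 = 0)

/-- A hyperbolic basis. -/
def IsHypBasis (b : Fin 6 → (Fin 6 → F)) : Prop :=
  ∀ i j : Fin 6, hermForm 6 F 2 (b i) (b j) = if i.rev = j then 1 else 0

/-- The coefficient of a code. -/
def co (ω : F) (c : ℕ) (k : ℕ) : F := bitF ω (c.testBit (2 * k + 1)) (c.testBit (2 * k))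

/-- The vector of a code. -/
def dec (b : Fin 6 → (Fin 6 → F)) (ω : F) (c : ℕ) : Fin 6 → F := ∑ k : Fin 6, co ω c k • b k

variable {b : Fin 6 → (Fin 6 → F)} (hb : IsHypBasis b)

include hF in
theorem dec_xor (a c : ℕ) : dec b ω (a ^^^ c) = dec b ω a + dec b ω c := by
  rw [dec, dec, dec, ← Finset.sum_add_distrib]
  refine Finset.sum_congr rfl fun k _ => ?_
  rw [← add_smul, co, Nat.testBit_xor, Nat.testBit_xor, bitF_xor hF]
  rfl

include hF hω in
theorem dec_w (c : ℕ) : dec b ω (w c) = ω • dec b ω c := by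
  rw [dec, dec, Finset.smul_sum]
  refine Finset.sum_congr rfl fun k _ => ?_
  rw [smul_smul, co, co, bitF_mul hF hω]
  have hk := k.2
  rw [testBit_w _ _ (by omega), testBit_w _ _ (by omega)]
  have e1 : (2 * (k : ℕ) + 1) % 2 = 1 := by omega
  have e2 : (2 * (k : ℕ)) % 2 = 0 := by omega
  simp [e1, e2]

include hb hF in
theorem herm_dec_basis (a : ℕ) (l : Fin 6) : hermForm 6 F 2 (dec b ω a) (b l) = co ω a l.rev := by
  rw [dec, herm_sum_left, Finset.sum_eq_single l.rev]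
  · rw [herm_smul_left, hb, Fin.rev_rev, if_pos rfl, mul_one]
  · intro k _ hk
    rw [herm_smul_left, hb, if_neg, mul_zero]
    intro h
    exact hk (by rw [← h, Fin.rev_rev])
  · simp

include hb hF in
theorem herm_dec_co (a c : ℕ) : hermForm 6 F 2 (dec b ω a) (dec b ω c) =
    ∑ k : Fin 6, co ω a k.rev * co ω c k ^ 2 := by
  conv_lhs => rw [dec.eq_1 b ω c]
  rw [herm_sum_right hF]
  refine Finset.sum_congr rfl fun k _ => ?_
  rw [herm_smul_right, herm_dec_basis hF hb, mul_comm]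

include hb hF hω in
theorem herm_dec {a : ℕ} (ha : a < 4096) (c : ℕ) : hermForm 6 F 2 (dec b ω a) (dec b ω c) =
    bitF ω (hHi a c) (hLo a c) := by
  rw [herm_dec_co hF hb]
  have r0 : ((Fin.rev (0 : Fin 6) : Fin 6) : ℕ) = 5 := rfl
  have r1 : ((Fin.rev (1 : Fin 6) : Fin 6) : ℕ) = 4 := rfl
  have r2 : ((Fin.rev (2 : Fin 6) : Fin 6) : ℕ) = 3 := rfl
  have r3 : ((Fin.rev (3 : Fin 6) : Fin 6) : ℕ) = 2 := rfl
  have r4 : ((Fin.rev (4 : Fin 6) : Fin 6) : ℕ) = 1 := rfl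
  have r5 : ((Fin.rev (5 : Fin 6) : Fin 6) : ℕ) = 0 := rfl
  have v0 : ((0 : Fin 6) : ℕ) = 0 := rfl
  have v1 : ((1 : Fin 6) : ℕ) = 1 := rfl
  have v2 : ((2 : Fin 6) : ℕ) = 2 := rfl
  have v3 : ((3 : Fin 6) : ℕ) = 3 := rfl
  have v4 : ((4 : Fin 6) : ℕ) = 4 := rfl
  have v5 : ((5 : Fin 6) : ℕ) = 5 := rfl
  simp only [co, bitF_herm hF hω, Fin.sum_univ_six, r0, r1, r2, r3, r4, r5, v0, v1, v2, v3, v4, v5,
    Nat.reduceMul, Nat.reduceAdd]
  rw [hHi_spec ha, hLo_spec ha]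
  simp only [bitF, bI_xor hF, bI_and]
  ring

include hb hF hω in
theorem orth_iff {a : ℕ} (ha : a < 4096) (c : ℕ) :
    orth a c = true ↔ hermForm 6 F 2 (dec b ω a) (dec b ω c) = 0 := by
  rw [herm_dec hF hω hb ha, orth, Bool.and_eq_true, Bool.not_eq_true', Bool.not_eq_true']
  constructor
  · rintro ⟨h1, h2⟩
    rw [h1, h2, bitF_one_zero]
  · exact bitF_eq_zero hF hω

include hb hF hω in
theorem hOne_iff {a : ℕ} (ha : a < 4096) (c : ℕ) :
    hOne a c = true ↔ hermForm 6 F 2 (dec b ω a) (dec b ω c) = 1 := by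
  rw [herm_dec hF hω hb ha, hOne, Bool.and_eq_true, Bool.not_eq_true']
  constructor
  · rintro ⟨h1, h2⟩
    rw [h1, h2, bitF_one_one]
  · intro h
    rw [← bitF_one_one (F := F) (ω := ω)] at h
    exact bitF_inj hF hω h

include hb hF hω in
theorem dec_inj {a c : ℕ} (ha : a < 4096) (hc : c < 4096) (h : dec b ω a = dec b ω c) : a = c := by
  have key : ∀ k < 6, a.testBit (2 * k + 1) = c.testBit (2 * k + 1) ∧
      a.testBit (2 * k) = c.testBit (2 * k) := by
    intro k hk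
    have h1 := herm_dec_basis hF hb (ω := ω) a (Fin.rev ⟨k, hk⟩)
    rw [h, herm_dec_basis hF hb, Fin.rev_rev] at h1
    have h2 := bitF_inj hF hω h1
    exact ⟨h2.1.symm, h2.2.symm⟩
  apply Nat.eq_of_testBit_eq
  intro i
  by_cases hi : i < 12
  · have h1 := key (i / 2) (by omega)
    rcases Nat.mod_two_eq_zero_or_one i with h2 | h2
    · have : 2 * (i / 2) = i := by omega
      rw [this] at h1
      exact h1.2
    · have : 2 * (i / 2) + 1 = i := by omega
      rw [this] at h1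
      exact h1.1
  · have h3 : 4096 ≤ 2 ^ i := by
      calc 4096 = 2 ^ 12 := by norm_num
        _ ≤ 2 ^ i := Nat.pow_le_pow_right (by norm_num) (by omega)
    rw [Nat.testBit_lt_two_pow (by omega), Nat.testBit_lt_two_pow (by omega)]

include hb hF hω in
theorem dec_surj (v : Fin 6 → F) : ∃ c < 4096, dec b ω c = v := by
  have hinj : Function.Injective (fun c : Fin 4096 => dec b ω (c : ℕ)) := by
    intro a c h
    exact Fin.ext (dec_inj hF hω hb a.2 c.2 h)
  have hbij : Function.Bijective (fun c : Fin 4096 => dec b ω (c : ℕ)) := by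
    rw [Fintype.bijective_iff_injective_and_card]
    refine ⟨hinj, ?_⟩
    rw [Fintype.card_fin, Fintype.card_fun, hF, Fintype.card_fin]
    norm_num
  obtain ⟨c, hc⟩ := hbij.2 v
  exact ⟨c, c.2, hc⟩

omit [Fintype F] in
theorem dec_zero : dec b ω 0 = 0 := by
  simp [dec, co, bitF, bI]

include hb hF hω in
theorem dec_eq_zero {c : ℕ} (hc : c < 4096) : dec b ω c = 0 ↔ c = 0 := by
  constructor
  · intro h
    apply dec_inj hF hω hb hc (by norm_num)
    rw [h, dec_zero]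
  · rintro rfl; exact dec_zero

include hb hF hω in
theorem isPt_iff_dec {c : ℕ} : isPt c = true ↔
    c < 4096 ∧ dec b ω c ≠ 0 ∧ hermForm 6 F 2 (dec b ω c) (dec b ω c) = 0 := by
  rw [HermCode.isPt_iff]
  constructor
  · rintro ⟨h1, h2, h3⟩
    exact ⟨h1, fun h => h2 ((dec_eq_zero hF hω hb h1).1 h), (orth_iff hF hω hb h1 c).1 h3⟩
  · rintro ⟨h1, h2, h3⟩
    exact ⟨h1, fun h => h2 ((dec_eq_zero hF hω hb h1).2 h), (orth_iff hF hω hb h1 c).2 h3⟩

include hF hω in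
theorem dec_ww (c : ℕ) : dec b ω (w (w c)) = ω ^ 2 • dec b ω c := by
  rw [dec_w hF hω, dec_w hF hω, smul_smul, pow_two]

include hb hF hω in
theorem mult_iff {a c : ℕ} (ha : a < 4096) (hc : c < 4096) (hc0 : dec b ω c ≠ 0) :
    mult a c = true ↔ ∃ x : F, dec b ω c = x • dec b ω a := by
  simp only [mult, Bool.or_eq_true, beq_iff]
  constructor
  · rintro ((rfl | rfl) | rfl)
    · exact ⟨1, (one_smul _ _).symm⟩
    · exact ⟨ω, dec_w hF hω _⟩
    · exact ⟨ω ^ 2, dec_ww hF hω _⟩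
  · rintro ⟨x, hx⟩
    obtain ⟨p, q, rfl⟩ := exists_bitF hF hω x
    cases p <;> cases q
    · exfalso
      rw [bitF_one_zero, zero_smul] at hx
      exact hc0 hx
    · left; left
      rw [bitF_one_one, one_smul] at hx
      exact dec_inj hF hω hb hc ha hx
    · left; right
      apply dec_inj hF hω hb hc (w_lt a)
      rw [hx, dec_w hF hω]
      simp [bitF, bI]
    · right
      apply dec_inj hF hω hb hc (w_lt _)
      rw [hx, dec_ww hF hω]
      congr 1
      simp only [bitF, bI, cond_true]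
      linear_combination hω - ω ^ 2 * two_eq_zero hF

end basis

section change

variable {F : Type*} [Field F] [Fintype F] (hF : Fintype.card F = 2 ^ 2) {ω : F}
  (hω : ω ^ 2 + ω + 1 = 0) {f : Fin 6 → (Fin 6 → F)}

omit [Fintype F] in
theorem IsHypBasis.vals (hf : IsHypBasis f) :
    (hermForm 6 F 2 (f 0) (f 0) = 0 ∧ hermForm 6 F 2 (f 0) (f 1) = 0 ∧
      hermForm 6 F 2 (f 0) (f 2) = 0 ∧ hermForm 6 F 2 (f 0) (f 3) = 0 ∧
      hermForm 6 F 2 (f 0) (f 4) = 0 ∧ hermForm 6 F 2 (f 0) (f 5) = 1) ∧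
    (hermForm 6 F 2 (f 1) (f 0) = 0 ∧ hermForm 6 F 2 (f 1) (f 1) = 0 ∧
      hermForm 6 F 2 (f 1) (f 2) = 0 ∧ hermForm 6 F 2 (f 1) (f 3) = 0 ∧
      hermForm 6 F 2 (f 1) (f 4) = 1 ∧ hermForm 6 F 2 (f 1) (f 5) = 0) ∧
    (hermForm 6 F 2 (f 2) (f 0) = 0 ∧ hermForm 6 F 2 (f 2) (f 1) = 0 ∧
      hermForm 6 F 2 (f 2) (f 2) = 0 ∧ hermForm 6 F 2 (f 2) (f 3) = 1 ∧
      hermForm 6 F 2 (f 2) (f 4) = 0 ∧ hermForm 6 F 2 (f 2) (f 5) = 0) ∧
    (hermForm 6 F 2 (f 3) (f 0) = 0 ∧ hermForm 6 F 2 (f 3) (f 1) = 0 ∧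
      hermForm 6 F 2 (f 3) (f 2) = 1 ∧ hermForm 6 F 2 (f 3) (f 3) = 0 ∧
      hermForm 6 F 2 (f 3) (f 4) = 0 ∧ hermForm 6 F 2 (f 3) (f 5) = 0) ∧
    (hermForm 6 F 2 (f 4) (f 0) = 0 ∧ hermForm 6 F 2 (f 4) (f 1) = 1 ∧
      hermForm 6 F 2 (f 4) (f 2) = 0 ∧ hermForm 6 F 2 (f 4) (f 3) = 0 ∧
      hermForm 6 F 2 (f 4) (f 4) = 0 ∧ hermForm 6 F 2 (f 4) (f 5) = 0) ∧
    (hermForm 6 F 2 (f 5) (f 0) = 1 ∧ hermForm 6 F 2 (f 5) (f 1) = 0 ∧
      hermForm 6 F 2 (f 5) (f 2) = 0 ∧ hermForm 6 F 2 (f 5) (f 3) = 0 ∧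
      hermForm 6 F 2 (f 5) (f 4) = 0 ∧ hermForm 6 F 2 (f 5) (f 5) = 0) := by
  refine ⟨⟨?_, ?_, ?_, ?_, ?_, ?_⟩, ⟨?_, ?_, ?_, ?_, ?_, ?_⟩, ⟨?_, ?_, ?_, ?_, ?_, ?_⟩,
    ⟨?_, ?_, ?_, ?_, ?_, ?_⟩, ⟨?_, ?_, ?_, ?_, ?_, ?_⟩, ⟨?_, ?_, ?_, ?_, ?_, ?_⟩⟩ <;>
  (rw [hf]; rfl)

/-- A Siegel transformation. -/
def siegel (f : Fin 6 → (Fin 6 → F)) (x1 x2 x3 x4 : F) : Fin 6 → (Fin 6 → F) :=
  ![f 0, f 1 + x1 • f 0, f 2 + x2 • f 0, f 3 + x3 • f 0, f 4 + x4 • f 0,
    f 5 + x4 ^ 2 • f 1 + x3 ^ 2 • f 2 + x2 ^ 2 • f 3 + x1 ^ 2 • f 4 +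
      (x1 ^ 2 * x4 + x2 ^ 2 * x3) • f 0]

include hF in
theorem siegel_hyp (hf : IsHypBasis f) (x1 x2 x3 x4 : F) : IsHypBasis (siegel f x1 x2 x3 x4) := by
  have h2 := two_eq_zero hF
  have p1 := pow_four hF x1
  have p2 := pow_four hF x2
  have p3 := pow_four hF x3
  have p4 := pow_four hF x4
  obtain ⟨⟨a00, a01, a02, a03, a04, a05⟩, ⟨a10, a11, a12, a13, a14, a15⟩,
    ⟨a20, a21, a22, a23, a24, a25⟩, ⟨a30, a31, a32, a33, a34, a35⟩,
    ⟨a40, a41, a42, a43, a44, a45⟩, ⟨a50, a51, a52, a53, a54, a55⟩⟩ := hf.vals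
  have key : ∀ i j : Fin 6, hermForm 6 F 2 (siegel f x1 x2 x3 x4 i) (siegel f x1 x2 x3 x4 j) =
      hermForm 6 F 2 (f i) (f j) := by
    intro i j
    fin_cases i <;> fin_cases j <;>
    simp only [siegel, Fin.reduceFinMk, Fin.isValue, Fin.zero_eta, Fin.mk_one,
      Matrix.cons_val, herm_add_left, herm_add_right hF,
      herm_smul_left, herm_smul_right, a00, a01, a02, a03, a04, a05, a10, a11, a12, a13, a14, a15,
      a20, a21, a22, a23, a24, a25, a30, a31, a32, a33, a34, a35, a40, a41, a42, a43, a44, a45,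
      a50, a51, a52, a53, a54, a55, mul_zero, add_zero, zero_add, mul_one]
    · linear_combination p1 + x1 * h2
    · linear_combination p2 + x2 * h2
    · linear_combination p3 + x3 * h2
    · linear_combination p4 + x4 * h2
    · linear_combination x1 ^ 2 * h2
    · linear_combination x2 ^ 2 * h2
    · linear_combination x3 ^ 2 * h2
    · linear_combination x4 ^ 2 * h2
    · linear_combination x1 ^ 2 * p4 + x2 ^ 2 * p3 + (x1 ^ 2 * x4 + x2 ^ 2 * x3 +
        x2 ^ 4 * x3 ^ 2 + x1 ^ 4 * x4 ^ 2 + x1 ^ 2 * x4 * x2 ^ 2 * x3) * h2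
  intro i j
  rw [key, hf]

/-- Rescaling of the first hyperbolic pair. -/
def rescale (f : Fin 6 → (Fin 6 → F)) (x : F) : Fin 6 → (Fin 6 → F) :=
  ![x • f 0, f 1, f 2, f 3, f 4, x • f 5]

include hF in
theorem rescale_hyp (hf : IsHypBasis f) {x : F} (hx : x ≠ 0) : IsHypBasis (rescale f x) := by
  have p1 := pow_three hF hx
  obtain ⟨⟨a00, a01, a02, a03, a04, a05⟩, ⟨a10, a11, a12, a13, a14, a15⟩,
    ⟨a20, a21, a22, a23, a24, a25⟩, ⟨a30, a31, a32, a33, a34, a35⟩,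
    ⟨a40, a41, a42, a43, a44, a45⟩, ⟨a50, a51, a52, a53, a54, a55⟩⟩ := hf.vals
  have key : ∀ i j : Fin 6, hermForm 6 F 2 (rescale f x i) (rescale f x j) =
      hermForm 6 F 2 (f i) (f j) := by
    intro i j
    fin_cases i <;> fin_cases j <;>
    simp only [rescale, Fin.reduceFinMk, Fin.isValue, Fin.zero_eta, Fin.mk_one,
      Matrix.cons_val, herm_add_left, herm_add_right hF,
      herm_smul_left, herm_smul_right, a00, a01, a02, a03, a04, a05, a10, a11, a12, a13, a14, a15,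
      a20, a21, a22, a23, a24, a25, a30, a31, a32, a33, a34, a35, a40, a41, a42, a43, a44, a45,
      a50, a51, a52, a53, a54, a55, mul_zero, add_zero, zero_add, mul_one]
    · linear_combination p1
    · linear_combination p1
  intro i j
  rw [key, hf]

include hF hω in
/-- A hyperbolic basis starting with a given isotropic vector. -/
theorem exists_hyp {v : Fin 6 → F} (hv : v ≠ 0) (hvv : hermForm 6 F 2 v v = 0) :
    ∃ f : Fin 6 → (Fin 6 → F), IsHypBasis f ∧ f 0 = v := by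
  have h2 := two_eq_zero hF
  have h3 : ω ^ 3 = 1 := by linear_combination (ω - 1) * hω
  obtain ⟨e, g, f, hspan, hee, heg, hef, hgg, hgf, hff⟩ :=
    ClassicalGeometry.HermFrame.exists_frame hF (n := 6) (k := 1) (m := 4) rfl
      (W := Submodule.span F {v}) (finrank_span_singleton hv) (by
        intro u hu w hw
        obtain ⟨a, rfl⟩ := Submodule.mem_span_singleton.1 hu
        obtain ⟨c, rfl⟩ := Submodule.mem_span_singleton.1 hw
        rw [herm_smul_left, herm_smul_right, hvv, mul_zero, mul_zero])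
  have he0 : e 0 ∈ Submodule.span F {v} := by
    rw [← hspan]; exact Submodule.subset_span ⟨0, rfl⟩
  obtain ⟨a, ha⟩ := Submodule.mem_span_singleton.1 he0
  have ha0 : a ≠ 0 := by
    rintro rfl
    have h1 := hef 0 0
    rw [← ha, zero_smul, herm_zero_left] at h1
    simp at h1
  have a3 := pow_three hF ha0
  have ef : hermForm 6 F 2 (e 0) (f 0) = 1 := by rw [hef, if_pos rfl]
  have fe : hermForm 6 F 2 (f 0) (e 0) = 1 := by rw [herm_swap hF, ef, one_pow]
  have ee := hee 0 0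
  have ff := hff 0 0
  have eg : ∀ j, hermForm 6 F 2 (e 0) (g j) = 0 := fun j => heg 0 j
  have ge : ∀ j, hermForm 6 F 2 (g j) (e 0) = 0 := fun j => herm_eq_zero_swap hF (heg 0 j)
  have gf : ∀ j, hermForm 6 F 2 (g j) (f 0) = 0 := fun j => hgf j 0
  have fg : ∀ j, hermForm 6 F 2 (f 0) (g j) = 0 := fun j => herm_eq_zero_swap hF (hgf j 0)
  have g00 : hermForm 6 F 2 (g 0) (g 0) = 1 := by rw [hgg, if_pos rfl]
  have g11 : hermForm 6 F 2 (g 1) (g 1) = 1 := by rw [hgg, if_pos rfl]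
  have g22 : hermForm 6 F 2 (g 2) (g 2) = 1 := by rw [hgg, if_pos rfl]
  have g33 : hermForm 6 F 2 (g 3) (g 3) = 1 := by rw [hgg, if_pos rfl]
  have gne : ∀ i j, i ≠ j → hermForm 6 F 2 (g i) (g j) = 0 := fun i j hij => by
    rw [hgg, if_neg hij]
  have g01 := gne 0 1 (by decide)
  have g02 := gne 0 2 (by decide)
  have g03 := gne 0 3 (by decide)
  have g10 := gne 1 0 (by decide)
  have g12 := gne 1 2 (by decide)
  have g13 := gne 1 3 (by decide)
  have g20 := gne 2 0 (by decide)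
  have g21 := gne 2 1 (by decide)
  have g23 := gne 2 3 (by decide)
  have g30 := gne 3 0 (by decide)
  have g31 := gne 3 1 (by decide)
  have g32 := gne 3 2 (by decide)
  set f' : Fin 6 → (Fin 6 → F) := ![e 0, g 0 + g 1, g 2 + g 3, ω • g 2 + ω ^ 2 • g 3,
    ω • g 0 + ω ^ 2 • g 1, f 0] with hf'
  have z1 : (1 : F) + 1 = 0 := by linear_combination h2
  have z2 : ω ^ 2 + (ω ^ 2) ^ 2 = 1 := by linear_combination hω + ω * h3 - h2
  have z3 : ω + ω ^ 2 = 1 := by linear_combination hω - h2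
  have z4 : ω ^ 2 * ω + (ω ^ 2) ^ 2 * ω ^ 2 = 0 := by
    linear_combination (2 + ω ^ 3) * h3 + h2
  have hyp : IsHypBasis f' := by
    intro i j
    fin_cases i <;> fin_cases j <;>
    simp only [hf', Fin.reduceFinMk, Fin.isValue, Fin.zero_eta, Fin.mk_one,
      Matrix.cons_val, herm_add_left, herm_add_right hF, herm_smul_left, herm_smul_right, ef, fe,
      ee, ff, eg, ge, gf, fg, g00, g11, g22, g33, g01, g02, g03, g10, g12, g13, g20, g21, g23, g30,
      g31, g32, mul_zero, add_zero, zero_add, mul_one]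
    all_goals first | rfl | exact z1 | exact z2 | exact z3 | exact z4
  refine ⟨rescale f' a⁻¹, rescale_hyp hF hyp (inv_ne_zero ha0), ?_⟩
  show a⁻¹ • e 0 = v
  rw [← ha, inv_smul_smul₀ ha0]


end change

section hyperoval

variable {F : Type*} [Field F] [Fintype F] (hF : Fintype.card F = 2 ^ 2) {ω : F}
  (hω : ω ^ 2 + ω + 1 = 0)

/-- A set of isotropic vectors meeting every totally isotropic line in `0` or `2` points and closed
under third points of hyperbolic lines. -/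
structure VHyp (ω : F) (M : Set (Fin 6 → F)) : Prop where
  smul : ∀ v, v ≠ 0 → hermForm 6 F 2 v v = 0 → ∀ x : F, x ≠ 0 → v ∈ M → x • v ∈ M
  third : ∀ u v, u ≠ 0 → v ≠ 0 → hermForm 6 F 2 u u = 0 → hermForm 6 F 2 v v = 0 →
    hermForm 6 F 2 u v = 1 → u ∈ M → v ∈ M → u + v ∈ M
  line : ∀ u v, u ≠ 0 → v ≠ 0 → hermForm 6 F 2 u u = 0 → hermForm 6 F 2 v v = 0 →
    hermForm 6 F 2 u v = 0 → (∀ x : F, v ≠ x • u) → u ∈ M →
    (v ∈ M ∧ u + v ∉ M ∧ u + ω • v ∉ M ∧ u + ω ^ 2 • v ∉ M) ∨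
    (v ∉ M ∧ u + v ∈ M ∧ u + ω • v ∉ M ∧ u + ω ^ 2 • v ∉ M) ∨
    (v ∉ M ∧ u + v ∉ M ∧ u + ω • v ∈ M ∧ u + ω ^ 2 • v ∉ M) ∨
    (v ∉ M ∧ u + v ∉ M ∧ u + ω • v ∉ M ∧ u + ω ^ 2 • v ∈ M)

variable {M : Set (Fin 6 → F)}

include hF hω in
theorem VHyp.hyp (hM : VHyp ω M) {b : Fin 6 → (Fin 6 → F)} (hb : IsHypBasis b) :
    Hyp (fun c => dec b ω c ∈ M) := by
  refine ⟨fun a ha hS => ?_, fun a c ha hc h1 hSa hSc => ?_, fun a c ha hc h1 h2 hS => ?_⟩
  · obtain ⟨a1, a2, a3⟩ := (isPt_iff_dec hF hω hb).1 ha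
    simp only [dec_w hF hω]
    exact hM.smul _ a2 a3 ω (omega_ne_zero hω) hS
  · obtain ⟨a1, a2, a3⟩ := (isPt_iff_dec hF hω hb).1 ha
    obtain ⟨c1, c2, c3⟩ := (isPt_iff_dec hF hω hb).1 hc
    simp only [dec_xor hF]
    exact hM.third _ _ a2 c2 a3 c3 ((hOne_iff hF hω hb a1 c).1 h1) hSa hSc
  · obtain ⟨a1, a2, a3⟩ := (isPt_iff_dec hF hω hb).1 ha
    obtain ⟨c1, c2, c3⟩ := (isPt_iff_dec hF hω hb).1 hc
    simp only [dec_xor hF, dec_ww hF hω, dec_w hF hω]
    refine hM.line _ _ a2 c2 a3 c3 ((orth_iff hF hω hb a1 c).1 h1) (fun x hx => ?_) hS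
    have := (mult_iff hF hω hb a1 c1 c2).2 ⟨x, hx⟩
    rw [this] at h2
    exact absurd h2 (by simp)

include hF hω in
/-- On a totally isotropic line through a member there is another member. -/
theorem VHyp.exists_on_line (hM : VHyp ω M) {u v : Fin 6 → F} (hu : u ≠ 0) (hv : v ≠ 0)
    (huu : hermForm 6 F 2 u u = 0) (hvv : hermForm 6 F 2 v v = 0) (huv : hermForm 6 F 2 u v = 0)
    (hne : ∀ x : F, v ≠ x • u) (huM : u ∈ M) : ∃ x : F, v + x • u ∈ M := by
  have h3 : ω ^ 3 = 1 := by linear_combination (ω - 1) * hω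
  have hω0 := omega_ne_zero hω
  have hin : ∀ x : F, v + x • u ≠ 0 := by
    intro x hx
    apply hne (-x)
    rw [neg_smul]
    exact eq_neg_of_add_eq_zero_left hx
  have hiso : ∀ x : F, hermForm 6 F 2 (u + x • v) (u + x • v) = 0 := by
    intro x
    have hvu := herm_eq_zero_swap hF huv
    simp only [herm_add_left, herm_add_right hF, herm_smul_left, herm_smul_right, huu, hvv, huv,
      hvu, mul_zero, add_zero]
  have hnz : ∀ x : F, u + x • v ≠ 0 := by
    intro x hx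
    by_cases hx0 : x = 0
    · rw [hx0, zero_smul, add_zero] at hx
      exact hu hx
    · apply hne (-x⁻¹)
      have h4 : u = -(x • v) := eq_neg_of_add_eq_zero_left hx
      rw [h4, smul_neg, neg_smul, neg_neg, inv_smul_smul₀ hx0]
  rcases hM.line u v hu hv huu hvv huv hne huM with h | h | h | h
  · exact ⟨0, by rw [zero_smul, add_zero]; exact h.1⟩
  · exact ⟨1, by rw [one_smul, add_comm]; exact h.2.1⟩
  · refine ⟨ω ^ 2, ?_⟩
    have := hM.smul _ (hnz ω) (hiso ω) (ω ^ 2) (pow_ne_zero 2 hω0) h.2.2.1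
    rw [smul_add, smul_smul, ← pow_succ, h3, one_smul] at this
    rwa [add_comm]
  · refine ⟨ω, ?_⟩
    have := hM.smul _ (hnz (ω ^ 2)) (hiso (ω ^ 2)) ω hω0 h.2.2.2
    rw [smul_add, smul_smul, ← pow_succ', h3, one_smul] at this
    rwa [add_comm]

theorem dec_basis (b : Fin 6 → (Fin 6 → F)) (ω : F) : dec b ω 1 = b 0 ∧ dec b ω 4 = b 1 ∧
    dec b ω 16 = b 2 ∧ dec b ω 64 = b 3 ∧ dec b ω 256 = b 4 ∧ dec b ω 1024 = b 5 ∧
    dec b ω 21 = b 0 + b 1 + b 2 := by
  refine ⟨?_, ?_, ?_, ?_, ?_, ?_, ?_⟩ <;>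
  simp [dec, co, Fin.sum_univ_six, bitF, bI, Nat.testBit]

include hF hω in
theorem VHyp.of_six (hM : VHyp ω M) {b : Fin 6 → (Fin 6 → F)} (hb : IsHypBasis b)
    (m0 : b 0 ∈ M) (m1 : b 1 ∈ M) (m2 : b 2 ∈ M) (m3 : b 3 ∈ M) (m4 : b 4 ∈ M)
    (m5 : b 0 + b 1 + b 2 ∈ M) {c : ℕ} (hc : isPt c = true) :
    dec b ω c ∈ M ↔ tb M0mask c = true := by
  obtain ⟨k0, k1, k2, k3, k4, -, k5⟩ := dec_basis b ω
  rw [← k0] at m0
  rw [← k1] at m1
  rw [← k2] at m2
  rw [← k3] at m3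
  rw [← k4] at m4
  rw [← k5] at m5
  exact HermCode.unique (hM.hyp hF hω hb) m0 m1 m2 m3 m4 m5 hc

include hF hω in
/-- Normal form of a hyperoval closed under third points. -/
theorem VHyp.normal (hM : VHyp ω M) {v : Fin 6 → F} (hv : v ≠ 0)
    (hvv : hermForm 6 F 2 v v = 0) (hvM : v ∈ M) :
    ∃ b : Fin 6 → (Fin 6 → F), IsHypBasis b ∧ (∃ x : F, x ≠ 0 ∧ b 0 = x • v) ∧
      ∀ c, isPt c = true → (dec b ω c ∈ M ↔ tb M0mask c = true) := by
  have h2 := two_eq_zero hF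
  have h3 : ω ^ 3 = 1 := by linear_combination (ω - 1) * hω
  have hω0 := omega_ne_zero hω
  obtain ⟨f, hf, hf0⟩ := exists_hyp hF hω hv hvv
  have hne0 : ∀ {g : Fin 6 → (Fin 6 → F)}, IsHypBasis g → ∀ i, g i ≠ 0 := by
    intro g hg i h
    have h1 := hg i i.rev
    rw [if_pos rfl, h, herm_zero_left] at h1
    exact zero_ne_one h1
  have hne : ∀ {g : Fin 6 → (Fin 6 → F)}, IsHypBasis g → ∀ i j, i ≠ j → ∀ x : F, g i ≠ x • g j := by
    intro g hg i j hij x h
    have h1 := hg i i.rev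
    rw [if_pos rfl, h, herm_smul_left, hg, if_neg, mul_zero] at h1
    · exact zero_ne_one h1
    · intro h4
      exact hij (Fin.rev_injective h4).symm
  have step1 : ∀ i : Fin 6, i ≠ 0 → i ≠ 5 → ∃ x : F, f i + x • f 0 ∈ M := by
    intro i hi hi5
    apply hM.exists_on_line hF hω (hne0 hf 0) (hne0 hf i)
    · rw [hf]; rfl
    · rw [hf, if_neg]
      intro h
      have := congrArg Fin.val h
      simp only [Fin.val_rev] at this
      omega
    · rw [hf, if_neg]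
      intro h
      exact hi5 h.symm
    · exact hne hf i 0 hi
    · rw [hf0]; exact hvM
  obtain ⟨x1, hx1⟩ := step1 1 (by decide) (by decide)
  obtain ⟨x2, hx2⟩ := step1 2 (by decide) (by decide)
  obtain ⟨x3, hx3⟩ := step1 3 (by decide) (by decide)
  obtain ⟨x4, hx4⟩ := step1 4 (by decide) (by decide)
  obtain ⟨g, hgb, g0, g1, g2, g3, g4⟩ : ∃ g : Fin 6 → (Fin 6 → F), IsHypBasis g ∧ g 0 = v ∧
      g 1 ∈ M ∧ g 2 ∈ M ∧ g 3 ∈ M ∧ g 4 ∈ M :=
    ⟨siegel f x1 x2 x3 x4, siegel_hyp hF hf x1 x2 x3 x4, hf0, hx1, hx2, hx3, hx4⟩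
  have g0M : g 0 ∈ M := by rw [g0]; exact hvM
  -- the sixth point
  obtain ⟨⟨a00, a01, a02, a03, a04, a05⟩, ⟨a10, a11, a12, a13, a14, a15⟩,
    ⟨a20, a21, a22, a23, a24, a25⟩, -⟩ := hgb.vals
  have hs0 : g 1 + g 2 ≠ 0 := by
    intro h
    apply hne hgb 1 2 (by decide) (-1)
    rw [neg_smul, one_smul]
    exact eq_neg_of_add_eq_zero_left h
  have hss : hermForm 6 F 2 (g 1 + g 2) (g 1 + g 2) = 0 := by
    simp only [herm_add_left, herm_add_right hF, a11, a12, a21, a22, add_zero]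
  obtain ⟨y, hy⟩ : ∃ y : F, (g 1 + g 2) + y • g 0 ∈ M := by
    apply hM.exists_on_line hF hω (hne0 hgb 0) hs0 a00 hss
    · rw [herm_add_right hF, a01, a02, add_zero]
    · intro x h
      have h5 := hgb 4 1
      rw [if_pos (by decide)] at h5
      have h6 : hermForm 6 F 2 (g 4) (g 1 + g 2) = 1 := by
        rw [herm_add_right hF, h5, hgb 4 2, if_neg (by decide), add_zero]
      rw [h, herm_smul_right, hgb 4 0, if_neg (by decide), mul_zero] at h6
      exact zero_ne_one h6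
    · exact g0M
  have hy0 : y ≠ 0 := by
    rintro rfl
    rw [zero_smul, add_zero] at hy
    rcases hM.line (g 1) (g 2) (hne0 hgb 1) (hne0 hgb 2) a11 a22 a12
      (hne hgb 2 1 (by decide)) g1 with h | h | h | h
    · exact h.2.1 hy
    · exact h.1 g2
    · exact h.1 g2
    · exact h.1 g2
  refine ⟨rescale g y, rescale_hyp hF hgb hy0, ⟨y, hy0, ?_⟩, fun c hc => ?_⟩
  · rw [← g0]; rfl
  · refine hM.of_six hF hω (rescale_hyp hF hgb hy0) ?_ g1 g2 g3 g4 ?_ hc
    · show y • g 0 ∈ M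
      rw [g0]
      exact hM.smul v hv hvv y hy0 hvM
    · have : rescale g y 0 + rescale g y 1 + rescale g y 2 = g 1 + g 2 + y • g 0 := by
        show y • g 0 + g 1 + g 2 = _
        rw [add_assoc, add_comm]
      rw [this]; exact hy

end hyperoval

end Cfsg.Agent.R01.HermSix
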