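import Cfsg.Agent.R01.Loc
import Cfsg.Agent.R01.GlueFull

/-!
Labels of the members of `D` commuting with two commuting members `z, a`, when the centraliser of `z` is a double
cover of a group with the local hypothesis `Loc`.
-/

set_option autoImplicit false
set_option linter.unusedSectionVars false

namespace Cfsg.Agent.R01.LabelsOf

open Cfsg Cfsg.Agent.LieClassical.HermBasic
open Cfsg.Agent.ClassicalGeometry.UnitTransv (act)
open Cfsg.Agent.ClassicalGeometry.UnitAutBasic (tau)
open Cfsg.Agent.R01.Lifts Cfsg.Agent.R01.PSUSix Cfsg.Agent.R01.Label Cfsg.Agent.R01.Start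
open Cfsg.Agent.R01.Loc Cfsg.Agent.R01.HermRigid Cfsg.Agent.R01.GlueFull

universe u v w

variable {G : Type u} [Group G] {P : Type w} [Group P]

/-- The local data at a member `z` of `D`: the centraliser is a double cover of `P`, the members of `D` in it are `z`
and lifts of the members of `T`. -/
structure Ch (T : Set P) (D : Set G) (z : G) (π : Subgroup.centralizer ({z} : Set G) →* P)
    (D0 : Set (Subgroup.centralizer ({z} : Set G))) : Prop where
  ext : Ext π (zel z)
  bij : Set.BijOn π D0 T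
  sq0 : ∀ a ∈ D0, a * a = 1
  comm : ∀ a ∈ D0, ∀ b ∈ D0, π a * π b = π b * π a → a * b = b * a
  mem : ∀ x : Subgroup.centralizer ({z} : Set G), (x : G) ∈ D ↔ x = zel z ∨ x ∈ D0

/-- Labels at a commuting pair of members of `D`. -/
structure LabAt {F : Type v} [Field F] [Fintype F] (hF : Fintype.card F = 2 ^ 2) (D : Set G)
    (z a : G) (lab : (Fin 6 → F) → G) : Prop where
  labels : Labels (Sset D z a) 6 F lab
  ker : ∀ l : List (Fin 6 → F), (∀ v ∈ l, v ≠ 0 ∧ hermForm 6 F 2 v v = 0) →
    (l.map (tau hF)).prod = 1 → (l.map lab).prod ∈ Subgroup.closure ({z, a} : Set G)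
  gen : ∀ x, Commute x z → Commute x a →
    x ∈ Subgroup.closure {d | d ∈ D ∧ Commute d z ∧ Commute d a}

theorem exists_labels {F : Type v} [Field F] [Fintype F] {hF : Fintype.card F = 2 ^ 2}
    {T : Set P} {D : Set G} {z : G} {π : Subgroup.centralizer ({z} : Set G) →* P}
    {D0 : Set (Subgroup.centralizer ({z} : Set G))} (hch : Ch T D z π D0) (hT1 : (1 : P) ∉ T)
    (hloc : Loc hF T)
    (hDc : ∀ g : G, ∀ x ∈ D, g * x * g⁻¹ ∈ D) {a : G} (ha : a ∈ D) (hne : a ≠ z)
    (hc : Commute a z) : ∃ lab : (Fin 6 → F) → G, LabAt hF D z a lab := by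
  classical
  have hmemC : ∀ {x : G}, Commute x z → x ∈ Subgroup.centralizer ({z} : Set G) :=
    fun hx => Subgroup.mem_centralizer_singleton_iff.2 hx
  have hcent : ∀ x : Subgroup.centralizer ({z} : Set G), Commute (x : G) z := fun x =>
    Subgroup.mem_centralizer_singleton_iff.1 x.2
  set a0 : Subgroup.centralizer ({z} : Set G) := ⟨a, hmemC hc⟩ with ha0
  have ha0D : a0 ∈ D0 := by
    rcases (hch.mem a0).1 ha with h | h
    · exact absurd (congrArg Subtype.val h) hne
    · exact h
  have hzD0 : zel z ∉ D0 := by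
    intro h
    apply hT1
    rw [← hch.ext.mapz]
    exact hch.bij.1 h
  have hD0D : ∀ x ∈ D0, (x : G) ∈ D := fun x hx => (hch.mem x).2 (Or.inr hx)
  have hD0c : ∀ g : Subgroup.centralizer ({z} : Set G), ∀ x ∈ D0, g * x * g⁻¹ ∈ D0 := by
    intro g x hx
    rcases (hch.mem (g * x * g⁻¹)).1 (hDc g x (hD0D x hx)) with h | h
    · exfalso
      apply hzD0
      have h1 : x = g⁻¹ * zel z * g := by rw [← h]; group
      have h2 : g⁻¹ * zel z * g = zel z := by
        rw [hch.ext.comm, mul_assoc, inv_mul_cancel, mul_one]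
      rw [← h2, ← h1]
      exact hx
    · exact h
  set t := π a0 with ht
  have htT : t ∈ T := hch.bij.1 ha0D
  obtain ⟨π2, lift2, L2, hL2⟩ := hloc t htT
  have hlT : ∀ v : Fin 6 → F, v ≠ 0 → hermForm 6 F 2 v v = 0 → ((lift2 v : P)) ∈ T := by
    intro v hv0 hv
    exact (hL2 _).2 (Or.inr (Lab.mem_D hv0 hv))
  have hlift : ∀ v : Fin 6 → F, ∃ x : Subgroup.centralizer ({z} : Set G),
      (v ≠ 0 → hermForm 6 F 2 v v = 0 → (x ∈ D0 ∧ π x = (lift2 v : P))) := by
    intro v
    by_cases hv : v ≠ 0 ∧ hermForm 6 F 2 v v = 0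
    · obtain ⟨x, hx, hxv⟩ := hch.bij.2.2 (hlT v hv.1 hv.2)
      exact ⟨x, fun _ _ => ⟨hx, hxv⟩⟩
    · exact ⟨1, fun h1 h2 => absurd ⟨h1, h2⟩ hv⟩
  choose lb hlb using hlift
  have hinj : ∀ x ∈ D0, ∀ y ∈ D0, π x = π y → x = y := fun x hx y hy h => hch.bij.2.1 hx hy h
  have hcomm : ∀ x ∈ D0, ∀ y ∈ D0, (Commute (x : G) (y : G) ↔ Commute (π x) (π y)) := by
    intro x hx y hy
    constructor
    · intro h
      have h6 : x * y = y * x := Subtype.ext h
      have : π x * π y = π y * π x := by rw [← map_mul, h6, map_mul]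
      exact this
    · intro h
      exact congrArg Subtype.val (hch.comm x hx y hy h)
  have hct : ∀ v : Fin 6 → F, Commute ((lift2 v : Subgroup.centralizer ({t} : Set P)) : P) t :=
    fun v => Subgroup.mem_centralizer_singleton_iff.1 (lift2 v).2
  have hlcomm : ∀ v w : Fin 6 → F, v ≠ 0 → w ≠ 0 → hermForm 6 F 2 v v = 0 →
      hermForm 6 F 2 w w = 0 → (Commute ((lb v : Subgroup.centralizer ({z} : Set G)) : G) (lb w) ↔
        hermForm 6 F 2 v w = 0) := by
    intro v w hv0 hw0 hv hw
    obtain ⟨h1, h2⟩ := hlb v hv0 hv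
    obtain ⟨h3, h4⟩ := hlb w hw0 hw
    rw [hcomm _ h1 _ h3, h2, h4, ← L2.commute_iff hv hw hv0 hw0]
    exact ⟨fun h => Subtype.ext h, fun h => congrArg Subtype.val h⟩
  have hmem : ∀ v : Fin 6 → F, v ≠ 0 → hermForm 6 F 2 v v = 0 →
      ((lb v : Subgroup.centralizer ({z} : Set G)) : G) ∈ Sset D z a := by
    intro v hv0 hv
    obtain ⟨h1, h2⟩ := hlb v hv0 hv
    refine ⟨hD0D _ h1, hcent _, ?_, ?_, ?_⟩
    · have : Commute ((lb v : Subgroup.centralizer ({z} : Set G)) : G) (a0 : G) := by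
        rw [hcomm _ h1 _ ha0D, h2]
        exact hct v
      exact this
    · intro h
      apply hzD0
      have : lb v = zel z := Subtype.ext h
      rw [← this]
      exact h1
    · intro h
      have h3 : lb v = a0 := Subtype.ext h
      rw [h3] at h2
      apply L2.z_notMem
      have h4 : lift2 v = zel t := Subtype.ext h2.symm
      rw [← h4]
      exact Lab.mem_D hv0 hv
  refine ⟨fun v => (lb v : G), ⟨⟨hmem, ?_, ?_, ?_, hlcomm, ?_, ?_⟩, ?_, ?_⟩⟩
  · -- surjectivity
    rintro s ⟨hsD, hsz, hsa, hsz', hsa'⟩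
    rcases (hch.mem ⟨s, hmemC hsz⟩).1 hsD with h | h
    · exact absurd (congrArg Subtype.val h) hsz'
    · set s0 : Subgroup.centralizer ({z} : Set G) := ⟨s, hmemC hsz⟩ with hs0
      have h1 : Commute (π s0) t := (hcomm _ h _ ha0D).1 hsa
      rcases (hL2 ⟨π s0, Subgroup.mem_centralizer_singleton_iff.2 h1⟩).1 (hch.bij.1 h) with h2 | h2
      · exfalso
        apply hsa'
        have h3 : π s0 = π a0 := congrArg Subtype.val h2
        exact congrArg Subtype.val (hinj _ h _ ha0D h3)
      · obtain ⟨v, hv0, hv, h3⟩ := h2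
        refine ⟨v, hv0, hv, ?_⟩
        have h4 : π s0 = (lift2 v : P) := congrArg Subtype.val h3
        obtain ⟨h5, h6⟩ := hlb v hv0 hv
        have h7 := hinj _ h _ h5 (by rw [h4, h6])
        exact congrArg Subtype.val h7
  · intro v hv0 hv c hcc
    have hcv0 : c • v ≠ 0 := smul_ne_zero hcc hv0
    have hcv : hermForm 6 F 2 (c • v) (c • v) = 0 := by
      rw [herm_smul_left, herm_smul_right, hv, mul_zero, mul_zero]
    obtain ⟨h1, h2⟩ := hlb v hv0 hv
    obtain ⟨h3, h4⟩ := hlb (c • v) hcv0 hcv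
    refine congrArg Subtype.val (hinj _ h3 _ h1 ?_)
    rw [h4, h2, L2.smul v c hv hcc]
  · intro v w hv0 hw0 hv hw h
    obtain ⟨h1, h2⟩ := hlb v hv0 hv
    obtain ⟨h3, h4⟩ := hlb w hw0 hw
    have h5 : lb v = lb w := Subtype.ext h
    have h6 : lift2 v = lift2 w := Subtype.ext (by rw [← h2, ← h4, h5])
    exact (L2.lift_eq_iff hv hw hv0 hw0).1 h6
  · intro v hv0 hv
    obtain ⟨h1, h2⟩ := hlb v hv0 hv
    exact congrArg Subtype.val (hch.sq0 _ h1)
  · intro v w hv0 hw0 hv hw
    obtain ⟨h1, h2⟩ := hlb v hv0 hv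
    obtain ⟨h3, h4⟩ := hlb w hw0 hw
    have h5 := L2.conj_lift hv hw hv0 hw0
    have hinv : (lb v)⁻¹ = lb v := inv_eq_of_mul_eq_one_left (hch.sq0 _ h1)
    have h6 : lb v * lb w * lb v ∈ D0 := by
      have := hD0c (lb v) _ h3
      rwa [hinv] at this
    have hne0 := trans_ne_zero hF w v hw0 hv
    have hiso := iso_trans hF w v hw hv
    obtain ⟨h7, h8⟩ := hlb _ hne0 hiso
    refine congrArg Subtype.val (hinj _ h6 _ h7 ?_)
    rw [h8, map_mul, map_mul, h2, h4, ← h5]
    rfl
  · -- kernel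
    intro l hl htau
    have key : ∀ l : List (Fin 6 → F), (∀ v ∈ l, v ≠ 0 ∧ hermForm 6 F 2 v v = 0) →
        ((l.map fun v => ((lb v : Subgroup.centralizer ({z} : Set G)) : G)).prod =
          (((l.map lb).prod : Subgroup.centralizer ({z} : Set G)) : G)) ∧
        π ((l.map lb).prod) = (((l.map lift2).prod : Subgroup.centralizer ({t} : Set P)) : P) ∧
        π2 ((l.map lift2).prod) = (l.map (tau hF)).prod := by
      intro l
      induction l with
      | nil =>
        intro _
        exact ⟨rfl, map_one _, map_one _⟩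
      | cons x l ih =>
        intro hl
        obtain ⟨h1, h2, h3⟩ := ih fun v hv => hl v (List.mem_cons_of_mem _ hv)
        obtain ⟨hx0, hx⟩ := hl x List.mem_cons_self
        simp only [List.map_cons, List.prod_cons]
        refine ⟨by rw [h1]; rfl, ?_, ?_⟩
        · rw [map_mul, h2, (hlb x hx0 hx).2]
          rfl
        · rw [map_mul, h3, L2.map x hx0 hx]
    obtain ⟨h1, h2, h3⟩ := key l hl
    rw [h1]
    rw [htau] at h3
    have hzc : z ∈ Subgroup.closure ({z, a} : Set G) :=
      Subgroup.subset_closure (Set.mem_insert _ _)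
    have hac : a ∈ Subgroup.closure ({z, a} : Set G) :=
      Subgroup.subset_closure (Set.mem_insert_of_mem _ rfl)
    set y := (l.map lb).prod with hy
    rcases (L2.ext.ker _).1 h3 with h4 | h4
    · rw [h4] at h2
      rcases (hch.ext.ker _).1 h2 with h5 | h5
      · rw [h5]; exact one_mem _
      · rw [h5]; exact hzc
    · rw [h4] at h2
      have h5 : π y = π a0 := h2
      rcases hch.ext.map_eq.1 h5 with h6 | h6
      · rw [h6]; exact hac
      · rw [h6]; exact mul_mem hac hzc
  · -- generation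
    intro x hxz hxa
    set x0 : Subgroup.centralizer ({z} : Set G) := ⟨x, hmemC hxz⟩ with hx0
    have h1 : Commute (π x0) t := by
      have h2 : x0 * a0 = a0 * x0 := Subtype.ext hxa
      have : π x0 * π a0 = π a0 * π x0 := by rw [← map_mul, h2, map_mul]
      exact this
    have hgen := L2.isThreeTranspositionClass.2.2
    have h3 : (⟨π x0, Subgroup.mem_centralizer_singleton_iff.2 h1⟩ :
        Subgroup.centralizer ({t} : Set P)) ∈ Subgroup.closure (Dset lift2) := by
      rw [hgen]; trivial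
    set E : Subgroup G := Subgroup.closure {d | d ∈ D ∧ Commute d z ∧ Commute d a} with hE
    have hzE : z ∈ E := Subgroup.subset_closure ⟨(hch.mem (zel z)).2 (Or.inl rfl), Commute.refl z,
      hc.symm⟩
    have h4 : ∀ y : Subgroup.centralizer ({t} : Set P), y ∈ Subgroup.closure (Dset lift2) →
        ∃ y' : Subgroup.centralizer ({z} : Set G), (y' : G) ∈ E ∧ π y' = (y : P) := by
      intro y hy
      induction hy using Subgroup.closure_induction with
      | mem y hy =>
        obtain ⟨v, hv0, hv, rfl⟩ := hy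
        obtain ⟨h5, h6⟩ := hlb v hv0 hv
        obtain ⟨h7, h8, h9, -, -⟩ := hmem v hv0 hv
        exact ⟨lb v, Subgroup.subset_closure ⟨h7, h8, h9⟩, h6⟩
      | one => exact ⟨1, one_mem _, map_one _⟩
      | mul x y _ _ ihx ihy =>
        obtain ⟨x', h5, h6⟩ := ihx
        obtain ⟨y', h7, h8⟩ := ihy
        exact ⟨x' * y', mul_mem h5 h7, by rw [map_mul, h6, h8]; rfl⟩
      | inv x _ ih =>
        obtain ⟨x', h5, h6⟩ := ih
        exact ⟨x'⁻¹, inv_mem h5, by rw [map_inv, h6]; rfl⟩
    obtain ⟨y', h5, h6⟩ := h4 _ h3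
    rcases hch.ext.map_eq.1 (h6.symm : π x0 = π y') with h7 | h7
    · have : x = (y' : G) := congrArg Subtype.val h7
      rw [this]; exact h5
    · have : x = (y' : G) * z := congrArg Subtype.val h7
      rw [this]; exact mul_mem h5 hzE

end Cfsg.Agent.R01.LabelsOf
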