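import Cfsg.Agent.R01.FiMain
import Cfsg.Agent.R01.LabelsOf

/-!
Commuting members of the class `D`: six different ones commuting with another member do not have product one, five
different ones do not have product one.
-/

set_option autoImplicit false
set_option linter.unusedSectionVars false

namespace Cfsg.Agent.R01.HexNe

open Cfsg Cfsg.Agent.R01.Lifts Cfsg.Agent.R01.Start Cfsg.Agent.R01.FiFusion
  Cfsg.Agent.R01.FiFacts Cfsg.Agent.R01.FiHexad

universe u w

variable {G : Type u} [Group G]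

/-- Six members commuting with `z` and each other do not have product one. -/
def Hex1 (D : Set G) : Prop :=
  ∀ z ∈ D, ∀ l : List G, l.length = 6 → l.Nodup → (∀ x ∈ l, x ∈ D ∧ Commute x z ∧ x ≠ z) →
    (∀ x ∈ l, ∀ y ∈ l, Commute x y) → l.prod ≠ 1

/-- Five commuting members do not have product one. -/
def Five1 (D : Set G) : Prop :=
  ∀ l : List G, l.length = 5 → l.Nodup → (∀ x ∈ l, x ∈ D) →
    (∀ x ∈ l, ∀ y ∈ l, Commute x y) → l.prod ≠ 1

variable {P : Type w} [Group P] {z : G} {π : Subgroup.centralizer ({z} : Set G) →* P}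
  {T : Set P} {D0 : Set (Subgroup.centralizer ({z} : Set G))}

/-- The list is conjugated into the centraliser of the base point. -/
theorem conj_list_prod (g : G) (l : List G) :
    (l.map fun x => g * x * g⁻¹).prod = g * l.prod * g⁻¹ := by
  induction l with
  | nil => simp
  | cons a l ih =>
    rw [List.map_cons, List.prod_cons, ih, List.prod_cons]
    group

theorem lift_of {D : Set G}
    (hmem : ∀ x : Subgroup.centralizer ({z} : Set G), (x : G) ∈ D ↔ x = zel z ∨ x ∈ D0) {x : G}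
    (hx : x ∈ D) (hxz : Commute x z) (hne : x ≠ z) :
    ∃ y : Subgroup.centralizer ({z} : Set G), y ∈ D0 ∧ (y : G) = x := by
  refine ⟨⟨x, Subgroup.mem_centralizer_singleton_iff.2 hxz⟩, ?_, rfl⟩
  rcases (hmem ⟨x, Subgroup.mem_centralizer_singleton_iff.2 hxz⟩).1 hx with h | h
  · exact absurd (congrArg Subtype.val h) hne
  · exact h

theorem commute_conj {g x y : G} (h : Commute x y) : Commute (g * x * g⁻¹) (g * y * g⁻¹) := by
  have := h.map (MulAut.conj g)
  rwa [MulAut.conj_apply, MulAut.conj_apply] at this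

theorem conj_ne {g x y : G} (h : x ≠ y) : g * x * g⁻¹ ≠ g * y * g⁻¹ := fun e =>
  h ((MulAut.conj g).injective (by rw [MulAut.conj_apply, MulAut.conj_apply, e]))

theorem hex1 (L : Lifted π (zel z) T D0)
    (hhex : ∀ a ∈ D0, ∀ b ∈ D0, ∀ c ∈ D0, ∀ a' ∈ D0, ∀ b' ∈ D0, ∀ c' ∈ D0,
        Hex T (π a) (π b) (π c) (π a') (π b') (π c') → a * b * c * (a' * b' * c') = zel z)
    (hmem : ∀ x : Subgroup.centralizer ({z} : Set G), (x : G) ∈ conjugatesOf z ↔
      x = zel z ∨ x ∈ D0) : Hex1 (conjugatesOf z) := by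
  -- at the base point
  have base : ∀ l : List G, l.length = 6 → l.Nodup →
      (∀ x ∈ l, x ∈ conjugatesOf z ∧ Commute x z ∧ x ≠ z) →
      (∀ x ∈ l, ∀ y ∈ l, Commute x y) → l.prod ≠ 1 := by
    intro l hlen hnd hl hcomm hprod
    obtain ⟨x1, l, rfl⟩ := List.exists_cons_of_length_eq_add_one (n := 5) hlen
    obtain ⟨x2, l, rfl⟩ := List.exists_cons_of_length_eq_add_one (n := 4) (by simpa using hlen)
    obtain ⟨x3, l, rfl⟩ := List.exists_cons_of_length_eq_add_one (n := 3) (by simpa using hlen)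
    obtain ⟨x4, l, rfl⟩ := List.exists_cons_of_length_eq_add_one (n := 2) (by simpa using hlen)
    obtain ⟨x5, l, rfl⟩ := List.exists_cons_of_length_eq_add_one (n := 1) (by simpa using hlen)
    obtain ⟨x6, l, rfl⟩ := List.exists_cons_of_length_eq_add_one (n := 0) (by simpa using hlen)
    have : l = [] := List.eq_nil_of_length_eq_zero (by simpa using hlen)
    subst this
    have hlift := fun x hx => lift_of hmem (hl x hx).1 (hl x hx).2.1 (hl x hx).2.2
    obtain ⟨y1, h1, rfl⟩ := hlift x1 (by simp)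
    obtain ⟨y2, h2, rfl⟩ := hlift x2 (by simp)
    obtain ⟨y3, h3, rfl⟩ := hlift x3 (by simp)
    obtain ⟨y4, h4, rfl⟩ := hlift x4 (by simp)
    obtain ⟨y5, h5, rfl⟩ := hlift x5 (by simp)
    obtain ⟨y6, h6, rfl⟩ := hlift x6 (by simp)
    have hc : ∀ y y' : Subgroup.centralizer ({z} : Set G),
        (y : G) ∈ [(y1 : G), y2, y3, y4, y5, y6] → (y' : G) ∈ [(y1 : G), y2, y3, y4, y5, y6] →
        π y * π y' = π y' * π y := by
      intro y y' hy hy'
      have h := hcomm _ hy _ hy'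
      have h' : y * y' = y' * y := Subtype.ext h
      rw [← map_mul, h', map_mul]
    have hne : ∀ y ∈ D0, ∀ y' ∈ D0, (y : G) ≠ (y' : G) → π y ≠ π y' := fun y hy y' hy' h e =>
      h (congrArg Subtype.val (L.inj y hy y' hy' e))
    simp only [List.nodup_cons, List.mem_cons, List.not_mem_nil, or_false, not_or, List.nodup_nil,
      and_true, not_false_eq_true] at hnd
    obtain ⟨⟨n12, n13, n14, n15, n16⟩, ⟨n23, n24, n25, n26⟩, ⟨n34, n35, n36⟩, ⟨n45, n46⟩, n56⟩ := hnd
    have hp : y1 * y2 * y3 * (y4 * y5 * y6) = 1 := by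
      apply Subtype.ext
      refine Eq.trans ?_ hprod
      simp only [List.prod_cons, List.prod_nil, mul_one, Subgroup.coe_mul, mul_assoc]
    have hH : Hex T (π y1) (π y2) (π y3) (π y4) (π y5) (π y6) := by
      refine ⟨⟨L.map _ h1, L.map _ h2, L.map _ h3, hne _ h1 _ h2 n12, hne _ h1 _ h3 n13,
        hne _ h2 _ h3 n23, hc _ _ (by simp) (by simp), hc _ _ (by simp) (by simp),
        hc _ _ (by simp) (by simp)⟩, ⟨L.map _ h4, L.map _ h5, L.map _ h6, hne _ h4 _ h5 n45,
        hne _ h4 _ h6 n46, hne _ h5 _ h6 n56, hc _ _ (by simp) (by simp),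
        hc _ _ (by simp) (by simp), hc _ _ (by simp) (by simp)⟩,
        hne _ h1 _ h4 n14, hne _ h1 _ h5 n15, hne _ h1 _ h6 n16, hne _ h2 _ h4 n24,
        hne _ h2 _ h5 n25, hne _ h2 _ h6 n26, hne _ h3 _ h4 n34, hne _ h3 _ h5 n35,
        hne _ h3 _ h6 n36, hc _ _ (by simp) (by simp), hc _ _ (by simp) (by simp),
        hc _ _ (by simp) (by simp), hc _ _ (by simp) (by simp), hc _ _ (by simp) (by simp),
        hc _ _ (by simp) (by simp), hc _ _ (by simp) (by simp), hc _ _ (by simp) (by simp),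
        hc _ _ (by simp) (by simp), ?_⟩
      rw [← map_mul, ← map_mul, ← map_mul, ← map_mul, ← map_mul, hp, map_one]
    have := hhex _ h1 _ h2 _ h3 _ h4 _ h5 _ h6 hH
    rw [hp] at this
    exact L.ext.zne this.symm
  -- general position
  intro y hy l hlen hnd hl hcomm hprod
  obtain ⟨g, hg⟩ := isConj_iff.1 (show IsConj z y from hy)
  have hgy : g⁻¹ * y * g⁻¹⁻¹ = z := by rw [← hg]; group
  refine base (l.map fun x => g⁻¹ * x * g⁻¹⁻¹) (by rw [List.length_map]; exact hlen)
    (hnd.map fun a b e => (MulAut.conj g⁻¹).injective (by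
      rw [MulAut.conj_apply, MulAut.conj_apply]; exact e)) ?_ ?_ ?_
  · intro x hx
    obtain ⟨x', hx', rfl⟩ := List.mem_map.1 hx
    obtain ⟨a1, a2, a3⟩ := hl x' hx'
    refine ⟨IsConj.trans a1 (isConj_iff.2 ⟨g⁻¹, rfl⟩), ?_, ?_⟩
    · have := commute_conj (g := g⁻¹) a2
      rwa [hgy] at this
    · have := conj_ne (g := g⁻¹) a3
      rwa [hgy] at this
  · intro x hx x' hx'
    obtain ⟨y, hy, rfl⟩ := List.mem_map.1 hx
    obtain ⟨y', hy', rfl⟩ := List.mem_map.1 hx'
    exact commute_conj (hcomm _ hy _ hy')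
  · rw [conj_list_prod, hprod]
    group

theorem five1 (L : Lifted π (zel z) T D0) (hT : TFacts T)
    (hmem : ∀ x : Subgroup.centralizer ({z} : Set G), (x : G) ∈ conjugatesOf z ↔
      x = zel z ∨ x ∈ D0) : Five1 (conjugatesOf z) := by
  intro l hlen hnd hl hcomm hprod
  obtain ⟨x0, l, rfl⟩ := List.exists_cons_of_length_eq_add_one (n := 4) hlen
  obtain ⟨g, hg⟩ := isConj_iff.1 (show IsConj z x0 from hl x0 List.mem_cons_self)
  have hgy : g⁻¹ * x0 * g⁻¹⁻¹ = z := by rw [← hg]; group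
  set k : List G := l.map fun x => g⁻¹ * x * g⁻¹⁻¹ with hk
  have hklen : k.length = 4 := by
    rw [hk, List.length_map]
    simpa using hlen
  have hknd : k.Nodup := (List.nodup_cons.1 hnd).2.map fun a b e =>
    (MulAut.conj g⁻¹).injective (by rw [MulAut.conj_apply, MulAut.conj_apply]; exact e)
  have hkm : ∀ x ∈ k, x ∈ conjugatesOf z ∧ Commute x z ∧ x ≠ z := by
    intro x hx
    obtain ⟨y, hy, rfl⟩ := List.mem_map.1 hx
    refine ⟨IsConj.trans (hl y (List.mem_cons_of_mem _ hy)) (isConj_iff.2 ⟨g⁻¹, rfl⟩), ?_, ?_⟩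
    · have := commute_conj (g := g⁻¹) (hcomm y (List.mem_cons_of_mem _ hy) x0 List.mem_cons_self)
      rwa [hgy] at this
    · have hyx : y ≠ x0 := fun e => (List.nodup_cons.1 hnd).1 (e ▸ hy)
      have := conj_ne (g := g⁻¹) hyx
      rwa [hgy] at this
  have hkc : ∀ x ∈ k, ∀ y ∈ k, Commute x y := by
    intro x hx x' hx'
    obtain ⟨y, hy, rfl⟩ := List.mem_map.1 hx
    obtain ⟨y', hy', rfl⟩ := List.mem_map.1 hx'
    exact commute_conj (hcomm _ (List.mem_cons_of_mem _ hy) _ (List.mem_cons_of_mem _ hy'))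
  have hkp : z * k.prod = 1 := by
    have h1 : (g⁻¹ * x0 * g⁻¹⁻¹) * k.prod = g⁻¹ * (x0 * l.prod) * g⁻¹⁻¹ := by
      rw [hk, conj_list_prod]
      group
    rw [hgy] at h1
    rw [h1, ← List.prod_cons, hprod]
    group
  clear_value k
  clear hprod hcomm hl hnd hlen hk
  obtain ⟨x1, k, rfl⟩ := List.exists_cons_of_length_eq_add_one (n := 3) hklen
  obtain ⟨x2, k, rfl⟩ := List.exists_cons_of_length_eq_add_one (n := 2) (by simpa using hklen)
  obtain ⟨x3, k, rfl⟩ := List.exists_cons_of_length_eq_add_one (n := 1) (by simpa using hklen)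
  obtain ⟨x4, k, rfl⟩ := List.exists_cons_of_length_eq_add_one (n := 0) (by simpa using hklen)
  have : k = [] := List.eq_nil_of_length_eq_zero (by simpa using hklen)
  subst this
  have hlift := fun x hx => lift_of hmem (hkm x hx).1 (hkm x hx).2.1 (hkm x hx).2.2
  obtain ⟨y1, h1, rfl⟩ := hlift x1 (by simp)
  obtain ⟨y2, h2, rfl⟩ := hlift x2 (by simp)
  obtain ⟨y3, h3, rfl⟩ := hlift x3 (by simp)
  obtain ⟨y4, h4, rfl⟩ := hlift x4 (by simp)
  have hc : ∀ y y' : Subgroup.centralizer ({z} : Set G),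
      (y : G) ∈ [(y1 : G), y2, y3, y4] → (y' : G) ∈ [(y1 : G), y2, y3, y4] →
      π y * π y' = π y' * π y := by
    intro y y' hy hy'
    have h := hkc _ hy _ hy'
    have h' : y * y' = y' * y := Subtype.ext h
    rw [← map_mul, h', map_mul]
  have hne : ∀ y ∈ D0, ∀ y' ∈ D0, (y : G) ≠ (y' : G) → π y ≠ π y' := fun y hy y' hy' h e =>
    h (congrArg Subtype.val (L.inj y hy y' hy' e))
  simp only [List.nodup_cons, List.mem_cons, List.not_mem_nil, or_false, not_or, List.nodup_nil,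
    and_true, not_false_eq_true] at hknd
  obtain ⟨⟨n12, n13, n14⟩, ⟨n23, n24⟩, n34⟩ := hknd
  have hp : zel z * (y1 * y2 * y3 * y4) = 1 := by
    apply Subtype.ext
    refine Eq.trans ?_ hkp
    simp only [List.prod_cons, List.prod_nil, mul_one, Subgroup.coe_mul, mul_assoc]
    rfl
  have hp2 : π y1 * π y2 * π y3 * π y4 = 1 := by
    have := congrArg π hp
    rw [map_mul, L.ext.mapz, one_mul, map_mul, map_mul, map_mul, map_one] at this
    exact this
  have hTri : Tri T (π y1) (π y2) (π y3) := ⟨L.map _ h1, L.map _ h2, L.map _ h3,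
    hne _ h1 _ h2 n12, hne _ h1 _ h3 n13, hne _ h2 _ h3 n23, hc _ _ (by simp) (by simp),
    hc _ _ (by simp) (by simp), hc _ _ (by simp) (by simp)⟩
  apply hT.prod _ _ _ hTri
  have h5 : π y1 * π y2 * π y3 = (π y4)⁻¹ := eq_inv_of_mul_eq_one_left hp2
  have h6 : (π y4)⁻¹ = π y4 := inv_eq_of_mul_eq_one_left (hT.sq _ (L.map _ h4))
  rw [h5, h6]
  exact L.map _ h4

end Cfsg.Agent.R01.HexNe
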