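import Cfsg.Agent.R01.Label
import Cfsg.Agent.R01.Start

/-!
The set `Y = D_a ∩ D_b` for two non-commuting members `a, b` of the class `D`, seen as a set of isotropic vectors in the
chart of `a`.
-/

set_option autoImplicit false
set_option linter.unusedSectionVars false

namespace Cfsg.Agent.R01.IdentY

open Cfsg Cfsg.Agent.LieClassical.HermBasic Cfsg.Agent.ClassicalGeometry.UnitTransv
open Cfsg.Agent.SporadicStructure.UnitTwo
open Cfsg.Agent.R01.Lifts Cfsg.Agent.R01.PSUSix Cfsg.Agent.R01.Label Cfsg.Agent.R01.Start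
open Cfsg.Agent.ClassicalGeometry.UnitAutBasic (tau pr pr_surjective exists_scalar_of_pr_eq)

variable {F : Type*} [Field F] [Fintype F]

/-- The properties of the set `Y`. -/
structure YSet (Y : Set (Fin 6 → F)) : Prop where
  ne : ∀ v ∈ Y, v ≠ 0
  iso : ∀ v ∈ Y, hermForm 6 F 2 v v = 0
  smul : ∀ v ∈ Y, ∀ c : F, c ≠ 0 → c • v ∈ Y
  third : ∀ u ∈ Y, ∀ v ∈ Y, u + hermForm 6 F 2 u v • v ∈ Y
  line_ex : ∀ u ∈ Y, ∀ w, hermForm 6 F 2 w w = 0 → hermForm 6 F 2 w u = 0 → (∀ c : F, w ≠ c • u) →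
    ∃ t : F, w + t • u ∈ Y
  line_un : ∀ u ∈ Y, ∀ w, hermForm 6 F 2 w w = 0 → hermForm 6 F 2 w u = 0 → (∀ c : F, w ≠ c • u) →
    ∀ t s : F, w + t • u ∈ Y → w + s • u ∈ Y → t = s

section Five

variable (hF : Fintype.card F = 2 ^ 2)
include hF

theorem four_cases {ω : F} (hω : ω ^ 2 + ω + 1 = 0) (t : F) : t = 0 ∨ t = 1 ∨ t = ω ∨ t = ω ^ 2 := by
  have h4 := pow_four hF t
  have h3 : ω ^ 3 = 1 := by linear_combination (ω - 1) * hω
  have : t * ((t - 1) * ((t - ω) * (t - ω ^ 2))) = 0 := by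
    linear_combination h4 - t ^ 2 * (t - 1) * hω + t * (t - 1) * h3
  rcases mul_eq_zero.1 this with h | h
  · exact Or.inl h
  rcases mul_eq_zero.1 h with h | h
  · exact Or.inr (Or.inl (sub_eq_zero.1 h))
  rcases mul_eq_zero.1 h with h | h
  · exact Or.inr (Or.inr (Or.inl (sub_eq_zero.1 h)))
  · exact Or.inr (Or.inr (Or.inr (sub_eq_zero.1 h)))

theorem omega_facts {ω : F} (hω : ω ^ 2 + ω + 1 = 0) :
    ω ≠ 0 ∧ ω ≠ 1 ∧ ω ^ 2 ≠ 0 ∧ ω ^ 2 ≠ 1 ∧ ω ^ 2 ≠ ω := by
  have h2 := two_eq_zero hF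
  have hω0 : ω ≠ 0 := by rintro rfl; simp at hω
  refine ⟨hω0, ?_, pow_ne_zero 2 hω0, ?_, ?_⟩
  · intro h4
    rw [h4] at hω
    exact one_ne_zero (α := F) (by linear_combination hω - h2)
  · intro h4
    exact hω0 (by linear_combination hω - h4 - h2)
  · intro h4
    exact one_ne_zero (α := F) (by linear_combination hω - h4 - ω * h2)

/-- Five mutually orthogonal isotropic vectors with product of transvections one. -/
theorem five_sum (v0 v1 v2 v3 v4 : Fin 6 → F) (h00 : hermForm 6 F 2 v0 v0 = 0)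
    (h11 : hermForm 6 F 2 v1 v1 = 0) (h22 : hermForm 6 F 2 v2 v2 = 0)
    (h33 : hermForm 6 F 2 v3 v3 = 0) (h44 : hermForm 6 F 2 v4 v4 = 0)
    (h01 : hermForm 6 F 2 v0 v1 = 0) (h02 : hermForm 6 F 2 v0 v2 = 0)
    (h03 : hermForm 6 F 2 v0 v3 = 0) (h04 : hermForm 6 F 2 v0 v4 = 0)
    (h12 : hermForm 6 F 2 v1 v2 = 0) (h13 : hermForm 6 F 2 v1 v3 = 0)
    (h14 : hermForm 6 F 2 v1 v4 = 0) (h23 : hermForm 6 F 2 v2 v3 = 0)
    (h24 : hermForm 6 F 2 v2 v4 = 0) (h34 : hermForm 6 F 2 v3 v4 = 0) (hne : v0 ≠ 0)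
    (hprod : tau hF v0 * tau hF v1 * tau hF v2 * tau hF v3 * tau hF v4 = 1) (x : Fin 6 → F) :
    hermForm 6 F 2 x v0 • v0 + hermForm 6 F 2 x v1 • v1 + hermForm 6 F 2 x v2 • v2 +
      hermForm 6 F 2 x v3 • v3 + hermForm 6 F 2 x v4 • v4 = 0 := by
  have h10 := herm_eq_zero_swap hF h01
  have h20 := herm_eq_zero_swap hF h02
  have h30 := herm_eq_zero_swap hF h03
  have h40 := herm_eq_zero_swap hF h04
  have h21 := herm_eq_zero_swap hF h12
  have h31 := herm_eq_zero_swap hF h13
  have h41 := herm_eq_zero_swap hF h14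
  have h32 := herm_eq_zero_swap hF h23
  have h42 := herm_eq_zero_swap hF h24
  have h43 := herm_eq_zero_swap hF h34
  rw [tau_eq_pr hF h00, tau_eq_pr hF h11, tau_eq_pr hF h22, tau_eq_pr hF h33, tau_eq_pr hF h44,
    ← map_mul, ← map_mul, ← map_mul, ← map_mul] at hprod
  set g := T hF v0 h00 * T hF v1 h11 * T hF v2 h22 * T hF v3 h33 * T hF v4 h44 with hg
  have hact : ∀ y : Fin 6 → F, act g y = y + (hermForm 6 F 2 y v0 • v0 + hermForm 6 F 2 y v1 • v1 +
      hermForm 6 F 2 y v2 • v2 + hermForm 6 F 2 y v3 • v3 + hermForm 6 F 2 y v4 • v4) := by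
    intro y
    rw [hg]
    simp only [act_mul, act_T, herm_add_left, herm_smul_left, h00, h11, h22, h33, h44, h01, h02,
      h03, h04, h12, h13, h14, h23, h24, h34, h10, h20, h30, h40, h21, h31, h41, h32, h42, h43,
      mul_zero, add_zero]
    abel
  obtain ⟨c, -, hc⟩ := exists_scalar_of_pr_eq (g := 1) (g' := g) hF (by norm_num)
    (by rw [map_one, hprod])
  replace hc : ∀ x : Fin 6 → F, act g x = c • act 1 x := hc
  have hc1 : c = 1 := by
    have h1 := hc v0
    rw [hact, act_one, h00, h01, h02, h03, h04] at h1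
    simp only [zero_smul, add_zero] at h1
    by_contra hne1
    apply hne
    have h2 : (c - 1) • v0 = 0 := by rw [sub_smul, one_smul, ← h1, sub_self]
    exact (smul_eq_zero.1 h2).resolve_left (sub_ne_zero.2 hne1)
  have h1 := hc x
  rw [hact, act_one, hc1, one_smul] at h1
  simpa using h1

end Five

variable {G : Type*} [Group G]

/-- A chart at `d ∈ D`. -/
structure Chart (hF : Fintype.card F = 2 ^ 2) (D : Set G) (d : G)
    (π : Subgroup.centralizer ({d} : Set G) →* PSU 6 F 2)
    (lift : (Fin 6 → F) → Subgroup.centralizer ({d} : Set G)) : Prop where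
  lab : Lab hF π (zel d) (zel d) lift
  mem : ∀ x : Subgroup.centralizer ({d} : Set G), (x : G) ∈ D ↔ (x : G) = d ∨ x ∈ Dset lift

theorem Chart.coe_comm {hF : Fintype.card F = 2 ^ 2} {D : Set G} {d : G}
    {π : Subgroup.centralizer ({d} : Set G) →* PSU 6 F 2}
    {lift : (Fin 6 → F) → Subgroup.centralizer ({d} : Set G)} (_h : Chart hF D d π lift)
    (x : Subgroup.centralizer ({d} : Set G)) : (x : G) * d = d * x :=
  Subgroup.mem_centralizer_singleton_iff.1 x.2

/-- The lift of a member of `D` commuting with `d`. -/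
theorem Chart.exists_lift {hF : Fintype.card F = 2 ^ 2} {D : Set G} {d : G}
    {π : Subgroup.centralizer ({d} : Set G) →* PSU 6 F 2}
    {lift : (Fin 6 → F) → Subgroup.centralizer ({d} : Set G)} (h : Chart hF D d π lift)
    {y : G} (hy : y ∈ D) (hyd : y * d = d * y) (hne : y ≠ d) :
    ∃ v, v ≠ 0 ∧ hermForm 6 F 2 v v = 0 ∧ (lift v : G) = y ∧
      lift v = ⟨y, Subgroup.mem_centralizer_singleton_iff.2 hyd⟩ := by
  rcases (h.mem ⟨y, Subgroup.mem_centralizer_singleton_iff.2 hyd⟩).1 hy with h1 | h1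
  · exact absurd h1 hne
  · obtain ⟨v, h0, hv, hvy⟩ := h1
    exact ⟨v, h0, hv, by rw [← hvy], hvy.symm⟩

theorem Chart.lift_mem {hF : Fintype.card F = 2 ^ 2} {D : Set G} {d : G}
    {π : Subgroup.centralizer ({d} : Set G) →* PSU 6 F 2}
    {lift : (Fin 6 → F) → Subgroup.centralizer ({d} : Set G)} (h : Chart hF D d π lift)
    {v : Fin 6 → F} (h0 : v ≠ 0) (hv : hermForm 6 F 2 v v = 0) : (lift v : G) ∈ D :=
  (h.mem _).2 (Or.inr (Lab.mem_D h0 hv))

theorem Chart.lift_ne {hF : Fintype.card F = 2 ^ 2} {D : Set G} {d : G}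
    {π : Subgroup.centralizer ({d} : Set G) →* PSU 6 F 2}
    {lift : (Fin 6 → F) → Subgroup.centralizer ({d} : Set G)} (h : Chart hF D d π lift)
    {v : Fin 6 → F} (h0 : v ≠ 0) (hv : hermForm 6 F 2 v v = 0) : (lift v : G) ≠ d := by
  intro he
  apply h.lab.z_notMem
  have : lift v = zel d := Subtype.ext he
  rw [← this]
  exact Lab.mem_D h0 hv

theorem Chart.comm_iff {hF : Fintype.card F = 2 ^ 2} {D : Set G} {d : G}
    {π : Subgroup.centralizer ({d} : Set G) →* PSU 6 F 2}
    {lift : (Fin 6 → F) → Subgroup.centralizer ({d} : Set G)} (h : Chart hF D d π lift)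
    {v w : Fin 6 → F} (hv0 : v ≠ 0) (hw0 : w ≠ 0) (hv : hermForm 6 F 2 v v = 0)
    (hw : hermForm 6 F 2 w w = 0) :
    (lift v : G) * lift w = lift w * lift v ↔ hermForm 6 F 2 v w = 0 := by
  rw [← h.lab.commute_iff hv hw hv0 hw0, ← Subgroup.coe_mul, ← Subgroup.coe_mul]
  exact ⟨fun h1 => Subtype.ext h1, fun h1 => congrArg _ h1.eq⟩

/-- The set of vectors of the points commuting with `b`. -/
def Yof {d : G} (lift : (Fin 6 → F) → Subgroup.centralizer ({d} : Set G)) (b : G) :
    Set (Fin 6 → F) :=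
  {v | v ≠ 0 ∧ hermForm 6 F 2 v v = 0 ∧ (lift v : G) * b = b * lift v}

/-- All charts. -/
def Charts (hF : Fintype.card F = 2 ^ 2) (D : Set G) : Prop :=
  ∀ d ∈ D, ∃ (π : Subgroup.centralizer ({d} : Set G) →* PSU 6 F 2)
    (lift : (Fin 6 → F) → Subgroup.centralizer ({d} : Set G)), Chart hF D d π lift

section Line

variable {hF : Fintype.card F = 2 ^ 2} {D : Set G}

/-- Among the four other points of a t.i. line through a point commuting with `b` exactly one commutes with `b`:
the product of the nonzero-indicators. -/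
theorem line_cases {ω : F} (hω : ω ^ 2 + ω + 1 = 0) (hD : Charts hF D) {a b : G} (hb : b ∈ D)
    (hab : a * b ≠ b * a) {π : Subgroup.centralizer ({a} : Set G) →* PSU 6 F 2}
    {lift : (Fin 6 → F) → Subgroup.centralizer ({a} : Set G)} (h : Chart hF D a π lift) (ha : a ∈ D)
    {u w : Fin 6 → F} (hu : u ∈ Yof lift b) (hw : hermForm 6 F 2 w w = 0)
    (hwu : hermForm 6 F 2 w u = 0) (hne : ∀ c : F, w ≠ c • u) :
    ∃ c : F → F, (∀ t : F, c t = 0 ↔ w + t • u ∈ Yof lift b) ∧
      1 + c 0 ^ 3 + c 1 ^ 3 + c ω ^ 3 + c (ω ^ 2) ^ 3 = 0 ∧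
      ∀ t : F, ¬ (∀ s : F, s ≠ t → c s = 0) := by
  obtain ⟨hu0, huu, hub⟩ := hu
  have huw := herm_eq_zero_swap hF hwu
  -- the points of the line
  have hwt : ∀ t : F, hermForm 6 F 2 (w + t • u) (w + t • u) = 0 := by
    intro t
    rw [herm_add_left, herm_add_right hF, herm_add_right hF, herm_smul_left, herm_smul_left,
      herm_smul_right, herm_smul_right, hw, huu, hwu, huw]
    ring
  have hst : ∀ t s : F, hermForm 6 F 2 (w + t • u) (w + s • u) = 0 := by
    intro t s
    rw [herm_add_left, herm_add_right hF, herm_add_right hF, herm_smul_left, herm_smul_left,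
      herm_smul_right, herm_smul_right, hw, huu, hwu, huw]
    ring
  have hwtu : ∀ t : F, hermForm 6 F 2 (w + t • u) u = 0 := by
    intro t
    rw [herm_add_left, herm_smul_left, huu, hwu]
    ring
  have hwt0 : ∀ t : F, w + t • u ≠ 0 := by
    intro t h0
    apply hne (-t)
    rw [neg_smul]
    exact eq_neg_of_add_eq_zero_left h0
  -- the chart at `p = lift u`
  set p : G := (lift u : G) with hp
  have hpD : p ∈ D := h.lift_mem hu0 huu
  obtain ⟨π', lift', h'⟩ := hD p hpD
  have hpa : p ≠ a := h.lift_ne hu0 huu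
  have hcomm_pa : a * p = p * a := (h.coe_comm (lift u)).symm
  obtain ⟨va, hva0, hva, hva1, hva2⟩ := h'.exists_lift ha hcomm_pa (Ne.symm hpa)
  have hbp : b ≠ p := by
    intro hbp
    apply hab
    rw [hbp]
    exact hcomm_pa
  obtain ⟨vb, hvb0, hvb, hvb1, hvb2⟩ := h'.exists_lift hb hub.symm hbp
  have hq : ∀ t : F, ∃ v, v ≠ 0 ∧ hermForm 6 F 2 v v = 0 ∧ (lift' v : G) = lift (w + t • u) := by
    intro t
    have h1 : (lift (w + t • u) : G) * p = p * lift (w + t • u) :=
      (h.comm_iff (hwt0 t) hu0 (hwt t) huu).2 (hwtu t)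
    have h2 : (lift (w + t • u) : G) ≠ p := by
      intro h3
      have h4 : lift (w + t • u) = lift u := Subtype.ext h3
      rw [h.lab.lift_eq_iff (hwt t) huu (hwt0 t) hu0] at h4
      obtain ⟨c, hc, hcu⟩ := h4
      apply hne (c⁻¹ - t)
      rw [sub_smul, eq_sub_iff_add_eq]
      conv_rhs => rw [hcu]
      rw [smul_smul, inv_mul_cancel₀ hc, one_smul]
    obtain ⟨v, hv0, hv, hv1, -⟩ := h'.exists_lift (h.lift_mem (hwt0 t) (hwt t)) h1 h2
    exact ⟨v, hv0, hv, hv1⟩
  choose q hq0 hqq hq1 using hq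
  have hqne : ∀ t : F, (lift' (q t) : G) ≠ lift' va := by
    intro t h3
    rw [hq1, hva1] at h3
    exact h.lift_ne (hwt0 t) (hwt t) h3
  have hqa : ∀ t : F, hermForm 6 F 2 (q t) va = 0 := by
    intro t
    rw [← h'.comm_iff (hq0 t) hva0 (hqq t) hva, hq1, hva1]
    exact h.coe_comm _
  have hqs : ∀ t s : F, hermForm 6 F 2 (q t) (q s) = 0 := by
    intro t s
    rw [← h'.comm_iff (hq0 t) (hq0 s) (hqq t) (hqq s), hq1, hq1]
    exact (h.comm_iff (hwt0 t) (hwt0 s) (hwt t) (hwt s)).2 (hst t s)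
  have hbne : hermForm 6 F 2 vb va ≠ 0 := by
    intro h3
    rw [← h'.comm_iff hvb0 hva0 hvb hva, hva1, hvb1] at h3
    exact hab h3.symm
  -- the line relation
  have hline := h.lab.line u w hu0 (by have := hwt0 0; rwa [zero_smul, add_zero] at this) huu hw huw
    (by rintro ⟨c, hc⟩; exact hne c hc) ω hω
  have hw_eq : lift (u + w) = lift (w + (1 : F) • u) := by rw [one_smul, add_comm]
  have hw_eq0 : lift w = lift (w + (0 : F) • u) := by rw [zero_smul, add_zero]
  have hw_eq2 : lift (ω • u + w) = lift (w + ω • u) := by rw [add_comm]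
  have hw_eq3 : lift (ω ^ 2 • u + w) = lift (w + ω ^ 2 • u) := by rw [add_comm]
  rw [hw_eq, hw_eq0, hw_eq2, hw_eq3] at hline
  have hline2 : p * lift' (q 0) * lift' (q 1) * lift' (q ω) * lift' (q (ω ^ 2)) = lift' va := by
    rw [hq1, hq1, hq1, hq1, hva1]
    have := congrArg (Subtype.val) hline
    simpa [Subgroup.coe_mul, zel] using this
  have hline3 : zel p * lift' (q 0) * lift' (q 1) * lift' (q ω) * lift' (q (ω ^ 2)) = lift' va :=
    Subtype.ext (by simpa [Subgroup.coe_mul, zel] using hline2)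
  have htau : tau hF (q 0) * tau hF (q 1) * tau hF (q ω) * tau hF (q (ω ^ 2)) = tau hF va := by
    have := congrArg π' hline3
    rw [map_mul, map_mul, map_mul, map_mul, h'.lab.ext.mapz, one_mul, h'.lab.map _ (hq0 0) (hqq 0),
      h'.lab.map _ (hq0 1) (hqq 1), h'.lab.map _ (hq0 ω) (hqq ω),
      h'.lab.map _ (hq0 (ω ^ 2)) (hqq (ω ^ 2)), h'.lab.map _ hva0 hva] at this
    exact this
  have hsum := five_sum hF (q 0) (q 1) (q ω) (q (ω ^ 2)) va (hqq _) (hqq _) (hqq _) (hqq _) hva
    (hqs _ _) (hqs _ _) (hqs _ _) (hqa _) (hqs _ _) (hqs _ _) (hqa _) (hqs _ _) (hqa _) (hqa _)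
    (hq0 0) (by rw [htau, tau_mul_self hF hva]) vb
  refine ⟨fun t => hermForm 6 F 2 vb (q t), ?_, ?_, ?_⟩
  · intro t
    show hermForm 6 F 2 vb (q t) = 0 ↔ _
    rw [← h'.comm_iff hvb0 (hq0 t) hvb (hqq t), hvb1, hq1]
    constructor
    · intro h3
      exact ⟨hwt0 t, hwt t, h3.symm⟩
    · intro h3
      exact h3.2.2.symm
  · have h3 := congrArg (fun x => hermForm 6 F 2 x vb) hsum
    simp only [herm_add_left, herm_smul_left, herm_zero_left] at h3
    have hsw : ∀ x : Fin 6 → F, hermForm 6 F 2 x vb = hermForm 6 F 2 vb x ^ 2 := fun x =>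
      herm_swap hF vb x
    rw [hsw, hsw, hsw, hsw, hsw] at h3
    have h5 := pow_three hF hbne
    linear_combination h3 - h5
  · intro t hall
    -- then `c t v_t + c_a v_a = 0`
    have h3 : hermForm 6 F 2 vb (q t) • q t + hermForm 6 F 2 vb va • va = 0 := by
      obtain ⟨f1, f2, f3, f4, f5⟩ := omega_facts hF hω
      rcases four_cases hF hω t with ht | ht | ht | ht
      · have e1 := hall 1 (by rw [ht]; exact one_ne_zero)
        have e2 := hall ω (by rw [ht]; exact f1)
        have e3 := hall (ω ^ 2) (by rw [ht]; exact f3)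
        simp only at e1 e2 e3
        rw [e1, e2, e3] at hsum
        rw [ht]
        simpa using hsum
      · have e1 := hall 0 (by rw [ht]; exact zero_ne_one)
        have e2 := hall ω (by rw [ht]; exact f2)
        have e3 := hall (ω ^ 2) (by rw [ht]; exact f4)
        simp only at e1 e2 e3
        rw [e1, e2, e3] at hsum
        rw [ht]
        simpa using hsum
      · have e1 := hall 0 (by rw [ht]; exact f1.symm)
        have e2 := hall 1 (by rw [ht]; exact f2.symm)
        have e3 := hall (ω ^ 2) (by rw [ht]; exact f5)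
        simp only at e1 e2 e3
        rw [e1, e2, e3] at hsum
        rw [ht]
        simpa using hsum
      · have e1 := hall 0 (by rw [ht]; exact f3.symm)
        have e2 := hall 1 (by rw [ht]; exact f4.symm)
        have e3 := hall ω (by rw [ht]; exact f5.symm)
        simp only at e1 e2 e3
        rw [e1, e2, e3] at hsum
        rw [ht]
        simpa using hsum
    apply hqne t
    have h6 : lift' (q t) = lift' va := by
      rw [h'.lab.lift_eq_iff (hqq t) hva (hq0 t) hva0]
      have hct : hermForm 6 F 2 vb (q t) ≠ 0 := by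
        intro h7
        rw [h7, zero_smul, zero_add, smul_eq_zero] at h3
        rcases h3 with h3 | h3
        · exact hbne h3
        · exact hva0 h3
      refine ⟨- (hermForm 6 F 2 vb va)⁻¹ * hermForm 6 F 2 vb (q t),
        mul_ne_zero (neg_ne_zero.2 (inv_ne_zero hbne)) hct, ?_⟩
      have h8 : hermForm 6 F 2 vb va • va = - (hermForm 6 F 2 vb (q t) • q t) :=
        eq_neg_of_add_eq_zero_right h3
      calc va = (hermForm 6 F 2 vb va)⁻¹ • (hermForm 6 F 2 vb va • va) := by
            rw [smul_smul, inv_mul_cancel₀ hbne, one_smul]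
        _ = _ := by rw [h8, smul_neg, smul_smul, neg_mul, neg_smul]
    rw [h6]

/-- `Y = D_a ∩ D_b` has the properties of a `YSet`. -/
theorem yset (hD : Charts hF D) {a b : G} (ha : a ∈ D) (hb : b ∈ D)
    (hab : a * b ≠ b * a) {π : Subgroup.centralizer ({a} : Set G) →* PSU 6 F 2}
    {lift : (Fin 6 → F) → Subgroup.centralizer ({a} : Set G)} (h : Chart hF D a π lift) :
    YSet (Yof lift b) := by
  obtain ⟨ω, hω⟩ := exists_omega hF
  have h2 := two_eq_zero hF
  have cube : ∀ c : F, c = 0 ∧ c ^ 3 = 0 ∨ c ≠ 0 ∧ c ^ 3 = 1 := by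
    intro c
    by_cases hc : c = 0
    · left; exact ⟨hc, by rw [hc]; ring⟩
    · right; exact ⟨hc, pow_three hF hc⟩
  -- exactly one
  have key : ∀ u ∈ Yof lift b, ∀ w, hermForm 6 F 2 w w = 0 → hermForm 6 F 2 w u = 0 →
      (∀ c : F, w ≠ c • u) → ∃ t : F, w + t • u ∈ Yof lift b ∧
        ∀ s : F, w + s • u ∈ Yof lift b → s = t := by
    intro u hu w hw hwu hne
    obtain ⟨c, hc, hsum, hnot⟩ := line_cases hω hD hb hab h ha hu hw hwu hne
    have hx : ∀ t : F, t = 0 ∨ t = 1 ∨ t = ω ∨ t = ω ^ 2 := four_cases hF hω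
    have one0 : (1 : F) ≠ 0 := one_ne_zero
    rcases cube (c 0) with ⟨a0, b0⟩ | ⟨a0, b0⟩ <;> rcases cube (c 1) with ⟨a1, b1⟩ | ⟨a1, b1⟩ <;>
      rcases cube (c ω) with ⟨a2, b2⟩ | ⟨a2, b2⟩ <;>
      rcases cube (c (ω ^ 2)) with ⟨a3, b3⟩ | ⟨a3, b3⟩ <;> rw [b0, b1, b2, b3] at hsum
    -- 0000
    · exact absurd (by linear_combination hsum) one0
    -- 0001
    · exfalso
      apply hnot (ω ^ 2)
      intro s hs
      rcases hx s with rfl | rfl | rfl | rfl
      · exact a0
      · exact a1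
      · exact a2
      · exact absurd rfl hs
    · exfalso
      apply hnot ω
      intro s hs
      rcases hx s with rfl | rfl | rfl | rfl
      · exact a0
      · exact a1
      · exact absurd rfl hs
      · exact a3
    · exact absurd (by linear_combination hsum - h2) one0
    -- 0100
    · exfalso
      apply hnot 1
      intro s hs
      rcases hx s with rfl | rfl | rfl | rfl
      · exact a0
      · exact absurd rfl hs
      · exact a2
      · exact a3
    · exact absurd (by linear_combination hsum - h2) one0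
    · exact absurd (by linear_combination hsum - h2) one0
    -- 0111
    · refine ⟨0, (hc 0).1 a0, fun s hs => ?_⟩
      rw [← hc] at hs
      rcases hx s with rfl | rfl | rfl | rfl
      · rfl
      · exact absurd hs a1
      · exact absurd hs a2
      · exact absurd hs a3
    -- 1000
    · exfalso
      apply hnot 0
      intro s hs
      rcases hx s with rfl | rfl | rfl | rfl
      · exact absurd rfl hs
      · exact a1
      · exact a2
      · exact a3
    · exact absurd (by linear_combination hsum - h2) one0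
    · exact absurd (by linear_combination hsum - h2) one0
    -- 1011
    · refine ⟨1, (hc 1).1 a1, fun s hs => ?_⟩
      rw [← hc] at hs
      rcases hx s with rfl | rfl | rfl | rfl
      · exact absurd hs a0
      · rfl
      · exact absurd hs a2
      · exact absurd hs a3
    · exact absurd (by linear_combination hsum - h2) one0
    -- 1101
    · refine ⟨ω, (hc ω).1 a2, fun s hs => ?_⟩
      rw [← hc] at hs
      rcases hx s with rfl | rfl | rfl | rfl
      · exact absurd hs a0
      · exact absurd hs a1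
      · rfl
      · exact absurd hs a3
    -- 1110
    · refine ⟨ω ^ 2, (hc (ω ^ 2)).1 a3, fun s hs => ?_⟩
      rw [← hc] at hs
      rcases hx s with rfl | rfl | rfl | rfl
      · exact absurd hs a0
      · exact absurd hs a1
      · exact absurd hs a2
      · rfl
    · exact absurd (by linear_combination hsum - 2 * h2) one0
  refine ⟨fun v hv => hv.1, fun v hv => hv.2.1, ?_, ?_, ?_, ?_⟩
  · rintro v ⟨hv0, hv, hvb⟩ c hc
    refine ⟨smul_ne_zero hc hv0, herm_smul_self hF hv c, ?_⟩
    rw [h.lab.smul v c hv hc]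
    exact hvb
  · rintro u ⟨hu0, hu, hub⟩ v ⟨hv0, hv, hvb⟩
    have e1 : u + hermForm 6 F 2 u v • v = act (T hF v hv) u := by rw [act_T]
    refine ⟨?_, ?_, ?_⟩
    · rw [e1]; exact Lab.act_ne_zero hu0
    · rw [e1, herm_act, hu]
    · rw [← h.lab.conj_lift hv hu hv0 hu0]
      simp only [Subgroup.coe_mul]
      calc (lift v : G) * lift u * lift v * b = lift v * lift u * (lift v * b) := by group
        _ = lift v * (lift u * b) * lift v := by rw [hvb]; group
        _ = (lift v * b) * lift u * lift v := by rw [hub]; group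
        _ = _ := by rw [hvb]; group
  · intro u hu w hw hwu hne
    obtain ⟨t, ht, -⟩ := key u hu w hw hwu hne
    exact ⟨t, ht⟩
  · intro u hu w hw hwu hne t s ht hs
    obtain ⟨r, -, hr⟩ := key u hu w hw hwu hne
    rw [hr t ht, hr s hs]

end Line

end Cfsg.Agent.R01.IdentY
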