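import Cfsg.Agent.R01.HermSix
import Cfsg.Agent.R01.IdentY

/-!
A chain of type `A6` in the set `Y = D_a ∩ D_b`.
-/

set_option autoImplicit false
set_option linter.unusedSectionVars false

namespace Cfsg.Agent.R01.IdentChain

open Cfsg Cfsg.Agent.LieClassical.HermBasic Cfsg.Agent.R01.HermCode Cfsg.Agent.R01.HermSix
open Cfsg.Agent.R01.IdentY
open Cfsg.Agent.SporadicStructure.UnitTwo (two_eq_zero add_self exists_omega vadd_self)

variable {F : Type*} [Field F] [Fintype F]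

section

variable (hF : Fintype.card F = 2 ^ 2) {ω : F} (hω : ω ^ 2 + ω + 1 = 0) {Y : Set (Fin 6 → F)}
include hF hω

/-- A `YSet` is a `VHyp`. -/
theorem vhyp (hY : YSet Y) : VHyp ω Y := by
  obtain ⟨f1, f2, f3, f4, f5⟩ := omega_facts hF hω
  have h3 : ω ^ 3 = 1 := by linear_combination (ω - 1) * hω
  refine ⟨fun v _ _ x hx hv => hY.smul v hv x hx, ?_, ?_⟩
  · intro u v _ _ _ _ huv hu hv
    have := hY.third u hu v hv
    rwa [huv, one_smul] at this
  · intro u v hu0 hv0 hu hv huv hne huY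
    have hvu := herm_eq_zero_swap hF huv
    obtain ⟨t, ht⟩ := hY.line_ex u huY v hv hvu hne
    have hun : ∀ s : F, v + s • u ∈ Y → s = t := fun s hs =>
      hY.line_un u huY v hv hvu hne s t hs ht
    have e0 : v ∈ Y ↔ v + (0 : F) • u ∈ Y := by rw [zero_smul, add_zero]
    have e1 : u + v ∈ Y ↔ v + (1 : F) • u ∈ Y := by rw [one_smul, add_comm]
    have e2 : u + ω • v ∈ Y ↔ v + ω ^ 2 • u ∈ Y := by
      constructor
      · intro h
        have h4 := hY.smul _ h (ω ^ 2) f3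
        rw [smul_add, smul_smul, ← pow_succ, h3, one_smul] at h4
        rwa [add_comm]
      · intro h
        have h4 := hY.smul _ h ω f1
        rw [smul_add, smul_smul, ← pow_succ', h3, one_smul] at h4
        rwa [add_comm]
    have e3 : u + ω ^ 2 • v ∈ Y ↔ v + ω • u ∈ Y := by
      constructor
      · intro h
        have h4 := hY.smul _ h ω f1
        rw [smul_add, smul_smul, ← pow_succ', h3, one_smul] at h4
        rwa [add_comm]
      · intro h
        have h4 := hY.smul _ h (ω ^ 2) f3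
        rw [smul_add, smul_smul, ← pow_succ, h3, one_smul] at h4
        rwa [add_comm]
    rw [e0, e1, e2, e3]
    rcases four_cases hF hω t with ht' | ht' | ht' | ht' <;> rw [ht'] at ht hun
    · left
      exact ⟨ht, fun h => one_ne_zero (hun _ h), fun h => f3 (hun _ h), fun h => f1 (hun _ h)⟩
    · right; left
      exact ⟨fun h => zero_ne_one (hun _ h), ht, fun h => f4 (hun _ h), fun h => f2 (hun _ h)⟩
    · right; right; right
      exact ⟨fun h => f1 (hun _ h).symm, fun h => f2 (hun _ h).symm, fun h => f5 (hun _ h), ht⟩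
    · right; right; left
      exact ⟨fun h => f3 (hun _ h).symm, fun h => f4 (hun _ h).symm, ht, fun h => f5 (hun _ h).symm⟩

end

/-- A chain `i - h - d - e - f - g` of isotropic vectors. -/
structure Chain (i h d e f g : Fin 6 → F) : Prop where
  ii : hermForm 6 F 2 i i = 0
  hh : hermForm 6 F 2 h h = 0
  dd : hermForm 6 F 2 d d = 0
  ee : hermForm 6 F 2 e e = 0
  ff : hermForm 6 F 2 f f = 0
  gg : hermForm 6 F 2 g g = 0
  ih : hermForm 6 F 2 i h = 1
  hd : hermForm 6 F 2 h d = 1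
  de : hermForm 6 F 2 d e = 1
  ef : hermForm 6 F 2 e f = 1
  fg : hermForm 6 F 2 f g = 1
  id : hermForm 6 F 2 i d = 0
  ie : hermForm 6 F 2 i e = 0
  if' : hermForm 6 F 2 i f = 0
  ig : hermForm 6 F 2 i g = 0
  he : hermForm 6 F 2 h e = 0
  hf : hermForm 6 F 2 h f = 0
  hg : hermForm 6 F 2 h g = 0
  df : hermForm 6 F 2 d f = 0
  dg : hermForm 6 F 2 d g = 0
  eg : hermForm 6 F 2 e g = 0

section

variable (hF : Fintype.card F = 2 ^ 2) {i h d e f g : Fin 6 → F}
include hF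

theorem one_swap {u v : Fin 6 → F} (huv : hermForm 6 F 2 u v = 1) : hermForm 6 F 2 v u = 1 := by
  rw [herm_swap hF u v, huv, one_pow]

/-- The reversed chain. -/
theorem Chain.rev (c : Chain i h d e f g) : Chain g f e d h i where
  ii := c.gg
  hh := c.ff
  dd := c.ee
  ee := c.dd
  ff := c.hh
  gg := c.ii
  ih := one_swap hF c.fg
  hd := one_swap hF c.ef
  de := one_swap hF c.de
  ef := one_swap hF c.hd
  fg := one_swap hF c.ih
  id := herm_eq_zero_swap hF c.eg
  ie := herm_eq_zero_swap hF c.dg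
  if' := herm_eq_zero_swap hF c.hg
  ig := herm_eq_zero_swap hF c.ig
  he := herm_eq_zero_swap hF c.df
  hf := herm_eq_zero_swap hF c.hf
  hg := herm_eq_zero_swap hF c.if'
  df := herm_eq_zero_swap hF c.he
  dg := herm_eq_zero_swap hF c.ie
  eg := herm_eq_zero_swap hF c.id

/-- The hyperbolic basis of a chain. -/
def basis (i h d e f g : Fin 6 → F) : Fin 6 → (Fin 6 → F) := ![i, d + i, f + d + i, g, e, h]

theorem Chain.hyp (c : Chain i h d e f g) : IsHypBasis (basis i h d e f g) := by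
  have h2 := two_eq_zero hF
  obtain ⟨ii, hh, dd, ee, ff, gg, ih, hd, de, ef, fg, id, ie, if', ig, he, hf, hg, df, dg, eg⟩ := c
  have hi := one_swap hF ih
  have dh := one_swap hF hd
  have ed := one_swap hF de
  have fe := one_swap hF ef
  have gf := one_swap hF fg
  have di := herm_eq_zero_swap hF id
  have ei := herm_eq_zero_swap hF ie
  have fi := herm_eq_zero_swap hF if'
  have gi := herm_eq_zero_swap hF ig
  have eh := herm_eq_zero_swap hF he
  have fh := herm_eq_zero_swap hF hf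
  have gh := herm_eq_zero_swap hF hg
  have fd := herm_eq_zero_swap hF df
  have gd := herm_eq_zero_swap hF dg
  have ge := herm_eq_zero_swap hF eg
  have z1 : (1 : F) + 1 = 0 := by linear_combination h2
  intro j k
  fin_cases j <;> fin_cases k <;>
  simp only [basis, Fin.reduceFinMk, Fin.isValue, Fin.zero_eta, Fin.mk_one,
      Matrix.cons_val, herm_add_left, herm_add_right hF, ii, hh, dd, ee, ff, gg, ih, hd, de, ef, fg,
      id, ie, if', ig, he, hf, hg, df, dg, eg, hi, dh, ed, fe, gf, di, ei, fi, gi, eh, fh, gh, fd,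
      gd, ge, add_zero, zero_add]
  all_goals first | rfl | exact z1

end

/-- The deductions leading to a contradiction. -/
def badOps : List Op :=
  [.H 1344 1, .L2 20 15, .H 5 1024, .H 1024 1, .L2 5 2, .HO 256 7, .HO 20 263, .HO 64 275,
   .HO 1025 673, .HO 1029 3056, .H 20 256, .H 256 5, .L2 5 3, .HO 256 6, .HO 20 262, .HO 64 274,
   .HO 1025 1009, .HO 1029 3744, .HO 261 2725, .HO 276 2976, .L1 1345 27, .L2 64 768,
   .L2 256 3072, .L2 64 2048, .L1 1344 832, .L2 256 2, .HO 20 258, .HO 1029 555, .HO 1920 3353]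

/-- The starting mask. -/
def badStart : ℕ := put (put (put (put (put (put (put 0 1) 1024) 5) 256) 20) 64) 1344

theorem bad_check : (tb (badOps.foldl step (badStart, 0)).1 1399 &&
    tb (badOps.foldl step (badStart, 0)).2 1399) = true := by decide +kernel

theorem start_ok : (ptOk 1 && ptOk 1024 && ptOk 5 && ptOk 256 && ptOk 20 && ptOk 64 &&
    ptOk 1344) = true := by decide +kernel

theorem dec_codes (i h d e f g : Fin 6 → F) (hF : Fintype.card F = 2 ^ 2) (ω : F) :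
    dec (basis i h d e f g) ω 1 = i ∧ dec (basis i h d e f g) ω 1024 = h ∧
    dec (basis i h d e f g) ω 5 = d ∧ dec (basis i h d e f g) ω 256 = e ∧
    dec (basis i h d e f g) ω 20 = f ∧ dec (basis i h d e f g) ω 64 = g ∧
    dec (basis i h d e f g) ω 1344 = e + g + h := by
  obtain ⟨k0, k1, k2, k3, k4, k5, -⟩ := dec_basis (basis i h d e f g) ω
  have b0 : basis i h d e f g 0 = i := rfl
  have b1 : basis i h d e f g 1 = d + i := rfl
  have b2 : basis i h d e f g 2 = f + d + i := rfl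
  have b3 : basis i h d e f g 3 = g := rfl
  have b4 : basis i h d e f g 4 = e := rfl
  have b5 : basis i h d e f g 5 = h := rfl
  rw [b0] at k0
  rw [b1] at k1
  rw [b2] at k2
  rw [b3] at k3
  rw [b4] at k4
  rw [b5] at k5
  refine ⟨k0, k5, ?_, k4, ?_, k3, ?_⟩
  · have : (5 : ℕ) = 4 ^^^ 1 := by decide
    rw [this, dec_xor hF, k1, k0, add_assoc, vadd_self hF, add_zero]
  · have : (20 : ℕ) = 16 ^^^ 4 := by decide
    rw [this, dec_xor hF, k2, k1, add_assoc f d i, add_assoc, vadd_self hF, add_zero]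
  · have : (1344 : ℕ) = (256 ^^^ 64) ^^^ 1024 := by decide
    rw [this, dec_xor hF, dec_xor hF, k4, k3, k5]

/-- In a `YSet` a chain of type `A6` does not extend to `A7`. -/
theorem not_bad (hF : Fintype.card F = 2 ^ 2) {Y : Set (Fin 6 → F)} (hY : YSet Y)
    {i h d e f g : Fin 6 → F} (c : Chain i h d e f g) (hi : i ∈ Y) (hh : h ∈ Y) (hd : d ∈ Y)
    (he : e ∈ Y) (hf : f ∈ Y) (hg : g ∈ Y) : e + g + h ∉ Y := by
  intro hz
  obtain ⟨ω, hω⟩ := exists_omega hF
  have hS := (vhyp hF hω hY).hyp hF hω (c.hyp hF)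
  obtain ⟨k0, k1, k2, k3, k4, k5, k6⟩ := dec_codes i h d e f g hF ω
  have hok := start_ok
  simp only [Bool.and_eq_true] at hok
  obtain ⟨⟨⟨⟨⟨⟨o0, o1⟩, o2⟩, o3⟩, o4⟩, o5⟩, o6⟩ := hok
  have hinv0 : Inv (fun c => dec (basis i h d e f g) ω c ∈ Y) ((0 : ℕ), (0 : ℕ)) := by
    refine ⟨fun c hc => ?_, fun c hc => ?_⟩ <;>
    · simp only [tb_eq, Nat.zero_testBit] at hc
      exact absurd hc (by simp)
  have h1 := hinv0.put_in hS o0 (show dec (basis i h d e f g) ω 1 ∈ Y by rw [k0]; exact hi)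
  have h2 := h1.put_in hS o1 (show dec (basis i h d e f g) ω 1024 ∈ Y by rw [k1]; exact hh)
  have h3 := h2.put_in hS o2 (show dec (basis i h d e f g) ω 5 ∈ Y by rw [k2]; exact hd)
  have h4 := h3.put_in hS o3 (show dec (basis i h d e f g) ω 256 ∈ Y by rw [k3]; exact he)
  have h5 := h4.put_in hS o4 (show dec (basis i h d e f g) ω 20 ∈ Y by rw [k4]; exact hf)
  have h6 := h5.put_in hS o5 (show dec (basis i h d e f g) ω 64 ∈ Y by rw [k5]; exact hg)
  have h7 := h6.put_in hS o6 (show dec (basis i h d e f g) ω 1344 ∈ Y by rw [k6]; exact hz)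
  have h8 := h7.foldl hS badOps
  have hb := bad_check
  rw [Bool.and_eq_true] at hb
  exact (h8.outs _ hb.2).2 (h8.ins _ hb.1).2

/-- The other end. -/
theorem not_bad' (hF : Fintype.card F = 2 ^ 2) {Y : Set (Fin 6 → F)} (hY : YSet Y)
    {i h d e f g : Fin 6 → F} (c : Chain i h d e f g) (hi : i ∈ Y) (hh : h ∈ Y) (hd : d ∈ Y)
    (he : e ∈ Y) (hf : f ∈ Y) (hg : g ∈ Y) : i + d + f ∉ Y := by
  have := not_bad hF hY (c.rev hF) hg hf he hd hh hi
  rwa [add_comm d i] at this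

theorem chain_codes : (isPt 1 && isPt 1024 && isPt 21 && isPt 64 && isPt 660 && isPt 8 &&
    tb M0mask 1 && tb M0mask 1024 && tb M0mask 21 && tb M0mask 64 && tb M0mask 660 &&
    tb M0mask 8 && hOne 1 1024 && hOne 1024 21 && hOne 21 64 && hOne 64 660 && hOne 660 8 &&
    orth 1 21 && orth 1 64 && orth 1 660 && orth 1 8 && orth 1024 64 && orth 1024 660 &&
    orth 1024 8 && orth 21 660 && orth 21 8 && orth 64 8) = true := by decide +kernel

/-- A non-empty `YSet` contains a chain of type `A6`. -/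
theorem exists_chain (hF : Fintype.card F = 2 ^ 2) {Y : Set (Fin 6 → F)} (hY : YSet Y)
    (hne : Y.Nonempty) : ∃ i h d e f g : Fin 6 → F, Chain i h d e f g ∧ i ∈ Y ∧ h ∈ Y ∧ d ∈ Y ∧
      e ∈ Y ∧ f ∈ Y ∧ g ∈ Y := by
  obtain ⟨ω, hω⟩ := exists_omega hF
  obtain ⟨v, hv⟩ := hne
  obtain ⟨b, hb, -, hM⟩ := (vhyp hF hω hY).normal hF hω (hY.ne v hv) (hY.iso v hv) hv
  have hok := chain_codes
  simp only [Bool.and_eq_true] at hok
  obtain ⟨⟨⟨⟨⟨⟨⟨⟨⟨⟨⟨⟨⟨⟨⟨⟨⟨⟨⟨⟨⟨⟨⟨⟨⟨⟨p0, p1⟩, p2⟩, p3⟩, p4⟩, p5⟩, m0⟩, m1⟩, m2⟩, m3⟩, m4⟩, m5⟩,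
    o1⟩, o2⟩, o3⟩, o4⟩, o5⟩, q1⟩, q2⟩, q3⟩, q4⟩, q5⟩, q6⟩, q7⟩, q8⟩, q9⟩, q10⟩ := hok
  have iso : ∀ c, isPt c = true → hermForm 6 F 2 (dec b ω c) (dec b ω c) = 0 := fun c hc =>
    ((isPt_iff_dec hF hω hb).1 hc).2.2
  refine ⟨dec b ω 1, dec b ω 1024, dec b ω 21, dec b ω 64, dec b ω 660, dec b ω 8,
    ⟨iso _ p0, iso _ p1, iso _ p2, iso _ p3, iso _ p4, iso _ p5,
      (hOne_iff hF hω hb (by norm_num) _).1 o1, (hOne_iff hF hω hb (by norm_num) _).1 o2,
      (hOne_iff hF hω hb (by norm_num) _).1 o3, (hOne_iff hF hω hb (by norm_num) _).1 o4,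
      (hOne_iff hF hω hb (by norm_num) _).1 o5, (orth_iff hF hω hb (by norm_num) _).1 q1,
      (orth_iff hF hω hb (by norm_num) _).1 q2, (orth_iff hF hω hb (by norm_num) _).1 q3,
      (orth_iff hF hω hb (by norm_num) _).1 q4, (orth_iff hF hω hb (by norm_num) _).1 q5,
      (orth_iff hF hω hb (by norm_num) _).1 q6, (orth_iff hF hω hb (by norm_num) _).1 q7,
      (orth_iff hF hω hb (by norm_num) _).1 q8, (orth_iff hF hω hb (by norm_num) _).1 q9,
      (orth_iff hF hω hb (by norm_num) _).1 q10⟩,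
    (hM _ p0).2 m0, (hM _ p1).2 m1, (hM _ p2).2 m2, (hM _ p3).2 m3, (hM _ p4).2 m4,
    (hM _ p5).2 m5⟩

end Cfsg.Agent.R01.IdentChain
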