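import Cfsg.Agent.R01.IdentSeven
import Cfsg.Agent.R01.Label

/-!
The product of the six orthogonal reflections of the `D6` subsystem on `c, d, e, f, g, h` in a labelled double cover
of `PSU 6 F 2`: it is the label of `c + h`, up to the central involution.
-/

set_option autoImplicit false
set_option linter.unusedSectionVars false

namespace Cfsg.Agent.R01.IdentPi

open Cfsg Cfsg.Agent.LieClassical.HermBasic Cfsg.Agent.ClassicalGeometry.UnitTransv
open Cfsg.Agent.SporadicStructure.UnitTwo
open Cfsg.Agent.R01.Lifts Cfsg.Agent.R01.PSUSix Cfsg.Agent.R01.Label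
open Cfsg.Agent.ClassicalGeometry.UnitAutBasic (tau pr pr_surjective)
open Cfsg.Agent.R01.IdentSpider (P P_cons P_nil P_append P_single P_conj)
open Cfsg.Agent.R01.IdentSeven (pi6)

variable {F : Type*} [Field F] [Fintype F]

/-- The product of the seven transvections of a Baer subplane of a totally isotropic plane is one. -/
theorem baer_prod (hF : Fintype.card F = 2 ^ 2) {n : ℕ} {a b c : Fin n → F}
    (ha : hermForm n F 2 a a = 0) (hb : hermForm n F 2 b b = 0) (hc : hermForm n F 2 c c = 0)
    (hab : hermForm n F 2 a b = 0) (hac : hermForm n F 2 a c = 0) (hbc : hermForm n F 2 b c = 0) :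
    tau hF (a + b) * tau hF (b + c) * tau hF b * tau hF (a + b + c) * tau hF a * tau hF c *
      tau hF (a + c) = 1 := by
  have hba := herm_eq_zero_swap hF hab
  have hca := herm_eq_zero_swap hF hac
  have hcb := herm_eq_zero_swap hF hbc
  have iab : hermForm n F 2 (a + b) (a + b) = 0 := by
    simp only [herm_add_left, herm_add_right hF, ha, hb, hab, hba, add_zero]
  have ibc : hermForm n F 2 (b + c) (b + c) = 0 := by
    simp only [herm_add_left, herm_add_right hF, hc, hb, hbc, hcb, add_zero]
  have iac : hermForm n F 2 (a + c) (a + c) = 0 := by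
    simp only [herm_add_left, herm_add_right hF, hc, ha, hac, hca, add_zero]
  have iabc : hermForm n F 2 (a + b + c) (a + b + c) = 0 := by
    simp only [herm_add_left, herm_add_right hF, hc, ha, hb, hab, hba, hac, hca, hbc, hcb, add_zero]
  rw [tau_eq_pr hF ha, tau_eq_pr hF hb, tau_eq_pr hF hc, tau_eq_pr hF iab, tau_eq_pr hF ibc,
    tau_eq_pr hF iac, tau_eq_pr hF iabc, ← map_mul, ← map_mul, ← map_mul, ← map_mul, ← map_mul,
    ← map_mul]
  suffices h : T hF (a + b) iab * T hF (b + c) ibc * T hF b hb * T hF (a + b + c) iabc *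
      T hF a ha * T hF c hc * T hF (a + c) iac = 1 by rw [h, map_one]
  apply ext_act
  intro x
  have h2 := two_eq_zero hF
  simp only [act_mul, act_one, act_T, herm_add_left, herm_smul_left, herm_add_right hF,
    ha, hb, hc, hab, hba, hac, hca, hbc, hcb, mul_zero, add_zero]
  funext i
  simp only [Pi.add_apply, Pi.smul_apply, smul_eq_mul]
  generalize hermForm n F 2 x a = p
  generalize hermForm n F 2 x b = q
  generalize hermForm n F 2 x c = r
  linear_combination (2 * p * a i + 2 * q * b i + 2 * r * c i + p * b i + q * a i + p * c i +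
    r * a i + q * c i + r * b i) * h2

variable {C : Type*} [Group C] {hF : Fintype.card F = 2 ^ 2} {π : C →* PSU 6 F 2} {z ε : C}
  {lift : (Fin 6 → F) → C}

/-- Vectors with a nonzero product are nonzero. -/
theorem ne_zero_of_herm (hF : Fintype.card F = 2 ^ 2) {v w : Fin 6 → F}
    (h : hermForm 6 F 2 w v = 1) : w ≠ 0 ∧ v ≠ 0 := by
  constructor
  · rintro rfl
    rw [herm_zero_left] at h
    exact zero_ne_one h
  · rintro rfl
    rw [herm_zero_right hF] at h
    exact zero_ne_one h

/-- Conjugation of a label by a label, normalised form. -/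
theorem step (L : Lab hF π z ε lift) {v w w' : Fin 6 → F} (hv : hermForm 6 F 2 v v = 0)
    (hw : hermForm 6 F 2 w w = 0) (h : hermForm 6 F 2 w v = 1) (hw' : w + v = w') :
    lift v * lift w * lift v = lift w' := by
  obtain ⟨hw0, hv0⟩ := ne_zero_of_herm hF h
  rw [L.conj_lift hv hw hv0 hw0, h, one_smul, hw']

/-- The product of the six orthogonal reflections. -/
theorem pi6_eq (L : Lab hF π z ε lift) {c d e f h : Fin 6 → F}
    (hcc : hermForm 6 F 2 c c = 0) (hdd : hermForm 6 F 2 d d = 0) (hee : hermForm 6 F 2 e e = 0)
    (hff : hermForm 6 F 2 f f = 0) (hhh : hermForm 6 F 2 h h = 0)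
    (hcd : hermForm 6 F 2 c d = 1) (hed : hermForm 6 F 2 e d = 1) (hhd : hermForm 6 F 2 h d = 1)
    (hef : hermForm 6 F 2 e f = 1)
    (hce : hermForm 6 F 2 c e = 0) (hcf : hermForm 6 F 2 c f = 0) (hch : hermForm 6 F 2 c h = 0)
    (hdf : hermForm 6 F 2 d f = 0) (heh : hermForm 6 F 2 e h = 0) (hfh : hermForm 6 F 2 f h = 0)
    (hne : c ≠ h) {x : ℕ → C} (x1 : x 1 = lift c) (x2 : x 2 = lift d) (x3 : x 3 = lift e)
    (x4 : x 4 = lift f) (x5 : x 5 = lift (c + e)) (x6 : x 6 = lift h) :
    P x pi6 = lift (c + h) ∨ P x pi6 = lift (c + h) * z := by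
  have h2 := two_eq_zero hF
  have hvv : ∀ v : Fin 6 → F, v + v = 0 := by
    intro v
    funext i
    simp only [Pi.add_apply, Pi.zero_apply]
    linear_combination v i * h2
  have h11 : (1 : F) + 1 = 0 := by linear_combination h2
  have sw : ∀ {u v : Fin 6 → F}, hermForm 6 F 2 u v = 1 → hermForm 6 F 2 v u = 1 := by
    intro u v huv
    rw [herm_swap hF u v, huv, one_pow]
  have hdc := sw hcd
  have hde := sw hed
  have hdh := sw hhd
  have hfe := sw hef
  have hec := herm_eq_zero_swap hF hce
  have hfc := herm_eq_zero_swap hF hcf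
  have hhc := herm_eq_zero_swap hF hch
  have hfd := herm_eq_zero_swap hF hdf
  have hhe := herm_eq_zero_swap hF heh
  have hhf := herm_eq_zero_swap hF hfh
  -- the highest root of the `D6`
  have s1 : lift f * lift (c + e) * lift f = lift (c + e + f) :=
    step L hff (by simp [herm_add_left, herm_add_right hF, *]) (by simp [herm_add_left, *]) rfl
  have s2 : lift e * lift (c + e + f) * lift e = lift (c + f) :=
    step L hee (by simp [herm_add_left, herm_add_right hF, *]) (by simp [herm_add_left, *])
      (by rw [show c + e + f + e = c + f + (e + e) by abel, hvv, add_zero])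
  have s3 : lift d * lift (c + f) * lift d = lift (c + f + d) :=
    step L hdd (by simp [herm_add_left, herm_add_right hF, *]) (by simp [herm_add_left, *]) rfl
  have s4 : lift c * lift (c + f + d) * lift c = lift (f + d) :=
    step L hcc (by simp [herm_add_left, herm_add_right hF, *]) (by simp [herm_add_left, *])
      (by rw [show c + f + d + c = f + d + (c + c) by abel, hvv, add_zero])
  have s5 : lift h * lift (f + d) * lift h = lift (f + d + h) :=
    step L hhh (by simp [herm_add_left, herm_add_right hF, *]) (by simp [herm_add_left, *]) rfl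
  have s6 : lift d * lift (f + d + h) * lift d = lift (f + h) :=
    step L hdd (by simp [herm_add_left, herm_add_right hF, *]) (by simp [herm_add_left, *])
      (by rw [show f + d + h + d = f + h + (d + d) by abel, hvv, add_zero])
  have s7 : lift e * lift (f + h) * lift e = lift (f + h + e) :=
    step L hee (by simp [herm_add_left, herm_add_right hF, *]) (by simp [herm_add_left, *]) rfl
  have s8 : lift f * lift (f + h + e) * lift f = lift (e + h) :=
    step L hff (by simp [herm_add_left, herm_add_right hF, *]) (by simp [herm_add_left, *])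
      (by rw [show f + h + e + f = e + h + (f + f) by abel, hvv, add_zero])
  -- the highest root of the `D4`
  have t1 : lift d * lift e * lift d = lift (e + d) := step L hdd hee hed rfl
  have t2 : lift c * lift (e + d) * lift c = lift (e + d + c) :=
    step L hcc (by simp [herm_add_left, herm_add_right hF, *]) (by simp [herm_add_left, *]) rfl
  have t3 : lift h * lift (e + d + c) * lift h = lift (e + d + c + h) :=
    step L hhh (by simp [herm_add_left, herm_add_right hF, *]) (by simp [herm_add_left, *]) rfl
  have t4 : lift d * lift (e + d + c + h) * lift d = lift (c + e + h) :=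
    step L hdd (by simp [herm_add_left, herm_add_right hF, *]) (by simp [herm_add_left, *])
      (by rw [show e + d + c + h + d = c + e + h + (d + d) by abel, hvv, add_zero])
  have e1 : P x IdentSeven.g1 = lift (e + h) := by
    have : P x IdentSeven.g1 = x 4 * (x 3 * (x 2 * (x 6 * (x 1 * (x 2 * (x 3 * (x 4 * x 5 * x 4) *
        x 3) * x 2) * x 1) * x 6) * x 2) * x 3) * x 4 := by
      simp only [IdentSeven.g1, P_cons, P_nil, mul_one, mul_assoc]
    rw [this, x1, x2, x3, x4, x5, x6, s1, s2, s3, s4, s5, s6, s7, s8]
  have e2 : P x IdentSeven.e1 = lift (c + e + h) := by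
    have : P x IdentSeven.e1 = x 2 * (x 6 * (x 1 * (x 2 * x 3 * x 2) * x 1) * x 6) * x 2 := by
      simp only [IdentSeven.e1, P_cons, P_nil, mul_one, mul_assoc]
    rw [this, x1, x2, x3, x6, t1, t2, t3, t4]
  have e3 : P x pi6 = lift (c + e) * lift (e + h) * lift e * lift (c + e + h) * lift c * lift h := by
    rw [pi6, P_append, P_append, P_append, P_append, P_append, P_single, P_single, P_single,
      P_single, e1, e2, x1, x3, x5, x6]
  have hch0 : c + h ≠ 0 := by
    intro h5
    apply hne
    have : c + h + h = h := by rw [h5, zero_add]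
    rwa [add_assoc, hvv, add_zero] at this
  have ich : hermForm 6 F 2 (c + h) (c + h) = 0 := by
    simp [herm_add_left, herm_add_right hF, *]
  have e4 : π (P x pi6 * lift (c + h)) = 1 := by
    have n1 : c + e ≠ 0 := (ne_zero_of_herm hF (v := f) (by simp [herm_add_left, *])).1
    have n2 : e + h ≠ 0 := (ne_zero_of_herm hF (v := f) (by simp [herm_add_left, *])).1
    have n3 : e ≠ 0 := (ne_zero_of_herm hF hef).1
    have n4 : c + e + h ≠ 0 := (ne_zero_of_herm hF (v := f) (by simp [herm_add_left, *])).1
    have n5 : c ≠ 0 := (ne_zero_of_herm hF hcd).1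
    have n6 : h ≠ 0 := (ne_zero_of_herm hF hhd).1
    rw [e3]
    simp only [map_mul]
    rw [L.map _ n1 (by simp [herm_add_left, herm_add_right hF, *]),
      L.map _ n2 (by simp [herm_add_left, herm_add_right hF, *]), L.map _ n3 hee,
      L.map _ n4 (by simp [herm_add_left, herm_add_right hF, *]), L.map _ n5 hcc,
      L.map _ n6 hhh, L.map _ hch0 ich]
    exact baer_prod hF hcc hee hhh hce hch heh
  have hinv : (lift (c + h))⁻¹ = lift (c + h) := inv_eq_of_mul_eq_one_left (L.sq _ hch0 ich)
  rcases (L.ext.ker _).1 e4 with h5 | h5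
  · left
    rw [eq_inv_of_mul_eq_one_left h5, hinv]
  · right
    rw [L.ext.comm, ← h5, mul_assoc, L.sq _ hch0 ich, mul_one]

end Cfsg.Agent.R01.IdentPi
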