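import Cfsg.Agent.R01.IdentChain
import Cfsg.Agent.R01.IdentPi
import Cfsg.Agent.R01.IdentPres
import Cfsg.Agent.R01.Loc

/-!
Configurations of nine members of `D` with the graph `Y332`: the two relators of type `E7`.

Indices: `a, b, …, i = x 0, …, x 8`.
-/

set_option autoImplicit false
set_option linter.unusedSectionVars false

namespace Cfsg.Agent.R01.IdentConfig

open Cfsg Cfsg.Agent.LieClassical.HermBasic Cfsg.Agent.R01.HermCode Cfsg.Agent.R01.HermSix
open Cfsg.Agent.R01.IdentY Cfsg.Agent.R01.IdentChain Cfsg.Agent.R01.IdentPres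
open Cfsg.Agent.R01.Start Cfsg.Agent.R01.Label
open Cfsg.Agent.R01.IdentSpider (P P_cons P_nil P_append P_single P_conj)
open Cfsg.Agent.SporadicStructure.UnitTwo (two_eq_zero add_self exists_omega vadd_self pow_three)

variable {F : Type*} [Field F] [Fintype F] {G : Type*} [Group G]

/-- The hypotheses on the class `D`. -/
structure Base (hF : Fintype.card F = 2 ^ 2) (D : Set G) : Prop where
  charts : Charts hF D
  sq : ∀ x ∈ D, x * x = 1
  conj : ∀ x ∈ D, ∀ g : G, g * x * g⁻¹ ∈ D
  three : ∀ x ∈ D, ∀ y ∈ D, x * y = y * x ∨ (x * y) ^ 3 = 1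

/-- Nine members of `D` with the graph `Y332`. -/
structure Config (D : Set G) (x : ℕ → G) : Prop where
  mem : ∀ i < 9, x i ∈ D
  nadj : ∀ i < 9, ∀ j < 9, i ≠ j → IdentWord.adj E i j = true → x i * x j ≠ x j * x i
  comm : ∀ i < 9, ∀ j < 9, i ≠ j → IdentWord.adj E i j = false → x i * x j = x j * x i

/-- The symmetry of the graph. -/
def flip (k : ℕ) : ℕ := if k < 7 then 6 - k else k

theorem flip_lt : ∀ k < 9, flip k < 9 := by decide

theorem flip_inj : ∀ k < 9, ∀ l < 9, k ≠ l → flip k ≠ flip l := by decide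

theorem flip_adj : ∀ k < 9, ∀ l < 9, IdentWord.adj E (flip k) (flip l) = IdentWord.adj E k l := by
  decide

variable {D : Set G} {x : ℕ → G}

theorem Config.flip (c : Config D x) : Config D (fun k => x (flip k)) where
  mem i hi := c.mem _ (flip_lt i hi)
  nadj i hi j hj hij ha := c.nadj _ (flip_lt i hi) _ (flip_lt j hj) (flip_inj i hi j hj hij)
    (by rw [flip_adj i hi j hj]; exact ha)
  comm i hi j hj hij ha := c.comm _ (flip_lt i hi) _ (flip_lt j hj) (flip_inj i hi j hj hij)
    (by rw [flip_adj i hi j hj]; exact ha)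

/-- A member different from `x j` because of its commuting relations. -/
theorem Config.ne (c : Config D x) (i j k : ℕ) (hi : i < 9) (hj : j < 9) (hk : k < 9)
    (hik : i ≠ k) (hjk : j ≠ k) (h1 : IdentWord.adj E i k = true)
    (h2 : IdentWord.adj E j k = false) : x i ≠ x j := by
  intro h
  apply c.nadj i hi k hk hik h1
  rw [h]
  exact c.comm j hj k hk hjk h2

section Vec

variable {hF : Fintype.card F = 2 ^ 2}

theorem scale {u w : Fin 6 → F} (h : hermForm 6 F 2 u w ≠ 0) (hF : Fintype.card F = 2 ^ 2) :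
    hermForm 6 F 2 u (hermForm 6 F 2 u w • w) = 1 := by
  rw [herm_smul_right, ← pow_succ]
  exact pow_three hF h

/-- A vector orthogonal to a chain is zero. -/
theorem eq_zero_of_perp (hF : Fintype.card F = 2 ^ 2) {i h d e f g : Fin 6 → F}
    (c : Chain i h d e f g) {v : Fin 6 → F}
    (h0 : hermForm 6 F 2 v i = 0) (h1 : hermForm 6 F 2 v h = 0) (h2 : hermForm 6 F 2 v d = 0)
    (h3 : hermForm 6 F 2 v e = 0) (h4 : hermForm 6 F 2 v f = 0) (h5 : hermForm 6 F 2 v g = 0) :
    v = 0 := by
  obtain ⟨ω, hω⟩ := exists_omega hF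
  have hb := c.hyp hF
  obtain ⟨a, ha, rfl⟩ := dec_surj hF hω hb v
  have key : ∀ l : Fin 6, hermForm 6 F 2 (dec (basis i h d e f g) ω a) (basis i h d e f g l) = 0 := by
    intro l
    fin_cases l
    · exact h0
    · show hermForm 6 F 2 _ (d + i) = 0
      rw [herm_add_right hF, h2, h0, add_zero]
    · show hermForm 6 F 2 _ (f + d + i) = 0
      rw [herm_add_right hF, herm_add_right hF, h4, h2, h0, add_zero, add_zero]
    · exact h5
    · exact h3
    · exact h1
  have hco : ∀ k : Fin 6, co ω a k = 0 := by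
    intro k
    have := key k.rev
    rw [herm_dec_basis hF hb, Fin.rev_rev] at this
    exact this
  rw [dec]
  exact Finset.sum_eq_zero fun k _ => by rw [hco, zero_smul]

/-- The vectors of a configuration in the chart of `x 0`. -/
structure Vecs (D : Set G) (x : ℕ → G) {hF : Fintype.card F = 2 ^ 2}
    (π : Subgroup.centralizer ({x 0} : Set G) →* PSU 6 F 2)
    (lift : (Fin 6 → F) → Subgroup.centralizer ({x 0} : Set G)) (i h d e f g : Fin 6 → F) :
    Prop where
  chart : Chart hF D (x 0) π lift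
  chain : Chain i h d e f g
  yset : YSet (Yof lift (x 1))
  mi : i ∈ Yof lift (x 1)
  mh : h ∈ Yof lift (x 1)
  md : d ∈ Yof lift (x 1)
  me : e ∈ Yof lift (x 1)
  mf : f ∈ Yof lift (x 1)
  mg : g ∈ Yof lift (x 1)
  li : (lift i : G) = x 8
  lh : (lift h : G) = x 7
  ld : (lift d : G) = x 3
  le : (lift e : G) = x 4
  lf : (lift f : G) = x 5
  lg : (lift g : G) = x 6
  lc : (lift (e + g) : G) = x 2

theorem Config.exists_vecs (hB : Base hF D) (c : Config D x) :
    ∃ π lift i h d e f g, Vecs D x (hF := hF) π lift i h d e f g := by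
  obtain ⟨π, lift, hC⟩ := hB.charts (x 0) (c.mem 0 (by norm_num))
  have h2 := two_eq_zero hF
  -- the vectors
  have hne : ∀ k, 2 ≤ k → k < 9 → x k ≠ x 0 := by
    intro k hk hk9
    by_cases h : k = 2
    · subst h
      exact c.ne 2 0 3 (by norm_num) (by norm_num) (by norm_num) (by norm_num) (by norm_num)
        (by decide) (by decide)
    · intro h1
      apply c.nadj 0 (by norm_num) 1 (by norm_num) (by norm_num) (by decide)
      rw [← h1]
      refine c.comm k hk9 1 (by norm_num) (by omega) ?_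
      interval_cases k <;> first | (exact absurd rfl h) | decide
  have hcx : ∀ k, 2 ≤ k → k < 9 → x k * x 0 = x 0 * x k := by
    intro k hk hk9
    refine c.comm k hk9 0 (by norm_num) (by omega) ?_
    interval_cases k <;> decide
  have hv : ∀ k, 2 ≤ k → k < 9 → ∃ v, v ≠ 0 ∧ hermForm 6 F 2 v v = 0 ∧ (lift v : G) = x k := by
    intro k hk hk9
    obtain ⟨v, h0, hv, h1, -⟩ := hC.exists_lift (c.mem k hk9) (hcx k hk hk9) (hne k hk hk9)
    exact ⟨v, h0, hv, h1⟩
  obtain ⟨v2, n2, q2, l2⟩ := hv 2 (by norm_num) (by norm_num)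
  obtain ⟨v3, n3, q3, l3⟩ := hv 3 (by norm_num) (by norm_num)
  obtain ⟨v4, n4, q4, l4⟩ := hv 4 (by norm_num) (by norm_num)
  obtain ⟨v5, n5, q5, l5⟩ := hv 5 (by norm_num) (by norm_num)
  obtain ⟨v6, n6, q6, l6⟩ := hv 6 (by norm_num) (by norm_num)
  obtain ⟨v7, n7, q7, l7⟩ := hv 7 (by norm_num) (by norm_num)
  obtain ⟨v8, n8, q8, l8⟩ := hv 8 (by norm_num) (by norm_num)
  have hz : ∀ {u w : Fin 6 → F} {k l : ℕ}, u ≠ 0 → w ≠ 0 → hermForm 6 F 2 u u = 0 →
      hermForm 6 F 2 w w = 0 → (lift u : G) = x k → (lift w : G) = x l → k < 9 → l < 9 → k ≠ l →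
      IdentWord.adj E k l = false → hermForm 6 F 2 u w = 0 := by
    intro u w k l hu hw huu hww e1 e2 hk hl hkl ha
    rw [← hC.comm_iff hu hw huu hww, e1, e2]
    exact c.comm k hk l hl hkl ha
  have hnz : ∀ {u w : Fin 6 → F} {k l : ℕ}, u ≠ 0 → w ≠ 0 → hermForm 6 F 2 u u = 0 →
      hermForm 6 F 2 w w = 0 → (lift u : G) = x k → (lift w : G) = x l → k < 9 → l < 9 → k ≠ l →
      IdentWord.adj E k l = true → hermForm 6 F 2 u w ≠ 0 := by
    intro u w k l hu hw huu hww e1 e2 hk hl hkl ha h0
    rw [← hC.comm_iff hu hw huu hww, e1, e2] at h0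
    exact c.nadj k hk l hl hkl ha h0
  -- the rescaled vectors
  have resc : ∀ {u w : Fin 6 → F} {k l : ℕ}, u ≠ 0 → hermForm 6 F 2 u u = 0 → (lift u : G) = x k →
      w ≠ 0 → hermForm 6 F 2 w w = 0 → (lift w : G) = x l → k < 9 → l < 9 → k ≠ l →
      IdentWord.adj E k l = true → ∃ w', w' ≠ 0 ∧ hermForm 6 F 2 w' w' = 0 ∧
        (lift w' : G) = x l ∧ hermForm 6 F 2 u w' = 1 := by
    intro u w k l hu huu e1 hw hww e2 hk hl hkl ha
    have h0 := hnz hu hw huu hww e1 e2 hk hl hkl ha
    refine ⟨hermForm 6 F 2 u w • w, smul_ne_zero h0 hw, ?_, ?_, scale h0 hF⟩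
    · rw [herm_smul_left, herm_smul_right, hww, mul_zero, mul_zero]
    · rw [hC.lab.smul w _ hww h0, e2]
  obtain ⟨h, nh, qh, lh, ih⟩ := resc n8 q8 l8 n7 q7 l7 (by norm_num) (by norm_num) (by norm_num)
    (by decide)
  obtain ⟨d, nd, qd, ld, hd⟩ := resc nh qh lh n3 q3 l3 (by norm_num) (by norm_num) (by norm_num)
    (by decide)
  obtain ⟨e, ne, qe, le, de⟩ := resc nd qd ld n4 q4 l4 (by norm_num) (by norm_num) (by norm_num)
    (by decide)
  obtain ⟨f, nf, qf, lf, ef⟩ := resc ne qe le n5 q5 l5 (by norm_num) (by norm_num) (by norm_num)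
    (by decide)
  obtain ⟨g, ng, qg, lg, fg⟩ := resc nf qf lf n6 q6 l6 (by norm_num) (by norm_num) (by norm_num)
    (by decide)
  have ch : Chain v8 h d e f g := by
    refine ⟨q8, qh, qd, qe, qf, qg, ih, hd, de, ef, fg, ?_, ?_, ?_, ?_, ?_, ?_, ?_, ?_, ?_, ?_⟩
    · exact hz n8 nd q8 qd l8 ld (by norm_num) (by norm_num) (by norm_num) (by decide)
    · exact hz n8 ne q8 qe l8 le (by norm_num) (by norm_num) (by norm_num) (by decide)
    · exact hz n8 nf q8 qf l8 lf (by norm_num) (by norm_num) (by norm_num) (by decide)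
    · exact hz n8 ng q8 qg l8 lg (by norm_num) (by norm_num) (by norm_num) (by decide)
    · exact hz nh ne qh qe lh le (by norm_num) (by norm_num) (by norm_num) (by decide)
    · exact hz nh nf qh qf lh lf (by norm_num) (by norm_num) (by norm_num) (by decide)
    · exact hz nh ng qh qg lh lg (by norm_num) (by norm_num) (by norm_num) (by decide)
    · exact hz nd nf qd qf ld lf (by norm_num) (by norm_num) (by norm_num) (by decide)
    · exact hz nd ng qd qg ld lg (by norm_num) (by norm_num) (by norm_num) (by decide)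
    · exact hz ne ng qe qg le lg (by norm_num) (by norm_num) (by norm_num) (by decide)
  have hyY : ∀ {u : Fin 6 → F} {k : ℕ}, u ≠ 0 → hermForm 6 F 2 u u = 0 → (lift u : G) = x k →
      3 ≤ k → k < 9 → u ∈ Yof lift (x 1) := by
    intro u k hu huu e1 hk hk9
    refine ⟨hu, huu, ?_⟩
    rw [e1]
    refine c.comm k hk9 1 (by norm_num) (by omega) ?_
    interval_cases k <;> decide
  -- the vector of `c`
  have hm := hnz n2 nd q2 qd l2 ld (by norm_num) (by norm_num) (by norm_num) (by decide)
  have c0 := hz n2 n8 q2 q8 l2 l8 (by norm_num) (by norm_num) (by norm_num) (by decide)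
  have c1 := hz n2 nh q2 qh l2 lh (by norm_num) (by norm_num) (by norm_num) (by decide)
  have c3 := hz n2 ne q2 qe l2 le (by norm_num) (by norm_num) (by norm_num) (by decide)
  have c4 := hz n2 nf q2 qf l2 lf (by norm_num) (by norm_num) (by norm_num) (by decide)
  have c5 := hz n2 ng q2 qg l2 lg (by norm_num) (by norm_num) (by norm_num) (by decide)
  have ei := herm_eq_zero_swap hF ch.ie
  have gi := herm_eq_zero_swap hF ch.ig
  have eh := herm_eq_zero_swap hF ch.he
  have gh := herm_eq_zero_swap hF ch.hg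
  have ed := one_swap hF ch.de
  have gd := herm_eq_zero_swap hF ch.dg
  have ge := herm_eq_zero_swap hF ch.eg
  have gf := one_swap hF ch.fg
  set m := hermForm 6 F 2 v2 d with hmdef
  have hv2 : v2 + m • (e + g) = 0 := by
    apply eq_zero_of_perp hF ch
    · rw [herm_add_left, herm_smul_left, herm_add_left, c0, ei, gi]; ring
    · rw [herm_add_left, herm_smul_left, herm_add_left, c1, eh, gh]; ring
    · rw [herm_add_left, herm_smul_left, herm_add_left, ← hmdef, ed, gd]
      linear_combination m * h2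
    · rw [herm_add_left, herm_smul_left, herm_add_left, c3, ch.ee, ge]; ring
    · rw [herm_add_left, herm_smul_left, herm_add_left, c4, ch.ef, gf]
      linear_combination m * h2
    · rw [herm_add_left, herm_smul_left, herm_add_left, c5, ch.eg, ch.gg]; ring
  have hv2' : v2 = m • (e + g) := by
    have h3 : m • (e + g) + m • (e + g) = 0 := vadd_self hF _
    calc v2 = v2 + m • (e + g) + m • (e + g) := by rw [add_assoc, h3, add_zero]
      _ = m • (e + g) := by rw [hv2, zero_add]
  have hegq : hermForm 6 F 2 (e + g) (e + g) = 0 := by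
    rw [herm_add_left, herm_add_right hF, herm_add_right hF, ch.ee, ch.eg, ge, ch.gg]; ring
  have hlc : (lift (e + g) : G) = x 2 := by
    rw [← l2, hv2', hC.lab.smul (e + g) m hegq hm]
  exact ⟨π, lift, v8, h, d, e, f, g, hC, ch, IdentY.yset hB.charts (c.mem 0 (by norm_num))
    (c.mem 1 (by norm_num)) (c.nadj 0 (by norm_num) 1 (by norm_num) (by norm_num) (by decide)) hC,
    hyY n8 q8 l8 (by norm_num) (by norm_num), hyY nh qh lh (by norm_num) (by norm_num),
    hyY nd qd ld (by norm_num) (by norm_num), hyY ne qe le (by norm_num) (by norm_num),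
    hyY nf qf lf (by norm_num) (by norm_num), hyY ng qg lg (by norm_num) (by norm_num),
    l8, lh, ld, le, lf, lg, hlc⟩

end Vec

theorem P_coe {H : Subgroup G} (x : ℕ → G) (y : ℕ → H) (ω : List ℕ)
    (h : ∀ k ∈ ω, x k = (y k : G)) : P x ω = ((P y ω : H) : G) := by
  induction ω with
  | nil => rfl
  | cons k ω ih =>
    rw [P_cons, P_cons, Subgroup.coe_mul, h k List.mem_cons_self,
      ih fun l hl => h l (List.mem_cons_of_mem _ hl)]

theorem pi6_letters : ∀ k ∈ IdentSeven.pi6, 1 ≤ k ∧ k < 7 := by decide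

/-- The relator on `b, c, d, e, f, g, h`. -/
theorem Config.pow_nine {hF : Fintype.card F = 2 ^ 2} (hB : Base hF D) (c : Config D x) :
    (x 1 * x 2 * x 3 * x 4 * x 5 * x 6 * x 7) ^ 9 = 1 := by
  have h2 := two_eq_zero hF
  obtain ⟨π, lift, i, h, d, e, f, g, V⟩ := c.exists_vecs hB
  have ch := V.chain
  -- the relations of type `E7`
  have hrel : IdentSeven.Rel (fun k => x (k + 1)) := by
    refine ⟨fun k hk => hB.sq _ (c.mem _ (by omega)), ?_, ?_⟩
    · intro k hk l hl hkl ha
      refine (hB.three _ (c.mem (k + 1) (by omega)) _ (c.mem (l + 1) (by omega))).resolve_left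
        (c.nadj (k + 1) (by omega) (l + 1) (by omega) (by omega) ?_)
      revert ha
      interval_cases k <;> interval_cases l <;> decide
    · intro k hk l hl hkl ha
      refine c.comm (k + 1) (by omega) (l + 1) (by omega) (by omega) ?_
      revert ha
      interval_cases k <;> interval_cases l <;> decide
  -- the product of six orthogonal reflections
  have ge := herm_eq_zero_swap hF ch.eg
  have gd := herm_eq_zero_swap hF ch.dg
  have gh := herm_eq_zero_swap hF ch.hg
  have eh := herm_eq_zero_swap hF ch.he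
  have ed := one_swap hF ch.de
  have gf := one_swap hF ch.fg
  have hi := one_swap hF ch.ih
  have gi := herm_eq_zero_swap hF ch.ig
  have ei := herm_eq_zero_swap hF ch.ie
  have fh := herm_eq_zero_swap hF ch.hf
  have hegq : hermForm 6 F 2 (e + g) (e + g) = 0 := by
    rw [herm_add_left, herm_add_right hF, herm_add_right hF, ch.ee, ch.eg, ge, ch.gg]; ring
  let y : ℕ → Subgroup.centralizer ({x 0} : Set G) := fun k =>
    if k = 1 then lift (e + g) else if k = 2 then lift d else if k = 3 then lift e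
    else if k = 4 then lift f else if k = 5 then lift (e + g + e) else lift h
  have hgg : e + g + e = g := by
    rw [add_comm e g, add_assoc, vadd_self hF, add_zero]
  have hpi := IdentPi.pi6_eq V.chart.lab (c := e + g) (d := d) (e := e) (f := f) (h := h) hegq ch.dd
    ch.ee ch.ff ch.hh (by rw [herm_add_left, ed, gd, add_zero]) ed ch.hd ch.ef
    (by rw [herm_add_left, ch.ee, ge, add_zero])
    (by rw [herm_add_left, ch.ef, gf]; linear_combination h2)
    (by rw [herm_add_left, eh, gh, add_zero]) ch.df eh fh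
    (by
      intro h3
      have h4 : hermForm 6 F 2 (e + g) i = 1 := by rw [h3, hi]
      rw [herm_add_left, ei, gi, add_zero] at h4
      exact zero_ne_one h4)
    (x := y) rfl rfl rfl rfl rfl rfl
  have hPx : P (fun k => x (k + 1)) IdentSeven.pi6 =
      ((P y IdentSeven.pi6 : Subgroup.centralizer ({x 0} : Set G)) : G) := by
    apply P_coe
    intro k hk
    obtain ⟨h1, h7⟩ := pi6_letters k hk
    interval_cases k
    · exact V.lc.symm
    · exact V.ld.symm
    · exact V.le.symm
    · exact V.lf.symm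
    · show x 6 = (lift (e + g + e) : G)
      rw [hgg]
      exact V.lg.symm
    · exact V.lh.symm
  have hzq : hermForm 6 F 2 (e + g + h) (e + g + h) = 0 := by
    simp only [herm_add_left, herm_add_right hF, ch.ee, ch.eg, ge, ch.gg, eh, gh, ch.he, ch.hg,
      ch.hh, add_zero]
  have hz0 : e + g + h ≠ 0 := by
    intro h3
    have h4 : hermForm 6 F 2 (e + g + h) i = 1 := by
      rw [herm_add_left, herm_add_left, ei, gi, hi]; ring
    rw [h3, herm_zero_left] at h4
    exact zero_ne_one h4
  have hbad := not_bad hF V.yset ch V.mi V.mh V.md V.me V.mf V.mg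
  refine hrel.pow_nine (a := x 0) (z := (lift (e + g + h) : G)) hB.sq hB.conj hB.three
    (c.mem 1 (by norm_num)) (c.mem 0 (by norm_num)) (V.chart.lift_mem hz0 hzq)
    (V.chart.coe_comm _).symm (Ne.symm (V.chart.lift_ne hz0 hzq))
    (c.nadj 1 (by norm_num) 0 (by norm_num) (by norm_num) (by decide)) ?_ ?_
  · intro h3
    exact hbad ⟨hz0, hzq, h3.symm⟩
  · rw [hPx]
    rcases hpi with h3 | h3
    · left; rw [h3]
    · right; rw [h3]; rfl

/-- The relator on `a, b, c, d, e, f, h`. -/
theorem Config.pow_nine' {hF : Fintype.card F = 2 ^ 2} (hB : Base hF D) (c : Config D x) :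
    (x 0 * x 1 * x 2 * x 3 * x 4 * x 5 * x 7) ^ 9 = 1 := by
  have h1 : (x 5 * x 4 * x 3 * x 2 * x 1 * x 0 * x 7) ^ 9 = 1 := c.flip.pow_nine hB
  have inv : ∀ k < 9, (x k)⁻¹ = x k := fun k hk =>
    inv_eq_of_mul_eq_one_left (hB.sq _ (c.mem k hk))
  have h3 : x 0 * x 1 * x 2 * x 3 * x 4 * x 5 * x 7 =
      x 7 * (x 5 * x 4 * x 3 * x 2 * x 1 * x 0 * x 7)⁻¹ * (x 7)⁻¹ := by
    simp only [mul_inv_rev, inv 0 (by norm_num), inv 1 (by norm_num), inv 2 (by norm_num),
      inv 3 (by norm_num), inv 4 (by norm_num), inv 5 (by norm_num), inv 7 (by norm_num)]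
    have := hB.sq _ (c.mem 7 (by norm_num))
    calc x 0 * x 1 * x 2 * x 3 * x 4 * x 5 * x 7
        = (x 7 * x 7) * x 0 * x 1 * x 2 * x 3 * x 4 * x 5 * x 7 := by rw [this, one_mul]
      _ = _ := by group
  rw [h3, ← MulAut.conj_apply, ← map_pow, inv_pow, h1, inv_one, map_one]

end Cfsg.Agent.R01.IdentConfig
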