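import Cfsg.Agent.R01.IdentSpider

/-!
The `E7` relator: in a class of 3-transpositions, if `b, c, d, e, f, g, h` satisfy the Coxeter relations of type `E7` and
the product of the six orthogonal reflections of the `D6` on `c, d, e, f, g, h` is `z` or `z a` with `a, z`
commuting different members of the class not commuting with `b`, then `(b c d e f g h)^9 = 1`.

Letters: `b = 0, c = 1, d = 2, e = 3, f = 4, g = 5, h = 6`.
-/

set_option autoImplicit false

namespace Cfsg.Agent.R01.IdentSeven

open Cfsg.Agent.R01.IdentWord
open Cfsg.Agent.R01.IdentSpider (P P_cons P_nil P_append P_single P_conj P_flatten_replicate)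

/-- The edges `b-c-d-e-f-g`, `d-h`. -/
def E : List (ℕ × ℕ) := [(0, 1), (1, 2), (2, 3), (3, 4), (4, 5), (2, 6)]

variable {G : Type*} [Group G]

/-- The relations of type `E7`. -/
structure Rel (x : ℕ → G) : Prop where
  sq : ∀ i < 7, x i * x i = 1
  adj : ∀ i < 7, ∀ j < 7, i ≠ j → adj E i j = true → (x i * x j) ^ 3 = 1
  comm : ∀ i < 7, ∀ j < 7, i ≠ j → IdentWord.adj E i j = false → x i * x j = x j * x i

variable {x : ℕ → G}

theorem Rel.eq (h : Rel x) (ω ω' : List ℕ) (hc : test 7 E ω ω' = true) : P x ω = P x ω' :=
  word_eq 7 E x h.sq h.adj h.comm ω ω' hc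

theorem Rel.sqs (h : Rel x) {u : List ℕ} (hu : (u.all fun k => Nat.blt k 7) = true) :
    ∀ k ∈ u, x k * x k = 1 := by
  intro k hk
  rw [List.all_eq_true] at hu
  have := hu k hk
  rw [Nat.blt_eq] at this
  exact h.sq k this

/-- The word conjugating `b` to the reflection in the highest root. -/
def thetaU : List ℕ := [0, 1, 2, 6, 3, 4, 2, 3, 1, 2, 6, 5, 4, 3, 2, 1]

/-- The reflection in the highest root. -/
def theta : List ℕ := thetaU ++ [0] ++ thetaU.reverse

/-- The reflection in the highest root of the `D6` on `g, f, e, d, c, h`. -/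
def g1 : List ℕ := [4, 3, 2, 6, 1, 2, 3, 4, 5, 4, 3, 2, 1, 6, 2, 3, 4]

/-- The reflection in the highest root of the `D4` on `e, d, c, h`. -/
def e1 : List ℕ := [2, 6, 1, 2, 3, 2, 1, 6, 2]

/-- The product of six orthogonal reflections of the `D6` on `c, d, e, f, g, h`. -/
def pi6 : List ℕ := [5] ++ g1 ++ [3] ++ e1 ++ [1] ++ [6]

/-- The word `(b c d e f g h)^9`. -/
def w9 : List ℕ := (List.replicate 9 [0, 1, 2, 3, 4, 5, 6]).flatten

theorem P_w9 (x : ℕ → G) : P x w9 = (x 0 * x 1 * x 2 * x 3 * x 4 * x 5 * x 6) ^ 9 := by
  rw [w9, P_flatten_replicate]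
  simp only [P_cons, P_nil, mul_one, mul_assoc]

theorem Rel.w9_eq (h : Rel x) : P x w9 = P x theta * P x pi6 := by
  rw [← P_append]
  exact h.eq _ _ (by decide +kernel)

theorem Rel.theta_comm (h : Rel x) : P x theta * P x pi6 = P x pi6 * P x theta := by
  rw [← P_append, ← P_append]
  exact h.eq _ _ (by decide +kernel)

theorem Rel.w9_comm (h : Rel x) : P x w9 * x 0 = x 0 * P x w9 := by
  rw [← P_single x 0, ← P_append, ← P_append]
  exact h.eq _ _ (by decide +kernel)

/-- Two different commuting members `p, q` of a class of 3-transpositions: `b` in the class does not commute with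
`p q` if it does not commute with `q`. -/
theorem not_comm_mul {b p q : G} (hb : b * b = 1) (hp : p * p = 1) (_hq : q * q = 1)
    (h3p : b * p = p * b ∨ (b * p) ^ 3 = 1) (h3q : b * q = q * b ∨ (b * q) ^ 3 = 1)
    (_hpq : p * q = q * p) (hne : p ≠ q) (hbq : b * q ≠ q * b) : b * (p * q) ≠ p * q * b := by
  intro h
  rcases h3p with h1 | h1
  · apply hbq
    have h2 : p * (b * q) = p * (q * b) := by
      rw [← mul_assoc, ← h1, mul_assoc, h, mul_assoc]
    exact mul_left_cancel h2
  · have h2 := h3q.resolve_left hbq
    have binv : b⁻¹ = b := inv_eq_of_mul_eq_one_left hb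
    have pinv : p⁻¹ = p := inv_eq_of_mul_eq_one_left hp
    have qinv : q⁻¹ = q := inv_eq_of_mul_eq_one_left _hq
    have key : ∀ r : G, r⁻¹ = r → (b * r) ^ 3 = 1 → b * r * b = r * b * r := by
      intro r hr hr3
      have h4 : b * r * b * (r * b * r) = 1 := by
        rw [← hr3, pow_succ, pow_two]
        group
      have h5 := eq_inv_of_mul_eq_one_left h4
      rw [h5, mul_inv_rev, mul_inv_rev, hr, binv, mul_assoc]
    have e1 := key p pinv h1
    have e2 := key q qinv h2
    -- `p q b = b p q` gives `q b q = p b p`
    have e3 : q * b * q = p * b * p := by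
      have : p * (q * b * q) = p * (p * b * p) := by
        calc p * (q * b * q) = (p * q * b) * q := by group
          _ = b * (p * q) * q := by rw [h]
          _ = b * p * (q * q) := by group
          _ = b * p := by rw [_hq, mul_one]
          _ = (p * p) * b * p := by rw [hp, one_mul]
          _ = p * (p * b * p) := by group
      exact mul_left_cancel this
    apply hne
    have e4 : b * p * b = b * q * b := by rw [e1, e2, e3]
    exact mul_left_cancel (mul_right_cancel e4)

/-- The `E7` relator. -/
theorem Rel.pow_nine (h : Rel x) {D : Set G} (hsq : ∀ y ∈ D, y * y = 1)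
    (hconj : ∀ y ∈ D, ∀ g : G, g * y * g⁻¹ ∈ D)
    (h3 : ∀ y ∈ D, ∀ y' ∈ D, y * y' = y' * y ∨ (y * y') ^ 3 = 1) (hb : x 0 ∈ D) {a z : G}
    (ha : a ∈ D) (hz : z ∈ D) (haz : a * z = z * a) (hne : a ≠ z) (hab : x 0 * a ≠ a * x 0)
    (hzb : x 0 * z ≠ z * x 0) (hπ : P x pi6 = z ∨ P x pi6 = z * a) :
    (x 0 * x 1 * x 2 * x 3 * x 4 * x 5 * x 6) ^ 9 = 1 := by
  rw [← P_w9, h.w9_eq]
  have hθ : P x theta ∈ D := by
    rw [theta, P_conj x _ _ (h.sqs (by decide)), P_single]
    exact hconj _ hb _
  have hcomm := h.w9_comm
  rw [h.w9_eq] at hcomm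
  have hθc := h.theta_comm
  set b := x 0 with hbdef
  set θ := P x theta with hθdef
  have sb := hsq b hb
  have sa := hsq a ha
  have sz := hsq z hz
  have sθ := hsq θ hθ
  rcases hπ with hπ | hπ
  · rw [hπ] at hcomm hθc ⊢
    by_cases heq : θ = z
    · rw [heq, sz]
    · exact absurd hcomm.symm
        (not_comm_mul sb sθ sz (h3 b hb θ hθ) (h3 b hb z hz) hθc heq hzb)
  · exfalso
    rw [hπ] at hcomm hθc
    -- `s = z a`
    set s := z * a with hs
    have hss : s * s = 1 := by
      rw [hs]
      calc z * a * (z * a) = z * (a * z) * a := by group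
        _ = z * (z * a) * a := by rw [haz]
        _ = (z * z) * (a * a) := by group
        _ = 1 := by rw [sz, sa, one_mul]
    have hconjb : θ * b * θ = s * b * s := by
      have e1 : θ * (s * b * s) = θ * (θ * b * θ) := by
        calc θ * (s * b * s) = (θ * s * b) * s := by group
          _ = b * (θ * s) * s := by rw [hcomm]
          _ = b * θ * (s * s) := by group
          _ = b * θ := by rw [hss, mul_one]
          _ = (θ * θ) * b * θ := by rw [sθ, one_mul]
          _ = θ * (θ * b * θ) := by group
      exact (mul_left_cancel e1).symm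
    have hnc : b * s ≠ s * b :=
      not_comm_mul sb sz sa (h3 b hb z hz) (h3 b hb a ha) haz.symm (Ne.symm hne) hab
    have key : ∀ r : G, r * r = 1 → (b * r) ^ 3 = 1 → b * r * b = r * b * r := by
      intro r hr hr3
      have h4 : b * r * b * (r * b * r) = 1 := by
        rw [← hr3, pow_succ, pow_two]
        group
      have h5 := eq_inv_of_mul_eq_one_left h4
      rw [h5, mul_inv_rev, mul_inv_rev, inv_eq_of_mul_eq_one_left hr, inv_eq_of_mul_eq_one_left sb, mul_assoc]
    rcases h3 b hb θ hθ with h1 | h1
    · -- `b` commutes with `θ`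
      apply hnc
      have e1 : s * b * s = b := by
        rw [← hconjb, ← h1, mul_assoc, sθ, mul_one]
      calc b * s = (s * b * s) * s := by rw [e1]
        _ = s * b * (s * s) := by group
        _ = s * b := by rw [hss, mul_one]
    · have e1 := key θ sθ h1
      have ea := key a sa ((h3 b hb a ha).resolve_left hab)
      have ez := key z sz ((h3 b hb z hz).resolve_left hzb)
      -- `b` commutes with `s b s`
      have e2 : b * (s * b * s) = s * b * s * b := by
        have h5 : s * b * s = z * (b * a * b) * z := by
          rw [ea, hs]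
          calc z * a * b * (z * a) = z * a * b * (a * z) := by rw [haz]
            _ = z * (a * b * a) * z := by group
        calc b * (s * b * s) = (b * z * b) * a * b * z := by rw [h5]; group
          _ = z * b * (z * a) * b * z := by rw [ez]; group
          _ = z * b * (a * z) * b * z := by rw [haz]
          _ = z * b * a * (z * b * z) := by group
          _ = z * b * a * (b * z * b) := by rw [ez]
          _ = z * (b * a * b) * z * b := by group
          _ = s * b * s * b := by rw [h5]
      -- hence `θ = s b s = θ b θ`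
      have e3 : θ = b * (s * b * s) * b := by
        rw [← hconjb]
        have h6 : θ * b * θ = b * θ * b := e1.symm
        rw [h6]
        calc θ = (b * b) * θ * (b * b) := by rw [sb, one_mul, mul_one]
          _ = b * (b * θ * b) * b := by group
      have e4 : θ = θ * b * θ := by
        rw [hconjb]
        conv_lhs => rw [e3, e2]
        rw [mul_assoc, sb, mul_one]
      have e5 : b * θ = 1 := by
        have h7 : θ * (b * θ) = θ * 1 := by rw [← mul_assoc, ← e4, mul_one]
        exact mul_left_cancel h7
      apply hnc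
      have e6 : b = θ := by
        have := eq_inv_of_mul_eq_one_left e5
        rwa [inv_eq_of_mul_eq_one_left sθ] at this
      rw [← e6] at hθc
      exact hθc

end Cfsg.Agent.R01.IdentSeven
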