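import Cfsg.Agent.R01.IdentWord

/-!
The spider word: in a group generated by involutions satisfying the Coxeter relations of type affine `E6` and
`(b ψ)^3 = 1`, `ψ` the reflection in the highest root of the finite subsystem, the element `(d c b d e f d h i)^10` is
central.

Letters: `b = 0, c = 1, d = 2, e = 3, f = 4, h = 5, i = 6`.
-/

set_option autoImplicit false

namespace Cfsg.Agent.R01.IdentSpider

open Cfsg.Agent.R01.IdentWord

/-- The edges `b-c-d-e-f`, `d-h-i`. -/
def E : List (ℕ × ℕ) := [(0, 1), (1, 2), (2, 3), (3, 4), (2, 5), (5, 6)]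

variable {G : Type*} [Group G]

/-- The relations of type affine `E6`. -/
structure Rel (x : ℕ → G) : Prop where
  sq : ∀ i < 7, x i * x i = 1
  adj : ∀ i < 7, ∀ j < 7, i ≠ j → adj E i j = true → (x i * x j) ^ 3 = 1
  comm : ∀ i < 7, ∀ j < 7, i ≠ j → IdentWord.adj E i j = false → x i * x j = x j * x i

/-- The product of a word. -/
def P (x : ℕ → G) (ω : List ℕ) : G := (ω.map x).prod

theorem P_nil (x : ℕ → G) : P x [] = 1 := rfl

theorem P_cons (x : ℕ → G) (k : ℕ) (ω : List ℕ) : P x (k :: ω) = x k * P x ω := by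
  rw [P, List.map_cons, List.prod_cons]; rfl

theorem P_append (x : ℕ → G) (ω ω' : List ℕ) : P x (ω ++ ω') = P x ω * P x ω' := by
  rw [P, List.map_append, List.prod_append]; rfl

theorem P_single (x : ℕ → G) (k : ℕ) : P x [k] = x k := by
  rw [P_cons, P_nil, mul_one]

theorem P_reverse (x : ℕ → G) (ω : List ℕ) (h : ∀ k ∈ ω, x k * x k = 1) :
    P x ω.reverse = (P x ω)⁻¹ := by
  induction ω with
  | nil => simp [P_nil]
  | cons k ω ih =>
    rw [List.reverse_cons, P_append, ih fun y hy => h y (List.mem_cons_of_mem _ hy), P_single,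
      P_cons x k ω, mul_inv_rev]
    congr 1
    exact (inv_eq_of_mul_eq_one_left (h k List.mem_cons_self)).symm

theorem P_conj (x : ℕ → G) (u t : List ℕ) (h : ∀ k ∈ u, x k * x k = 1) :
    P x (u ++ t ++ u.reverse) = P x u * P x t * (P x u)⁻¹ := by
  rw [P_append, P_append, P_reverse x u h]

variable {x : ℕ → G}

theorem Rel.eq (h : Rel x) (ω ω' : List ℕ) (hc : test 7 E ω ω' = true) : P x ω = P x ω' :=
  word_eq 7 E x h.sq h.adj h.comm ω ω' hc

theorem Rel.sqs (h : Rel x) {u : List ℕ} (hu : (u.all fun k => Nat.blt k 7) = true) :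
    ∀ k ∈ u, x k * x k = 1 := by
  intro k hk
  rw [List.all_eq_true] at hu
  have := hu k hk
  rw [Nat.blt_eq] at this
  exact h.sq k this

/-- The word `ψ`. -/
def psi : List ℕ := [1, 2, 5, 6, 3, 2, 5, 1, 2, 3, 4, 3, 2, 1, 5, 2, 3, 6, 5, 2, 1]

/-- The spider word `(d c b d e f d h i)^10`. -/
def zeta : List ℕ := (List.replicate 10 [2, 1, 0, 2, 3, 4, 2, 5, 6]).flatten

/-- `(b ψ)^3`. -/
def t1 : List ℕ := (List.replicate 3 (0 :: psi)).flatten

/-- `(ψ b)^3`. -/
def t2 : List ℕ := (List.replicate 3 (psi ++ [0])).flatten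

theorem P_flatten_replicate (x : ℕ → G) (n : ℕ) (ω : List ℕ) :
    P x (List.replicate n ω).flatten = P x ω ^ n := by
  induction n with
  | zero => simp [P_nil]
  | succ n ih => rw [List.replicate_succ, List.flatten_cons, P_append, ih, pow_succ']

theorem P_zeta (x : ℕ → G) : P x zeta = (x 2 * x 1 * x 0 * x 2 * x 3 * x 4 * x 2 * x 5 * x 6) ^ 10 := by
  rw [zeta, P_flatten_replicate]
  simp only [P_cons, P_nil, mul_one, mul_assoc]

theorem Rel.P_t1 (_h : Rel x) (hψ : (x 0 * P x psi) ^ 3 = 1) : P x t1 = 1 := by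
  rw [t1, P_flatten_replicate, P_cons, hψ]

theorem Rel.P_t2 (h : Rel x) (hψ : (x 0 * P x psi) ^ 3 = 1) : P x t2 = 1 := by
  have h0 := h.sq 0 (by norm_num)
  rw [t2, P_flatten_replicate, P_append, P_single]
  have : P x psi * x 0 = x 0 * (x 0 * P x psi) * (x 0)⁻¹ := by
    rw [← mul_assoc, h0, one_mul]
    congr 1
    exact (inv_eq_of_mul_eq_one_left h0).symm
  rw [this, ← MulAut.conj_apply, ← map_pow, hψ, map_one]

theorem Rel.comm_of (h : Rel x) (k : ℕ) (u t : List ℕ) (hu : (u.all fun k => Nat.blt k 7) = true)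
    (ht : P x t = 1) (hc : test 7 E (zeta ++ [k]) (u ++ t ++ u.reverse ++ (k :: zeta)) = true) :
    P x zeta * x k = x k * P x zeta := by
  have h1 := h.eq _ _ hc
  rw [P_append, P_append, P_single, P_conj x u t (h.sqs hu), ht, mul_one, mul_inv_cancel, one_mul,
    P_cons] at h1
  exact h1

/-- The spider element commutes with all generators. -/
theorem Rel.zeta_comm (h : Rel x) (hψ : (x 0 * P x psi) ^ 3 = 1) (k : ℕ) (hk : k < 7) :
    P x zeta * x k = x k * P x zeta := by
  have H1 := h.P_t1 hψ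
  have H2 := h.P_t2 hψ
  interval_cases k
  · exact h.comm_of 0 [] t2 (by decide) H2 (by decide +kernel)
  · exact h.comm_of 1 [2, 5, 6, 3, 2, 5, 4, 3, 2, 1] t2 (by decide) H2 (by decide +kernel)
  · exact h.comm_of 2 [5, 6, 3, 1, 2, 5, 4, 3, 2, 1] t2 (by decide) H2 (by decide +kernel)
  · exact h.comm_of 3 [] [] (by decide) (P_nil x) (by decide +kernel)
  · exact h.comm_of 4 [3, 2, 5, 6, 1, 2, 5, 3, 2, 1] t1 (by decide) H1 (by decide +kernel)
  · exact h.comm_of 5 [6, 2, 3, 1, 2, 5, 4, 3, 2, 1] t1 (by decide) H1 (by decide +kernel)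
  · exact h.comm_of 6 [5, 2, 3, 1, 2, 5, 4, 3, 2, 1] t1 (by decide) H1 (by decide +kernel)

theorem Rel.zeta_comm_P (h : Rel x) (hψ : (x 0 * P x psi) ^ 3 = 1) (ω : List ℕ)
    (hω : (ω.all fun k => Nat.blt k 7) = true) : P x zeta * P x ω = P x ω * P x zeta := by
  induction ω with
  | nil => rw [P_nil, one_mul, mul_one]
  | cons k ω ih =>
    rw [List.all_cons, Bool.and_eq_true, Nat.blt_eq] at hω
    rw [P_cons, ← mul_assoc, h.zeta_comm hψ k hω.1, mul_assoc, ih hω.2, mul_assoc]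

/-- The reflection in the highest root of the `D5` on `i, h, d, c, e`. -/
def s0 : List ℕ := [5, 2, 3, 1, 2, 5, 6, 5, 2, 1, 3, 2, 5]

/-- The reflection in the highest root of the `A5` on `b, c, d, e, f`. -/
def eta : List ℕ := [4, 3, 2, 1, 0, 1, 2, 3, 4]

/-- `s0 η` is conjugate to `ψ b`. -/
theorem Rel.s0_eta (h : Rel x) :
    P x s0 * P x eta = P x [4, 3, 2, 1] * (P x psi * x 0) * (P x [4, 3, 2, 1])⁻¹ := by
  have h1 := h.eq (s0 ++ eta) ([4, 3, 2, 1] ++ (psi ++ [0]) ++ [4, 3, 2, 1].reverse) (by decide +kernel)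
  rwa [P_append, P_conj x _ _ (h.sqs (by decide)), P_append, P_single] at h1

end Cfsg.Agent.R01.IdentSpider
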