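import Cfsg.Agent.R01.Loc

/-!
The labelling of the neighbours of a member `x` of `D` inside the group `G`.
-/

set_option autoImplicit false
set_option linter.dupNamespace false

namespace Cfsg.Agent.R01.IsLabel

open Cfsg Cfsg.Agent.LieClassical.HermBasic
open Cfsg.Agent.ClassicalGeometry.UnitTransv (act)
open Cfsg.Agent.R01.Lifts Cfsg.Agent.R01.PSUSix Cfsg.Agent.R01.Label Cfsg.Agent.R01.Start
open Cfsg.Agent.R01.Loc

universe u v

variable {G : Type u} [Group G]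

/-- A labelling of the members of `D` commuting with `x` and different from `x` by the nonzero
isotropic vectors. -/
structure IsLabel (F : Type v) [Field F] (D : Set G) (x : G) (τ : (Fin 6 → F) → G) : Prop where
  mem : ∀ v, v ≠ 0 → hermForm 6 F 2 v v = 0 → τ v ∈ D ∧ τ v ≠ x ∧ Commute (τ v) x
  surj : ∀ a ∈ D, a ≠ x → Commute a x → ∃ v, v ≠ 0 ∧ hermForm 6 F 2 v v = 0 ∧ τ v = a
  smul : ∀ v (c : F), hermForm 6 F 2 v v = 0 → c ≠ 0 → τ (c • v) = τ v
  inj : ∀ u v, u ≠ 0 → v ≠ 0 → hermForm 6 F 2 u u = 0 → hermForm 6 F 2 v v = 0 → τ u = τ v →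
    ∃ c : F, c ≠ 0 ∧ v = c • u
  sq : ∀ v, v ≠ 0 → hermForm 6 F 2 v v = 0 → τ v * τ v = 1
  comm : ∀ u v, u ≠ 0 → v ≠ 0 → hermForm 6 F 2 u u = 0 → hermForm 6 F 2 v v = 0 →
    (Commute (τ u) (τ v) ↔ hermForm 6 F 2 u v = 0)
  conj : ∀ u v, u ≠ 0 → v ≠ 0 → hermForm 6 F 2 u u = 0 → hermForm 6 F 2 v v = 0 →
    τ u * τ v * (τ u)⁻¹ = τ (v + hermForm 6 F 2 v u • u)
  line : ∀ a b, a ≠ 0 → b ≠ 0 → hermForm 6 F 2 a a = 0 → hermForm 6 F 2 b b = 0 →
    hermForm 6 F 2 a b = 0 → (¬ ∃ c : F, b = c • a) → ∀ ω : F, ω ^ 2 + ω + 1 = 0 →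
    τ a * τ b * τ (a + b) * τ (ω • a + b) * τ (ω ^ 2 • a + b) = x
  gen : Subgroup.centralizer ({x} : Set G) ≤ Subgroup.closure {a | a ∈ D ∧ a ≠ x ∧ Commute a x}
  /-- transitivity of the centraliser on the labelled elements -/
  trans : ∀ u v, u ≠ 0 → v ≠ 0 → hermForm 6 F 2 u u = 0 → hermForm 6 F 2 v v = 0 →
    ∃ g : G, Commute g x ∧ g * τ u * g⁻¹ = τ v
  /-- transitivity of the centraliser on noncommuting pairs -/
  trans2 : ∀ u v u' v', u ≠ 0 → v ≠ 0 → u' ≠ 0 → v' ≠ 0 → hermForm 6 F 2 u u = 0 →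
    hermForm 6 F 2 v v = 0 → hermForm 6 F 2 u' u' = 0 → hermForm 6 F 2 v' v' = 0 →
    hermForm 6 F 2 u v ≠ 0 → hermForm 6 F 2 u' v' ≠ 0 →
    ∃ g : G, Commute g x ∧ g * τ u * g⁻¹ = τ u' ∧ g * τ v * g⁻¹ = τ v'

/-- Labellings of the neighbours exist. -/
theorem exists_label {F : Type v} [Field F] [Fintype F] {hF : Fintype.card F = 2 ^ 2} {D : Set G}
    {d : G} (h : LocAt hF D d) : ∃ τ : (Fin 6 → F) → G, IsLabel F D d τ := by
  obtain ⟨π, lift, L, hL⟩ := h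
  have hcoe : ∀ {a b : Subgroup.centralizer ({d} : Set G)}, Commute (a : G) (b : G) ↔ Commute a b :=
    fun {a b} => ⟨fun h => Subtype.ext h, fun h => congrArg Subtype.val h⟩
  have hcent : ∀ a : Subgroup.centralizer ({d} : Set G), Commute (a : G) d := fun a =>
    Subgroup.mem_centralizer_singleton_iff.1 a.2
  have hne : ∀ v, v ≠ 0 → hermForm 6 F 2 v v = 0 → (lift v : G) ≠ d := by
    intro v h0 hv h
    apply L.z_notMem
    have : lift v = zel d := Subtype.ext h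
    rw [← this]
    exact Lab.mem_D h0 hv
  refine ⟨fun v => lift v, ?_, ?_, ?_, ?_, ?_, ?_, ?_, ?_, ?_, ?_, ?_⟩
  · intro v h0 hv
    exact ⟨(hL (lift v)).2 (Or.inr (Lab.mem_D h0 hv)), hne v h0 hv, hcent _⟩
  · intro a ha hax hc
    have hm : a ∈ Subgroup.centralizer ({d} : Set G) := Subgroup.mem_centralizer_singleton_iff.2 hc
    rcases (hL ⟨a, hm⟩).1 ha with h | ⟨v, h0, hv, h⟩
    · exact absurd (congrArg Subtype.val h) hax
    · exact ⟨v, h0, hv, (congrArg Subtype.val h).symm⟩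
  · intro v c hv hc
    show ((lift (c • v) : Subgroup.centralizer ({d} : Set G)) : G) = _
    rw [L.smul v c hv hc]
  · intro u v hu0 hv0 hu hv h
    exact (L.lift_eq_iff hu hv hu0 hv0).1 (Subtype.ext h)
  · intro v h0 hv
    exact congrArg Subtype.val (L.sq v h0 hv)
  · intro u v hu0 hv0 hu hv
    rw [hcoe, L.commute_iff hu hv hu0 hv0]
  · intro u v hu0 hv0 hu hv
    have h1 := L.conj_lift hu hv hu0 hv0
    have h2 : (lift u)⁻¹ = lift u := inv_eq_of_mul_eq_one_left (L.sq u hu0 hu)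
    rw [← h2] at h1
    nth_rewrite 1 [h2] at h1
    exact congrArg Subtype.val h1
  · intro a b ha0 hb0 ha hb hab hn ω hω
    exact congrArg Subtype.val (L.line a b ha0 hb0 ha hb hab hn ω hω)
  · intro g hg
    have h1 := L.isThreeTranspositionClass.2.2
    have h2 : (⟨g, hg⟩ : Subgroup.centralizer ({d} : Set G)) ∈ Subgroup.closure (Dset lift) := by
      rw [h1]; trivial
    have h3 : g ∈ (Subgroup.closure (Dset lift)).map (Subgroup.centralizer ({d} : Set G)).subtype :=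
      ⟨_, h2, rfl⟩
    rw [MonoidHom.map_closure] at h3
    refine Subgroup.closure_mono ?_ h3
    rintro _ ⟨_, ⟨v, h0, hv, rfl⟩, rfl⟩
    exact ⟨(hL (lift v)).2 (Or.inr (Lab.mem_D h0 hv)), hne v h0 hv, hcent _⟩
  · intro u v hu0 hv0 hu hv
    obtain ⟨c, hc⟩ := L.trans hu hv hu0 hv0
    exact ⟨c, hcent c, congrArg Subtype.val hc⟩
  · intro u v u' v' hu0 hv0 hu0' hv0' hu hv hu' hv' huv huv'
    obtain ⟨c, hc1, hc2⟩ := L.trans_noncommuting _ (Lab.mem_D hu0 hu) _ (Lab.mem_D hv0 hv) _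
      (Lab.mem_D hu0' hu') _ (Lab.mem_D hv0' hv')
      (fun h => huv ((L.commute_iff hu hv hu0 hv0).1 h))
      (fun h => huv' ((L.commute_iff hu' hv' hu0' hv0').1 h))
    exact ⟨c, hcent c, congrArg Subtype.val hc1, congrArg Subtype.val hc2⟩

end Cfsg.Agent.R01.IsLabel
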