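import Cfsg.Prelude.Def_Transfer
import Cfsg.Agent.S0215
import Cfsg.Agent.Lib.CoprimeHyperplane

/-!
# The commuting graph on a class of involutions is connected (last step of the Fischer type recognitions)

Let `D` be a conjugacy class of involutions of a finite group `G`, `A` an elementary abelian 2-subgroup
weakly closed in a Sylow 2-subgroup `T`.  Under the hypotheses collected in `Setup` every block `Δ` of the
commuting graph on `D` (a union of components, closed under commuting, a block for conjugation) containing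
`D ∩ A` is all of `D`.
-/

set_option autoImplicit false

namespace Cfsg.Agent.R01.OneComponent

open Subgroup

section Dihedral

variable {G : Type*} [Group G] {a b : G}

theorem inv_pow (ha : a * a = 1) (hb : b * b = 1) (k : ℕ) : a * (a * b) ^ k * a = ((a * b) ^ k)⁻¹ := by
  have ha' : a⁻¹ = a := inv_eq_of_mul_eq_one_right ha
  have hb' : b⁻¹ = b := inv_eq_of_mul_eq_one_right hb
  have h : a * (a * b) ^ k * a⁻¹ = (a * (a * b) * a⁻¹) ^ k := by
    rw [conj_pow]
  rw [ha'] at h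
  rw [h, ← _root_.inv_pow]
  congr 1
  rw [mul_inv_rev, hb', ha']
  calc a * (a * b) * a = (a * a) * (b * a) := by group
    _ = b * a := by rw [ha, one_mul]

theorem conj_pow_eq (ha : a * a = 1) (hb : b * b = 1) (k : ℕ) :
    ((a * b) ^ k) * a * ((a * b) ^ k)⁻¹ = (a * b) ^ (2 * k) * a := by
  have h := inv_pow ha hb k
  rw [← h]
  calc (a * b) ^ k * a * (a * (a * b) ^ k * a) = (a * b) ^ k * (a * a) * (a * b) ^ k * a := by group
    _ = (a * b) ^ (2 * k) * a := by rw [ha, mul_one, two_mul, pow_add]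

/-- Two involutions whose product has odd order are conjugate by a power of the product. -/
theorem conj_of_odd (ha : a * a = 1) (hb : b * b = 1) (h : Odd (orderOf (a * b))) :
    ∃ j : ℕ, ((a * b) ^ j) * a * ((a * b) ^ j)⁻¹ = b := by
  obtain ⟨k, hk⟩ := h
  have ha' : a⁻¹ = a := inv_eq_of_mul_eq_one_right ha
  have hb' : b⁻¹ = b := inv_eq_of_mul_eq_one_right hb
  refine ⟨k, ?_⟩
  rw [conj_pow_eq ha hb]
  have h1 : (a * b) ^ (2 * k) * (a * b) = 1 := by
    rw [← pow_succ, ← hk, pow_orderOf_eq_one]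
  have h2 : (a * b) ^ (2 * k) = b⁻¹ * a⁻¹ := by
    rw [← mul_inv_rev]
    exact eq_inv_of_mul_eq_one_left h1
  rw [h2, ha', hb', mul_assoc, ha, mul_one]

/-- If the product of two involutions has even order, the involution `u` generated by it commutes with
both, and `a * u` is conjugate to `a` or to `b`. -/
theorem exists_of_even [Finite G] (ha : a * a = 1) (hb : b * b = 1) (h : Even (orderOf (a * b))) :
    ∃ u : G, u ∈ Subgroup.zpowers (a * b) ∧ orderOf u = 2 ∧ u * a = a * u ∧ u * b = b * u ∧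
      ∃ g : G, g * a * g⁻¹ = a * u ∨ g * b * g⁻¹ = a * u := by
  obtain ⟨m, hm⟩ := h
  have hpos : 0 < orderOf (a * b) := orderOf_pos _
  have hm0 : 0 < m := by omega
  have ha' : a⁻¹ = a := inv_eq_of_mul_eq_one_right ha
  have hb' : b⁻¹ = b := inv_eq_of_mul_eq_one_right hb
  have hu2 : (a * b) ^ m * (a * b) ^ m = 1 := by
    rw [← pow_add, ← hm, pow_orderOf_eq_one]
  have hu1 : (a * b) ^ m ≠ 1 := by
    intro h1
    have := Nat.le_of_dvd hm0 (orderOf_dvd_of_pow_eq_one h1)
    omega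
  have huinv : ((a * b) ^ m)⁻¹ = (a * b) ^ m := inv_eq_of_mul_eq_one_right hu2
  have hca : (a * b) ^ m * a = a * (a * b) ^ m := by
    have h := inv_pow ha hb m
    rw [huinv] at h
    calc (a * b) ^ m * a = (a * a) * ((a * b) ^ m * a) := by rw [ha, one_mul]
      _ = a * (a * (a * b) ^ m * a) := by group
      _ = a * (a * b) ^ m := by rw [h]
  have hcab : (a * b) ^ m * (a * b) = (a * b) * (a * b) ^ m := by
    rw [← pow_succ, ← pow_succ']
  have hcb : (a * b) ^ m * b = b * (a * b) ^ m := by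
    have hb2 : b = a * (a * b) := by rw [← mul_assoc, ha, one_mul]
    calc (a * b) ^ m * b = (a * b) ^ m * (a * (a * b)) := by rw [← hb2]
      _ = ((a * b) ^ m * a) * (a * b) := by group
      _ = a * ((a * b) ^ m * (a * b)) := by rw [hca]; group
      _ = a * ((a * b) * (a * b) ^ m) := by rw [hcab]
      _ = (a * (a * b)) * (a * b) ^ m := by simp only [mul_assoc]
      _ = b * (a * b) ^ m := by rw [← hb2]
  refine ⟨(a * b) ^ m, ⟨m, by simp⟩, orderOf_eq_prime (by rw [pow_two, hu2]) hu1, hca, hcb, ?_⟩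
  rcases Nat.even_or_odd m with ⟨k, hk⟩ | ⟨k, hk⟩
  · refine ⟨(a * b) ^ k, Or.inl ?_⟩
    rw [conj_pow_eq ha hb, ← hca, hk, two_mul]
  · refine ⟨(a * b) ^ (k + 1), Or.inr ?_⟩
    -- b = a * (a*b); conjugating
    have h1 : (a * b) ^ (k + 1) * b * ((a * b) ^ (k + 1))⁻¹ =
        ((a * b) ^ (k + 1) * a * ((a * b) ^ (k + 1))⁻¹) * (a * b) := by
      have hb2 : b = a * (a * b) := by rw [← mul_assoc, ha, one_mul]
      have hc : (a * b) * ((a * b) ^ (k + 1))⁻¹ = ((a * b) ^ (k + 1))⁻¹ * (a * b) := by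
        have : Commute (a * b) ((a * b) ^ (k + 1))⁻¹ :=
          (Commute.pow_right (Commute.refl _) _).inv_right
        exact this
      calc (a * b) ^ (k + 1) * b * ((a * b) ^ (k + 1))⁻¹
          = (a * b) ^ (k + 1) * (a * (a * b)) * ((a * b) ^ (k + 1))⁻¹ := by rw [← hb2]
        _ = (a * b) ^ (k + 1) * a * ((a * b) * ((a * b) ^ (k + 1))⁻¹) := by simp only [mul_assoc]
        _ = _ := by rw [hc]; simp only [mul_assoc]
    rw [h1, conj_pow_eq ha hb]
    -- (ab)^(2k+2) * a * (a*b) = (ab)^(2k+2) * b ; and a * (ab)^m = (ab)^m * a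
    have h2 : (a * b) ^ (2 * (k + 1)) * a * (a * b) = (a * b) ^ (2 * (k + 1)) * b := by
      calc (a * b) ^ (2 * (k + 1)) * a * (a * b) = (a * b) ^ (2 * (k + 1)) * (a * a) * b := by group
        _ = _ := by rw [ha, mul_one]
    rw [h2, ← hca, hk]
    have h3 : 2 * (k + 1) = (2 * k + 1) + 1 := by ring
    rw [h3, pow_succ (a * b) (2 * k + 1)]
    calc (a * b) ^ (2 * k + 1) * (a * b) * b = (a * b) ^ (2 * k + 1) * a * (b * b) := by group
      _ = _ := by rw [hb, mul_one]

end Dihedral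

theorem mem_smul {G : Type*} [Group G] {p : ℕ} (P : Sylow p G) (g x : G) :
    x ∈ g • P ↔ g⁻¹ * x * g ∈ P := by
  change x ∈ ((g • P : Sylow p G) : Subgroup G) ↔ _
  rw [Sylow.coe_subgroup_smul, Subgroup.mem_pointwise_smul_iff_inv_smul_mem]
  simp
  exact Iff.rfl

/-- The local hypotheses: `D` a class of involutions, `A` elementary abelian, weakly closed in `T`, and
the conditions satisfied in the groups of type `Fi22`, `Fi23` (with `X = D ∩ A` a set of 22 or 23
elements). -/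
structure Local {G : Type*} [Group G] (D : Set G) (A : Subgroup G) (T : Sylow 2 G) : Prop where
  /-- the elements of `D` are involutions -/
  inv : ∀ x ∈ D, orderOf x = 2
  /-- `D` is a conjugacy class -/
  trans : ∀ x ∈ D, ∀ y ∈ D, ∃ g : G, g * x * g⁻¹ = y
  conj : ∀ x ∈ D, ∀ g : G, g * x * g⁻¹ ∈ D
  /-- `A` is elementary abelian, weakly closed in `T` -/
  elem : Cfsg.IsElementaryAbelian 2 A
  le : A ≤ T
  wc : ∀ g : G, (∀ a ∈ A, g * a * g⁻¹ ∈ T) → ∀ a ∈ A, g * a * g⁻¹ ∈ A
  /-- `D ∩ N(A) ≤ A` -/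
  normD : ∀ x ∈ D, x ∈ normalizer (A : Set G) → x ∈ A
  /-- involutions of `N(A)` centralize a point of `X = D ∩ A` -/
  fixed : ∀ u : G, orderOf u = 2 → u ∈ normalizer (A : Set G) → ∃ x ∈ D, x ∈ A ∧ u * x = x * u
  /-- involutions commuting with a point `x` of `X` are `C(x)`-conjugate into `A` -/
  toA : ∀ x ∈ D, x ∈ A → ∀ u : G, orderOf u = 2 → u * x = x * u →
    ∃ c : G, c * x = x * c ∧ c * u * c⁻¹ ∈ A
  two : ∃ x y : G, x ∈ D ∧ x ∈ A ∧ y ∈ D ∧ y ∈ A ∧ x ≠ y
  /-- products of two points are not points and determine the points -/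
  prod : ∀ x ∈ D, x ∈ A → ∀ y ∈ D, y ∈ A → x ≠ y → x * y ∉ D
  pair : ∀ x ∈ D, x ∈ A → ∀ y ∈ D, y ∈ A → x ≠ y → ∀ x' ∈ D, x' ∈ A → ∀ y' ∈ D, y' ∈ A →
    x * y = x' * y' → x' = x ∨ x' = y
  /-- no involution of `A` has centralizer transitive on `X` -/
  notrans : ∀ z ∈ A, z ≠ 1 → ∃ x y : G, x ∈ D ∧ x ∈ A ∧ y ∈ D ∧ y ∈ A ∧
    ∀ n ∈ normalizer (A : Set G), n * z = z * n → n * x * n⁻¹ ≠ y
  /-- hyperplanes meet `X` -/
  hyp : ∀ B : Subgroup G, B ≤ A → B.relIndex A = 2 → ∃ x ∈ D, x ∈ B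

/-- `Local` together with a union `Δ` of components of the commuting graph on `D` which is a block for
conjugation and contains `D ∩ A`. -/
structure Setup {G : Type*} [Group G] (D Δ : Set G) (A : Subgroup G) (T : Sylow 2 G) : Prop extends
    Local D A T where
  /-- `Δ` is a union of components -/
  sub : Δ ⊆ D
  closed : ∀ x ∈ Δ, ∀ y ∈ D, x * y = y * x → y ∈ Δ
  /-- `Δ` is a block -/
  block : ∀ g : G, ∀ x ∈ Δ, g * x * g⁻¹ ∈ Δ → ∀ y ∈ Δ, g * y * g⁻¹ ∈ Δ
  capD : ∀ x ∈ D, x ∈ A → x ∈ Δ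

namespace Setup

variable {G : Type*} [Group G] {D Δ : Set G} {A : Subgroup G} {T : Sylow 2 G}

theorem sq (h : Setup D Δ A T) {x : G} (hx : x ∈ D) : x * x = 1 := by
  have h1 := pow_orderOf_eq_one x
  rwa [h.inv x hx, pow_two] at h1

theorem ne_one (h : Setup D Δ A T) {x : G} (hx : x ∈ D) : x ≠ 1 := by
  rintro rfl
  have h1 := h.inv 1 hx
  rw [orderOf_one] at h1
  omega

theorem comm (h : Setup D Δ A T) {x y : G} (hx : x ∈ A) (hy : y ∈ A) : x * y = y * x :=
  congrArg Subtype.val (h.elem.1.is_comm.comm (⟨x, hx⟩ : A) ⟨y, hy⟩)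

set_option linter.unusedVariables false in
/-- The stabilizer of `Δ`. -/
def M (h : Setup D Δ A T) : Subgroup G where
  carrier := {g | (∀ y ∈ Δ, g * y * g⁻¹ ∈ Δ) ∧ ∀ y ∈ Δ, g⁻¹ * y * g ∈ Δ}
  mul_mem' := by
    rintro a b ⟨ha, ha'⟩ ⟨hb, hb'⟩
    refine ⟨fun y hy => ?_, fun y hy => ?_⟩
    · have := ha _ (hb y hy)
      rwa [show a * b * y * (a * b)⁻¹ = a * (b * y * b⁻¹) * a⁻¹ by group]
    · have := hb' _ (ha' y hy)
      rwa [show (a * b)⁻¹ * y * (a * b) = b⁻¹ * (a⁻¹ * y * a) * b by group]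
  one_mem' := ⟨fun y hy => by simpa using hy, fun y hy => by simpa using hy⟩
  inv_mem' := by
    rintro a ⟨ha, ha'⟩
    exact ⟨fun y hy => by simpa using ha' y hy, fun y hy => by simpa using ha y hy⟩

theorem mem_M_of (h : Setup D Δ A T) {g x : G} (hx : x ∈ Δ) (hgx : g * x * g⁻¹ ∈ Δ) : g ∈ h.M := by
  refine ⟨h.block g x hx hgx, fun y hy => ?_⟩
  have h1 := h.block g⁻¹ (g * x * g⁻¹) hgx (by
    rwa [show g⁻¹ * (g * x * g⁻¹) * g⁻¹⁻¹ = x by group]) y hy
  simpa using h1

theorem conj_mem (h : Setup D Δ A T) {g x : G} (hg : g ∈ h.M) (hx : x ∈ Δ) : g * x * g⁻¹ ∈ Δ :=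
  hg.1 x hx

theorem conj_mem' (h : Setup D Δ A T) {g x : G} (hg : g ∈ h.M) (hx : g * x * g⁻¹ ∈ Δ) : x ∈ Δ := by
  have := hg.2 _ hx
  rwa [show g⁻¹ * (g * x * g⁻¹) * g = x by group] at this

theorem mem_M_of_comm (h : Setup D Δ A T) {g x : G} (hx : x ∈ Δ) (hgx : g * x = x * g) : g ∈ h.M :=
  h.mem_M_of hx (by rw [hgx, mul_inv_cancel_right]; exact hx)

theorem mem_normalizer [Finite G] {g : G} (hg : ∀ a ∈ A, g * a * g⁻¹ ∈ A) :
    g ∈ normalizer (A : Set G) :=
  Subgroup.mem_normalizer_fintype (S := (A : Set G)) fun n hn => hg n hn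

theorem normalizer_le [Finite G] (h : Setup D Δ A T) : normalizer (A : Set G) ≤ h.M := by
  intro n hn
  obtain ⟨x, -, hxD, hxA, -⟩ := h.two
  have h1 : n * x * n⁻¹ ∈ A := (Subgroup.mem_normalizer_iff.1 hn x).1 hxA
  exact h.mem_M_of (h.capD x hxD hxA) (h.capD _ (h.conj x hxD n) h1)

theorem T_le [Finite G] (h : Setup D Δ A T) : (T : Subgroup G) ≤ normalizer (A : Set G) := by
  intro t ht
  apply mem_normalizer
  exact h.wc t fun a ha => T.mul_mem (T.mul_mem ht (h.le ha)) (T.inv_mem ht)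

theorem isPGroup_of_le_A (h : Setup D Δ A T) : IsPGroup 2 A := fun a => ⟨1, by
  apply Subtype.ext
  simpa using h.elem.2 a a.2⟩

/-- involutions of `M` are `M`-conjugate into `T` -/
theorem exists_conj_mem_T [Finite G] (h : Setup D Δ A T) {u : G} (hu : u ∈ h.M) (hu2 : orderOf u = 2) :
    ∃ m ∈ h.M, m * u * m⁻¹ ∈ T := by
  have : Fact (Nat.Prime 2) := ⟨Nat.prime_two⟩
  let TM : Sylow 2 h.M := T.subtype (h.T_le.trans h.normalizer_le)
  have h1 : IsPGroup 2 (Subgroup.zpowers (⟨u, hu⟩ : h.M)) := by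
    apply IsPGroup.of_card (n := 1)
    rw [Nat.card_zpowers, Subgroup.orderOf_mk, hu2, pow_one]
  obtain ⟨Q, hQ⟩ := h1.exists_le_sylow
  obtain ⟨g, hg⟩ := MulAction.exists_smul_eq h.M Q TM
  refine ⟨g, g.2, ?_⟩
  have h2 : g * ⟨u, hu⟩ * g⁻¹ ∈ TM := by
    rw [← hg, mem_smul]
    have h3 : (⟨u, hu⟩ : h.M) ∈ Q := hQ (Subgroup.mem_zpowers _)
    simpa [mul_assoc] using h3
  exact h2

/-- `D ∩ M = Δ` -/
theorem mem_Δ [Finite G] (h : Setup D Δ A T) {u : G} (hu : u ∈ D) (huM : u ∈ h.M) : u ∈ Δ := by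
  obtain ⟨m, hm, hmT⟩ := h.exists_conj_mem_T huM (h.inv u hu)
  have h1 : m * u * m⁻¹ ∈ D := h.conj u hu m
  exact h.conj_mem' hm (h.capD _ h1 (h.normD _ h1 (h.T_le hmT)))

/-- involutions of `M` commute with an element of `Δ` -/
theorem exists_comm [Finite G] (h : Setup D Δ A T) {u : G} (hu : u ∈ h.M) (hu2 : orderOf u = 2) :
    ∃ x ∈ Δ, u * x = x * u := by
  obtain ⟨m, hm, hmT⟩ := h.exists_conj_mem_T hu hu2
  have h2 : orderOf (m * u * m⁻¹) = 2 := by
    rw [← hu2]
    exact orderOf_injective (MulAut.conj m).toMonoidHom (MulAut.conj m).injective u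
  obtain ⟨x, hxD, hxA, hx⟩ := h.fixed _ h2 (h.T_le hmT)
  refine ⟨m⁻¹ * x * m, ?_, ?_⟩
  · have := h.conj_mem (h.M.inv_mem hm) (h.capD x hxD hxA)
    simpa using this
  · calc u * (m⁻¹ * x * m) = m⁻¹ * ((m * u * m⁻¹) * x) * m := by group
      _ = m⁻¹ * (x * (m * u * m⁻¹)) * m := by rw [hx]
      _ = _ := by group

/-- `N(A)` controls fusion in `A`, relative to the centralizer of an element `z` of `A` -/
theorem fusion [Finite G] (h : Setup D Δ A T) {x y z k : G} (hyA : y ∈ A) (hz : z ∈ A)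
    (hkz : k * z = z * k) (hk : k * x * k⁻¹ = y) (hxA : x ∈ A) :
    ∃ n ∈ normalizer (A : Set G), n * z = z * n ∧ n * x * n⁻¹ = y := by
  have : Fact (Nat.Prime 2) := ⟨Nat.prime_two⟩
  set H : Subgroup G := centralizer ({y, z} : Set G) with hH
  have memH : ∀ g : G, g ∈ H ↔ g * y = y * g ∧ g * z = z * g := by
    intro g
    rw [hH, Subgroup.mem_centralizer_iff]
    constructor
    · intro hg
      exact ⟨(hg y (by simp)).symm, (hg z (by simp)).symm⟩
    · rintro ⟨h1, h2⟩ w hw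
      rcases hw with rfl | hw
      · exact h1.symm
      · rw [Set.mem_singleton_iff] at hw
        subst hw
        exact h2.symm
  have hAH : A ≤ H := fun a ha => (memH a).2 ⟨h.comm ha hyA, h.comm ha hz⟩
  have hA'H : A.map (MulAut.conj k).toMonoidHom ≤ H := by
    rintro _ ⟨a, ha, rfl⟩
    rw [memH]
    change k * a * k⁻¹ * y = y * (k * a * k⁻¹) ∧ k * a * k⁻¹ * z = z * (k * a * k⁻¹)
    constructor
    · rw [← hk]
      calc k * a * k⁻¹ * (k * x * k⁻¹) = k * (a * x) * k⁻¹ := by group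
        _ = k * (x * a) * k⁻¹ := by rw [h.comm ha hxA]
        _ = _ := by group
    · have hz' : z = k * z * k⁻¹ := by rw [hkz, mul_inv_cancel_right]
      calc k * a * k⁻¹ * z = k * a * k⁻¹ * (k * z * k⁻¹) := by rw [← hz']
        _ = k * (a * z) * k⁻¹ := by group
        _ = k * (z * a) * k⁻¹ := by rw [h.comm ha hz]
        _ = (k * z * k⁻¹) * (k * a * k⁻¹) := by group
        _ = _ := by rw [← hz']
  have hp1 : IsPGroup 2 (A.subgroupOf H) :=
    h.isPGroup_of_le_A.comap_of_injective H.subtype (Subgroup.subtype_injective H)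
  have hp2 : IsPGroup 2 ((A.map (MulAut.conj k).toMonoidHom).subgroupOf H) :=
    (h.isPGroup_of_le_A.map _).comap_of_injective H.subtype (Subgroup.subtype_injective H)
  obtain ⟨P1, hP1⟩ := hp1.exists_le_sylow
  obtain ⟨P2, hP2⟩ := hp2.exists_le_sylow
  obtain ⟨g, hg⟩ := MulAction.exists_smul_eq H P2 P1
  have hp3 : IsPGroup 2 ((P1 : Subgroup H).map H.subtype) := P1.2.map _
  obtain ⟨T', hT'⟩ := hp3.exists_le_sylow
  obtain ⟨t, ht⟩ := MulAction.exists_smul_eq G T' T
  have key1 : ∀ a ∈ A, t * a * t⁻¹ ∈ T := by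
    intro a ha
    have h1 : a ∈ T' := hT' ⟨⟨a, hAH ha⟩, hP1 (by simpa [Subgroup.mem_subgroupOf] using ha), rfl⟩
    rw [← ht, mem_smul]
    simpa [mul_assoc] using h1
  have htN : t ∈ normalizer (A : Set G) := mem_normalizer (h.wc t key1)
  have key2 : ∀ a ∈ A, (t * (g * k)) * a * (t * (g * k))⁻¹ ∈ T := by
    intro a ha
    have h1 : (⟨k * a * k⁻¹, hA'H ⟨a, ha, rfl⟩⟩ : H) ∈ P2 :=
      hP2 (by rw [Subgroup.mem_subgroupOf]; exact ⟨a, ha, rfl⟩)
    have h2 : g * (⟨k * a * k⁻¹, hA'H ⟨a, ha, rfl⟩⟩ : H) * g⁻¹ ∈ P1 := by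
      rw [← hg, mem_smul]
      simpa [mul_assoc] using h1
    have h3 : (g : G) * (k * a * k⁻¹) * (g : G)⁻¹ ∈ T' := hT' ⟨_, h2, rfl⟩
    rw [← ht, mem_smul]
    simpa [mul_assoc] using h3
  have hgkN : t * (g * k) ∈ normalizer (A : Set G) := mem_normalizer (h.wc _ key2)
  refine ⟨g * k, ?_, ?_, ?_⟩
  · have := Subgroup.mul_mem _ (Subgroup.inv_mem _ htN) hgkN
    simpa using this
  · have h1 := ((memH g).1 g.2).2
    calc (g : G) * k * z = g * (k * z) := by group
      _ = (g * z) * k := by rw [hkz]; group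
      _ = z * (g * k) := by rw [h1]; group
  · have h1 := ((memH g).1 g.2).1
    calc (g : G) * k * x * (g * k)⁻¹ = g * (k * x * k⁻¹) * (g : G)⁻¹ := by group
      _ = y := by rw [hk, h1, mul_inv_cancel_right]

/-- 2-subgroups containing `A` normalize `A` -/
theorem le_normalizer_of_isPGroup [Finite G] (h : Setup D Δ A T) {P : Subgroup G} (hP : IsPGroup 2 P)
    (hAP : A ≤ P) : P ≤ normalizer (A : Set G) := by
  have : Fact (Nat.Prime 2) := ⟨Nat.prime_two⟩
  obtain ⟨T', hT'⟩ := hP.exists_le_sylow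
  obtain ⟨t, ht⟩ := MulAction.exists_smul_eq G T' T
  have key1 : ∀ a ∈ A, t * a * t⁻¹ ∈ T := by
    intro a ha
    have h1 : a ∈ T' := hT' (hAP ha)
    rw [← ht, mem_smul]
    simpa [mul_assoc] using h1
  have htN : t ∈ normalizer (A : Set G) := mem_normalizer (h.wc t key1)
  intro p hp
  have h1 : p ∈ T' := hT' hp
  have h2 : t * p * t⁻¹ ∈ T := by
    rw [← ht, mem_smul]
    simpa [mul_assoc] using h1
  have h3 := h.T_le h2
  have h4 := Subgroup.mul_mem _ (Subgroup.mul_mem _ (Subgroup.inv_mem _ htN) h3) htN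
  simpa [mul_assoc] using h4

/-- Centralizer of a product of two points of `X` (Glauberman's `Z*`-theorem and coprime generation). -/
theorem centralizer_le_A [Finite G] (h : Setup D Δ A T) {a b : G} (ha : a ∈ D) (haA : a ∈ A)
    (hb : b ∈ D) (hbA : b ∈ A) (hne : a ≠ b) {k : G} (hk : k * (a * b) = (a * b) * k) : k ∈ h.M := by
  classical
  have : Fact (Nat.Prime 2) := ⟨Nat.prime_two⟩
  set z : G := a * b with hz
  have hzA : z ∈ A := A.mul_mem haA hbA
  have haa : a * a = 1 := h.sq ha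
  have hbb : b * b = 1 := h.sq hb
  have hab : a * b = b * a := h.comm haA hbA
  have hz1 : z ≠ 1 := by
    intro h1
    apply hne
    have h2 : a * (a * b) = a * 1 := by rw [← hz, h1]
    rw [← mul_assoc, haa, one_mul, mul_one] at h2
    exact h2.symm
  have hzz : z * z = 1 := by
    have := h.elem.2 z hzA
    rwa [pow_two] at this
  have haz : a * z = b := by rw [hz, ← mul_assoc, haa, one_mul]
  set K : Subgroup G := centralizer ({z} : Set G) with hK
  have memK : ∀ g : G, g ∈ K ↔ g * z = z * g := by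
    intro g
    rw [hK, Subgroup.mem_centralizer_singleton_iff]
  have hAK : A ≤ K := fun x hx => (memK x).2 (h.comm hx hzA)
  let zK : K := ⟨z, hAK hzA⟩
  have hzKc : ∀ g : K, g * zK = zK * g := fun g => Subtype.ext ((memK g).1 g.2)
  have hzKz : zK * zK = 1 := Subtype.ext hzz
  let Z : Subgroup K := Subgroup.zpowers zK
  have memZ : ∀ g : K, g ∈ Z ↔ g = 1 ∨ g = zK := by
    intro g
    constructor
    · rintro ⟨n, rfl⟩
      rcases Int.even_or_odd n with ⟨m, hm⟩ | ⟨m, hm⟩
      · left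
        change zK ^ n = 1
        rw [hm, ← two_mul, zpow_mul, zpow_two, hzKz, one_zpow]
      · right
        change zK ^ n = zK
        rw [hm, zpow_add, zpow_mul, zpow_two, hzKz, one_zpow, one_mul, zpow_one]
    · rintro (rfl | rfl)
      · exact Z.one_mem
      · exact Subgroup.mem_zpowers _
  have hZn : Z.Normal := ⟨fun n hn g => by
    rcases (memZ n).1 hn with rfl | rfl
    · simp
    · rw [hzKc, mul_inv_cancel_right]; exact Subgroup.mem_zpowers _⟩
  let f : K →* K ⧸ Z := QuotientGroup.mk' Z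
  have hf : Function.Surjective f := QuotientGroup.mk'_surjective Z
  have hfker : ∀ g : K, f g = 1 ↔ g = 1 ∨ g = zK := by
    intro g
    rw [← memZ, ← MonoidHom.mem_ker, QuotientGroup.ker_mk']
  let aK : K := ⟨a, hAK haA⟩
  let bK : K := ⟨b, hAK hbA⟩
  have haKz : aK * zK = bK := Subtype.ext haz
  have hfab : f bK = f aK := by
    rw [← haKz, map_mul, (hfker zK).2 (Or.inr rfl), mul_one]
  have hfa2 : f aK * f aK = 1 := by
    rw [← map_mul, ← map_one f]
    exact congrArg f (Subtype.ext haa)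
  have hfa1 : f aK ≠ 1 := by
    intro h1
    rcases (hfker aK).1 h1 with h2 | h2
    · exact h.ne_one ha (congrArg Subtype.val h2)
    · have h3 : a = a * b := congrArg Subtype.val h2
      exact h.ne_one hb (mul_eq_left.1 h3.symm)
  have hfainv : (f aK)⁻¹ = f aK := inv_eq_of_mul_eq_one_right hfa2
  -- a Sylow subgroup of `K` containing `A`
  have hp1 : IsPGroup 2 (A.subgroupOf K) :=
    h.isPGroup_of_le_A.comap_of_injective K.subtype (Subgroup.subtype_injective K)
  obtain ⟨T0, hT0⟩ := hp1.exists_le_sylow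
  have hT0N : (T0 : Subgroup K).map K.subtype ≤ normalizer (A : Set G) := by
    apply h.le_normalizer_of_isPGroup (T0.2.map _)
    intro x hx
    exact ⟨⟨x, hAK hx⟩, hT0 (by simpa [Subgroup.mem_subgroupOf] using hx), rfl⟩
  have haT0 : aK ∈ T0 := hT0 (by simpa [Subgroup.mem_subgroupOf] using haA)
  have hzT0 : zK ∈ T0 := hT0 (by simpa [Subgroup.mem_subgroupOf] using hzA)
  have key : ∀ g : K, g * aK * g⁻¹ ∈ T0 → g * aK * g⁻¹ = aK ∨ g * aK * g⁻¹ = bK := by
    intro g hg
    have h1 : (g : G) * a * (g : G)⁻¹ ∈ D := h.conj a ha g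
    have h2 : (g : G) * a * (g : G)⁻¹ ∈ A := h.normD _ h1 (hT0N ⟨_, hg, rfl⟩)
    obtain ⟨n, hn, hnz, hna⟩ := h.fusion h2 hzA ((memK g).1 g.2) rfl haA
    have h3 : n * b * n⁻¹ ∈ A := (Subgroup.mem_normalizer_iff.1 hn b).1 hbA
    have h4 : a * b = ((g : G) * a * (g : G)⁻¹) * (n * b * n⁻¹) := by
      rw [← hna]
      calc a * b = z := hz.symm
        _ = n * z * n⁻¹ := by rw [hnz, mul_inv_cancel_right]
        _ = _ := by rw [hz]; group
    rcases h.pair a ha haA b hb hbA hne _ h1 h2 _ (h.conj b hb n) h3 h4 with h5 | h5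
    · left; exact Subtype.ext h5
    · right; exact Subtype.ext h5
  -- apply Z*
  let P : Sylow 2 (K ⧸ Z) := T0.mapSurjective hf
  have memP : ∀ g : K, f g ∈ P → g ∈ T0 := by
    intro g hg
    obtain ⟨t, ht, htg⟩ := hg
    have h1 : f (t⁻¹ * g) = 1 := by rw [map_mul, map_inv, htg, inv_mul_cancel]
    rcases (hfker _).1 h1 with h2 | h2
    · have h3 : g = t := by rw [← inv_mul_eq_one.1 h2]
      rw [h3]; exact ht
    · have h3 : g = t * zK := by rw [← h2]; group
      rw [h3]; exact T0.mul_mem ht hzT0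
  obtain ⟨N, hN, hNodd, hNc⟩ := S0215.result P (f aK)
    (orderOf_eq_prime (by rw [pow_two, hfa2]) hfa1) ⟨aK, haT0, rfl⟩ (by
      intro q hq
      obtain ⟨g, rfl⟩ := hf q
      rw [← map_mul, ← map_inv, ← map_mul] at hq
      rw [← map_mul, ← map_inv, ← map_mul]
      rcases key g (memP _ hq) with h1 | h1
      · rw [h1]
      · rw [h1, hfab])
  -- `N` is contained in the image of `M`
  have claim1 : ∀ n ∈ N, ∃ r : K, f r = n ∧ (r : G) ∈ h.M := by
    have hle : N ≤ ((h.M).subgroupOf K).map f := by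
      have hEA : Cfsg.IsElementaryAbelian 2 ((A.subgroupOf K).map f) := by
        refine ⟨⟨⟨?_⟩⟩, ?_⟩
        · rintro ⟨_, x, hx, rfl⟩ ⟨_, y, hy, rfl⟩
          apply Subtype.ext
          change f x * f y = f y * f x
          rw [← map_mul, ← map_mul]
          exact congrArg f (Subtype.ext (h.comm hx hy))
        · rintro _ ⟨x, hx, rfl⟩
          rw [← map_pow, ← map_one f]
          exact congrArg f (Subtype.ext (h.elem.2 x hx))
      have hA1 : (A.subgroupOf K).map f ≠ ⊥ := by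
        intro h1
        apply hfa1
        have h2 : f aK ∈ (A.subgroupOf K).map f :=
          ⟨aK, by simpa [Subgroup.mem_subgroupOf] using haA, rfl⟩
        rw [h1] at h2
        exact h2
      have hN2 : ¬ 2 ∣ Nat.card N := by
        intro h1
        exact (Nat.not_even_iff_odd.2 hNodd) (even_iff_two_dvd.2 h1)
      rw [← Lib.CoprimeHyperplane.iSup_centralizer_hyperplane hEA hA1 hN2
        (by rw [Subgroup.normalizer_eq_top]; exact le_top)]
      apply iSup_le
      rintro ⟨B, hBA, hBi⟩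
      rintro n ⟨hnN, hnB⟩
      -- the hyperplane of `A`
      let BK : Subgroup K := B.comap f ⊓ A.subgroupOf K
      have hBi' : (BK.map K.subtype).relIndex A = 2 := by
        have h1 : (A.subgroupOf K).map K.subtype = A := by
          rw [Subgroup.subgroupOf_map_subtype, inf_eq_left.2 hAK]
        calc (BK.map K.subtype).relIndex A
            = (BK.map K.subtype).relIndex ((A.subgroupOf K).map K.subtype) := by rw [h1]
          _ = BK.relIndex (A.subgroupOf K) :=
            Subgroup.relIndex_map_map_of_injective _ _ (Subgroup.subtype_injective K)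
          _ = (B.comap f).relIndex (A.subgroupOf K) := Subgroup.inf_relIndex_right _ _
          _ = B.relIndex ((A.subgroupOf K).map f) := Subgroup.relIndex_comap _ _ _
          _ = 2 := hBi
      have hBA' : BK.map K.subtype ≤ A := by
        rintro _ ⟨x, hx, rfl⟩
        exact hx.2
      obtain ⟨x, hxD, ⟨xK, hxK, hxx⟩⟩ := h.hyp _ hBA' hBi'
      have hxA : x ∈ A := hxx ▸ hxK.2
      have hcomm : f xK * n = n * f xK := by
        have := Subgroup.mem_centralizer_iff.1 hnB (f xK) hxK.1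
        exact this
      obtain ⟨r, rfl⟩ := hf n
      set m : ℕ := orderOf (f r) with hm
      have hmodd : Odd m := by
        have h1 : m ∣ Nat.card N := Subgroup.orderOf_dvd_natCard N hnN
        exact hNodd.of_dvd_nat h1
      have hrm : f (r ^ m) = 1 := by rw [map_pow, hm, pow_orderOf_eq_one]
      have hrm2 : (r ^ m) * (r ^ m) = 1 := by
        rcases (hfker _).1 hrm with h2 | h2
        · rw [h2, one_mul]
        · rw [h2, hzKz]
      have hfr' : f (r ^ (m + 1)) = f r := by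
        rw [pow_succ, map_mul, hrm, one_mul]
      have hr'm : (r ^ (m + 1)) ^ m = 1 := by
        obtain ⟨j, hj⟩ := hmodd.add_one
        rw [hj, ← pow_mul, ← two_mul, mul_comm (2 * j) m, ← mul_assoc, pow_mul, mul_two, pow_add,
          hrm2, one_pow]
      have hfx : f ((r ^ (m + 1))⁻¹ * (xK * r ^ (m + 1) * xK⁻¹)) = 1 := by
        simp only [map_mul, map_inv, hfr']
        rw [hcomm, mul_assoc (f r), mul_inv_cancel, mul_one, inv_mul_cancel]
      have hcomm' : xK * r ^ (m + 1) = r ^ (m + 1) * xK := by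
        rcases (hfker _).1 hfx with h2 | h2
        · have h3 := inv_mul_eq_one.1 h2
          calc xK * r ^ (m + 1) = (xK * r ^ (m + 1) * xK⁻¹) * xK := by
                rw [inv_mul_cancel_right]
            _ = r ^ (m + 1) * xK := by rw [← h3]
        · exfalso
          have h3 : xK * r ^ (m + 1) * xK⁻¹ = r ^ (m + 1) * zK := by
            rw [← h2]; group
          have h4 : (xK * r ^ (m + 1) * xK⁻¹) ^ m = 1 := by
            rw [conj_pow, hr'm, mul_one, mul_inv_cancel]
          rw [h3, (Commute.mul_pow (hzKc _) m), hr'm, one_mul] at h4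
          obtain ⟨j, hj⟩ := hmodd
          rw [hj, pow_succ, pow_mul, pow_two, hzKz, one_pow, one_mul] at h4
          exact hz1 (congrArg Subtype.val h4)
      refine ⟨r ^ (m + 1), ?_, hfr'⟩
      change ((r ^ (m + 1) : K) : G) ∈ h.M
      apply h.mem_M_of_comm (h.capD x hxD hxA)
      have h5 := congrArg Subtype.val hcomm'
      rw [← hxx]
      exact h5.symm
    intro n hn
    obtain ⟨r, hr, hrn⟩ := hle hn
    exact ⟨r, hrn, hr⟩
  -- Frattini
  let kK : K := ⟨k, (memK k).2 hk⟩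
  have hw : f aK * (f kK * f aK * (f kK)⁻¹) ∈ N := by
    have := hNc (f kK)
    rw [hfainv] at this
    simpa [mul_assoc] using this
  have hbar : (f kK * f aK * (f kK)⁻¹) * (f kK * f aK * (f kK)⁻¹) = 1 := by
    calc (f kK * f aK * (f kK)⁻¹) * (f kK * f aK * (f kK)⁻¹)
        = f kK * (f aK * f aK) * (f kK)⁻¹ := by group
      _ = 1 := by rw [hfa2, mul_one, mul_inv_cancel]
  have hwodd : Odd (orderOf (f aK * (f kK * f aK * (f kK)⁻¹))) :=
    hNodd.of_dvd_nat (Subgroup.orderOf_dvd_natCard N hw)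
  obtain ⟨j, hj⟩ := conj_of_odd hfa2 hbar hwodd
  obtain ⟨r, hr, hrM⟩ := claim1 _ (N.pow_mem hw j)
  rw [← hr] at hj
  have hc : f ((r⁻¹ * kK) * aK * (r⁻¹ * kK)⁻¹) = f aK := by
    simp only [map_mul, map_inv, mul_inv_rev, inv_inv]
    calc (f r)⁻¹ * f kK * f aK * ((f kK)⁻¹ * f r)
        = (f r)⁻¹ * (f kK * f aK * (f kK)⁻¹) * f r := by group
      _ = (f r)⁻¹ * (f r * f aK * (f r)⁻¹) * f r := by rw [hj]
      _ = f aK := by group
  have hc' : f (aK⁻¹ * ((r⁻¹ * kK) * aK * (r⁻¹ * kK)⁻¹)) = 1 := by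
    rw [map_mul, hc, map_inv, inv_mul_cancel]
  have hcM : ((r⁻¹ * kK : K) : G) ∈ h.M := by
    rcases (hfker _).1 hc' with h2 | h2
    · have h3 := inv_mul_eq_one.1 h2
      apply h.mem_M_of (h.capD a ha haA)
      have h4 := congrArg Subtype.val h3
      change a = _ at h4
      have h5 : ((r⁻¹ * kK : K) : G) * a * ((r⁻¹ * kK : K) : G)⁻¹ = a := h4.symm
      rw [h5]
      exact h.capD a ha haA
    · have h3 : (r⁻¹ * kK) * aK * (r⁻¹ * kK)⁻¹ = aK * zK := by
        rw [← h2]; group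
      rw [haKz] at h3
      apply h.mem_M_of (h.capD a ha haA)
      have h4 : ((r⁻¹ * kK : K) : G) * a * ((r⁻¹ * kK : K) : G)⁻¹ = b := congrArg Subtype.val h3
      rw [h4]
      exact h.capD b hb hbA
  have := h.M.mul_mem hrM hcM
  simpa using this

/-- Every pair of commuting elements of `Δ` is `M`-conjugate into `A`. -/
theorem exists_conj_pair [Finite G] (h : Setup D Δ A T) {a b : G} (ha : a ∈ Δ) (hb : b ∈ D)
    (hab : a * b = b * a) : ∃ m ∈ h.M, m * a * m⁻¹ ∈ A ∧ m * b * m⁻¹ ∈ A := by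
  obtain ⟨m, hm, hmT⟩ := h.exists_conj_mem_T (h.mem_M_of_comm ha rfl) (h.inv a (h.sub ha))
  have h1 : m * a * m⁻¹ ∈ D := h.conj a (h.sub ha) m
  have h2 : m * a * m⁻¹ ∈ A := h.normD _ h1 (h.T_le hmT)
  have h3 : orderOf (m * b * m⁻¹) = 2 := h.inv _ (h.conj b hb m)
  obtain ⟨c, hc, hcA⟩ := h.toA _ h1 h2 _ h3 (by
    calc m * b * m⁻¹ * (m * a * m⁻¹) = m * (b * a) * m⁻¹ := by group
      _ = m * (a * b) * m⁻¹ := by rw [hab]
      _ = _ := by group)
  refine ⟨c * m, h.M.mul_mem (h.mem_M_of_comm (h.capD _ h1 h2) hc) hm, ?_, ?_⟩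
  · rw [show c * m * a * (c * m)⁻¹ = c * (m * a * m⁻¹) * c⁻¹ by group, hc, mul_inv_cancel_right]
    exact h2
  · rw [show c * m * b * (c * m)⁻¹ = c * (m * b * m⁻¹) * c⁻¹ by group]
    exact hcA

/-- Centralizer of a product of two commuting elements of `Δ`. -/
theorem centralizer_le [Finite G] (h : Setup D Δ A T) {a b : G} (ha : a ∈ Δ) (hb : b ∈ D)
    (hab : a * b = b * a) (hne : a ≠ b) {k : G} (hk : k * (a * b) = (a * b) * k) : k ∈ h.M := by
  obtain ⟨m, hm, hma, hmb⟩ := h.exists_conj_pair ha hb hab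
  have h1 : m * k * m⁻¹ ∈ h.M := by
    apply h.centralizer_le_A (h.conj a (h.sub ha) m) hma (h.conj b hb m) hmb
    · intro h1
      exact hne (by simpa using h1)
    · calc m * k * m⁻¹ * (m * a * m⁻¹ * (m * b * m⁻¹)) = m * (k * (a * b)) * m⁻¹ := by group
        _ = m * ((a * b) * k) * m⁻¹ := by rw [hk]
        _ = _ := by group
  have h2 := h.M.mul_mem (h.M.mul_mem (h.M.inv_mem hm) h1) hm
  simpa [mul_assoc] using h2

/-- products of elements of `Δ` and `D \ Δ` have odd order -/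
theorem odd_orderOf [Finite G] (h : Setup D Δ A T) {a f : G} (ha : a ∈ Δ) (hf : f ∈ D) (hf' : f ∉ Δ) :
    Odd (orderOf (a * f)) := by
  by_contra hodd
  rw [Nat.not_odd_iff_even] at hodd
  obtain ⟨u, -, hu2, hua, huf, g, hg⟩ := exists_of_even (h.sq (h.sub ha)) (h.sq hf) hodd
  have hauD : a * u ∈ D := by
    rcases hg with hg | hg
    · rw [← hg]; exact h.conj a (h.sub ha) g
    · rw [← hg]; exact h.conj f hf g
  have haa := h.sq (h.sub ha)
  have h1 : a * (a * u) = (a * u) * a := by rw [mul_assoc, hua]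
  have h2 : a ≠ a * u := by
    intro h2
    have : u = 1 := mul_eq_left.1 h2.symm
    rw [this, orderOf_one] at hu2
    omega
  have h3 : f ∈ h.M := by
    apply h.centralizer_le ha hauD h1 h2
    rw [show a * (a * u) = u by rw [← mul_assoc, haa, one_mul]]
    exact huf.symm
  exact hf' (h.mem_Δ hf h3)

/-- No involution commutes with elements of `Δ` and of `D \ Δ`. -/
theorem not_commute [Finite G] (h : Setup D Δ A T) {e f u : G} (he : e ∈ Δ) (hf : f ∈ D) (hf' : f ∉ Δ)
    (hu : orderOf u = 2) (hue : u * e = e * u) (huf : u * f = f * u) : False := by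
  -- conjugate `e` into `A`
  obtain ⟨m, hm, hmA, -⟩ := h.exists_conj_pair he (h.sub he) rfl
  have hmD : m * e * m⁻¹ ∈ D := h.conj e (h.sub he) m
  have hu' : orderOf (m * u * m⁻¹) = 2 := by
    rw [← hu]
    exact orderOf_injective (MulAut.conj m).toMonoidHom (MulAut.conj m).injective u
  obtain ⟨c, hc, hcA⟩ := h.toA _ hmD hmA _ hu' (by
    calc m * u * m⁻¹ * (m * e * m⁻¹) = m * (u * e) * m⁻¹ := by group
      _ = m * (e * u) * m⁻¹ := by rw [hue]
      _ = _ := by group)
  have hcM : c ∈ h.M := h.mem_M_of_comm (h.capD _ hmD hmA) hc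
  set n : G := c * m with hn
  have hnM : n ∈ h.M := h.M.mul_mem hcM hm
  set v : G := n * u * n⁻¹ with hv
  have hvA : v ∈ A := by
    rw [hv, hn, show c * m * u * (c * m)⁻¹ = c * (m * u * m⁻¹) * c⁻¹ by group]
    exact hcA
  have hv1 : v ≠ 1 := by
    intro h1
    have h2 : u = 1 := by
      have : n⁻¹ * (n * u * n⁻¹) * n = n⁻¹ * 1 * n := by rw [← hv, h1]
      simpa [mul_assoc] using this
    rw [h2, orderOf_one] at hu
    omega
  set f' : G := n * f * n⁻¹ with hf'def
  have hf'D : f' ∈ D := h.conj f hf n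
  have hf'Δ : f' ∉ Δ := fun h1 => hf' (h.conj_mem' hnM h1)
  have hvf : v * f' = f' * v := by
    calc v * f' = n * (u * f) * n⁻¹ := by rw [hv, hf'def]; group
      _ = n * (f * u) * n⁻¹ := by rw [huf]
      _ = f' * v := by rw [hv, hf'def]; group
  obtain ⟨x, y, hxD, hxA, hyD, hyA, hxy⟩ := h.notrans v hvA hv1
  -- both `x` and `y` are conjugate to `f'` in the centralizer of `v`
  have key : ∀ w : G, w ∈ D → w ∈ A → ∃ g : G, g * v = v * g ∧ g * w * g⁻¹ = f' := by
    intro w hwD hwA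
    have hodd := h.odd_orderOf (h.capD w hwD hwA) hf'D hf'Δ
    obtain ⟨j, hj⟩ := conj_of_odd (h.sq hwD) (h.sq hf'D) hodd
    refine ⟨(w * f') ^ j, ?_, hj⟩
    have h1 : Commute w v := h.comm hwA hvA
    have h2 : Commute f' v := hvf.symm
    exact ((h1.mul_left h2).pow_left j)
  obtain ⟨g1, hg1, hg1'⟩ := key x hxD hxA
  obtain ⟨g2, hg2, hg2'⟩ := key y hyD hyA
  have h3 : (g2⁻¹ * g1) * v = v * (g2⁻¹ * g1) := by
    have h1 : Commute g1 v := hg1
    have h2 : Commute g2 v := hg2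
    exact (h2.inv_left.mul_left h1)
  have h4 : (g2⁻¹ * g1) * x * (g2⁻¹ * g1)⁻¹ = y := by
    calc (g2⁻¹ * g1) * x * (g2⁻¹ * g1)⁻¹ = g2⁻¹ * (g1 * x * g1⁻¹) * g2 := by group
      _ = g2⁻¹ * (g2 * y * g2⁻¹) * g2 := by rw [hg1', hg2']
      _ = y := by group
  obtain ⟨k, hk, hkv, hkx⟩ := h.fusion hyA hvA h3 h4 hxA
  exact hxy k hk hkv hkx

/-- **Main theorem**: `Δ = D`. -/
theorem eq_D [Finite G] (h : Setup D Δ A T) : Δ = D := by
  apply Set.Subset.antisymm h.sub
  intro f hf
  by_contra hf'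
  obtain ⟨x, y, hxD, hxA, hyD, hyA, hxy⟩ := h.two
  obtain ⟨g, hg⟩ := h.trans x hxD f hf
  have hxyA : x * y ∈ A := A.mul_mem hxA hyA
  have hxyD : x * y ∉ D := h.prod x hxD hxA y hyD hyA hxy
  set t : G := g * (x * y) * g⁻¹ with ht
  have htD : t ∉ D := by
    intro h1
    apply hxyD
    have := h.conj t h1 g⁻¹
    rwa [show g⁻¹ * t * g⁻¹⁻¹ = x * y by rw [ht]; group] at this
  have hxy2 : (x * y) * (x * y) = 1 := by
    have := h.elem.2 _ hxyA
    rwa [pow_two] at this
  have htt : t * t = 1 := by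
    calc t * t = g * ((x * y) * (x * y)) * g⁻¹ := by rw [ht]; group
      _ = 1 := by rw [hxy2]; group
  have heven : Even (orderOf (x * t)) := by
    rw [← Nat.not_odd_iff_even]
    intro hodd
    obtain ⟨j, hj⟩ := conj_of_odd (h.sq hxD) htt hodd
    exact htD (hj ▸ h.conj x hxD _)
  obtain ⟨u, -, hu2, hux, hut, -⟩ := exists_of_even (h.sq hxD) htt heven
  -- `u ∈ g M g⁻¹`
  have hu' : orderOf (g⁻¹ * u * g) = 2 := by
    rw [← hu2]
    have := orderOf_injective (MulAut.conj g⁻¹).toMonoidHom (MulAut.conj g⁻¹).injective u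
    simpa using this
  have h1 : g⁻¹ * u * g ∈ h.M := by
    apply h.centralizer_le (h.capD x hxD hxA) hyD (h.comm hxA hyA) hxy
    calc g⁻¹ * u * g * (x * y) = g⁻¹ * (u * t) * g := by rw [ht]; group
      _ = g⁻¹ * (t * u) * g := by rw [hut]
      _ = _ := by rw [ht]; group
  obtain ⟨e, he, hue⟩ := h.exists_comm h1 hu'
  have hu3 : u * (g * e * g⁻¹) = (g * e * g⁻¹) * u := by
    calc u * (g * e * g⁻¹) = g * ((g⁻¹ * u * g) * e) * g⁻¹ := by group
      _ = g * (e * (g⁻¹ * u * g)) * g⁻¹ := by rw [hue]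
      _ = _ := by group
  have he' : g * e * g⁻¹ ∉ Δ := by
    intro h2
    have h3 := h.mem_M_of he h2
    apply hf'
    rw [← hg]
    exact h.conj_mem h3 (h.capD x hxD hxA)
  exact h.not_commute (h.capD x hxD hxA) (h.conj e (h.sub he) g) he' hu2 hux hu3

end Setup

/-- **The commuting graph on `D` is connected.** -/
theorem Local.connected {G : Type*} [Group G] [Finite G] {D : Set G} {A : Subgroup G} {T : Sylow 2 G}
    (h : Local D A T) {x y : G} (hx : x ∈ D) (hy : y ∈ D) :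
    Relation.ReflTransGen (fun a b : G => b ∈ D ∧ a * b = b * a) x y := by
  -- symmetric version of the relation
  have hsymm : ∀ a b : G, a ∈ D → Relation.ReflTransGen (fun a b : G => b ∈ D ∧ a * b = b * a) a b →
      Relation.ReflTransGen (fun a b : G => b ∈ D ∧ a * b = b * a) b a ∧ b ∈ D := by
    intro a b ha hab
    induction hab with
    | refl => exact ⟨Relation.ReflTransGen.refl, ha⟩
    | @tail b c hab hbc ih =>
      exact ⟨Relation.ReflTransGen.head ⟨ih.2, hbc.2.symm⟩ ih.1, hbc.1⟩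
  have hconj : ∀ g a b : G, Relation.ReflTransGen (fun a b : G => b ∈ D ∧ a * b = b * a) a b →
      Relation.ReflTransGen (fun a b : G => b ∈ D ∧ a * b = b * a) (g * a * g⁻¹) (g * b * g⁻¹) := by
    intro g a b hab
    induction hab with
    | refl => exact Relation.ReflTransGen.refl
    | @tail b c _ hbc ih =>
      refine ih.tail ⟨h.conj c hbc.1 g, ?_⟩
      calc g * b * g⁻¹ * (g * c * g⁻¹) = g * (b * c) * g⁻¹ := by group
        _ = g * (c * b) * g⁻¹ := by rw [hbc.2]
        _ = _ := by group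
  obtain ⟨x0, -, hx0D, hx0A, -⟩ := h.two
  have main : ∀ y ∈ D, Relation.ReflTransGen (fun a b : G => b ∈ D ∧ a * b = b * a) x0 y := by
    have hset : Setup D {y | Relation.ReflTransGen (fun a b : G => b ∈ D ∧ a * b = b * a) x0 y} A T :=
      { toLocal := h
        sub := fun y hy => (hsymm x0 y hx0D hy).2
        closed := fun a ha b hb hab => Relation.ReflTransGen.tail ha ⟨hb, hab⟩
        block := fun g a ha hga b hb => by
          have h1 := (hsymm x0 a hx0D ha)
          have h2 := hconj g _ _ (h1.1.trans hb)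
          exact Relation.ReflTransGen.trans hga h2
        capD := fun a ha haA => Relation.ReflTransGen.single ⟨ha,
          congrArg Subtype.val (h.elem.1.is_comm.comm (⟨x0, hx0A⟩ : A) ⟨a, haA⟩)⟩ }
    intro y hy
    have h1 := hset.eq_D
    rw [← h1] at hy
    exact hy
  exact (hsymm x0 x hx0D (main x hx)).1.trans (main y hy)

end Cfsg.Agent.R01.OneComponent
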