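import Cfsg.Agent.R01.HermPlane

/-!
Products over the hyperovals and lines of `PG(2,4)` in a commutative group.
-/

set_option autoImplicit false
set_option linter.unusedSectionVars false

namespace Cfsg.Agent.R01.OvalComm

open Cfsg.Agent.SporadicStructure.UnitTwo

variable {F : Type*} [Field F] [Fintype F] (hF : Fintype.card F = 2 ^ 2)
variable {A : Type*} [CommGroup A]

/-- A function on the points of the projective plane with values of square one. -/
structure Pts (P : (Fin 3 → F) → A) : Prop where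
  smul : ∀ x : Fin 3 → F, x ≠ 0 → ∀ c : F, c ≠ 0 → P (c • x) = P x
  sq : ∀ x : Fin 3 → F, x ≠ 0 → P x * P x = 1

open Classical in
/-- Product over a hyperoval. -/
noncomputable def oval (P : (Fin 3 → F) → A) (t : Fˣ) : A :=
  P ![1, 0, 0] * (P ![0, 1, 0] * (P ![0, 0, 1] * ∏ b : Fˣ, P ![1, (b : F), ((t * b⁻¹ : Fˣ) : F)]))

open Classical in
/-- Product over the line of two points. -/
noncomputable def line (P : (Fin 3 → F) → A) (x y : Fin 3 → F) : A :=
  P x * (P y * ∏ b : Fˣ, P (x + (b : F) • y))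

include hF

theorem card_units : Nat.card Fˣ = 3 := by
  classical
  rw [Nat.card_eq_fintype_card, Fintype.card_units, hF]
  norm_num

open Classical in
theorem card_units' : Fintype.card Fˣ = 3 := by
  rw [← Nat.card_eq_fintype_card, card_units hF]

open Classical in
/-- The product of the three hyperoval products is the product of four lines. -/
theorem prod_oval {P : (Fin 3 → F) → A} (h : Pts P) :
    ∏ t : Fˣ, oval P t =
      (∏ s : Fˣ, line P ![0, 1, (s : F)] ![1, 0, 0]) * line P ![0, 1, 0] ![0, 0, 1] := by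
  have hne1 : ∀ x w : F, (![x, 1, w] : Fin 3 → F) ≠ 0 := fun y w h0 => by
    have := congrFun h0 1
    simp at this
  have hne0 : ∀ x w : F, (![1, x, w] : Fin 3 → F) ≠ 0 := fun y w h0 => by
    have := congrFun h0 0
    simp at this
  have h3 : ∀ y : A, y * y = 1 → y ^ 3 = y := by
    intro y hy
    calc y ^ 3 = y * y * y := by rw [pow_succ, pow_two]
      _ = y := by rw [hy, one_mul]
  have hsq := h.sq
  set Q : Fˣ → Fˣ → A := fun b c => P ![1, (b : F), (c : F)] with hQ
  -- left side
  have e1 : ∏ t : Fˣ, oval P t = P ![1, 0, 0] * (P ![0, 1, 0] * (P ![0, 0, 1] *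
      ∏ b : Fˣ, ∏ c : Fˣ, Q b c)) := by
    unfold oval
    rw [Finset.prod_mul_distrib, Finset.prod_mul_distrib, Finset.prod_mul_distrib,
      Finset.prod_const, Finset.prod_const, Finset.prod_const, Finset.card_univ, card_units' hF,
      h3 _ (hsq _ (hne0 _ _)), h3 _ (hsq _ (hne1 _ _)), h3 _ (hsq _ (by
        intro h0
        have := congrFun h0 2
        simp at this)), Finset.prod_comm]
    congr 3
    refine Finset.prod_congr rfl fun b _ => ?_
    exact Fintype.prod_equiv (Equiv.mulRight b⁻¹) _ _ fun t => rfl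
  -- lines through the first point
  have e2 : ∀ s : Fˣ, line P ![0, 1, (s : F)] ![1, 0, 0] =
      P ![0, 1, (s : F)] * (P ![1, 0, 0] * ∏ b : Fˣ, Q b (s * b)) := by
    intro s
    unfold line
    congr 2
    refine Fintype.prod_equiv (Equiv.inv Fˣ) _ _ fun b => ?_
    change P (![0, 1, (s : F)] + (b : F) • ![1, 0, 0]) =
      P ![1, ((b⁻¹ : Fˣ) : F), ((s * b⁻¹ : Fˣ) : F)]
    rw [← h.smul (![0, 1, (s : F)] + (b : F) • ![1, 0, 0]) (by
      intro h0
      have := congrFun h0 1
      simp at this) ((b⁻¹ : Fˣ) : F) (Units.ne_zero _)]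
    congr 1
    funext k
    fin_cases k
    · simp
    · simp
    · simp [mul_comm]
  have e3 : ∏ s : Fˣ, line P ![0, 1, (s : F)] ![1, 0, 0] =
      (∏ s : Fˣ, P ![0, 1, (s : F)]) * (P ![1, 0, 0] * ∏ b : Fˣ, ∏ c : Fˣ, Q b c) := by
    rw [Finset.prod_congr rfl fun s _ => e2 s, Finset.prod_mul_distrib, Finset.prod_mul_distrib,
      Finset.prod_const, Finset.card_univ, card_units' hF, h3 _ (hsq _ (hne0 _ _)),
      Finset.prod_comm]
    congr 2
    refine Finset.prod_congr rfl fun b _ => ?_
    exact Fintype.prod_equiv (Equiv.mulRight b) _ _ fun t => rfl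
  have e4 : line P ![0, 1, 0] ![0, 0, 1] =
      P ![0, 1, 0] * (P ![0, 0, 1] * ∏ s : Fˣ, P ![0, 1, (s : F)]) := by
    unfold line
    congr 2
    refine Finset.prod_congr rfl fun s _ => ?_
    congr 1
    funext k
    fin_cases k <;> simp
  have e5 : (∏ s : Fˣ, P ![0, 1, (s : F)]) * (∏ s : Fˣ, P ![0, 1, (s : F)]) = 1 := by
    rw [← Finset.prod_mul_distrib]
    exact Finset.prod_eq_one fun s _ => hsq _ (hne1 _ _)
  rw [e1, e3, e4]
  set X := ∏ s : Fˣ, P ![0, 1, (s : F)]
  set Y := ∏ b : Fˣ, ∏ c : Fˣ, Q b c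
  have e6 : X * (P ![1, 0, 0] * Y) * (P ![0, 1, 0] * (P ![0, 0, 1] * X)) =
      (X * X) * (P ![1, 0, 0] * (P ![0, 1, 0] * (P ![0, 0, 1] * Y))) := by
    simp only [mul_comm, mul_left_comm, mul_assoc]
  rw [e6, e5, one_mul]

open Classical in
/-- Units of the field with four elements. -/
theorem prod_units {ω : F} (hω : ω ^ 2 + ω + 1 = 0) (g : F → A) :
    ∏ b : Fˣ, g (b : F) = g 1 * (g ω * g (ω ^ 2)) := by
  have hω0 : ω ≠ 0 := by
    rintro rfl
    simp at hω
  have h2 := two_eq_zero hF
  have hω1 : ω ≠ 1 := by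
    rintro rfl
    apply one_ne_zero (α := F)
    linear_combination hω - h2
  have hω3 : ω ^ 3 = 1 := pow_three hF hω0
  have hω2 : ω ^ 2 ≠ 1 := by
    intro h
    apply hω1
    calc ω = ω ^ 3 * ω := by rw [hω3, one_mul]
      _ = ω ^ 2 * ω ^ 2 := by ring
      _ = 1 := by rw [h, one_mul]
  have hωω : ω ^ 2 ≠ ω := by
    intro h
    apply hω1
    have : ω * (ω - 1) = 0 := by linear_combination h
    rcases mul_eq_zero.1 this with h | h
    · exact absurd h hω0
    · exact sub_eq_zero.1 h
  set w : Fˣ := Units.mk0 ω hω0 with hw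
  have huniv : (Finset.univ : Finset Fˣ) = {1, w, w ^ 2} := by
    symm
    apply Finset.eq_univ_of_card
    rw [card_units' hF, Finset.card_insert_of_notMem, Finset.card_insert_of_notMem,
      Finset.card_singleton]
    · rw [Finset.mem_singleton]
      intro h
      apply hωω
      have := congrArg (fun x : Fˣ => (x : F)) h
      simpa [hw] using this.symm
    · rw [Finset.mem_insert, Finset.mem_singleton]
      rintro (h | h)
      · apply hω1
        have := congrArg (fun x : Fˣ => (x : F)) h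
        simpa [hw] using this.symm
      · apply hω2
        have := congrArg (fun x : Fˣ => (x : F)) h
        simpa [hw] using this.symm
  rw [huniv, Finset.prod_insert, Finset.prod_insert, Finset.prod_singleton]
  · rfl
  · rw [Finset.mem_singleton]
    intro h
    apply hωω
    have := congrArg (fun x : Fˣ => (x : F)) h
    simpa [hw] using this.symm
  · rw [Finset.mem_insert, Finset.mem_singleton]
    rintro (h | h)
    · apply hω1
      have := congrArg (fun x : Fˣ => (x : F)) h
      simpa [hw] using this.symm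
    · apply hω2
      have := congrArg (fun x : Fˣ => (x : F)) h
      simpa [hw] using this.symm

/-- A Baer subplane is the sum of a hyperoval and a line. -/
theorem baer_eq {P : (Fin 3 → F) → A} (h : Pts P) :
    P ![1, 0, 0] * P ![0, 1, 0] * P ![0, 0, 1] * P ![1, 1, 0] * P ![1, 0, 1] * P ![0, 1, 1] *
      P ![1, 1, 1] = oval P 1 * line P ![1, 1, 0] ![1, 0, 1] := by
  classical
  obtain ⟨ω, hω⟩ := exists_omega hF
  have hω0 : ω ≠ 0 := by
    rintro rfl
    simp at hω
  have h2 := two_eq_zero hF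
  have hω3 : ω ^ 3 = 1 := pow_three hF hω0
  have hinv : ∀ b : Fˣ, ((1 * b⁻¹ : Fˣ) : F) = (b : F) ^ 2 := by
    intro b
    have h3 : (b : F) ^ 3 = 1 := pow_three hF b.ne_zero
    rw [one_mul, Units.val_inv_eq_inv_val]
    exact (eq_inv_of_mul_eq_one_left (by rw [← h3]; ring)).symm
  have e1 : oval P 1 = P ![1, 0, 0] * (P ![0, 1, 0] * (P ![0, 0, 1] *
      (P ![1, 1, 1] * (P ![1, ω, ω ^ 2] * P ![1, ω ^ 2, ω])))) := by
    unfold oval
    congr 3
    have : ∏ b : Fˣ, P ![1, (b : F), ((1 * b⁻¹ : Fˣ) : F)] =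
        ∏ b : Fˣ, (fun x : F => P ![1, x, x ^ 2]) (b : F) :=
      Finset.prod_congr rfl fun b _ => by rw [hinv]
    rw [this, prod_units hF hω (fun x : F => P ![1, x, x ^ 2])]
    have h4 : (ω ^ 2) ^ 2 = ω := by
      calc (ω ^ 2) ^ 2 = ω ^ 3 * ω := by ring
        _ = ω := by rw [hω3, one_mul]
    simp only [one_pow, h4]
  have e2 : line P ![1, 1, 0] ![1, 0, 1] = P ![1, 1, 0] * (P ![1, 0, 1] *
      (P ![0, 1, 1] * (P ![1, ω, ω ^ 2] * P ![1, ω ^ 2, ω]))) := by
    unfold line
    congr 2
    have : ∏ b : Fˣ, P (![1, 1, 0] + (b : F) • ![1, 0, 1]) =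
        ∏ b : Fˣ, (fun x : F => P ![1 + x, 1, x]) (b : F) :=
      Finset.prod_congr rfl fun b _ => by
        congr 1
        funext k
        fin_cases k <;> simp
    rw [this, prod_units hF hω (fun x : F => P ![1 + x, 1, x])]
    have hne : ∀ x w : F, (![x, 1, w] : Fin 3 → F) ≠ 0 := fun y w h0 => by
      have := congrFun h0 1
      simp at this
    have a1 : (![1 + 1, 1, 1] : Fin 3 → F) = ![0, 1, 1] := by
      congr 1
      linear_combination h2
    have a2 : P ![1 + ω, 1, ω] = P ![1, ω, ω ^ 2] := by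
      rw [← h.smul _ (hne _ _) ω hω0]
      congr 1
      funext k
      fin_cases k
      · change ω * (1 + ω) = 1
        linear_combination hω - h2
      · change ω * 1 = ω
        rw [mul_one]
      · change ω * ω = ω ^ 2
        ring
    have a3 : P ![1 + ω ^ 2, 1, ω ^ 2] = P ![1, ω ^ 2, ω] := by
      rw [← h.smul _ (hne _ _) (ω ^ 2) (pow_ne_zero _ hω0)]
      congr 1
      funext k
      fin_cases k
      · change ω ^ 2 * (1 + ω ^ 2) = 1
        linear_combination hω + ω * hω3 - h2
      · change ω ^ 2 * 1 = ω ^ 2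
        rw [mul_one]
      · change ω ^ 2 * ω ^ 2 = ω
        linear_combination ω * hω3
    simp only [a1, a2, a3]
  rw [e1, e2]
  have hne0 : ∀ x w : F, (![1, x, w] : Fin 3 → F) ≠ 0 := fun y w h0 => by
    have := congrFun h0 0
    simp at this
  have b1 := h.sq ![1, ω, ω ^ 2] (hne0 _ _)
  have b2 := h.sq ![1, ω ^ 2, ω] (hne0 _ _)
  generalize P ![1, 0, 0] = p1
  generalize P ![0, 1, 0] = p2
  generalize P ![0, 0, 1] = p3
  generalize P ![1, 1, 0] = p4
  generalize P ![1, 0, 1] = p5
  generalize P ![0, 1, 1] = p6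
  generalize P ![1, 1, 1] = p7
  generalize P ![1, ω, ω ^ 2] = q1 at b1 ⊢
  generalize P ![1, ω ^ 2, ω] = q2 at b2 ⊢
  have e6 : p1 * (p2 * (p3 * (p7 * (q1 * q2)))) * (p4 * (p5 * (p6 * (q1 * q2)))) =
      p1 * p2 * p3 * p4 * p5 * p6 * p7 * ((q1 * q1) * (q2 * q2)) := by
    simp only [mul_comm, mul_left_comm]
  rw [e6, b1, b2, one_mul, mul_one]

end Cfsg.Agent.R01.OvalComm
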