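import Cfsg.Agent.R01.LabelsOf
import Cfsg.Agent.R01.OvalComm
import Cfsg.Agent.R01.HexNe

/-!
The products over the hyperovals of a totally isotropic plane at a commuting pair `z, a` of members of `D`: they are
`z`, `a`, `z a`, in particular pairwise different.
-/

set_option autoImplicit false
set_option linter.unusedSectionVars false

namespace Cfsg.Agent.R01.Oval

open Cfsg Cfsg.Agent.LieClassical.HermBasic Cfsg.Agent.ClassicalGeometry.UnitTransv
open Cfsg.Agent.SporadicStructure.UnitTwo
open Cfsg.Agent.ClassicalGeometry.UnitAutBasic (tau pr)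
open Cfsg.Agent.R01.PSUSix (tau_eq_pr)
open Cfsg.Agent.R01.HermRigid Cfsg.Agent.R01.InvForm Cfsg.Agent.R01.HermPlane
  Cfsg.Agent.R01.LabelsOf Cfsg.Agent.R01.GlueFull Cfsg.Agent.R01.OvalComm Cfsg.Agent.R01.HexNe

universe u v

variable {F : Type v} [Field F] [Fintype F] (hF : Fintype.card F = 2 ^ 2)

include hF in
/-- The product of commuting transvections. -/
theorem tau_prod (l : List (Fin 6 → F)) (hl : ∀ v ∈ l, hermForm 6 F 2 v v = 0)
    (horth : ∀ v ∈ l, ∀ w ∈ l, hermForm 6 F 2 v w = 0) :
    ∃ g : SU 6 F 2, pr 6 F 2 g = (l.map (tau hF)).prod ∧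
      ∀ x, act g x = x + (l.map (fun w => hermForm 6 F 2 x w • w)).sum := by
  induction l with
  | nil => exact ⟨1, map_one _, fun x => by rw [act_one, List.map_nil, List.sum_nil, add_zero]⟩
  | cons w l ih =>
    obtain ⟨g, hg, hgx⟩ := ih (fun v hv => hl v (List.mem_cons_of_mem _ hv))
      (fun v hv v' hv' => horth v (List.mem_cons_of_mem _ hv) v' (List.mem_cons_of_mem _ hv'))
    have hw := hl w List.mem_cons_self
    refine ⟨T hF w hw * g, ?_, fun x => ?_⟩
    · rw [map_mul, hg, List.map_cons, List.prod_cons, tau_eq_pr hF hw]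
    · rw [act_mul, act_T, hgx, herm_add_left]
      have h1 : hermForm 6 F 2 ((l.map (fun w => hermForm 6 F 2 x w • w)).sum) w = 0 := by
        have : ∀ l' : List (Fin 6 → F), (∀ v ∈ l', hermForm 6 F 2 v w = 0) →
            hermForm 6 F 2 ((l'.map (fun w => hermForm 6 F 2 x w • w)).sum) w = 0 := by
          intro l'
          induction l' with
          | nil => intro _; rw [List.map_nil, List.sum_nil, herm_zero_left]
          | cons v l' ih' =>
            intro hv
            rw [List.map_cons, List.sum_cons, herm_add_left, herm_smul_left,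
              hv v List.mem_cons_self, mul_zero, zero_add,
              ih' fun v hv' => hv v (List.mem_cons_of_mem _ hv')]
        exact this l fun v hv => horth v (List.mem_cons_of_mem _ hv) w List.mem_cons_self
      rw [h1, add_zero, List.map_cons, List.sum_cons]
      abel

include hF in
theorem tau_prod_eq_one (l : List (Fin 6 → F)) (hl : ∀ v ∈ l, hermForm 6 F 2 v v = 0)
    (horth : ∀ v ∈ l, ∀ w ∈ l, hermForm 6 F 2 v w = 0)
    (hsum : ∀ x, (l.map (fun w => hermForm 6 F 2 x w • w)).sum = 0) :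
    (l.map (tau hF)).prod = 1 := by
  obtain ⟨g, hg, hgx⟩ := tau_prod hF l hl horth
  have : g = 1 := by
    apply ext_act
    intro x
    rw [hgx, hsum, add_zero, act_one]
  rw [← hg, this, map_one]

section Plane

variable {e f : Fin 3 → (Fin 6 → F)} (h : Frame e f)
include hF h

/-- A list of points of the plane whose elations multiply to one. -/
theorem comb_prod_eq_one (l : List (Fin 3 → F))
    (hsum : ∀ p : Fin 3 → F, (l.map (fun x => (∑ i, p i * x i ^ 2) • x)).sum = 0) :
    ((l.map fun x => comb e f x 0).map (tau hF)).prod = 1 := by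
  have horth : ∀ x y : Fin 3 → F, hermForm 6 F 2 (comb e f x 0) (comb e f y 0) = 0 := by
    intro x y
    rw [herm_comb hF h]
    simp
  refine tau_prod_eq_one hF _ ?_ ?_ ?_
  · intro v hv
    obtain ⟨x, -, rfl⟩ := List.mem_map.1 hv
    exact horth x x
  · intro v hv w hw
    obtain ⟨x, -, rfl⟩ := List.mem_map.1 hv
    obtain ⟨y, -, rfl⟩ := List.mem_map.1 hw
    exact horth x y
  · intro y
    have h1 : ∀ x : Fin 3 → F, hermForm 6 F 2 y (comb e f x 0) • comb e f x 0 =
        comb e f ((∑ i, hermForm 6 F 2 y (e i) * x i ^ 2) • x) 0 := by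
      intro x
      rw [show comb e f ((∑ i, hermForm 6 F 2 y (e i) * x i ^ 2) • x) 0 =
        (∑ i, hermForm 6 F 2 y (e i) * x i ^ 2) • comb e f x 0 by rw [smul_comb, smul_zero]]
      congr 1
      rw [comb_zero_right hF, herm_sum_right hF]
      refine Finset.sum_congr rfl fun i _ => ?_
      rw [herm_smul_right, mul_comm]
    rw [List.map_map]
    have h2 : ∀ l : List (Fin 3 → F), (l.map ((fun w => hermForm 6 F 2 y w • w) ∘
        fun x => comb e f x 0)).sum =
        comb e f ((l.map (fun x => (∑ i, hermForm 6 F 2 y (e i) * x i ^ 2) • x)).sum) 0 := by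
      intro l
      induction l with
      | nil =>
        rw [List.map_nil, List.sum_nil, List.map_nil, List.sum_nil, comb_zero_right hF]
        simp
      | cons x l ih =>
        rw [List.map_cons, List.sum_cons, ih, List.map_cons, List.sum_cons]
        change hermForm 6 F 2 y (comb e f x 0) • comb e f x 0 + _ = _
        rw [h1, add_comb, add_zero]
    rw [h2, hsum, comb_zero_right hF]
    simp

end Plane

open Classical in
/-- Coordinates of the points of a hyperoval. -/
noncomputable def ovalC (t : Fˣ) : List (Fin 3 → F) :=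
  ![1, 0, 0] :: ![0, 1, 0] :: ![0, 0, 1] :: (Finset.univ : Finset Fˣ).toList.map
    (fun b : Fˣ => ![1, (b : F), ((t * b⁻¹ : Fˣ) : F)])

open Classical in
/-- Coordinates of the points of a line. -/
noncomputable def lineC (x y : Fin 3 → F) : List (Fin 3 → F) :=
  x :: y :: (Finset.univ : Finset Fˣ).toList.map (fun b : Fˣ => x + (b : F) • y)

include hF

theorem ovalC_map (e f : Fin 3 → (Fin 6 → F)) (t : Fˣ) :
    (ovalC t).map (fun x => comb e f x 0) = ovalList (e 0) (e 1) (e 2) t := by
  unfold ovalC ovalList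
  rw [List.map_cons, List.map_cons, List.map_cons, List.map_map, comb_vec hF, comb_vec hF,
    comb_vec hF]
  have h1 : ((fun x => comb e f x 0) ∘ fun b : Fˣ => ![1, (b : F), ((t * b⁻¹ : Fˣ) : F)]) =
      fun b : Fˣ => e 0 + (b : F) • e 1 + ((t * b⁻¹ : Fˣ) : F) • e 2 := by
    funext b
    change comb e f ![1, (b : F), ((t * b⁻¹ : Fˣ) : F)] 0 = _
    rw [comb_vec hF, one_smul]
  rw [h1]
  simp only [one_smul, zero_smul, add_zero, zero_add]

open Classical in
theorem sum_units {V : Type*} [AddCommGroup V] {ω : F} (hω : ω ^ 2 + ω + 1 = 0) (g : F → V) :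
    ∑ b : Fˣ, g (b : F) = g 1 + (g ω + g (ω ^ 2)) :=
  OvalComm.prod_units (A := Multiplicative V) hF hω g

theorem ovalC_closed (t : Fˣ) (p : Fin 3 → F) :
    ((ovalC t).map (fun x => (∑ i, p i * x i ^ 2) • x)).sum = 0 := by
  classical
  obtain ⟨ω, hω⟩ := exists_omega hF
  have hω0 : ω ≠ 0 := by
    rintro rfl
    simp at hω
  have h2 := two_eq_zero hF
  have h3 : ω ^ 3 = 1 := pow_three hF hω0
  have ht : (t : F) ^ 3 = 1 := pow_three hF t.ne_zero
  have hinv : ∀ b : Fˣ, ((t * b⁻¹ : Fˣ) : F) = (t : F) * (b : F) ^ 2 := by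
    intro b
    have h4 : (b : F) ^ 3 = 1 := pow_three hF b.ne_zero
    rw [Units.val_mul, Units.val_inv_eq_inv_val]
    congr 1
    exact (eq_inv_of_mul_eq_one_left (by rw [← h4]; ring)).symm
  unfold ovalC
  rw [List.map_cons, List.map_cons, List.map_cons, List.sum_cons, List.sum_cons, List.sum_cons,
    List.map_map, Finset.sum_map_toList]
  have e1 : ∑ b : Fˣ, ((fun x : Fin 3 → F => (∑ i, p i * x i ^ 2) • x) ∘
      fun b : Fˣ => ![1, (b : F), ((t * b⁻¹ : Fˣ) : F)]) b =
      ∑ b : Fˣ, (fun x : F => (p 0 + p 1 * x ^ 2 + p 2 * ((t : F) * x ^ 2) ^ 2) •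
        ![1, x, (t : F) * x ^ 2]) (b : F) := by
    refine Finset.sum_congr rfl fun b _ => ?_
    change (∑ i, p i * (![1, (b : F), ((t * b⁻¹ : Fˣ) : F)] : Fin 3 → F) i ^ 2) •
      ![1, (b : F), ((t * b⁻¹ : Fˣ) : F)] = _
    rw [hinv, Fin.sum_univ_three]
    simp
  rw [e1, sum_units hF hω (fun x : F => (p 0 + p 1 * x ^ 2 + p 2 * ((t : F) * x ^ 2) ^ 2) •
        (![1, x, (t : F) * x ^ 2] : Fin 3 → F))]
  simp only [Fin.sum_univ_three]
  funext k
  fin_cases k
  · simp
    linear_combination (p 1 + p 2 * t ^ 2) * hω + (p 1 * ω + p 2 * t ^ 2 * ω +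
      p 2 * t ^ 2 * ω ^ 2 * (ω ^ 3 + 1)) * h3 + 2 * p 0 * h2
  · simp
    linear_combination (p 0 + p 2 * t ^ 2) * hω + (p 1 + p 1 * (ω ^ 3 + 1) +
      p 2 * t ^ 2 * ω ^ 2 + p 2 * t ^ 2 * ω * (ω ^ 6 + ω ^ 3 + 1)) * h3 + 2 * p 1 * h2
  · simp
    linear_combination (p 0 * t + p 1 * t) * hω + (p 0 * t * ω + p 1 * t * ω +
      p 1 * t * ω ^ 2 * (ω ^ 3 + 1) + p 2 * (ω ^ 3 + 1) +
      p 2 * (ω ^ 9 + ω ^ 6 + ω ^ 3 + 1)) * h3 + p 2 * (1 + ω ^ 6 + ω ^ 12) * ht + 2 * p 2 * h2

theorem lineC_closed (x y : Fin 3 → F) (p : Fin 3 → F) :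
    ((lineC x y).map (fun x => (∑ i, p i * x i ^ 2) • x)).sum = 0 := by
  classical
  obtain ⟨ω, hω⟩ := exists_omega hF
  have hω0 : ω ≠ 0 := by
    rintro rfl
    simp at hω
  have h2 := two_eq_zero hF
  have h3 : ω ^ 3 = 1 := pow_three hF hω0
  unfold lineC
  rw [List.map_cons, List.map_cons, List.sum_cons, List.sum_cons, List.map_map,
    Finset.sum_map_toList]
  set q : (Fin 3 → F) → F := fun x => ∑ i, p i * x i ^ 2 with hq
  have hqq : ∀ b : F, q (x + b • y) = q x + b ^ 2 * q y := by
    intro b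
    simp only [hq, Fin.sum_univ_three, Pi.add_apply, Pi.smul_apply, smul_eq_mul]
    linear_combination (p 0 * x 0 * b * y 0 + p 1 * x 1 * b * y 1 + p 2 * x 2 * b * y 2) * h2
  have e1 : ∑ b : Fˣ, ((fun x : Fin 3 → F => q x • x) ∘ fun b : Fˣ => x + (b : F) • y) b =
      ∑ b : Fˣ, (fun c : F => (q x + c ^ 2 * q y) • (x + c • y)) (b : F) := by
    refine Finset.sum_congr rfl fun b _ => ?_
    change q (x + (b : F) • y) • (x + (b : F) • y) = _
    rw [hqq]
  rw [e1, sum_units hF hω (fun c : F => (q x + c ^ 2 * q y) • (x + c • y))]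
  funext k
  simp only [Pi.add_apply, Pi.smul_apply, smul_eq_mul, Pi.zero_apply]
  linear_combination (q x * y k + q y * x k) * hω + (q y * y k + q y * y k * (ω ^ 3 + 1) +
    q y * x k * ω) * h3 + (2 * q x * x k + 2 * q y * y k) * h2

section Group

variable {M : Type u} [Group M] {S : Set M} {lab : (Fin 6 → F) → M} (hL : Labels S 6 F lab)
  {e f : Fin 3 → (Fin 6 → F)} (h : Frame e f)

include hL h

theorem lab_inj {x y : Fin 3 → F} (hx : x ≠ 0) (hy : y ≠ 0)
    (heq : lab (comb e f x 0) = lab (comb e f y 0)) : ∃ c : F, c ≠ 0 ∧ y = c • x := by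
  obtain ⟨c, hc, hcx⟩ := hL.inj _ _ (comb_ne hF h x hx) (comb_ne hF h y hy) (iso_comb hF h x)
    (iso_comb hF h y) heq
  refine ⟨c, hc, ?_⟩
  have h1 : comb e f (y + (-1 : F) • (c • x)) 0 = 0 := by
    have h2 : comb e f (y + (-1 : F) • (c • x)) 0 =
        comb e f y 0 + comb e f ((-1 : F) • (c • x)) 0 := by
      rw [add_comb, add_zero]
    have h3 : comb e f ((-1 : F) • (c • x)) 0 = (-1 : F) • (c • comb e f x 0) := by
      rw [smul_comb, smul_comb, smul_zero, smul_zero]
    rw [h2, h3, hcx]
    simp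
  have h2 := (comb_eq_zero hF h h1).1
  have h3 : y + (-1 : F) • (c • x) = y - c • x := by
    rw [neg_one_smul, sub_eq_add_neg]
  rw [h3] at h2
  exact sub_eq_zero.1 h2

theorem lab_comm (x y : Fin 3 → F) (hx : x ≠ 0) (hy : y ≠ 0) :
    Commute (lab (comb e f x 0)) (lab (comb e f y 0)) := by
  rw [hL.comm _ _ (comb_ne hF h x hx) (comb_ne hF h y hy) (iso_comb hF h x) (iso_comb hF h y),
    herm_comb hF h]
  simp

/-- The labels of the plane in a commutative group. -/
theorem exists_pts : ∃ (A : Type u) (_ : CommGroup A) (ι : A →* M) (Q : (Fin 3 → F) → A),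
    Function.Injective ι ∧ Pts Q ∧ ∀ x : Fin 3 → F, x ≠ 0 → ι (Q x) = lab (comb e f x 0) := by
  classical
  set k : Set M := {y | ∃ x : Fin 3 → F, x ≠ 0 ∧ y = lab (comb e f x 0)} with hk
  have hcomm : ∀ x ∈ k, ∀ y ∈ k, x * y = y * x := by
    rintro _ ⟨x, hx, rfl⟩ _ ⟨y, hy, rfl⟩
    exact lab_comm hF hL h x y hx hy
  have hisc : IsMulCommutative (Subgroup.closure k) := Subgroup.isMulCommutative_closure hcomm
  let _ : CommGroup (Subgroup.closure k) :=
    { mul_comm := fun a b => hisc.is_comm.comm a b }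
  have hmem : ∀ x : Fin 3 → F, x ≠ 0 → lab (comb e f x 0) ∈ Subgroup.closure k := fun x hx =>
    Subgroup.subset_closure ⟨x, hx, rfl⟩
  set Q : (Fin 3 → F) → Subgroup.closure k := fun x =>
    if hx : x ≠ 0 then ⟨lab (comb e f x 0), hmem x hx⟩ else 1 with hQ
  have hQx : ∀ x : Fin 3 → F, x ≠ 0 → ((Q x : Subgroup.closure k) : M) = lab (comb e f x 0) := by
    intro x hx
    simp only [hQ]
    rw [dif_pos hx]
  refine ⟨Subgroup.closure k, inferInstance, (Subgroup.closure k).subtype, Q,
    Subgroup.subtype_injective _, ⟨?_, ?_⟩, hQx⟩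
  · intro x hx c hc
    apply Subtype.ext
    rw [hQx _ (smul_ne_zero hc hx), hQx _ hx]
    have : comb e f (c • x) 0 = c • comb e f x 0 := by rw [smul_comb, smul_zero]
    rw [this, hL.smul _ (comb_ne hF h x hx) (iso_comb hF h x) c hc]
  · intro x hx
    apply Subtype.ext
    change ((Q x : Subgroup.closure k) : M) * ((Q x : Subgroup.closure k) : M) = 1
    rw [hQx _ hx]
    exact hL.sq _ (comb_ne hF h x hx) (iso_comb hF h x)

end Group

omit [Fintype F] hF in
theorem closure_pair {M : Type u} [Group M] {z a : M} (hz : z * z = 1) (ha : a * a = 1)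
    (hc : a * z = z * a) {x : M} (hx : x ∈ Subgroup.closure ({z, a} : Set M)) :
    x = 1 ∨ x = z ∨ x = a ∨ x = z * a := by
  have zi : z⁻¹ = z := inv_eq_of_mul_eq_one_left hz
  have ai : a⁻¹ = a := inv_eq_of_mul_eq_one_left ha
  have hzza : z * (z * a) = a := by rw [← mul_assoc, hz, one_mul]
  have haza : a * (z * a) = z := by rw [← mul_assoc, hc, mul_assoc, ha, mul_one]
  have hzaz : z * a * z = a := by rw [mul_assoc, hc, hzza]
  have hzaa : z * a * a = z := by rw [mul_assoc, ha, mul_one]
  have hzaza : z * a * (z * a) = 1 := by rw [← mul_assoc, hzaz, ha]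
  induction hx using Subgroup.closure_induction with
  | mem y hy =>
    simp only [Set.mem_insert_iff, Set.mem_singleton_iff] at hy
    rcases hy with rfl | rfl
    · exact Or.inr (Or.inl rfl)
    · exact Or.inr (Or.inr (Or.inl rfl))
  | one => exact Or.inl rfl
  | mul x y _ _ ihx ihy =>
    rcases ihx with rfl | rfl | rfl | rfl <;> rcases ihy with rfl | rfl | rfl | rfl <;>
      simp only [one_mul, mul_one, hz, ha, hc, hzza, haza, hzaz, hzaa, hzaza, true_or, or_true]
  | inv x _ ih =>
    rcases ih with rfl | rfl | rfl | rfl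
    · exact Or.inl inv_one
    · exact Or.inr (Or.inl zi)
    · exact Or.inr (Or.inr (Or.inl ai))
    · refine Or.inr (Or.inr (Or.inr ?_))
      rw [mul_inv_rev, zi, ai, hc]

omit [Fintype F] hF in
theorem line_pairwise [Fintype F] {x y : Fin 3 → F}
    (hxy : ∀ a b : F, a • x + b • y = 0 → a = 0 ∧ b = 0) :
    (lineC x y).Pairwise (fun x y => ∀ c : F, c ≠ 0 → y ≠ c • x) := by
  classical
  unfold lineC
  rw [List.pairwise_cons, List.pairwise_cons]
  refine ⟨?_, ?_, ?_⟩
  · intro v hv c hc e
    rcases List.mem_cons.1 hv with rfl | hv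
    · have := hxy (-c) 1 (by rw [neg_smul, one_smul, e, neg_add_cancel])
      exact one_ne_zero this.2
    · obtain ⟨b, -, rfl⟩ := List.mem_map.1 hv
      have := hxy (1 - c) (b : F) (by
        rw [sub_smul, one_smul, ← e]
        abel)
      exact b.ne_zero this.2
  · intro v hv c hc e
    obtain ⟨b, -, rfl⟩ := List.mem_map.1 hv
    have := hxy 1 ((b : F) - c) (by
      rw [sub_smul, one_smul, ← e]
      abel)
    exact one_ne_zero this.1
  · rw [List.pairwise_map]
    refine (Finset.nodup_toList _).imp ?_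
    intro b b' hbb c hc e
    have := hxy (1 - c) ((b' : F) - c * b) (by
      rw [sub_smul, sub_smul, one_smul, mul_smul]
      rw [smul_add] at e
      have : x + (b' : F) • y - (c • x + c • (b : F) • y) = 0 := sub_eq_zero.2 e
      rw [← this]
      abel)
    have h1 : c = 1 := (sub_eq_zero.1 this.1).symm
    rw [h1, one_mul] at this
    exact hbb (Units.ext (sub_eq_zero.1 this.2).symm)

omit [Fintype F] hF in
theorem oval_pairwise [Fintype F] (t : Fˣ) :
    (ovalC t).Pairwise (fun x y => ∀ c : F, c ≠ 0 → y ≠ c • x) := by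
  classical
  unfold ovalC
  rw [List.pairwise_cons, List.pairwise_cons, List.pairwise_cons]
  refine ⟨?_, ?_, ?_, ?_⟩
  · intro v hv c hc e
    rcases List.mem_cons.1 hv with rfl | hv
    · have := congrFun e 1
      simp at this
    rcases List.mem_cons.1 hv with rfl | hv
    · have := congrFun e 2
      simp at this
    · obtain ⟨b, -, rfl⟩ := List.mem_map.1 hv
      have := congrFun e 1
      simp at this
  · intro v hv c hc e
    rcases List.mem_cons.1 hv with rfl | hv
    · have := congrFun e 2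
      simp at this
    · obtain ⟨b, -, rfl⟩ := List.mem_map.1 hv
      have := congrFun e 0
      simp at this
  · intro v hv c hc e
    obtain ⟨b, -, rfl⟩ := List.mem_map.1 hv
    have := congrFun e 0
    simp at this
  · rw [List.pairwise_map]
    refine (Finset.nodup_toList _).imp ?_
    intro b b' hbb c hc e
    have h0 := congrFun e 0
    have h1 := congrFun e 1
    simp only [Matrix.cons_val_zero, Matrix.cons_val_one, Pi.smul_apply, smul_eq_mul,
      mul_one] at h0 h1
    rw [← h0, one_mul] at h1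
    exact hbb (Units.ext h1.symm)

omit [Fintype F] hF in
theorem oval_ne [Fintype F] (t : Fˣ) : ∀ x ∈ ovalC t, x ≠ 0 := by
  classical
  intro x hx h0
  unfold ovalC at hx
  rcases List.mem_cons.1 hx with rfl | hx
  · have := congrFun h0 0
    simp at this
  rcases List.mem_cons.1 hx with rfl | hx
  · have := congrFun h0 1
    simp at this
  rcases List.mem_cons.1 hx with rfl | hx
  · have := congrFun h0 2
    simp at this
  · obtain ⟨b, -, rfl⟩ := List.mem_map.1 hx
    have := congrFun h0 0
    simp at this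

omit [Fintype F] hF in
theorem line_ne [Fintype F] {x y : Fin 3 → F}
    (hxy : ∀ a b : F, a • x + b • y = 0 → a = 0 ∧ b = 0) : ∀ v ∈ lineC x y, v ≠ 0 := by
  classical
  intro v hv h0
  unfold lineC at hv
  rcases List.mem_cons.1 hv with rfl | hv
  · have := hxy 1 0 (by rw [h0, smul_zero, zero_smul, add_zero])
    exact one_ne_zero this.1
  rcases List.mem_cons.1 hv with rfl | hv
  · have := hxy 0 1 (by rw [h0, smul_zero, zero_smul, add_zero])
    exact one_ne_zero this.2
  · obtain ⟨b, -, rfl⟩ := List.mem_map.1 hv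
    have := hxy 1 (b : F) (by rw [one_smul, h0])
    exact one_ne_zero this.1

theorem oval_length (t : Fˣ) : (ovalC t).length = 6 := by
  classical
  unfold ovalC
  rw [List.length_cons, List.length_cons, List.length_cons, List.length_map,
    Finset.length_toList, Finset.card_univ, card_units' hF]

theorem line_length (x y : Fin 3 → F) : (lineC x y).length = 5 := by
  classical
  unfold lineC
  rw [List.length_cons, List.length_cons, List.length_map,
    Finset.length_toList, Finset.card_univ, card_units' hF]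

section Main

variable {M : Type u} [Group M] {D : Set M} {z a : M} {lab : (Fin 6 → F) → M}
  (hL : LabAt hF D z a lab) {e f : Fin 3 → (Fin 6 → F)} (h : Frame e f)

include hL h

theorem list_nodup (l : List (Fin 3 → F)) (hl : ∀ x ∈ l, x ≠ 0)
    (hp : l.Pairwise (fun x y => ∀ c : F, c ≠ 0 → y ≠ c • x)) :
    (l.map fun x => lab (comb e f x 0)).Nodup := by
  rw [List.Nodup, List.pairwise_map]
  refine hp.imp_of_mem ?_
  intro x y hx hy hxy heq
  obtain ⟨c, hc, hcx⟩ := lab_inj hF hL.labels h (hl x hx) (hl y hy) heq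
  exact hxy c hc hcx

theorem list_mem (l : List (Fin 3 → F)) (hl : ∀ x ∈ l, x ≠ 0) :
    ∀ y ∈ l.map (fun x => lab (comb e f x 0)), y ∈ Sset D z a := by
  intro y hy
  obtain ⟨x, hx, rfl⟩ := List.mem_map.1 hy
  exact hL.labels.mem _ (comb_ne hF h x (hl x hx)) (iso_comb hF h x)

theorem list_comm (l : List (Fin 3 → F)) (hl : ∀ x ∈ l, x ≠ 0) :
    ∀ y ∈ l.map (fun x => lab (comb e f x 0)), ∀ y' ∈ l.map (fun x => lab (comb e f x 0)),
      Commute y y' := by
  intro y hy y' hy'
  obtain ⟨x, hx, rfl⟩ := List.mem_map.1 hy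
  obtain ⟨x', hx', rfl⟩ := List.mem_map.1 hy'
  exact lab_comm hF hL.labels h x x' (hl x hx) (hl x' hx')

theorem list_prod_mem (l : List (Fin 3 → F)) (hl : ∀ x ∈ l, x ≠ 0)
    (hsum : ∀ p : Fin 3 → F, (l.map (fun x => (∑ i, p i * x i ^ 2) • x)).sum = 0) :
    (l.map fun x => lab (comb e f x 0)).prod ∈ Subgroup.closure ({z, a} : Set M) := by
  have h1 := hL.ker (l.map fun x => comb e f x 0) (by
    intro v hv
    obtain ⟨x, hx, rfl⟩ := List.mem_map.1 hv
    exact ⟨comb_ne hF h x (hl x hx), iso_comb hF h x⟩) (comb_prod_eq_one hF h l hsum)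
  rw [List.map_map] at h1
  exact h1

variable (h6 : Hex1 D) (h5 : Five1 D) (hzD : z ∈ D) (haD : a ∈ D) (hzz : z * z = 1)
  (haa : a * a = 1) (hc : Commute a z) (hne : a ≠ z)

include h6 h5 hzD haD hzz haa hc hne

/-- The product over a line. -/
theorem line_prod {x y : Fin 3 → F} (hxy : ∀ a b : F, a • x + b • y = 0 → a = 0 ∧ b = 0) :
    ((lineC x y).map fun x => lab (comb e f x 0)).prod = z * a := by
  have hn := list_nodup hF hL h _ (line_ne hxy) (line_pairwise hxy)
  have hm := list_mem hF hL h _ (line_ne hxy)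
  have hcm := list_comm hF hL h _ (line_ne hxy)
  have hp := list_prod_mem hF hL h _ (line_ne hxy) (lineC_closed hF x y)
  set l := (lineC x y).map fun x => lab (comb e f x 0) with hl
  have hlen : l.length = 5 := by rw [hl, List.length_map, line_length hF]
  rcases closure_pair hzz haa hc hp with h1 | h1 | h1 | h1
  · exact absurd h1 (h5 l hlen hn (fun x hx => (hm x hx).1) hcm)
  · exfalso
    refine h6 a haD (z :: l) (by rw [List.length_cons, hlen]) (List.nodup_cons.2
      ⟨fun hz => (hm z hz).2.2.2.1 rfl, hn⟩) ?_ ?_ (by rw [List.prod_cons, h1, hzz])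
    · intro x hx
      rcases List.mem_cons.1 hx with rfl | hx
      · exact ⟨hzD, hc.symm, fun e => hne e.symm⟩
      · exact ⟨(hm x hx).1, (hm x hx).2.2.1, (hm x hx).2.2.2.2⟩
    · intro x hx y hy
      rcases List.mem_cons.1 hx with e1 | h1 <;> rcases List.mem_cons.1 hy with e2 | h2
      · rw [e1, e2]
      · rw [e1]; exact (hm y h2).2.1.symm
      · rw [e2]; exact (hm x h1).2.1
      · exact hcm x h1 y h2
  · exfalso
    refine h6 z hzD (a :: l) (by rw [List.length_cons, hlen]) (List.nodup_cons.2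
      ⟨fun hz => (hm a hz).2.2.2.2 rfl, hn⟩) ?_ ?_ (by rw [List.prod_cons, h1, haa])
    · intro x hx
      rcases List.mem_cons.1 hx with rfl | hx
      · exact ⟨haD, hc, hne⟩
      · exact ⟨(hm x hx).1, (hm x hx).2.1, (hm x hx).2.2.2.1⟩
    · intro x hx y hy
      rcases List.mem_cons.1 hx with e1 | h1 <;> rcases List.mem_cons.1 hy with e2 | h2
      · rw [e1, e2]
      · rw [e1]; exact (hm y h2).2.2.1.symm
      · rw [e2]; exact (hm x h1).2.2.1
      · exact hcm x h1 y h2
  · exact h1

omit h5 haD hzz haa hc hne in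
theorem oval_prod_ne (t : Fˣ) : ((ovalC t).map fun x => lab (comb e f x 0)).prod ≠ 1 := by
  have hm := list_mem hF hL h _ (oval_ne t)
  refine h6 z hzD _ (by rw [List.length_map, oval_length hF])
    (list_nodup hF hL h _ (oval_ne t) (oval_pairwise t)) ?_ (list_comm hF hL h _ (oval_ne t))
  intro x hx
  exact ⟨(hm x hx).1, (hm x hx).2.1, (hm x hx).2.2.2.1⟩

/-- The hyperoval products lie in `⟨z, a⟩` and are different for the three classes. -/
theorem oval_inj : (∀ t : Fˣ, ((ovalList (e 0) (e 1) (e 2) t).map lab).prod ∈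
      Subgroup.closure ({z, a} : Set M)) ∧
    ∀ t t' : Fˣ, ((ovalList (e 0) (e 1) (e 2) t).map lab).prod =
      ((ovalList (e 0) (e 1) (e 2) t').map lab).prod → t = t' := by
  classical
  have hconv : ∀ t : Fˣ, ((ovalList (e 0) (e 1) (e 2) t).map lab).prod =
      ((ovalC t).map fun x => lab (comb e f x 0)).prod := by
    intro t
    rw [← ovalC_map hF e f t, List.map_map]
    rfl
  have hmem : ∀ t : Fˣ, ((ovalC t).map fun x => lab (comb e f x 0)).prod ∈
      Subgroup.closure ({z, a} : Set M) := fun t =>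
    list_prod_mem hF hL h _ (oval_ne t) (ovalC_closed hF t)
  refine ⟨fun t => by rw [hconv]; exact hmem t, ?_⟩
  obtain ⟨A, _, ι, Q, hι, hQ, hQl⟩ := exists_pts hF hL.labels h
  have hlist : ∀ l : List (Fin 3 → F), (∀ x ∈ l, x ≠ 0) →
      ι ((l.map Q).prod) = (l.map fun x => lab (comb e f x 0)).prod := by
    intro l
    induction l with
    | nil => intro _; exact map_one ι
    | cons x l ih =>
      intro hl
      rw [List.map_cons, List.prod_cons, map_mul, hQl x (hl x List.mem_cons_self),
        ih fun y hy => hl y (List.mem_cons_of_mem _ hy), List.map_cons, List.prod_cons]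
  have hoval : ∀ t : Fˣ, ι (oval Q t) = ((ovalC t).map fun x => lab (comb e f x 0)).prod := by
    intro t
    rw [← hlist _ (oval_ne t)]
    congr 1
    unfold oval ovalC
    rw [List.map_cons, List.map_cons, List.map_cons, List.map_map, List.prod_cons,
      List.prod_cons, List.prod_cons, Finset.prod_map_toList]
    rfl
  have hline : ∀ x y : Fin 3 → F, (∀ a b : F, a • x + b • y = 0 → a = 0 ∧ b = 0) →
      ι (line Q x y) = z * a := by
    intro x y hxy
    rw [← line_prod hF hL h h6 h5 hzD haD hzz haa hc hne hxy, ← hlist _ (line_ne hxy)]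
    congr 1
    unfold line lineC
    rw [List.map_cons, List.map_cons, List.map_map, List.prod_cons,
      List.prod_cons, Finset.prod_map_toList]
    rfl
  have hza2 : (z * a) * (z * a) = 1 := by
    rw [mul_assoc, ← mul_assoc a z a, hc.eq, mul_assoc z a a, haa, mul_one, hzz]
  set lam := line Q ![0, 1, 0] ![0, 0, 1] with hlam
  have hlam1 : ι lam = z * a := hline _ _ (by
    intro a b hab
    have h1 := congrFun hab 1
    have h2 := congrFun hab 2
    simp at h1 h2
    exact ⟨h1, h2⟩)
  have hlam2 : lam * lam = 1 := by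
    apply hι
    rw [map_mul, hlam1, hza2, map_one]
  have hprod : ∏ t : Fˣ, oval Q t = 1 := by
    rw [OvalComm.prod_oval hF hQ]
    have h1 : ∀ s ∈ (Finset.univ : Finset Fˣ), line Q ![0, 1, (s : F)] ![1, 0, 0] = lam := by
      intro s _
      apply hι
      rw [hlam1]
      apply hline
      intro a b hab
      have h1 := congrFun hab 1
      have h2 := congrFun hab 0
      simp at h1 h2
      exact ⟨h1, h2⟩
    rw [Finset.prod_congr rfl h1, Finset.prod_const, Finset.card_univ, card_units' hF, ← hlam,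
      pow_succ, pow_two, hlam2, one_mul, hlam2]
  have hone : ∀ t : Fˣ, oval Q t ≠ 1 := by
    intro t ht
    apply oval_prod_ne hF hL h h6 hzD t
    rw [← hoval, ht, map_one]
  have hsq : ∀ t : Fˣ, oval Q t * oval Q t = 1 := by
    intro t
    apply hι
    rw [map_mul, hoval, map_one]
    rcases closure_pair hzz haa hc (hmem t) with h1 | h1 | h1 | h1 <;> rw [h1]
    · exact one_mul 1
    · exact hzz
    · exact haa
    · exact hza2
  intro t t' htt
  rw [hconv, hconv, ← hoval, ← hoval] at htt
  have htt' := hι htt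
  by_contra hn
  obtain ⟨t'', h1, h2⟩ : ∃ t'' : Fˣ, t'' ≠ t ∧ t'' ≠ t' := by
    by_contra hcon
    push Not at hcon
    have h3 : (Finset.univ : Finset Fˣ) ⊆ {t, t'} := by
      intro x _
      rw [Finset.mem_insert, Finset.mem_singleton]
      by_cases hx : x = t
      · exact Or.inl hx
      · exact Or.inr (hcon x hx)
    have h4 := Finset.card_le_card h3
    rw [Finset.card_univ, card_units' hF] at h4
    have h5 : ({t, t'} : Finset Fˣ).card ≤ 2 := Finset.card_le_two
    omega
  have huniv : (Finset.univ : Finset Fˣ) = {t, t', t''} := by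
    symm
    apply Finset.eq_univ_of_card
    rw [card_units' hF, Finset.card_insert_of_notMem, Finset.card_insert_of_notMem,
      Finset.card_singleton]
    · rw [Finset.mem_singleton]
      exact fun e => h2 e.symm
    · rw [Finset.mem_insert, Finset.mem_singleton]
      rintro (e | e)
      · exact hn e
      · exact h1 e.symm
  rw [huniv, Finset.prod_insert (by
      rw [Finset.mem_insert, Finset.mem_singleton]
      rintro (e | e)
      · exact hn e
      · exact h1 e.symm), Finset.prod_insert (by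
      rw [Finset.mem_singleton]
      exact fun e => h2 e.symm), Finset.prod_singleton, ← mul_assoc, ← htt', hsq, one_mul] at hprod
  exact hone t'' hprod

end Main

end Cfsg.Agent.R01.Oval
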