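import Cfsg.Agent.R01.Oval

/-!
The class `D = conjugatesOf z`, when the centraliser of `z` is a double cover of a group with the local hypothesis
`Loc`: transitivity on the commuting pairs, labels and hyperoval products at every commuting pair.
-/

set_option autoImplicit false
set_option linter.unusedSectionVars false

namespace Cfsg.Agent.R01.PairLab

open Cfsg Cfsg.Agent.LieClassical.HermBasic Cfsg.Agent.R01.Lifts Cfsg.Agent.R01.Start
  Cfsg.Agent.R01.FiFusion Cfsg.Agent.R01.FiFacts Cfsg.Agent.R01.FiHexad Cfsg.Agent.R01.Loc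
  Cfsg.Agent.R01.HexNe Cfsg.Agent.R01.HermRigid Cfsg.Agent.R01.HermPlane
  Cfsg.Agent.R01.InvForm Cfsg.Agent.R01.GlueFull Cfsg.Agent.R01.LabelsOf

universe u v w

variable {G : Type u} [Group G] {P : Type w} [Group P]

/-- The chart at `z`: the output of the fusion theorem. -/
structure Chart (T : Set P) (z : G) (π : Subgroup.centralizer ({z} : Set G) →* P)
    (D0 : Set (Subgroup.centralizer ({z} : Set G))) : Prop where
  lifted : Lifted π (zel z) T D0
  hex : ∀ a ∈ D0, ∀ b ∈ D0, ∀ c ∈ D0, ∀ a' ∈ D0, ∀ b' ∈ D0, ∀ c' ∈ D0,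
        Hex T (π a) (π b) (π c) (π a') (π b') (π c') → a * b * c * (a' * b' * c') = zel z
  mem : ∀ x : Subgroup.centralizer ({z} : Set G), (x : G) ∈ conjugatesOf z ↔ x = zel z ∨ x ∈ D0

variable {T : Set P} {z : G} {π : Subgroup.centralizer ({z} : Set G) →* P}
    {D0 : Set (Subgroup.centralizer ({z} : Set G))}

theorem conj_mem (z : G) : ∀ g : G, ∀ x ∈ conjugatesOf z, g * x * g⁻¹ ∈ conjugatesOf z := by
  intro g x hx
  exact IsConj.trans (show IsConj z x from hx) (isConj_iff.2 ⟨g, rfl⟩)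

theorem Chart.sq (h : Chart T z π D0) : z * z = 1 := congrArg Subtype.val h.lifted.ext.zz

theorem Chart.sqD (h : Chart T z π D0) : ∀ x ∈ conjugatesOf z, x * x = 1 := by
  intro x hx
  obtain ⟨g, rfl⟩ := isConj_iff.1 (show IsConj z x from hx)
  calc g * z * g⁻¹ * (g * z * g⁻¹) = g * (z * z) * g⁻¹ := by group
    _ = 1 := by rw [h.sq]; group

theorem Chart.ch (h : Chart T z π D0) : Ch T (conjugatesOf z) z π D0 where
  ext := h.lifted.ext
  bij := ⟨fun x hx => h.lifted.map x hx, fun x hx y hy e => h.lifted.inj x hx y hy e,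
    fun t ht => h.lifted.surj t ht⟩
  sq0 := h.lifted.sq
  comm := h.lifted.comm
  mem := h.mem

/-- The members commuting with `z` are conjugate in the centraliser of `z`. -/
theorem Chart.trans1 (h : Chart T z π D0) (hT : TFacts T) {a b : G} (ha : a ∈ conjugatesOf z)
    (hb : b ∈ conjugatesOf z) (haz : Commute a z) (hbz : Commute b z) (hane : a ≠ z)
    (hbne : b ≠ z) : ∃ c : G, Commute c z ∧ c * a * c⁻¹ = b := by
  obtain ⟨a, ha0, rfl⟩ := lift_of h.mem ha haz hane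
  obtain ⟨b, hb0, rfl⟩ := lift_of h.mem hb hbz hbne
  obtain ⟨g, hg⟩ := hT.trans _ (h.lifted.map a ha0) _ (h.lifted.map b hb0)
  obtain ⟨c, rfl⟩ := h.lifted.ext.surj g
  refine ⟨c, Subgroup.mem_centralizer_singleton_iff.1 c.2, ?_⟩
  have := h.lifted.inj _ (h.lifted.conj c a ha0) b hb0 (by rw [map_mul, map_mul, map_inv, hg])
  exact congrArg Subtype.val this

/-- `G` is transitive on the commuting pairs. -/
theorem Chart.trans2 (h : Chart T z π D0) (hT : TFacts T) {a : G} (ha : a ∈ conjugatesOf z)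
    (haz : Commute a z) (hane : a ≠ z) {x y : G} (hx : x ∈ conjugatesOf z)
    (hy : y ∈ conjugatesOf z) (hxy : Commute y x) (hne : y ≠ x) :
    ∃ g : G, g * z * g⁻¹ = x ∧ g * a * g⁻¹ = y := by
  obtain ⟨g, hg⟩ := isConj_iff.1 (show IsConj z x from hx)
  have hgx : g⁻¹ * x * g⁻¹⁻¹ = z := by rw [← hg]; group
  have h1 : Commute (g⁻¹ * y * g⁻¹⁻¹) z := by
    have := commute_conj (g := g⁻¹) hxy
    rwa [hgx] at this
  have h2 : g⁻¹ * y * g⁻¹⁻¹ ≠ z := by
    have := conj_ne (g := g⁻¹) hne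
    rwa [hgx] at this
  obtain ⟨c, hc, hca⟩ := h.trans1 hT ha (conj_mem z g⁻¹ y hy) haz h1 hane h2
  refine ⟨g * c, ?_, ?_⟩
  · calc g * c * z * (g * c)⁻¹ = g * (c * z) * c⁻¹ * g⁻¹ := by group
      _ = g * (z * c) * c⁻¹ * g⁻¹ := by rw [hc.eq]
      _ = g * z * g⁻¹ := by group
      _ = x := hg
  · calc g * c * a * (g * c)⁻¹ = g * (c * a * c⁻¹) * g⁻¹ := by group
      _ = g * (g⁻¹ * y * g⁻¹⁻¹) * g⁻¹ := by rw [hca]
      _ = y := by group

/-- Swap of two commuting members. -/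
theorem Chart.swap (h : Chart T z π D0) (hT : TFacts T) {a : G} (ha : a ∈ conjugatesOf z)
    (haz : Commute a z) (hane : a ≠ z) : ∃ n : G, n * z * n⁻¹ = a ∧ n * a * n⁻¹ = z :=
  h.trans2 hT ha haz hane ha mem_conjugatesOf_self haz.symm hane.symm

variable {F : Type v} [Field F] [Fintype F] {hF : Fintype.card F = 2 ^ 2}

/-- Labels are transported by conjugation. -/
theorem labels_conj {D : Set G} (hDc : ∀ g : G, ∀ x ∈ D, g * x * g⁻¹ ∈ D) {x y : G}
    {lab : (Fin 6 → F) → G} (hL : Labels (Sset D x y) 6 F lab) (g : G) :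
    Labels (Sset D (g * x * g⁻¹) (g * y * g⁻¹)) 6 F (fun v => g * lab v * g⁻¹) := by
  have hcg : ∀ p q : G, Commute (g * p * g⁻¹) (g * q * g⁻¹) ↔ Commute p q := by
    intro p q
    constructor
    · intro h
      have := commute_conj (g := g⁻¹) h
      have e : ∀ r : G, g⁻¹ * (g * r * g⁻¹) * g⁻¹⁻¹ = r := fun r => by group
      rwa [e, e] at this
    · exact commute_conj
  have hinj : ∀ p q : G, g * p * g⁻¹ = g * q * g⁻¹ → p = q := fun p q e =>
    mul_left_cancel (mul_right_cancel e)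
  refine ⟨?_, ?_, ?_, ?_, ?_, ?_, ?_⟩
  · intro v hv0 hv
    obtain ⟨h1, h2, h3, h4, h5⟩ := hL.mem v hv0 hv
    exact ⟨hDc g _ h1, (hcg _ _).2 h2, (hcg _ _).2 h3, fun e => h4 (hinj _ _ e),
      fun e => h5 (hinj _ _ e)⟩
  · rintro s ⟨h1, h2, h3, h4, h5⟩
    have es : s = g * (g⁻¹ * s * g) * g⁻¹ := by group
    obtain ⟨v, hv0, hv, hvs⟩ := hL.surj (g⁻¹ * s * g) (by
      refine ⟨?_, ?_, ?_, ?_, ?_⟩
      · have := hDc g⁻¹ s h1
        rwa [inv_inv] at this
      · rw [es] at h2; exact (hcg _ _).1 h2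
      · rw [es] at h3; exact (hcg _ _).1 h3
      · intro e
        apply h4
        rw [es, e]
      · intro e
        apply h5
        rw [es, e])
    exact ⟨v, hv0, hv, by rw [es, hvs]⟩
  · intro v hv0 hv c hc
    change g * lab (c • v) * g⁻¹ = g * lab v * g⁻¹
    rw [hL.smul v hv0 hv c hc]
  · intro v w hv0 hw0 hv hw e
    exact hL.inj v w hv0 hw0 hv hw (hinj _ _ e)
  · intro v w hv0 hw0 hv hw
    rw [← hL.comm v w hv0 hw0 hv hw]
    exact hcg _ _
  · intro v hv0 hv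
    calc g * lab v * g⁻¹ * (g * lab v * g⁻¹) = g * (lab v * lab v) * g⁻¹ := by group
      _ = 1 := by rw [hL.sq v hv0 hv]; group
  · intro v w hv0 hw0 hv hw
    calc g * lab v * g⁻¹ * (g * lab w * g⁻¹) * (g * lab v * g⁻¹) =
        g * (lab v * lab w * lab v) * g⁻¹ := by group
      _ = g * lab (w + hermForm 6 F 2 w v • v) * g⁻¹ := by rw [hL.conj v w hv0 hw0 hv hw]

theorem closure_conj {x y g p : G} (hp : p ∈ Subgroup.closure ({x, y} : Set G)) :
    g * p * g⁻¹ ∈ Subgroup.closure ({g * x * g⁻¹, g * y * g⁻¹} : Set G) := by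
  have h1 := Subgroup.mem_map_of_mem (MulAut.conj g).toMonoidHom hp
  rw [MonoidHom.map_closure] at h1
  have h2 : (MulAut.conj g).toMonoidHom '' ({x, y} : Set G) = {g * x * g⁻¹, g * y * g⁻¹} := by
    rw [Set.image_pair]
    rfl
  rw [h2] at h1
  exact h1

theorem labAt_conj {D : Set G} (hDc : ∀ g : G, ∀ x ∈ D, g * x * g⁻¹ ∈ D) {x y : G}
    {lab : (Fin 6 → F) → G} (hL : LabAt hF D x y lab) (g : G) :
    LabAt hF D (g * x * g⁻¹) (g * y * g⁻¹) (fun v => g * lab v * g⁻¹) := by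
  refine ⟨labels_conj hDc hL.labels g, ?_, ?_⟩
  · intro l hl htau
    rw [prod_conj]
    exact closure_conj (hL.ker l hl htau)
  · intro p hp1 hp2
    have e : ∀ r : G, g⁻¹ * (g * r * g⁻¹) * g⁻¹⁻¹ = r := fun r => by group
    have h1 := commute_conj (g := g⁻¹) hp1
    have h2 := commute_conj (g := g⁻¹) hp2
    rw [e] at h1 h2
    have h3 := Subgroup.mem_map_of_mem (MulAut.conj g).toMonoidHom (hL.gen _ h1 h2)
    rw [MonoidHom.map_closure] at h3
    have h4 : (MulAut.conj g).toMonoidHom (g⁻¹ * p * g⁻¹⁻¹) = p := by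
      change g * (g⁻¹ * p * g⁻¹⁻¹) * g⁻¹ = p
      group
    rw [h4] at h3
    refine Subgroup.closure_mono ?_ h3
    rintro _ ⟨d, ⟨hd1, hd2, hd3⟩, rfl⟩
    exact ⟨hDc g d hd1, commute_conj hd2, commute_conj hd3⟩

/-- Labels at every commuting pair. -/
theorem Chart.exists_labAt (h : Chart T z π D0) (hT1 : (1 : P) ∉ T) (hL : Loc hF T) {x y : G}
    (hx : x ∈ conjugatesOf z) (hy : y ∈ conjugatesOf z) (hxy : Commute y x) (hne : y ≠ x) :
    ∃ lab : (Fin 6 → F) → G, LabAt hF (conjugatesOf z) x y lab := by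
  obtain ⟨g, hg⟩ := isConj_iff.1 (show IsConj z x from hx)
  have hgx : g⁻¹ * x * g⁻¹⁻¹ = z := by rw [← hg]; group
  have h1 : Commute (g⁻¹ * y * g⁻¹⁻¹) z := by
    have := commute_conj (g := g⁻¹) hxy
    rwa [hgx] at this
  have h2 : g⁻¹ * y * g⁻¹⁻¹ ≠ z := by
    have := conj_ne (g := g⁻¹) hne
    rwa [hgx] at this
  obtain ⟨lab, hlab⟩ := exists_labels h.ch hT1 hL (conj_mem z) (conj_mem z g⁻¹ y hy) h2 h1
  have h3 := labAt_conj (conj_mem z) hlab g
  have h4 : g * (g⁻¹ * y * g⁻¹⁻¹) * g⁻¹ = y := by group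
  rw [h4, hg] at h3
  exact ⟨_, h3⟩

/-- Labels and hyperoval products at every commuting pair. -/
theorem Chart.exists_oval (h : Chart T z π D0) (hT : TFacts T) {x y : G}
    (hx : x ∈ conjugatesOf z) (hy : y ∈ conjugatesOf z) (hxy : Commute y x) (hne : y ≠ x)
    {lab : (Fin 6 → F) → G} (hlab : LabAt hF (conjugatesOf z) x y lab) :
    ∃ u v w : Fin 6 → F, Fr3 u v w ∧
      (∀ t : Fˣ, ((ovalList u v w t).map lab).prod ∈ Subgroup.closure ({x, y} : Set G)) ∧
      ∀ t t' : Fˣ, ((ovalList u v w t).map lab).prod = ((ovalList u v w t').map lab).prod →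
        t = t' := by
  have hfr := fr3_std hF
  obtain ⟨f, hf⟩ := exists_frame_of_fr3 hF hfr
  have h6 := hex1 h.lifted h.hex h.mem
  have h5 := five1 h.lifted hT h.mem
  obtain ⟨h1, h2⟩ := Oval.oval_inj hF hlab hf h6 h5 hx hy (h.sqD x hx) (h.sqD y hy) hxy hne
  exact ⟨_, _, _, hfr, h1, h2⟩

end Cfsg.Agent.R01.PairLab
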